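import Mathlib
import Cfsg.Prelude.Def_Local
import Cfsg.Agent.Lib.Base.Cores
import Cfsg.Agent.Lib.Coprime.Basic
import Cfsg.Agent.Lib.Coprime.Hall

/-!
p-solvable groups: closure properties, the upper p-series and Hall-Higman 1.2.3.
-/

set_option autoImplicit false
set_option linter.style.haveILetI false

namespace CfsgLib.PLocal

open Subgroup Cfsg CfsgLib.Base

universe u v

variable {G : Type u} [Group G] {X : Type v} [Group X] {p : ℕ}

/-! ### Basic closure properties -/

theorem isPSolvable_of_isPGroup [Fact p.Prime] [Finite G] (h : IsPGroup p G) :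
    IsPSolvable p G := by
  refine ⟨1, ![⊥, ⊤], rfl, rfl, ?_, ?_, ?_⟩
  · intro i j hij
    fin_cases i <;> fin_cases j <;> simp_all
  · intro i
    fin_cases i <;> simp
  · intro i
    fin_cases i
    obtain ⟨m, hm⟩ := IsPGroup.iff_card.1 h
    exact Or.inl ⟨m, by simp [hm]⟩

theorem isPSolvable_of_coprime [Finite G] (h : (Nat.card G).Coprime p) : IsPSolvable p G := by
  refine ⟨1, ![⊥, ⊤], rfl, rfl, ?_, ?_, ?_⟩
  · intro i j hij
    fin_cases i <;> fin_cases j <;> simp_all
  · intro i
    fin_cases i <;> simp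
  · intro i
    fin_cases i
    exact Or.inr (by simpa [relIndex_bot_left] using h)

theorem relIndex_dvd_relIndex_of_normal (H : Subgroup X) [H.Normal] {Y K : Subgroup X}
    (h : Y ≤ K) : H.relIndex Y ∣ H.relIndex K := by
  have h1 := relIndex_dvd_index_of_normal (H.subgroupOf K) (Y.subgroupOf K)
  rwa [relIndex_subgroupOf h] at h1

theorem isPSolvable_of_injective [Fact p.Prime] (f : X →* G) (hf : Function.Injective f)
    (hG : IsPSolvable p G) : IsPSolvable p X := by
  obtain ⟨n, H, h0, hn, hmono, hnormal, hstep⟩ := hG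
  refine ⟨n, fun i => (H i).comap f, ?_, ?_, fun i j hij => comap_mono (hmono hij),
    fun i => (hnormal i).comap f, fun i => ?_⟩
  · show (H 0).comap f = ⊥
    rw [h0, MonoidHom.comap_bot, (MonoidHom.ker_eq_bot_iff f).2 hf]
  · show (H (Fin.last n)).comap f = ⊤
    rw [hn, comap_top]
  · haveI := hnormal i.castSucc
    have hd : ((H i.castSucc).comap f).relIndex ((H i.succ).comap f)
        ∣ (H i.castSucc).relIndex (H i.succ) := by
      rw [relIndex_comap]
      exact relIndex_dvd_relIndex_of_normal _ (map_comap_le f (H i.succ))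
    rcases hstep i with ⟨m, hm⟩ | hc
    · rw [hm] at hd
      obtain ⟨k, -, hk⟩ := (Nat.dvd_prime_pow Fact.out).1 hd
      exact Or.inl ⟨k, hk⟩
    · exact Or.inr (hc.coprime_dvd_left hd)

theorem isPSolvable_subgroup [Fact p.Prime] (hG : IsPSolvable p G) (K : Subgroup G) :
    IsPSolvable p K :=
  isPSolvable_of_injective K.subtype K.subtype_injective hG

theorem isPSolvable_of_le [Fact p.Prime] {H K : Subgroup G} (h : H ≤ K) (hK : IsPSolvable p K) :
    IsPSolvable p H :=
  isPSolvable_of_injective (Subgroup.inclusion h) (Subgroup.inclusion_injective h) hK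

theorem isPSolvable_quotient [Finite G] [Fact p.Prime] (hG : IsPSolvable p G)
    (N : Subgroup G) [N.Normal] : IsPSolvable p (G ⧸ N) :=
  CfsgLib.Coprime.pSolvable_quotient hG N

theorem isPSolvable_congr [Fact p.Prime] (e : G ≃* X) : IsPSolvable p G ↔ IsPSolvable p X :=
  ⟨isPSolvable_of_injective e.symm.toMonoidHom e.symm.injective,
    isPSolvable_of_injective e.toMonoidHom e.injective⟩

theorem isPSolvable_of_surjective [Finite G] [Fact p.Prime] (f : G →* X)
    (hf : Function.Surjective f) (hG : IsPSolvable p G) : IsPSolvable p X :=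
  (isPSolvable_congr (QuotientGroup.quotientKerEquivOfSurjective f hf)).1
    (isPSolvable_quotient hG f.ker)

theorem isPSolvable_map [Finite G] [Fact p.Prime] (f : G →* X) {K : Subgroup G}
    (hK : IsPSolvable p K) : IsPSolvable p (K.map f) :=
  isPSolvable_of_surjective (f.subgroupMap K) (f.subgroupMap_surjective K) hK

/-! ### The upper p-series -/

theorem upperPSeries_zero (p : ℕ) (G : Type u) [Group G] : (upperPSeries p G 0).1 = ⊥ := rfl

theorem upperPSeries_odd (p : ℕ) (G : Type u) [Group G] (k : ℕ) :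
    (upperPSeries p G (2 * k + 1)).1 = (pPrimeCore p (G ⧸ (upperPSeries p G (2 * k)).1)).comap
      (QuotientGroup.mk' (upperPSeries p G (2 * k)).1) := by
  show (if Even (2 * k) then _ else _ : {H : Subgroup G // H.Normal}).1 = _
  rw [if_pos (even_two_mul k)]

theorem upperPSeries_even (p : ℕ) (G : Type u) [Group G] (k : ℕ) :
    (upperPSeries p G (2 * k + 2)).1 = (pCore p (G ⧸ (upperPSeries p G (2 * k + 1)).1)).comap
      (QuotientGroup.mk' (upperPSeries p G (2 * k + 1)).1) := by
  show (if Even (2 * k + 1) then _ else _ : {H : Subgroup G // H.Normal}).1 = _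
  rw [if_neg (Nat.not_even_iff_odd.2 (odd_two_mul_add_one k))]

theorem le_comap_mk' (N : Subgroup G) [N.Normal] (K : Subgroup (G ⧸ N)) :
    N ≤ K.comap (QuotientGroup.mk' N) := fun x hx => by
  rw [mem_comap, QuotientGroup.mk'_apply, (QuotientGroup.eq_one_iff x).2 hx]
  exact one_mem K

theorem upperPSeries_monotone (p : ℕ) (G : Type u) [Group G] :
    Monotone fun n => (upperPSeries p G n).1 := by
  refine monotone_nat_of_le_succ fun n => ?_
  rcases Nat.even_or_odd' n with ⟨k, rfl | rfl⟩
  · exact (le_comap_mk' _ _).trans (upperPSeries_odd p G k).ge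
  · exact (le_comap_mk' _ _).trans (upperPSeries_even p G k).ge

/-- `G` is p-solvable iff its upper p-series reaches the top. -/
theorem isPSolvable_of_pLengthLE [Finite G] [Fact p.Prime] {k : ℕ} (h : PLengthLE p k G) :
    IsPSolvable p G := by
  refine ⟨2 * k + 1, fun i => (upperPSeries p G i).1, rfl, h,
    fun i j hij => upperPSeries_monotone p G (Fin.val_le_of_le hij),
    fun i => inferInstance, fun i => ?_⟩
  simp only [Fin.val_castSucc, Fin.val_succ]
  rcases Nat.even_or_odd' (i : ℕ) with ⟨m, hm | hm⟩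
  · refine Or.inr ?_
    rw [hm, upperPSeries_odd, relIndex]
    set N := (upperPSeries p G (2 * m)).1
    have e : N.relIndex ((pPrimeCore p (G ⧸ N)).comap (QuotientGroup.mk' N))
        = Nat.card (pPrimeCore p (G ⧸ N)) := by
      refine Nat.eq_of_mul_eq_mul_left (Nat.card_pos (α := N)) ?_
      rw [← card_comap_mk']
      simpa [relIndex_bot_left] using relIndex_mul_relIndex ⊥ N _ bot_le (le_comap_mk' N _)
    show (N.relIndex _).Coprime p
    rw [e]
    exact pPrimeCore_coprime p _
  · refine Or.inl ?_
    rw [hm, upperPSeries_even, relIndex]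
    set N := (upperPSeries p G (2 * m + 1)).1
    have e : N.relIndex ((pCore p (G ⧸ N)).comap (QuotientGroup.mk' N))
        = Nat.card (pCore p (G ⧸ N)) := by
      refine Nat.eq_of_mul_eq_mul_left (Nat.card_pos (α := N)) ?_
      rw [← card_comap_mk']
      simpa [relIndex_bot_left] using relIndex_mul_relIndex ⊥ N _ bot_le (le_comap_mk' N _)
    obtain ⟨n, hn⟩ := pCore_eq_pow_card p (G ⧸ N)
    exact ⟨n, show N.relIndex _ = p ^ n by rw [e, hn]⟩

theorem card_map_mk'_eq_relIndex [Finite G] (N K : Subgroup G) [N.Normal] :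
    Nat.card (K.map (QuotientGroup.mk' N)) = N.relIndex K := by
  have h := relIndex_map_map (QuotientGroup.mk' N) N K
  rw [QuotientGroup.ker_mk', sup_idem, relIndex_sup_right, map_mk'_eq_bot_iff.2 le_rfl,
    relIndex_bot_left] at h
  exact h

theorem exists_pLengthLE [Finite G] [Fact p.Prime] (hG : IsPSolvable p G) :
    ∃ k, PLengthLE p k G := by
  obtain ⟨n, H, h0, hn, hmono, hnormal, hstep⟩ := hG
  have key : ∀ i : Fin (n + 1), H i ≤ (upperPSeries p G (2 * (i : ℕ))).1 := by
    intro i
    induction i using Fin.induction with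
    | zero => rw [h0]; exact bot_le
    | succ i ih =>
      simp only [Fin.val_succ, Fin.val_castSucc] at ih ⊢
      haveI := hnormal i.castSucc
      haveI := hnormal i.succ
      rcases hstep i with ⟨m, hm⟩ | hc
      · set N := (upperPSeries p G (2 * (i : ℕ) + 1)).1 with hN
        rw [show 2 * ((i : ℕ) + 1) = 2 * (i : ℕ) + 2 by ring, upperPSeries_even,
          ← map_le_iff_le_comap]
        haveI := Normal.map (hnormal i.succ) _ (QuotientGroup.mk'_surjective N)
        refine le_pCore ?_
        have hle : H i.castSucc ≤ N :=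
          ih.trans (upperPSeries_monotone p G (Nat.le_succ _))
        have hd := relIndex_dvd_of_le_left (H i.succ) hle
        rw [← card_map_mk'_eq_relIndex N (H i.succ), hm] at hd
        obtain ⟨k, -, hk⟩ := (Nat.dvd_prime_pow Fact.out).1 hd
        exact IsPGroup.of_card hk
      · refine le_trans ?_ (upperPSeries_monotone p G
          (show 2 * (i : ℕ) + 1 ≤ 2 * ((i : ℕ) + 1) by omega))
        set N := (upperPSeries p G (2 * (i : ℕ))).1 with hN
        show H i.succ ≤ (upperPSeries p G (2 * (i : ℕ) + 1)).1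
        rw [upperPSeries_odd, ← map_le_iff_le_comap]
        haveI := Normal.map (hnormal i.succ) _ (QuotientGroup.mk'_surjective N)
        refine le_pPrimeCore ?_
        rw [card_map_mk'_eq_relIndex]
        exact hc.coprime_dvd_left (relIndex_dvd_of_le_left (H i.succ) ih)
  refine ⟨n, top_le_iff.1 ?_⟩
  rw [← hn]
  exact (key (Fin.last n)).trans (upperPSeries_monotone p G (by simp))

/-! ### Characterisation by quotients -/

theorem pCore_ne_bot_or_pPrimeCore_ne_bot [Finite G] [Fact p.Prime] [Nontrivial G]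
    (hG : IsPSolvable p G) : pCore p G ≠ ⊥ ∨ pPrimeCore p G ≠ ⊥ := by
  obtain ⟨N, hN, hne, h | h⟩ := CfsgLib.Coprime.pSolvable_step hG
  · exact Or.inl (pCore_ne_bot_of_exists hne h)
  · exact Or.inr fun hb => hne (le_bot_iff.1 (hb ▸ le_pPrimeCore h))

/-- If every nontrivial quotient has a nontrivial normal p- or p'-subgroup then `G` is
p-solvable. -/
theorem isPSolvable_of_forall_quotient [Finite G] [Fact p.Prime]
    (h : ∀ (M : Subgroup G) [M.Normal], M ≠ ⊤ →
      pCore p (G ⧸ M) ≠ ⊥ ∨ pPrimeCore p (G ⧸ M) ≠ ⊥) : IsPSolvable p G := by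
  have grow : ∀ k, (upperPSeries p G (2 * k)).1 ≠ ⊤ →
      (upperPSeries p G (2 * k)).1 < (upperPSeries p G (2 * (k + 1))).1 := by
    intro k hk
    have h1 := upperPSeries_monotone p G (show 2 * k ≤ 2 * k + 1 by omega)
    have h2 := upperPSeries_monotone p G (show 2 * k + 1 ≤ 2 * (k + 1) by omega)
    refine lt_of_le_of_ne (h1.trans h2) fun he => ?_
    have e1 : (upperPSeries p G (2 * k + 1)).1 = (upperPSeries p G (2 * k)).1 :=
      le_antisymm (h2.trans he.ge) h1
    have e2 : (upperPSeries p G (2 * k + 2)).1 = (upperPSeries p G (2 * k + 1)).1 := by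
      rw [e1]; exact he.symm
    rw [upperPSeries_odd] at e1
    rw [upperPSeries_even] at e2
    have b1 : pPrimeCore p (G ⧸ (upperPSeries p G (2 * k)).1) = ⊥ := by
      rw [← map_mk'_comap (upperPSeries p G (2 * k)).1 (pPrimeCore p _), e1, map_mk'_eq_bot_iff]
    have b2 : pCore p (G ⧸ (upperPSeries p G (2 * k + 1)).1) = ⊥ := by
      rw [← map_mk'_comap (upperPSeries p G (2 * k + 1)).1 (pCore p _), e2, map_mk'_eq_bot_iff]
    have e3 : (upperPSeries p G (2 * k + 1)).1 = (upperPSeries p G (2 * k)).1 :=
      le_antisymm (h2.trans he.ge) h1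
    have b2' : pCore p (G ⧸ (upperPSeries p G (2 * k)).1) = ⊥ := by
      rw [← map_pCore_mulEquiv (QuotientGroup.quotientMulEquivOfEq e3), b2, Subgroup.map_bot]
    exact (h _ hk).elim (fun hh => hh b2') fun hh => hh b1
  have key : ∀ k, (upperPSeries p G (2 * k)).1 = ⊤ ∨
      k < Nat.card (upperPSeries p G (2 * k)).1 := by
    intro k
    induction k with
    | zero => exact Or.inr Nat.card_pos
    | succ k ih =>
      have hmono := upperPSeries_monotone p G (show 2 * k ≤ 2 * (k + 1) by omega)
      rcases ih with ht | hlt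
      · exact Or.inl (top_le_iff.1 (ht ▸ hmono))
      · by_cases ht : (upperPSeries p G (2 * k)).1 = ⊤
        · exact Or.inl (top_le_iff.1 (ht ▸ hmono))
        · refine Or.inr ?_
          have := grow k ht
          have hc : Nat.card (upperPSeries p G (2 * k)).1 <
              Nat.card (upperPSeries p G (2 * (k + 1))).1 := by
            by_contra hge
            exact this.ne (Subgroup.eq_of_le_of_card_ge this.le (not_lt.1 hge))
          omega
  rcases key (Nat.card G) with ht | hlt
  · exact isPSolvable_of_pLengthLE (k := Nat.card G)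
      (top_le_iff.1 (ht ▸ upperPSeries_monotone p G (Nat.le_succ _)))
  · exact absurd hlt (not_lt.2 (Subgroup.card_le_card_group _))

theorem isPSolvable_of_isSolvable [Finite G] [Fact p.Prime] [Group.IsSolvable G] :
    IsPSolvable p G := by
  refine isPSolvable_of_forall_quotient fun M _ hM => ?_
  haveI : Nontrivial (G ⧸ M) := QuotientGroup.nontrivial_iff.2 hM
  obtain ⟨q, N, hq, hN, hne, hNq⟩ := CfsgLib.Coprime.exists_normal_pgroup (G := G ⧸ M)
  by_cases hqp : q = p
  · subst hqp
    exact Or.inl (pCore_ne_bot_of_exists hne hNq)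
  · haveI := Fact.mk hq
    obtain ⟨n, hn⟩ := IsPGroup.iff_card.1 hNq
    refine Or.inr fun hb => hne (le_bot_iff.1 (hb ▸ le_pPrimeCore ?_))
    rw [hn]
    exact ((Nat.coprime_primes hq Fact.out).2 hqp).pow_left n

/-- Extension of p-solvable groups. -/
theorem isPSolvable_of_normal [Finite G] [Fact p.Prime] (N : Subgroup G) [N.Normal]
    (hN : IsPSolvable p N) (hQ : IsPSolvable p (G ⧸ N)) : IsPSolvable p G := by
  refine isPSolvable_of_forall_quotient fun M _ hM => ?_
  haveI : Nontrivial (G ⧸ M) := QuotientGroup.nontrivial_iff.2 hM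
  by_cases hNM : N ≤ M
  · exact pCore_ne_bot_or_pPrimeCore_ne_bot (isPSolvable_of_surjective
      (QuotientGroup.lift N (QuotientGroup.mk' M) (by rwa [QuotientGroup.ker_mk']))
      (fun y => (QuotientGroup.mk'_surjective M y).elim fun x hx => ⟨x, hx⟩) hQ)
  set K := N.map (QuotientGroup.mk' M) with hK
  haveI : K.Normal := Normal.map inferInstance _ (QuotientGroup.mk'_surjective M)
  haveI : Nontrivial K := (nontrivial_iff_ne_bot K).2 fun h => hNM (map_mk'_eq_bot_iff.1 h)
  rcases pCore_ne_bot_or_pPrimeCore_ne_bot (isPSolvable_map (QuotientGroup.mk' M) hN : IsPSolvable p K) with h | h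
  · refine Or.inl fun hb => h ?_
    rw [← map_eq_bot_iff_of_injective _ K.subtype_injective, ← le_bot_iff, ← hb]
    exact map_pCore_le_of_isSubnormal (Normal.isSubnormal ‹_›)
  · refine Or.inr fun hb => h ?_
    rw [← map_eq_bot_iff_of_injective _ K.subtype_injective, ← le_bot_iff, ← hb]
    exact map_pPrimeCore_le_of_isSubnormal (Normal.isSubnormal ‹_›)

/-! ### Hall-Higman 1.2.3 -/

/-- A group with a central Sylow `p`-subgroup has trivial centre-complement only if it is a
`p`-group. -/
theorem le_of_central_of_pPrimeCore_eq_bot [Finite G] [Fact p.Prime] {Z M : Subgroup G}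
    [M.Normal] (hO : pPrimeCore p G = ⊥) (hZM : Z ≤ M) (hZ : M ≤ centralizer (Z : Set G))
    (hZp : IsPGroup p Z) (hidx : (Z.relIndex M).Coprime p) : M ≤ Z := by
  set Z' := Z.subgroupOf M with hZ'
  have hcentral : ∀ m : M, ∀ z ∈ Z', m * z = z * m := fun m z hz =>
    Subtype.ext ((mem_centralizer_iff.1 (hZ m.2) (z : G) hz).symm)
  haveI hZn : Z'.Normal := ⟨fun z hz m => by
    rw [hcentral m z hz, mul_inv_cancel_right]; exact hz⟩
  obtain ⟨n, hn⟩ := IsPGroup.iff_card.1 hZp
  have hcop : (Nat.card Z').Coprime Z'.index := by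
    rw [card_subgroupOf hZM, hn]
    exact (Nat.Coprime.pow_left n hidx.symm)
  obtain ⟨K, hK⟩ := Subgroup.exists_right_complement'_of_coprime hcop
  haveI hKn : K.Normal := by
    refine normalizer_eq_top_iff.1 (top_le_iff.1 ?_)
    rw [← hK.sup_eq_top]
    refine sup_le (fun z hz => mem_normalizer_iff.2 fun k => ?_) le_normalizer
    rw [← hcentral k z hz, mul_inv_cancel_right]
  have hKc : (Nat.card K).Coprime p := by
    rw [← hK.symm.index_eq_card]; exact hidx
  have : K = ⊥ := by
    have h1 := (map_mono (f := M.subtype) (le_pPrimeCore hKc)).trans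
      (map_pPrimeCore_le_of_isSubnormal (Normal.isSubnormal ‹M.Normal›))
    rw [hO, le_bot_iff, map_eq_bot_iff_of_injective _ M.subtype_injective] at h1
    exact h1
  rw [this, isComplement'_bot_right, subgroupOf_eq_top] at hK
  exact hK

/-- Hall-Higman Lemma 1.2.3, for the centraliser only. -/
theorem centralizer_pCore_le_of_isPSolvable_centralizer [Finite G] [Fact p.Prime]
    (hC : IsPSolvable p (centralizer (pCore p G : Set G)))
    (hO : pPrimeCore p G = ⊥) : centralizer (pCore p G : Set G) ≤ pCore p G := by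
  set C := centralizer (pCore p G : Set G) with hCdef
  haveI : C.Normal := inferInstance
  set Z := C ⊓ pCore p G with hZdef
  haveI : Z.Normal := inferInstance
  set K := C.map (QuotientGroup.mk' Z) with hKdef
  haveI : K.Normal := Normal.map inferInstance _ (QuotientGroup.mk'_surjective Z)
  by_contra hle
  haveI : Nontrivial K :=
    (nontrivial_iff_ne_bot K).2 fun h => hle ((map_mk'_eq_bot_iff.1 h).trans inf_le_right)
  have hZp : IsPGroup p Z := (isPGroup_pCore p G).to_le inf_le_right
  have hKZ : K.comap (QuotientGroup.mk' Z) = C := by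
    rw [hKdef, CfsgLib.Base.comap_map_mk', sup_eq_left.2 inf_le_left]
  rcases pCore_ne_bot_or_pPrimeCore_ne_bot (isPSolvable_map (QuotientGroup.mk' Z) hC : IsPSolvable p K) with h | h
  · refine h ?_
    rw [← map_eq_bot_iff_of_injective _ K.subtype_injective, ← le_bot_iff]
    refine (le_inf (map_pCore_le_of_isSubnormal (Normal.isSubnormal ‹K.Normal›))
      (map_subtype_le _)).trans ?_
    rw [le_bot_iff, ← map_mk'_comap Z (pCore p (G ⧸ Z) ⊓ K), map_mk'_eq_bot_iff, comap_inf,
      comap_pCore_of_ker (QuotientGroup.mk'_surjective Z) (by rwa [QuotientGroup.ker_mk']), hKZ,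
      hZdef, inf_comm]
  · refine h ?_
    rw [← map_eq_bot_iff_of_injective _ K.subtype_injective]
    set L := (pPrimeCore p K).map K.subtype with hL
    haveI : L.Normal := normal_map_subtype _
    set M := L.comap (QuotientGroup.mk' Z) with hMdef
    haveI : M.Normal := Normal.comap inferInstance _
    have hMC : M ≤ C := (comap_mono (map_subtype_le _)).trans hKZ.le
    rw [← map_mk'_comap Z L, map_mk'_eq_bot_iff]
    refine le_of_central_of_pPrimeCore_eq_bot hO (le_comap_mk' Z L)
      (hMC.trans (centralizer_le inf_le_right)) hZp ?_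
    rw [← card_map_mk'_eq_relIndex, map_mk'_comap]
    exact coprime_card_map_pPrimeCore K

/-- Hall-Higman Lemma 1.2.3. -/
theorem centralizer_pCore_le [Finite G] [Fact p.Prime] (hG : IsPSolvable p G)
    (hO : pPrimeCore p G = ⊥) : centralizer (pCore p G : Set G) ≤ pCore p G :=
  centralizer_pCore_le_of_isPSolvable_centralizer (isPSolvable_subgroup hG _) hO

end CfsgLib.PLocal
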