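import Mathlib
import Cfsg.Agent.Lib.PLocal.PSolvable
import Cfsg.Agent.Lib.OddOrder.FixedPoints
import Cfsg.Agent.Lib.PGroups.Basic

/-!
p-constrained groups, the P×Q lemma, p-local subgroups of p-constrained groups.
-/

set_option autoImplicit false
set_option linter.style.haveILetI false

namespace CfsgLib.PLocal

open Subgroup Cfsg CfsgLib.Base
open scoped commutatorElement Pointwise

universe u v

variable {G : Type u} [Group G] {X : Type v} [Group X] {p : ℕ}

theorem normalizer_inf_le (H K : Subgroup G) :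
    normalizer (H : Set G) ⊓ normalizer (K : Set G) ≤ normalizer ((H ⊓ K : Subgroup G) : Set G) := by
  intro g hg
  refine mem_normalizer_iff.2 fun x => ?_
  simp only [mem_inf, mem_normalizer_iff.1 hg.1 x, mem_normalizer_iff.1 hg.2 x]

theorem normalizer_le_centralizer_normalizer (P : Subgroup G) :
    normalizer (P : Set G) ≤ normalizer (centralizer (P : Set G) : Set G) := by
  have key : ∀ g ∈ normalizer (P : Set G), ∀ c ∈ centralizer (P : Set G),
      g * c * g⁻¹ ∈ centralizer (P : Set G) := by
    intro g hg c hc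
    refine mem_centralizer_iff.2 fun a ha => ?_
    have h : g⁻¹ * a * g ∈ P := by
      simpa using (mem_normalizer_iff.1 (inv_mem hg) a).1 ha
    calc a * (g * c * g⁻¹) = g * ((g⁻¹ * a * g) * c) * g⁻¹ := by group
      _ = g * (c * (g⁻¹ * a * g)) * g⁻¹ := by rw [mem_centralizer_iff.1 hc _ h]
      _ = _ := by group
  intro g hg
  refine mem_normalizer_iff.2 fun x => ⟨key g hg x, fun hx => ?_⟩
  simpa [mul_assoc] using key g⁻¹ (inv_mem hg) _ hx

theorem isPGroup_of_forall_coprime [Finite G] [Fact p.Prime] {D : Subgroup G}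
    (h : ∀ d ∈ D, (orderOf d).Coprime p → d = 1) : IsPGroup p D := by
  refine IsPGroup.of_card (n := (Nat.card D).primeFactorsList.length)
    (Nat.eq_prime_pow_of_unique_prime_dvd Nat.card_pos.ne' fun {q} hq hd => ?_)
  by_contra hne
  haveI := Fact.mk hq
  obtain ⟨d, hd'⟩ := exists_prime_orderOf_dvd_card' q hd
  have h1 := h d d.2 (by rw [Subgroup.orderOf_coe, hd']; exact (Nat.coprime_primes hq Fact.out).2 hne)
  rw [← Subgroup.orderOf_coe, h1, orderOf_one] at hd'
  exact hq.one_lt.ne hd'

/-- Two `p`-subgroups of index prime to `p` in `M` are conjugate in `M`. -/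
theorem exists_map_conj_eq_of_sylow_in [Finite G] [Fact p.Prime] {M P Q : Subgroup G}
    (hPM : P ≤ M) (hQM : Q ≤ M) (hP : IsPGroup p P) (hQ : IsPGroup p Q)
    (hPi : ¬ p ∣ P.relIndex M) (hQi : ¬ p ∣ Q.relIndex M) :
    ∃ m ∈ M, P.map (MulAut.conj m).toMonoidHom = Q := by
  let S : Sylow p M := (hP.of_equiv (subgroupOfEquivOfLe hPM).symm).toSylow hPi
  let T : Sylow p M := (hQ.of_equiv (subgroupOfEquivOfLe hQM).symm).toSylow hQi
  obtain ⟨m, hm⟩ := MulAction.exists_smul_eq M S T
  refine ⟨m, m.2, ?_⟩
  have hm' := congrArg (fun U : Sylow p M => (U : Subgroup M).map M.subtype) hm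
  simp only [Sylow.coe_subgroup_smul, S, T, ← map_conj_eq_smul,
    Subgroup.map_map] at hm'
  have e : (MulAut.conj (m : G)).toMonoidHom.comp M.subtype =
      M.subtype.comp (MulAut.conj m).toMonoidHom := by ext y; simp
  calc P.map (MulAut.conj (m : G)).toMonoidHom
      = ((P.subgroupOf M).map M.subtype).map (MulAut.conj (m : G)).toMonoidHom := by
        rw [map_subgroupOf_eq_of_le hPM]
    _ = (Q.subgroupOf M).map M.subtype := by rw [Subgroup.map_map, e]; exact hm'
    _ = Q := map_subgroupOf_eq_of_le hQM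

/-- A `p`-subgroup lifts normalisers modulo a normal `p'`-subgroup. -/
theorem mem_map_normalizer [Finite G] [Fact p.Prime] (N : Subgroup G) [N.Normal]
    (hN : (Nat.card N).Coprime p) {P : Subgroup G} (hP : IsPGroup p P) {x : G}
    (hx : QuotientGroup.mk' N x ∈ normalizer ((P.map (QuotientGroup.mk' N) : Subgroup (G ⧸ N)) : Set (G ⧸ N))) :
    QuotientGroup.mk' N x ∈ (normalizer (P : Set G)).map (QuotientGroup.mk' N) := by
  set M := P ⊔ N with hM
  set P' := P.map (MulAut.conj x).toMonoidHom with hP'
  have hPN : P ⊓ N = ⊥ := inf_eq_bot_of_isPGroup_of_coprime hP hN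
  have hP'M : P' ≤ M := by
    have e : P'.map (QuotientGroup.mk' N) = P.map (QuotientGroup.mk' N) := by
      conv_rhs => rw [← mem_normalizer_iff_map_conj_eq.1 hx]
      rw [hP', Subgroup.map_map, Subgroup.map_map]
      congr 1
    rw [hM, ← CfsgLib.Base.comap_map_mk', ← map_le_iff_le_comap, e]
  have hidx : ∀ Q : Subgroup G, Q ≤ M → Nat.card Q = Nat.card P → ¬ p ∣ Q.relIndex M := by
    intro Q hQ hc hd
    have h1 : Nat.card Q * Q.relIndex M = Nat.card M := by
      simpa [relIndex_bot_left] using relIndex_mul_relIndex ⊥ Q M bot_le hQ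
    rw [card_sup_of_disjoint P N hPN, hc] at h1
    rw [Nat.eq_of_mul_eq_mul_left Nat.card_pos h1] at hd
    exact (Fact.out : p.Prime).coprime_iff_not_dvd.1 hN.symm hd
  obtain ⟨m, hm, hmP⟩ := exists_map_conj_eq_of_sylow_in hP'M le_sup_left (hP.map _) hP
    (hidx _ hP'M (card_map_conj x P)) (hidx _ le_sup_left rfl)
  have hmx : m * x ∈ normalizer (P : Set G) := by
    rw [mem_normalizer_iff_map_conj_eq]
    conv_rhs => rw [← hmP, hP', Subgroup.map_map]
    congr 1
    ext y
    simp [mul_assoc]
  have hmimg : QuotientGroup.mk' N m ∈ (normalizer (P : Set G)).map (QuotientGroup.mk' N) := by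
    have : QuotientGroup.mk' N m ∈ M.map (QuotientGroup.mk' N) := mem_map_of_mem _ hm
    rw [hM, Subgroup.map_sup, map_mk'_eq_bot_iff.2 le_rfl, sup_bot_eq] at this
    exact map_mono le_normalizer this
  have := mul_mem (inv_mem hmimg) (mem_map_of_mem (QuotientGroup.mk' N) hmx)
  simpa using this

theorem map_normalizer_mk' [Finite G] [Fact p.Prime] (N : Subgroup G) [N.Normal]
    (hN : (Nat.card N).Coprime p) {P : Subgroup G} (hP : IsPGroup p P) :
    (normalizer (P : Set G)).map (QuotientGroup.mk' N) =
      normalizer ((P.map (QuotientGroup.mk' N) : Subgroup (G ⧸ N)) : Set (G ⧸ N)) := by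
  refine le_antisymm (le_normalizer_map _) fun y hy => ?_
  obtain ⟨x, rfl⟩ := QuotientGroup.mk'_surjective N y
  exact mem_map_normalizer N hN hP hy

theorem map_centralizer_mk' [Finite G] [Fact p.Prime] (N : Subgroup G) [N.Normal]
    (hN : (Nat.card N).Coprime p) {P : Subgroup G} (hP : IsPGroup p P) :
    (centralizer (P : Set G)).map (QuotientGroup.mk' N) =
      centralizer ((P.map (QuotientGroup.mk' N) : Subgroup (G ⧸ N)) : Set (G ⧸ N)) := by
  refine le_antisymm ?_ fun y hy => ?_
  · rintro _ ⟨c, hc, rfl⟩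
    refine mem_centralizer_iff.2 ?_
    rintro _ ⟨a, ha, rfl⟩
    rw [← map_mul, ← map_mul, mem_centralizer_iff.1 hc a ha]
  · have hy' := centralizer_le_normalizer _ hy
    rw [← map_normalizer_mk' N hN hP] at hy'
    obtain ⟨n, hn, rfl⟩ := hy'
    refine ⟨n, mem_centralizer_iff.2 fun a ha => ?_, rfl⟩
    have h1 : ⁅a, n⁆ ∈ P := by
      have e : ⁅a, n⁆ = a * (n * a⁻¹ * n⁻¹) := by group
      rw [e]
      exact mul_mem ha ((mem_normalizer_iff.1 hn _).1 (inv_mem ha))
    have h2 : ⁅a, n⁆ ∈ N := by
      rw [← QuotientGroup.eq_one_iff, ← QuotientGroup.mk'_apply, map_commutatorElement,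
        commutatorElement_eq_one_iff_mul_comm]
      exact mem_centralizer_iff.1 hy _ (mem_map_of_mem _ ha)
    have := mem_bot.1 (inf_eq_bot_of_isPGroup_of_coprime hP hN ▸ mem_inf.2 ⟨h1, h2⟩)
    rwa [commutatorElement_eq_one_iff_mul_comm] at this

/-! ### `O_{p',p}` and p-constraint -/

theorem pPrimePCore_normal (p : ℕ) (G : Type u) [Group G] : (pPrimePCore p G).Normal :=
  Normal.comap inferInstance _

theorem map_pPrimePCore (p : ℕ) (G : Type u) [Group G] :
    (pPrimePCore p G).map (QuotientGroup.mk' (pPrimeCore p G)) =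
      pCore p (G ⧸ pPrimeCore p G) := map_mk'_comap _ _

theorem pPrimePCore_eq_pCore [Finite G] [Fact p.Prime] (hO : pPrimeCore p G = ⊥) :
    pPrimePCore p G = pCore p G := by
  rw [pPrimePCore, comap_pCore_of_ker (QuotientGroup.mk'_surjective _)]
  rw [QuotientGroup.ker_mk', hO]
  exact IsPGroup.of_bot

/-- A Sylow subgroup of `O_{p',p}(G)` maps onto `O_p(G/O_{p'}(G))`. -/
theorem map_sylow_pPrimePCore [Finite G] [Fact p.Prime] (P : Sylow p ↥(pPrimePCore p G)) :
    ((P : Subgroup ↥(pPrimePCore p G)).map (pPrimePCore p G).subtype).map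
      (QuotientGroup.mk' (pPrimeCore p G)) = pCore p (G ⧸ pPrimeCore p G) := by
  have key : ∀ y : (pPrimePCore p G).map (QuotientGroup.mk' (pPrimeCore p G)),
      y ∈ ((P : Subgroup ↥(pPrimePCore p G)).map
        ((QuotientGroup.mk' (pPrimeCore p G)).subgroupMap (pPrimePCore p G))) := by
    intro y
    let T : Sylow p ↥((pPrimePCore p G).map (QuotientGroup.mk' (pPrimeCore p G))) := P.mapSurjective
      ((QuotientGroup.mk' (pPrimeCore p G)).subgroupMap_surjective (pPrimePCore p G))
    have hX : IsPGroup p ↥((pPrimePCore p G).map (QuotientGroup.mk' (pPrimeCore p G))) :=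
      (isPGroup_pCore p _).to_le (map_pPrimePCore p G).le
    have : T.toSubgroup = ⊤ :=
      (T.is_maximal' (IsPGroup.of_equiv hX Subgroup.topEquiv.symm) le_top).symm
    have hy : y ∈ T.toSubgroup := this ▸ mem_top y
    exact hy
  refine le_antisymm ?_ ?_
  · rw [← map_pPrimePCore]
    exact map_mono (map_subtype_le _)
  · intro y hy
    rw [← map_pPrimePCore] at hy
    obtain ⟨a, ha, he⟩ := key ⟨y, hy⟩
    exact ⟨a, mem_map_of_mem _ ha, congrArg Subtype.val he⟩

theorem isPConstrained_iff [Finite G] [Fact p.Prime] :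
    IsPConstrained p G ↔ centralizer (pCore p (G ⧸ pPrimeCore p G) : Set (G ⧸ pPrimeCore p G))
      ≤ pCore p (G ⧸ pPrimeCore p G) := by
  have key : ∀ P : Sylow p ↥(pPrimePCore p G),
      (centralizer (((P : Subgroup ↥(pPrimePCore p G)).map (pPrimePCore p G).subtype : Subgroup G) : Set G)
        ≤ pPrimePCore p G ↔
      centralizer (pCore p (G ⧸ pPrimeCore p G) : Set (G ⧸ pPrimeCore p G))
        ≤ pCore p (G ⧸ pPrimeCore p G)) := by
    intro P
    conv_lhs => arg 2; rw [pPrimePCore]
    rw [← map_le_iff_le_comap, map_centralizer_mk' _ (pPrimeCore_coprime p G) (P.2.map _),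
      map_sylow_pPrimePCore]
  obtain ⟨P⟩ : Nonempty (Sylow p ↥(pPrimePCore p G)) := inferInstance
  exact ⟨fun h => (key P).1 (h P), fun h Q => (key Q).2 h⟩

theorem comap_pPrimeCore_of_ker [Finite G] [Finite X] {f : G →* X} (hf : Function.Surjective f)
    (hker : (Nat.card f.ker).Coprime p) : (pPrimeCore p X).comap f = pPrimeCore p G := by
  refine le_antisymm ?_ (map_le_iff_le_comap.1 (map_pPrimeCore_le f hf))
  haveI : ((pPrimeCore p X).comap f).Normal := Normal.comap inferInstance f
  refine le_pPrimeCore ?_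
  let g : (pPrimeCore p X).comap f →* X := f.comp (Subgroup.subtype _)
  have hd1 : Nat.card g.ker ∣ Nat.card f.ker := by
    rw [← card_map_subtype g.ker]
    refine card_dvd_of_le ?_
    rintro _ ⟨a, ha, rfl⟩
    exact ha
  have hd2 : Nat.card g.range ∣ Nat.card (pPrimeCore p X) := by
    refine card_dvd_of_le ?_
    rintro _ ⟨a, rfl⟩
    exact a.2
  rw [← g.ker.card_mul_index, index_ker]
  exact (hker.coprime_dvd_left hd1).mul_left ((pPrimeCore_coprime p X).coprime_dvd_left hd2)

/-- The isomorphism `G/O_{p'}(G) ≅ X/O_{p'}(X)` for a surjection with `p'`-kernel. -/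
theorem exists_equiv_quotient_pPrimeCore [Finite G] [Finite X] {f : G →* X}
    (hf : Function.Surjective f) (hker : (Nat.card f.ker).Coprime p) :
    Nonempty ((G ⧸ pPrimeCore p G) ≃* (X ⧸ pPrimeCore p X)) :=
  ⟨(QuotientGroup.quotientMulEquivOfEq (by
      rw [← MonoidHom.comap_ker, QuotientGroup.ker_mk', comap_pPrimeCore_of_ker hf hker])).trans
    (QuotientGroup.quotientKerEquivOfSurjective ((QuotientGroup.mk' (pPrimeCore p X)).comp f)
      ((QuotientGroup.mk'_surjective _).comp hf))⟩

theorem centralizer_pCore_le_congr (e : G ≃* X) :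
    centralizer (pCore p G : Set G) ≤ pCore p G ↔ centralizer (pCore p X : Set X) ≤ pCore p X := by
  rw [← map_le_map_iff_of_injective (f := e.toMonoidHom) e.injective, map_centralizer_mulEquiv,
    map_pCore_mulEquiv]
  have : (e '' (pCore p G : Set G)) = (pCore p X : Set X) := by
    rw [← map_pCore_mulEquiv e]; rfl
  rw [this]

theorem isPConstrained_iff_of_surjective [Finite G] [Finite X] [Fact p.Prime] {f : G →* X}
    (hf : Function.Surjective f) (hker : (Nat.card f.ker).Coprime p) :
    IsPConstrained p G ↔ IsPConstrained p X := by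
  obtain ⟨e⟩ := exists_equiv_quotient_pPrimeCore hf hker
  rw [isPConstrained_iff, isPConstrained_iff]
  exact centralizer_pCore_le_congr e

theorem isPConstrained_congr [Finite G] [Fact p.Prime] [Finite X] (e : G ≃* X) :
    IsPConstrained p G ↔ IsPConstrained p X :=
  isPConstrained_iff_of_surjective (f := e.toMonoidHom) e.surjective (by
    rw [(MonoidHom.ker_eq_bot_iff _).2 e.injective, card_bot]; exact Nat.coprime_one_left p)

theorem isPConstrained_quotient_pPrimeCore [Finite G] [Fact p.Prime] :
    IsPConstrained p G ↔ IsPConstrained p (G ⧸ pPrimeCore p G) :=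
  isPConstrained_iff_of_surjective (QuotientGroup.mk'_surjective _) (by
    rw [QuotientGroup.ker_mk']; exact pPrimeCore_coprime p G)

theorem isPConstrained_iff_of_eq_bot [Finite G] [Fact p.Prime] (hO : pPrimeCore p G = ⊥) :
    IsPConstrained p G ↔ centralizer (pCore p G : Set G) ≤ pCore p G := by
  rw [isPConstrained_iff]
  exact centralizer_pCore_le_congr
    ((QuotientGroup.quotientMulEquivOfEq hO).trans QuotientGroup.quotientBot)

theorem isPConstrained_of_isPSolvable [Finite G] [Fact p.Prime] (hG : IsPSolvable p G) :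
    IsPConstrained p G :=
  isPConstrained_iff.2 (centralizer_pCore_le (isPSolvable_quotient hG _)
    (pPrimeCore_quotient_pPrimeCore p G))

/-- If `C_G(P)` is p-solvable for a Sylow subgroup `P` of `O_{p',p}(G)`, then `G` is
p-constrained. -/
theorem isPConstrained_of_centralizer [Finite G] [Fact p.Prime]
    (P : Sylow p ↥(pPrimePCore p G))
    (h : IsPSolvable p ↥(centralizer (((P : Subgroup ↥(pPrimePCore p G)).map
      (pPrimePCore p G).subtype : Subgroup G) : Set G))) : IsPConstrained p G := by
  refine isPConstrained_iff.2 (centralizer_pCore_le_of_isPSolvable_centralizer ?_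
    (pPrimeCore_quotient_pPrimeCore p G))
  rw [← map_sylow_pPrimePCore P, ← map_centralizer_mk' _ (pPrimeCore_coprime p G) (P.2.map _)]
  exact isPSolvable_map _ h

/-! ### The P×Q lemma -/

/-- Thompson's P×Q lemma. -/
theorem le_centralizer_PxQ [Finite G] [Fact p.Prime] {T P K : Subgroup G}
    (hT : IsPGroup p T) (hP : IsPGroup p P) (hK : (Nat.card K).Coprime p)
    (hPT : P ≤ normalizer (T : Set G)) (hKT : K ≤ normalizer (T : Set G))
    (hPK : P ≤ centralizer (K : Set G))
    (hfix : T ⊓ centralizer (P : Set G) ≤ centralizer (K : Set G)) :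
    K ≤ centralizer (T : Set G) := by
  induction T using WellFoundedLT.induction with
  | _ T ih =>
  have hPKn : K ≤ normalizer (P : Set G) :=
    (le_centralizer_iff.1 hPK).trans (centralizer_le_normalizer _)
  have hTPle : ⁅T, P⁆ ≤ T := commutator_le.2 fun t ht a ha => by
    have e : ⁅t, a⁆ = t * (a * t⁻¹ * a⁻¹) := by group
    rw [e]; exact mul_mem ht ((mem_normalizer_iff.1 (hPT ha) _).1 (inv_mem ht))
  by_cases hTb : T = ⊥
  · subst hTb
    intro k _
    exact mem_centralizer_iff.2 fun x hx => by rw [mem_bot.1 hx]; simp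
  have hlt : ⁅T, P⁆ < T := by
    refine lt_of_le_of_ne hTPle fun heq => ?_
    set R := P ⊔ T with hR
    have hRp : IsPGroup p R := hP.to_sup_of_normal_right' hT hPT
    haveI hTn : (T.subgroupOf R).Normal :=
      normal_subgroupOf_of_le_normalizer (sup_le hPT le_normalizer)
    have h1 := CfsgLib.PGroups.commutator_top_lt (G := R) hRp (N := T.subgroupOf R) (fun h => hTb (by
      rw [← map_subgroupOf_eq_of_le (le_sup_right : T ≤ R), h, Subgroup.map_bot]))
    refine h1.ne (le_antisymm h1.le ?_)
    rw [← map_le_map_iff_of_injective R.subtype_injective, map_subgroupOf_eq_of_le le_sup_right,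
      map_commutator, map_subgroupOf_eq_of_le le_sup_right]
    calc T = ⁅T, P⁆ := heq.symm
      _ ≤ _ := commutator_mono le_rfl (by
        rw [← MonoidHom.range_eq_map, range_subtype]; exact le_sup_left)
  have hU := ih _ hlt (hT.to_le hTPle) (CfsgLib.OddOrder.le_normalizer_commutator hPT le_normalizer)
    (CfsgLib.OddOrder.le_normalizer_commutator hKT hPKn) ((inf_le_inf_right _ hTPle).trans hfix)
  -- three subgroups
  have h1 : ⁅⁅T, P⁆, K⁆ = ⊥ := commutator_eq_bot_iff_le_centralizer.2 (le_centralizer_iff.1 hU)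
  have h2 : ⁅⁅P, K⁆, T⁆ = ⊥ := by
    rw [commutator_eq_bot_iff_le_centralizer.2 hPK, commutator_bot_left]
  have h3 : ⁅⁅K, T⁆, P⁆ = ⊥ := commutator_commutator_eq_bot_of_rotate h1 h2
  rw [commutator_comm K T] at h3
  have hTKle : ⁅T, K⁆ ≤ T := commutator_le.2 fun t ht a ha => by
    have e : ⁅t, a⁆ = t * (a * t⁻¹ * a⁻¹) := by group
    rw [e]; exact mul_mem ht ((mem_normalizer_iff.1 (hKT ha) _).1 (inv_mem ht))
  obtain ⟨n, hn⟩ := IsPGroup.iff_card.1 (hT.to_le hTKle)
  refine CfsgLib.OddOrder.le_centralizer_of_commutator_le (U := ⁅T, K⁆)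
    (by rw [hn]; exact hK.pow_right n) le_rfl (le_centralizer_iff.1 ?_)
  exact (le_inf hTKle (commutator_eq_bot_iff_le_centralizer.1 h3)).trans hfix

/-! ### p-local subgroups -/

/-- In a group with `C(O_p) ≤ O_p` and trivial `O_{p'}`, a normalizer of a `p`-subgroup has
trivial `p'`-core. -/
theorem pPrimeCore_normalizer_eq_bot [Finite G] [Fact p.Prime]
    (hc : centralizer (pCore p G : Set G) ≤ pCore p G) {P : Subgroup G} (hP : IsPGroup p P) :
    (pPrimeCore p (normalizer (P : Set G))).map (normalizer (P : Set G)).subtype = ⊥ := by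
  set N := normalizer (P : Set G) with hN
  set K := (pPrimeCore p N).map N.subtype with hK
  have hKc : (Nat.card K).Coprime p := coprime_card_map_pPrimeCore N
  have hNK : N ≤ normalizer (K : Set G) := le_normalizer_map_pPrimeCore N
  have hKN : K ≤ N := map_subtype_le _
  have hPK : P ≤ centralizer (K : Set G) := by
    rw [← commutator_eq_bot_iff_le_centralizer, ← le_bot_iff,
      ← inf_eq_bot_of_isPGroup_of_coprime hP hKc]
    refine commutator_le.2 fun a ha k hk => mem_inf.2 ⟨?_, ?_⟩
    · have e : ⁅a, k⁆ = a * (k * a⁻¹ * k⁻¹) := by group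
      rw [e]; exact mul_mem ha ((mem_normalizer_iff.1 (hKN hk) _).1 (inv_mem ha))
    · have e : ⁅a, k⁆ = a * k * a⁻¹ * k⁻¹ := by group
      rw [e]; exact mul_mem ((mem_normalizer_iff.1 (hNK (le_normalizer ha)) _).1 hk) (inv_mem hk)
  have hQn : ∀ Y : Subgroup G, Y ≤ normalizer (pCore p G : Set G) := fun Y =>
    le_normalizer_of_normal.trans' (le_top (a := Y))
  have hfix : pCore p G ⊓ centralizer (P : Set G) ≤ centralizer (K : Set G) := by
    set Y := pCore p G ⊓ centralizer (P : Set G) with hY
    have hYp : IsPGroup p Y := (isPGroup_pCore p G).to_le inf_le_left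
    have hYN : Y ≤ N := inf_le_right.trans (centralizer_le_normalizer _)
    have hKY : K ≤ normalizer (Y : Set G) := by
      refine le_trans ?_ (normalizer_inf_le _ _)
      exact le_inf (hQn K) (hKN.trans (normalizer_le_centralizer_normalizer _))
    rw [← commutator_eq_bot_iff_le_centralizer, ← le_bot_iff,
      ← inf_eq_bot_of_isPGroup_of_coprime hYp hKc]
    refine commutator_le.2 fun a ha k hk => mem_inf.2 ⟨?_, ?_⟩
    · have e : ⁅a, k⁆ = a * (k * a⁻¹ * k⁻¹) := by group
      rw [e]; exact mul_mem ha ((mem_normalizer_iff.1 (hKY hk) _).1 (inv_mem ha))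
    · have e : ⁅a, k⁆ = a * k * a⁻¹ * k⁻¹ := by group
      rw [e]; exact mul_mem ((mem_normalizer_iff.1 (hNK (hYN ha)) _).1 hk) (inv_mem hk)
  have hle := (le_centralizer_PxQ (isPGroup_pCore p G) hP hKc (hQn P) (hQn K) hPK hfix).trans hc
  exact le_bot_iff.1 ((le_inf hle le_rfl).trans
    (inf_eq_bot_of_isPGroup_of_coprime (isPGroup_pCore p G) hKc).le)

theorem centralizer_pCore_normalizer_le [Finite G] [Fact p.Prime]
    (hc : centralizer (pCore p G : Set G) ≤ pCore p G) {P : Subgroup G} (hP : IsPGroup p P) :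
    centralizer (pCore p (normalizer (P : Set G)) : Set (normalizer (P : Set G)))
      ≤ pCore p (normalizer (P : Set G)) := by
  set N := normalizer (P : Set G) with hN
  refine le_pCore (isPGroup_of_forall_coprime fun d hd hcop => ?_)
  set R := (pCore p N).map N.subtype with hR
  have hPR : P ≤ R := le_map_pCore le_normalizer le_rfl hP
  have hYR : pCore p G ⊓ centralizer (P : Set G) ≤ R := by
    refine le_map_pCore (inf_le_right.trans (centralizer_le_normalizer _)) ?_
      ((isPGroup_pCore p G).to_le inf_le_left)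
    refine le_trans ?_ (normalizer_inf_le _ _)
    exact le_inf (le_normalizer_of_normal.trans' (le_top (a := N))) (normalizer_le_centralizer_normalizer _)
  have hdR : zpowers (d : G) ≤ centralizer (R : Set G) := by
    rw [zpowers_le]
    refine mem_centralizer_iff.2 ?_
    rintro _ ⟨r, hr, rfl⟩
    exact congrArg Subtype.val (mem_centralizer_iff.1 hd r hr)
  have hK : (Nat.card (zpowers (d : G))).Coprime p := by
    rw [Nat.card_zpowers, Subgroup.orderOf_coe]; exact hcop
  have hle := le_centralizer_PxQ (isPGroup_pCore p G) hP hK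
    (le_normalizer_of_normal.trans' (le_top (a := P)))
    (le_normalizer_of_normal.trans' (le_top (a := zpowers (d : G))))
    (le_centralizer_iff.1 (hdR.trans (centralizer_le hPR)))
    (hYR.trans (le_centralizer_iff.1 hdR))
  exact Subtype.ext (mem_bot.1 ((inf_eq_bot_of_isPGroup_of_coprime (isPGroup_pCore p G) hK).le
    ⟨hc (hle (mem_zpowers _)), mem_zpowers _⟩))

/-- `C(O_p) ≤ O_p` is inherited by normal subgroups. -/
theorem centralizer_pCore_le_of_normal [Finite G] [Fact p.Prime]
    (hc : centralizer (pCore p G : Set G) ≤ pCore p G) (H : Subgroup G) [H.Normal] :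
    centralizer (pCore p H : Set H) ≤ pCore p H := by
  refine le_pCore (isPGroup_of_forall_coprime fun d hd hcop => ?_)
  have hcop' : (Nat.card (zpowers (d : G))).Coprime p := by
    rw [Nat.card_zpowers, Subgroup.orderOf_coe]; exact hcop
  have hT : ⁅pCore p G, zpowers (d : G)⁆ ≤ (pCore p H).map H.subtype := by
    rw [map_pCore_eq_inf]
    exact le_inf (commutator_le_left _ _)
      ((commutator_mono le_rfl (zpowers_le.2 d.2)).trans (commutator_le_right _ _))
  obtain ⟨n, hn⟩ := IsPGroup.iff_card.1 (isPGroup_map_pCore p H)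
  have hle := CfsgLib.OddOrder.le_centralizer_of_commutator_le (U := (pCore p H).map H.subtype)
    (by rw [hn]; exact hcop'.pow_right n) hT (by
      rw [zpowers_le]
      refine mem_centralizer_iff.2 ?_
      rintro _ ⟨r, hr, rfl⟩
      exact congrArg Subtype.val (mem_centralizer_iff.1 hd r hr))
  exact Subtype.ext (mem_bot.1 ((inf_eq_bot_of_isPGroup_of_coprime (isPGroup_pCore p G) hcop').le
    ⟨hc (hle (mem_zpowers _)), mem_zpowers _⟩))

theorem map_pPrimeCore_normalizer [Finite G] [Fact p.Prime]
    (hc : IsPConstrained p G) {P : Subgroup G} (hP : IsPGroup p P) :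
    (pPrimeCore p (normalizer (P : Set G))).map (normalizer (P : Set G)).subtype =
      pPrimeCore p G ⊓ normalizer (P : Set G) := by
  set N := normalizer (P : Set G) with hN
  set f := QuotientGroup.mk' (pPrimeCore p G) with hf
  refine le_antisymm (le_inf ?_ (map_subtype_le _))
    (le_map_pPrimeCore inf_le_right ?_
      ((pPrimeCore_coprime p G).coprime_dvd_left (card_dvd_of_le inf_le_left)))
  · set K := (pPrimeCore p N).map N.subtype with hK
    rw [← map_mk'_eq_bot_iff, ← le_bot_iff,
      ← pPrimeCore_normalizer_eq_bot (isPConstrained_iff.1 hc) (hP.map f)]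
    refine le_map_pPrimeCore ?_ ?_ ((coprime_card_map_pPrimeCore N).coprime_dvd_left
      (CfsgLib.Base.card_map_dvd _ _))
    · rw [← map_normalizer_mk' _ (pPrimeCore_coprime p G) hP]
      exact map_mono (map_subtype_le _)
    · rw [← map_normalizer_mk' _ (pPrimeCore_coprime p G) hP]
      exact (map_mono (le_normalizer_map_pPrimeCore N)).trans (le_normalizer_map f)
  · exact le_trans (le_inf (le_normalizer_of_normal.trans' (le_top (a := N))) le_normalizer)
      ((normalizer_inf_le _ _))

theorem isPConstrained_normalizer [Finite G] [Fact p.Prime]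
    (hc : IsPConstrained p G) {P : Subgroup G} (hP : IsPGroup p P) :
    IsPConstrained p ↥(normalizer (P : Set G)) := by
  set f := QuotientGroup.mk' (pPrimeCore p G) with hf
  have e := map_normalizer_mk' (pPrimeCore p G) (pPrimeCore_coprime p G) hP
  rw [isPConstrained_iff_of_surjective (f := f.subgroupMap (normalizer (P : Set G)))
      (f.subgroupMap_surjective _) (by
        rw [← card_map_subtype (MonoidHom.ker _)]
        refine (pPrimeCore_coprime p G).coprime_dvd_left (card_dvd_of_le ?_)
        rintro _ ⟨a, ha, rfl⟩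
        exact (QuotientGroup.eq_one_iff (a : G)).1 (congrArg Subtype.val ha)),
    isPConstrained_congr (MulEquiv.subgroupCongr e),
    isPConstrained_iff_of_eq_bot ((map_eq_bot_iff_of_injective _ (subtype_injective _)).1
      (pPrimeCore_normalizer_eq_bot (isPConstrained_iff.1 hc) (hP.map f)))]
  exact centralizer_pCore_normalizer_le (isPConstrained_iff.1 hc) (hP.map f)

theorem isPConstrained_of_normal [Finite G] [Fact p.Prime] (hc : IsPConstrained p G)
    (H : Subgroup G) [H.Normal] : IsPConstrained p H := by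
  set f := QuotientGroup.mk' (pPrimeCore p G) with hf
  haveI : (H.map f).Normal := Normal.map inferInstance _ (QuotientGroup.mk'_surjective _)
  rw [isPConstrained_iff_of_surjective (f := f.subgroupMap H) (f.subgroupMap_surjective _) (by
        rw [← card_map_subtype (MonoidHom.ker _)]
        refine (pPrimeCore_coprime p G).coprime_dvd_left (card_dvd_of_le ?_)
        rintro _ ⟨a, ha, rfl⟩
        exact (QuotientGroup.eq_one_iff (a : G)).1 (congrArg Subtype.val ha)),
    isPConstrained_iff_of_eq_bot ((map_eq_bot_iff_of_injective _ (subtype_injective _)).1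
      (le_bot_iff.1 ((map_pPrimeCore_le_of_isSubnormal (Normal.isSubnormal ‹(H.map f).Normal›)).trans
        (pPrimeCore_quotient_pPrimeCore p G).le)))]
  exact centralizer_pCore_le_of_normal (isPConstrained_iff.1 hc) _

theorem isPConstrained_centralizer [Finite G] [Fact p.Prime]
    (hc : IsPConstrained p G) {P : Subgroup G} (hP : IsPGroup p P) :
    IsPConstrained p ↥(centralizer (P : Set G)) := by
  haveI : ((centralizer (P : Set G)).subgroupOf (normalizer (P : Set G))).Normal :=
    normal_subgroupOf_of_le_normalizer (normalizer_le_centralizer_normalizer _)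
  exact (isPConstrained_congr (subgroupOfEquivOfLe (centralizer_le_normalizer _))).1
    (isPConstrained_of_normal (isPConstrained_normalizer hc hP) _)

end CfsgLib.PLocal
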