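import Mathlib.Data.Finite.Prod
import Cfsg.Prelude.Def_PLocal
import Cfsg.Agent.Lib.Base.Cores

/-!
The Thompson subgroup (elementary abelian version) and `Ω₁`.
-/

set_option autoImplicit false

namespace CfsgLib.PLocal

open Subgroup Cfsg
open scoped commutatorElement

variable {G : Type*} [Group G] {H : Type*} [Group H] {p : ℕ}

/-! ### Elementary abelian subgroups -/

theorem isElementaryAbelian_bot (p : ℕ) : IsElementaryAbelian p (⊥ : Subgroup G) :=
  ⟨⟨⟨fun a b => Subtype.ext (by
      rw [Subgroup.mem_bot.1 (a * b).2, Subgroup.mem_bot.1 (b * a).2])⟩⟩,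
    fun a ha => by rw [Subgroup.mem_bot.1 ha, one_pow]⟩

theorem isElementaryAbelian_of_le {A B : Subgroup G} (hB : IsElementaryAbelian p B) (h : A ≤ B) :
    IsElementaryAbelian p A :=
  ⟨⟨⟨fun a b => Subtype.ext
    (congrArg Subtype.val (hB.1.is_comm.comm ⟨a, h a.2⟩ ⟨b, h b.2⟩) : (a : G) * b = b * a)⟩⟩,
    fun a ha => hB.2 a (h ha)⟩

theorem isElementaryAbelian_comm {A : Subgroup G} (hA : IsElementaryAbelian p A) {a b : G}
    (ha : a ∈ A) (hb : b ∈ A) : a * b = b * a :=
  congrArg Subtype.val (hA.1.is_comm.comm ⟨a, ha⟩ ⟨b, hb⟩)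

theorem le_centralizer_self {A : Subgroup G} (hA : IsElementaryAbelian p A) :
    A ≤ centralizer (A : Set G) := fun _ ha =>
  mem_centralizer_iff.2 fun _ hb => isElementaryAbelian_comm hA hb ha

theorem isPGroup_of_isElementaryAbelian {A : Subgroup G} (hA : IsElementaryAbelian p A) :
    IsPGroup p A := fun a => ⟨1, Subtype.ext (by simpa using hA.2 a a.2)⟩

theorem isElementaryAbelian_map_iff {f : G →* H} (hf : Function.Injective f) {A : Subgroup G} :
    IsElementaryAbelian p (A.map f) ↔ IsElementaryAbelian p A := by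
  constructor
  · intro h
    refine ⟨⟨⟨fun a b => Subtype.ext (hf ?_)⟩⟩, fun a ha => hf ?_⟩
    · simpa only [Subgroup.coe_mul, map_mul] using
        isElementaryAbelian_comm h (mem_map_of_mem f a.2) (mem_map_of_mem f b.2)
    · simpa only [map_pow, map_one] using h.2 _ (mem_map_of_mem f ha)
  · intro h
    refine ⟨⟨⟨?_⟩⟩, ?_⟩
    · rintro ⟨_, a, ha, rfl⟩ ⟨_, b, hb, rfl⟩
      refine Subtype.ext ?_
      simp only [Subgroup.coe_mul, ← map_mul, isElementaryAbelian_comm h ha hb]
    · rintro _ ⟨a, ha, rfl⟩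
      rw [← map_pow, h.2 a ha, map_one]

theorem isElementaryAbelian_map (f : G →* H) {A : Subgroup G} (h : IsElementaryAbelian p A) :
    IsElementaryAbelian p (A.map f) := by
  refine ⟨⟨⟨?_⟩⟩, ?_⟩
  · rintro ⟨_, a, ha, rfl⟩ ⟨_, b, hb, rfl⟩
    refine Subtype.ext ?_
    simp only [Subgroup.coe_mul, ← map_mul, isElementaryAbelian_comm h ha hb]
  · rintro _ ⟨a, ha, rfl⟩
    rw [← map_pow, h.2 a ha, map_one]

theorem isElementaryAbelian_closure {s : Set G} (hc : ∀ x ∈ s, ∀ y ∈ s, x * y = y * x)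
    (hp : ∀ x ∈ s, x ^ p = 1) : IsElementaryAbelian p (closure s) := by
  have hcomm : ∀ x ∈ closure s, ∀ y ∈ closure s, x * y = y * x := by
    have h : closure s ≤ centralizer ((closure s : Subgroup G) : Set G) := by
      rw [centralizer_closure, closure_le]
      exact fun x hx => mem_centralizer_iff.2 fun y hy => hc y hy x hx
    exact fun x hx y hy => (mem_centralizer_iff.1 (h hx) y hy).symm
  refine ⟨⟨⟨fun a b => Subtype.ext (hcomm a a.2 b b.2)⟩⟩, fun a ha => ?_⟩
  induction ha using closure_induction with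
  | mem x hx => exact hp x hx
  | one => exact one_pow _
  | mul x y hx hy ihx ihy => rw [Commute.mul_pow (hcomm x hx y hy), ihx, ihy, one_mul]
  | inv x _ ihx => rw [inv_pow, ihx, inv_one]

theorem isElementaryAbelian_sup {A B : Subgroup G} (hA : IsElementaryAbelian p A)
    (hB : IsElementaryAbelian p B) (h : A ≤ centralizer (B : Set G)) :
    IsElementaryAbelian p (A ⊔ B) := by
  rw [Subgroup.sup_eq_closure]
  refine isElementaryAbelian_closure ?_ ?_
  · rintro x (hx | hx) y (hy | hy)
    · exact isElementaryAbelian_comm hA hx hy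
    · exact (mem_centralizer_iff.1 (h hx) y hy).symm
    · exact mem_centralizer_iff.1 (h hy) x hx
    · exact isElementaryAbelian_comm hB hx hy
  · rintro x (hx | hx)
    · exact hA.2 x hx
    · exact hB.2 x hx

/-! ### `Ω₁` -/

theorem mem_omegaOne {K : Subgroup G} {x : G} (hx : x ∈ K) (hp : x ^ p = 1) :
    x ∈ omegaOne p K := subset_closure ⟨hx, hp⟩

theorem omegaOne_le (p : ℕ) (K : Subgroup G) : omegaOne p K ≤ K :=
  (closure_le _).2 fun _ hx => hx.1

theorem omegaOne_mono {K L : Subgroup G} (h : K ≤ L) : omegaOne p K ≤ omegaOne p L :=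
  closure_mono fun _ hx => ⟨h hx.1, hx.2⟩

theorem map_omegaOne {f : G →* H} (hf : Function.Injective f) (K : Subgroup G) :
    (omegaOne p K).map f = omegaOne p (K.map f) := by
  rw [omegaOne, omegaOne, MonoidHom.map_closure]
  congr 1
  ext y
  simp only [Set.mem_image, Set.mem_ofPred_eq, Subgroup.mem_map]
  constructor
  · rintro ⟨x, ⟨hx, hxp⟩, rfl⟩
    exact ⟨⟨x, hx, rfl⟩, by rw [← map_pow, hxp, map_one]⟩
  · rintro ⟨⟨x, hx, rfl⟩, hxp⟩
    exact ⟨x, ⟨hx, hf (by rw [map_pow, hxp, map_one])⟩, rfl⟩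

theorem isElementaryAbelian_omegaOne {K : Subgroup G} (h : K ≤ centralizer (K : Set G)) :
    IsElementaryAbelian p (omegaOne p K) :=
  isElementaryAbelian_closure (fun x hx y hy => (mem_centralizer_iff.1 (h hx.1) y hy.1).symm)
    fun _ hx => hx.2

theorem omegaOne_ne_bot [Fact p.Prime] [Finite G] {K : Subgroup G} (hK : IsPGroup p K)
    (h : K ≠ ⊥) : omegaOne p K ≠ ⊥ := by
  obtain ⟨m, hm⟩ := IsPGroup.iff_card.1 hK
  have hdvd : p ∣ Nat.card K := by
    rw [hm]
    refine dvd_pow_self p ?_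
    rintro rfl
    exact h (Subgroup.eq_bot_of_card_eq _ (by simpa using hm))
  obtain ⟨x, hx⟩ := exists_prime_orderOf_dvd_card' (G := K) p hdvd
  intro hb
  have h1 : (x : G) ∈ omegaOne p K :=
    mem_omegaOne x.2 (by rw [← hx, ← orderOf_coe]; exact pow_orderOf_eq_one _)
  rw [hb, Subgroup.mem_bot] at h1
  have : orderOf x = 1 := orderOf_eq_one_iff.2 (Subtype.ext h1)
  exact (Fact.out : p.Prime).one_lt.ne' (hx ▸ this)

/-- The abelian group `Z(K) = K ⊓ C(K)`. -/
theorem inf_centralizer_le_centralizer (K : Subgroup G) :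
    K ⊓ centralizer (K : Set G) ≤ centralizer ((K ⊓ centralizer (K : Set G) : Subgroup G) : Set G) :=
  inf_le_right.trans (centralizer_le inf_le_left)

/-! ### Elementary abelian subgroups of largest order -/

theorem exists_mem_maxElementaryAbelian (p : ℕ) (G' : Type*) [Group G'] [Finite G'] :
    (maxElementaryAbelianSubgroups p G').Nonempty := by
  obtain ⟨A, hA, hmax⟩ := Set.exists_max_image {A : Subgroup G' | IsElementaryAbelian p A}
    (fun A => Nat.card A) (Set.toFinite _) ⟨⊥, isElementaryAbelian_bot p⟩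
  exact ⟨A, hA, hmax⟩

theorem le_thompsonSubgroup {A : Subgroup G} (hA : A ∈ maxElementaryAbelianSubgroups p G) :
    A ≤ thompsonSubgroup p G := le_sSup hA

theorem map_mem_maxElementaryAbelian (e : G ≃* H) {A : Subgroup G}
    (hA : A ∈ maxElementaryAbelianSubgroups p G) :
    A.map e.toMonoidHom ∈ maxElementaryAbelianSubgroups p H := by
  refine ⟨isElementaryAbelian_map _ hA.1, fun B hB => ?_⟩
  have := hA.2 (B.map e.symm.toMonoidHom) (isElementaryAbelian_map _ hB)
  rwa [CfsgLib.Base.card_map_mulEquiv, ← CfsgLib.Base.card_map_mulEquiv e A] at this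

theorem map_thompsonSubgroup (e : G ≃* H) :
    (thompsonSubgroup p G).map e.toMonoidHom = thompsonSubgroup p H := by
  apply le_antisymm
  · rw [map_le_iff_le_comap, thompsonSubgroup]
    exact sSup_le fun A hA => map_le_iff_le_comap.1
      (le_thompsonSubgroup (map_mem_maxElementaryAbelian e hA))
  · refine sSup_le fun B hB => ?_
    intro b hb
    exact ⟨e.symm b, le_thompsonSubgroup (map_mem_maxElementaryAbelian e.symm hB)
      ⟨b, hb, rfl⟩, e.apply_symm_apply b⟩

theorem thompsonSubgroup_characteristic (p : ℕ) (G : Type*) [Group G] :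
    (thompsonSubgroup p G).Characteristic :=
  Subgroup.characteristic_iff_map_eq.2 fun e => map_thompsonSubgroup e

/-- The elementary abelian subgroups of largest order of a subgroup, seen in `G`. -/
def maxEAOf (p : ℕ) (P : Subgroup G) : Set (Subgroup G) :=
  {A | A ≤ P ∧ IsElementaryAbelian p A ∧
    ∀ B ≤ P, IsElementaryAbelian p B → Nat.card B ≤ Nat.card A}

theorem map_subtype_mem_maxEAOf {P : Subgroup G} {A : Subgroup P}
    (hA : A ∈ maxElementaryAbelianSubgroups p P) : A.map P.subtype ∈ maxEAOf p P := by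
  refine ⟨map_subtype_le _, isElementaryAbelian_map _ hA.1, fun B hB hBe => ?_⟩
  have h := hA.2 (B.subgroupOf P) ((isElementaryAbelian_map_iff P.subtype_injective).1
    (by rwa [map_subgroupOf_eq_of_le hB]))
  rwa [CfsgLib.Base.card_subgroupOf hB, ← CfsgLib.Base.card_map_subtype A] at h

theorem subgroupOf_mem_max {P A : Subgroup G} (hA : A ∈ maxEAOf p P) :
    A.subgroupOf P ∈ maxElementaryAbelianSubgroups p P := by
  obtain ⟨hle, he, hmax⟩ := hA
  refine ⟨(isElementaryAbelian_map_iff P.subtype_injective).1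
    (by rwa [map_subgroupOf_eq_of_le hle]), fun B hB => ?_⟩
  rw [CfsgLib.Base.card_subgroupOf hle, ← CfsgLib.Base.card_map_subtype B]
  exact hmax _ (map_subtype_le _) (isElementaryAbelian_map _ hB)

theorem thompsonSubgroupOf_eq_sSup (p : ℕ) (P : Subgroup G) :
    thompsonSubgroupOf p P = sSup (maxEAOf p P) := by
  apply le_antisymm
  · rw [thompsonSubgroupOf, map_le_iff_le_comap, thompsonSubgroup]
    exact sSup_le fun A hA => map_le_iff_le_comap.1 (le_sSup (map_subtype_mem_maxEAOf hA))
  · refine sSup_le fun A hA => ?_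
    rw [← map_subgroupOf_eq_of_le hA.1]
    exact map_mono (le_thompsonSubgroup (subgroupOf_mem_max hA))

theorem maxEAOf_top (p : ℕ) (G : Type*) [Group G] :
    maxEAOf p (⊤ : Subgroup G) = maxElementaryAbelianSubgroups p G := by
  ext A
  simp [maxEAOf, maxElementaryAbelianSubgroups]

theorem thompsonSubgroup_eq_sSup (p : ℕ) (G : Type*) [Group G] :
    thompsonSubgroup p G = sSup (maxEAOf p (⊤ : Subgroup G)) := by
  rw [maxEAOf_top]; rfl

theorem thompsonSubgroupOf_le (p : ℕ) (P : Subgroup G) : thompsonSubgroupOf p P ≤ P :=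
  map_subtype_le _

theorem le_thompsonSubgroupOf {P A : Subgroup G} (hA : A ∈ maxEAOf p P) :
    A ≤ thompsonSubgroupOf p P := by
  rw [thompsonSubgroupOf_eq_sSup]; exact le_sSup hA

theorem maxEAOf_nonempty [Finite G] (p : ℕ) (P : Subgroup G) : (maxEAOf p P).Nonempty := by
  obtain ⟨A, hA⟩ := exists_mem_maxElementaryAbelian p P
  exact ⟨_, map_subtype_mem_maxEAOf hA⟩

/-- If `U ≤ P` contains a member for `P`, its members are the members for `P` inside `U`. -/
theorem maxEAOf_mono {P U A : Subgroup G} (hUP : U ≤ P) (hA : A ∈ maxEAOf p P) (hAU : A ≤ U) :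
    maxEAOf p U = {B | B ∈ maxEAOf p P ∧ B ≤ U} := by
  ext B
  constructor
  · rintro ⟨hBU, hBe, hB⟩
    exact ⟨⟨hBU.trans hUP, hBe, fun C hC hCe => (hA.2.2 C hC hCe).trans (hB A hAU hA.2.1)⟩, hBU⟩
  · rintro ⟨⟨-, hBe, hB⟩, hBU⟩
    exact ⟨hBU, hBe, fun C hC hCe => hB C (hC.trans hUP) hCe⟩

theorem thompsonSubgroupOf_eq_of_le [Finite G] {P U : Subgroup G}
    (hJ : thompsonSubgroupOf p P ≤ U) (hUP : U ≤ P) :
    thompsonSubgroupOf p U = thompsonSubgroupOf p P := by
  obtain ⟨A, hA⟩ := maxEAOf_nonempty p P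
  rw [thompsonSubgroupOf_eq_sSup p U, thompsonSubgroupOf_eq_sSup p P,
    maxEAOf_mono hUP hA ((le_thompsonSubgroupOf hA).trans hJ)]
  congr 1
  ext B
  exact ⟨fun h => h.1, fun h => ⟨h, (le_thompsonSubgroupOf h).trans hJ⟩⟩

theorem map_mem_maxEAOf {f : G →* H} (hf : Function.Injective f) {P A : Subgroup G}
    (hA : A ∈ maxEAOf p P) : A.map f ∈ maxEAOf p (P.map f) := by
  refine ⟨map_mono hA.1, isElementaryAbelian_map _ hA.2.1, fun B hB hBe => ?_⟩
  have hBr : B ≤ f.range := hB.trans (Subgroup.map_le_range f P)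
  have e : (B.comap f).map f = B := map_comap_eq_self hBr
  have h1 : B.comap f ≤ P :=
    (comap_mono hB).trans (le_of_eq (comap_map_eq_self_of_injective hf P))
  have := hA.2.2 _ h1 ((isElementaryAbelian_map_iff hf).1 (by rwa [e]))
  rw [← e, CfsgLib.Base.card_map_of_injective hf, CfsgLib.Base.card_map_of_injective hf]
  exact this

theorem map_thompsonSubgroupOf {f : G →* H} (hf : Function.Injective f) (P : Subgroup G) :
    (thompsonSubgroupOf p P).map f = thompsonSubgroupOf p (P.map f) := by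
  rw [thompsonSubgroupOf, thompsonSubgroupOf,
    ← map_thompsonSubgroup (P.equivMapOfInjective f hf), map_map, map_map]
  rfl

/-- Every elementary abelian subgroup of a Sylow subgroup: the largest order does not depend on
the Sylow subgroup, and the members for `G` are those for the Sylow subgroups. -/
theorem exists_sylow_mem_maxEAOf [Fact p.Prime] [Finite G] {A : Subgroup G}
    (hA : A ∈ maxElementaryAbelianSubgroups p G) : ∃ S : Sylow p G, A ∈ maxEAOf p (S : Subgroup G) := by
  obtain ⟨S, hS⟩ := (isPGroup_of_isElementaryAbelian hA.1).exists_le_sylow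
  exact ⟨S, hS, hA.1, fun B _ hB => hA.2 B hB⟩

theorem mem_max_of_mem_maxEAOf_sylow [Fact p.Prime] [Finite G] (S : Sylow p G) {A : Subgroup G}
    (hA : A ∈ maxEAOf p (S : Subgroup G)) : A ∈ maxElementaryAbelianSubgroups p G := by
  refine ⟨hA.2.1, fun B hB => ?_⟩
  obtain ⟨T, hT⟩ := (isPGroup_of_isElementaryAbelian hB).exists_le_sylow
  obtain ⟨g, rfl⟩ := MulAction.exists_smul_eq G S T
  rw [Sylow.coe_subgroup_smul, ← CfsgLib.Base.map_conj_eq_smul] at hT
  let c := (MulAut.conj g).symm
  have hle : B.map c.toMonoidHom ≤ (S : Subgroup G) := by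
    rintro _ ⟨b, hb, rfl⟩
    obtain ⟨s, hs, rfl⟩ := hT hb
    show (MulAut.conj g).symm ((MulAut.conj g).toMonoidHom s) ∈ (S : Subgroup G)
    rw [MulEquiv.coe_toMonoidHom, MulEquiv.symm_apply_apply]
    exact hs
  have := hA.2.2 _ hle (isElementaryAbelian_map _ hB)
  rwa [CfsgLib.Base.card_map_mulEquiv] at this

theorem thompsonSubgroupOf_sylow_le [Fact p.Prime] [Finite G] (S : Sylow p G) :
    thompsonSubgroupOf p (S : Subgroup G) ≤ thompsonSubgroup p G := by
  rw [thompsonSubgroupOf_eq_sSup]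
  exact sSup_le fun A hA => le_thompsonSubgroup (mem_max_of_mem_maxEAOf_sylow S hA)

theorem thompsonSubgroup_eq_iSup [Fact p.Prime] [Finite G] :
    thompsonSubgroup p G = ⨆ S : Sylow p G, thompsonSubgroupOf p (S : Subgroup G) := by
  refine le_antisymm (sSup_le fun A hA => ?_) (iSup_le thompsonSubgroupOf_sylow_le)
  obtain ⟨S, hS⟩ := exists_sylow_mem_maxEAOf hA
  exact le_iSup_of_le S (le_thompsonSubgroupOf hS)

/-- A member is its own set of elements of order dividing `p` in its centraliser. -/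
theorem mem_of_max_of_commute {P A : Subgroup G} [Finite G] (hA : A ∈ maxEAOf p P) {x : G}
    (hxP : x ∈ P) (hx : x ^ p = 1) (hc : ∀ a ∈ A, a * x = x * a) : x ∈ A := by
  have hz : IsElementaryAbelian p (closure ({x} : Set G)) :=
    isElementaryAbelian_closure (by rintro a rfl b rfl; rfl) (by rintro a rfl; exact hx)
  have hle : A ≤ centralizer ((closure ({x} : Set G) : Subgroup G) : Set G) := by
    rw [centralizer_closure]
    exact fun a ha => mem_centralizer_iff.2 fun y hy => by rw [Set.mem_singleton_iff.1 hy]; exact (hc a ha).symm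
  have e := hA.2.2 (A ⊔ closure {x}) (sup_le hA.1 ((closure_le _).2 (by simpa using hxP)))
    (isElementaryAbelian_sup hA.2.1 hz hle)
  rw [Subgroup.eq_of_le_of_card_ge le_sup_left e]
  exact mem_sup_right (subset_closure rfl)

theorem omegaOne_center_le [Finite G] {P A : Subgroup G} (hA : A ∈ maxEAOf p P) :
    omegaOne p (P ⊓ centralizer (P : Set G)) ≤ A :=
  (closure_le _).2 fun _ hx => mem_of_max_of_commute hA hx.1.1 hx.2 fun a ha =>
    mem_centralizer_iff.1 hx.1.2 a (hA.1 ha)

theorem thompsonSubgroupOf_le_centralizer_omegaOne (p : ℕ) (P : Subgroup G) :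
    thompsonSubgroupOf p P ≤
      centralizer (omegaOne p (P ⊓ centralizer (P : Set G)) : Set G) := by
  refine (thompsonSubgroupOf_le p P).trans ?_
  rw [le_centralizer_iff]
  exact (omegaOne_le _ _).trans inf_le_right

end CfsgLib.PLocal
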