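import Mathlib
import Cfsg.Agent.Lib.PLocal.Constrained
import Cfsg.Agent.Lib.PLocal.Thompson

/-!
Frattini argument for the intersection of a Sylow subgroup with a normal subgroup; the group
generated by `Ω₁(Z(S))`.
-/

set_option autoImplicit false
set_option linter.style.haveILetI false

namespace CfsgLib.PLocal

open Subgroup Cfsg CfsgLib.Base
open scoped Pointwise

variable {G : Type*} [Group G] {p : ℕ}

theorem not_dvd_relIndex_sylow_inf [Finite G] [Fact p.Prime] (S : Sylow p G) (D : Subgroup G)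
    [D.Normal] : ¬ p ∣ ((S : Subgroup G) ⊓ D).relIndex D := by
  intro hd
  have h1 := CfsgLib.Base.card_sup_mul_card_inf (S : Subgroup G) D
  have h2 : Nat.card ↥((S : Subgroup G) ⊓ D) * ((S : Subgroup G) ⊓ D).relIndex D = Nat.card D := by
    simpa [relIndex_bot_left] using relIndex_mul_relIndex ⊥ ((S : Subgroup G) ⊓ D) D bot_le inf_le_right
  have h3 : Nat.card (S : Subgroup G) * (S : Subgroup G).relIndex ((S : Subgroup G) ⊔ D)
      = Nat.card ↥((S : Subgroup G) ⊔ D) := by
    simpa [relIndex_bot_left] using relIndex_mul_relIndex ⊥ (S : Subgroup G) ((S : Subgroup G) ⊔ D) bot_le le_sup_left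
  have he : (S : Subgroup G).relIndex ((S : Subgroup G) ⊔ D) = ((S : Subgroup G) ⊓ D).relIndex D := by
    have hp1 : 0 < Nat.card (S : Subgroup G) := Nat.card_pos
    have hp2 : 0 < Nat.card ↥((S : Subgroup G) ⊓ D) := Nat.card_pos
    refine Nat.eq_of_mul_eq_mul_left (Nat.mul_pos hp1 hp2) ?_
    calc _ = (Nat.card (S : Subgroup G) * (S : Subgroup G).relIndex ((S : Subgroup G) ⊔ D))
            * Nat.card ↥((S : Subgroup G) ⊓ D) := by ring
      _ = Nat.card (S : Subgroup G) * Nat.card D := by rw [h3, h1]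
      _ = _ := by rw [← h2]; ring
  rw [← he] at hd
  exact S.not_dvd_index (hd.trans (relIndex_dvd_index_of_le le_sup_left))

/-- A normal `D ≥ C` of `p`-power index over `C` is `C (S ⊓ D)`. -/
theorem eq_sup_sylow_inf [Finite G] [Fact p.Prime] (S : Sylow p G) {C D : Subgroup G} [D.Normal]
    (hCD : C ≤ D) {k : ℕ} (hk : C.relIndex D = p ^ k) : C ⊔ ((S : Subgroup G) ⊓ D) = D := by
  set E := C ⊔ ((S : Subgroup G) ⊓ D)
  have hE : E ≤ D := sup_le hCD inf_le_right
  have h1 : E.relIndex D ∣ p ^ k := hk ▸ relIndex_dvd_of_le_left D le_sup_left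
  have h2 : E.relIndex D ∣ ((S : Subgroup G) ⊓ D).relIndex D :=
    relIndex_dvd_of_le_left D le_sup_right
  obtain ⟨j, -, hj⟩ := (Nat.dvd_prime_pow Fact.out).1 h1
  rcases Nat.eq_zero_or_pos j with rfl | hjpos
  · exact le_antisymm hE (relIndex_eq_one.1 (by simpa using hj))
  · exact absurd ((dvd_pow_self p hjpos.ne').trans (hj ▸ h2)) (not_dvd_relIndex_sylow_inf S D)

/-- Frattini argument. -/
theorem exists_mul_normalizer [Finite G] [Fact p.Prime] (S : Sylow p G) (D : Subgroup G)
    [D.Normal] (g : G) :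
    ∃ d ∈ D, ∃ n ∈ normalizer (((S : Subgroup G) ⊓ D : Subgroup G) : Set G), g = d * n := by
  set P := (S : Subgroup G) ⊓ D with hP
  set Q := P.map (MulAut.conj g).toMonoidHom with hQ
  have hQD : Q ≤ D := by
    rintro _ ⟨x, hx, rfl⟩
    exact Normal.conj_mem ‹_› x (mem_inf.1 hx).2 g
  have hrel : Q.relIndex D = P.relIndex D := by
    have hD : D.map (MulAut.conj g).toMonoidHom = D := mem_normalizer_iff_map_conj_eq.1
      (by rw [normalizer_eq_top]; exact mem_top g)
    conv_lhs => rw [hQ, ← hD]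
    exact relIndex_map_map_of_injective P D (MulAut.conj g).injective
  obtain ⟨m, hm, hmP⟩ := exists_map_conj_eq_of_sylow_in (P := P) (Q := Q) inf_le_right hQD
    (S.2.to_le inf_le_left) ((S.2.to_le inf_le_left).map _) (not_dvd_relIndex_sylow_inf S D)
    (hrel ▸ not_dvd_relIndex_sylow_inf S D)
  refine ⟨m, hm, m⁻¹ * g, ?_, by group⟩
  rw [mem_normalizer_iff_map_conj_eq]
  have e : (MulAut.conj (m⁻¹ * g)).toMonoidHom
      = (MulAut.conj m⁻¹).toMonoidHom.comp (MulAut.conj g).toMonoidHom := by ext x; simp [mul_assoc]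
  show P.map (MulAut.conj (m⁻¹ * g)).toMonoidHom = P
  rw [e, ← Subgroup.map_map, ← hQ, ← hmP, Subgroup.map_map]
  have e2 : (MulAut.conj m⁻¹).toMonoidHom.comp (MulAut.conj m).toMonoidHom = MonoidHom.id G := by
    ext x; simp [mul_assoc]
  rw [e2, Subgroup.map_id]

/-- `O_p(G/C_G(V)) = 1`, in subgroup form. -/
theorem eq_centralizer_of_generated [Finite G] [Fact p.Prime] {V : Subgroup G}
    (hV : V ≤ ⨆ S : Sylow p G, V ⊓ centralizer ((S : Subgroup G) : Set G))
    {D : Subgroup G} [D.Normal] (hCD : centralizer (V : Set G) ≤ D) {k : ℕ}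
    (hk : (centralizer (V : Set G)).relIndex D = p ^ k) : D = centralizer (V : Set G) := by
  refine le_antisymm ?_ hCD
  rw [le_centralizer_iff]
  refine hV.trans (iSup_le fun S => ?_)
  rw [le_centralizer_iff, ← eq_sup_sylow_inf S hCD hk]
  exact sup_le (centralizer_le inf_le_left)
    (inf_le_left.trans (le_centralizer_iff.1 inf_le_right))

/-- `Ω₁(Z(S))`. -/
abbrev omegaCenterSylow (S : Sylow p G) : Subgroup G :=
  omegaOne p ((S : Subgroup G) ⊓ centralizer ((S : Subgroup G) : Set G))

theorem map_omegaCenterSylow [Fact p.Prime] [Finite G] (S : Sylow p G) (g : G) :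
    (omegaCenterSylow S).map (MulAut.conj g).toMonoidHom = omegaCenterSylow (g • S) := by
  rw [omegaCenterSylow, omegaCenterSylow, map_omegaOne (MulAut.conj g).injective,
    Subgroup.map_inf _ _ _ (MulAut.conj g).injective, map_centralizer_mulEquiv,
    Sylow.coe_subgroup_smul, ← map_conj_eq_smul]
  rfl

theorem iSup_omegaCenterSylow_normal [Fact p.Prime] [Finite G] :
    (⨆ S : Sylow p G, omegaCenterSylow S).Normal := by
  refine normal_of_map_conj_le fun g => ?_
  rw [Subgroup.map_iSup]
  exact iSup_le fun S => le_iSup_of_le (g • S) (map_omegaCenterSylow S g).le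

theorem iSup_omegaCenterSylow_le [Fact p.Prime] [Finite G] :
    (⨆ S : Sylow p G, omegaCenterSylow S) ≤
      ⨆ S : Sylow p G, (⨆ T : Sylow p G, omegaCenterSylow T) ⊓ centralizer ((S : Subgroup G) : Set G) :=
  iSup_le fun S => le_iSup_of_le S (le_inf (le_iSup_of_le S le_rfl)
    ((omegaOne_le _ _).trans inf_le_right))

theorem isElementaryAbelian_iSup_omegaCenterSylow [Fact p.Prime] [Finite G]
    (hc : centralizer (pCore p G : Set G) ≤ pCore p G) :
    IsElementaryAbelian p (⨆ S : Sylow p G, omegaCenterSylow S) := by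
  refine isElementaryAbelian_of_le
    (isElementaryAbelian_omegaOne (inf_centralizer_le_centralizer (pCore p G)))
    (iSup_le fun S => omegaOne_mono (le_inf (inf_le_right.trans
      ((centralizer_le (pCore_le_sylow S)).trans hc)) (inf_le_right.trans
      (centralizer_le (pCore_le_sylow S)))))

theorem thompsonSubgroupOf_le_centralizer (S : Sylow p G) :
    thompsonSubgroupOf p (S : Subgroup G) ≤ centralizer (omegaCenterSylow S : Set G) :=
  thompsonSubgroupOf_le_centralizer_omegaOne p _

end CfsgLib.PLocal
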