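import Mathlib.GroupTheory.Sylow
import Mathlib.GroupTheory.Commutator.Basic
import Mathlib.GroupTheory.Subgroup.Centralizer
import Mathlib.GroupTheory.Perm.Cycle.Type
import Cfsg.Prelude.Def_PLocal

/-!
Commutators with a normalised abelian subgroup; quadratic action; Timmesfeld replacement.
-/

set_option autoImplicit false

namespace CfsgLib.PLocal

open Subgroup
open scoped commutatorElement

variable {G : Type*} [Group G]

theorem card_sup_mul_card_inf [Finite G] (H N : Subgroup G) (h : H ≤ normalizer (N : Set G)) :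
    Nat.card ↥(H ⊔ N) * Nat.card ↥(H ⊓ N) = Nat.card H * Nat.card N := by
  have e : N.relIndex (H ⊔ N) = N.relIndex H := by
    let _ := normal_subgroupOf_of_le_normalizer h
    let _ := normal_subgroupOf_sup_of_le_normalizer h
    exact (Nat.card_congr (QuotientGroup.quotientInfEquivProdNormalizerQuotient H N h).toEquiv).symm
  have h1 : Nat.card N * N.relIndex (H ⊔ N) = Nat.card ↥(H ⊔ N) := by
    simpa [relIndex_bot_left] using relIndex_mul_relIndex ⊥ N (H ⊔ N) bot_le le_sup_right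
  have h2 : Nat.card ↥(H ⊓ N) * (H ⊓ N).relIndex H = Nat.card H := by
    simpa [relIndex_bot_left] using relIndex_mul_relIndex ⊥ (H ⊓ N) H bot_le inf_le_left
  rw [inf_relIndex_left] at h2
  rw [← h1, ← h2, e]; ring

theorem comm_of_mem {V : Subgroup G} (hV : IsMulCommutative V) {v w : G} (hv : v ∈ V)
    (hw : w ∈ V) : v * w = w * v :=
  congrArg Subtype.val (hV.is_comm.comm ⟨v, hv⟩ ⟨w, hw⟩)

theorem conj_mem_of_mem_normalizer {V : Subgroup G} {a v : G}
    (ha : a ∈ normalizer (V : Set G)) (hv : v ∈ V) : a * v * a⁻¹ ∈ V :=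
  (mem_normalizer_iff.1 ha v).1 hv

theorem conj_mem_of_mem_normalizer' {V : Subgroup G} {a v : G}
    (ha : a ∈ normalizer (V : Set G)) (hv : v ∈ V) : a⁻¹ * v * a ∈ V := by
  simpa using conj_mem_of_mem_normalizer (inv_mem ha) hv

theorem comm_mem_of_mem_normalizer {V : Subgroup G} {a v : G}
    (ha : a ∈ normalizer (V : Set G)) (hv : v ∈ V) : ⁅v, a⁆ ∈ V := by
  have e : ⁅v, a⁆ = v * (a * v⁻¹ * a⁻¹) := by group
  rw [e]; exact mul_mem hv (conj_mem_of_mem_normalizer ha (inv_mem hv))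

theorem commutator_le_of_le_normalizer {V A : Subgroup G}
    (hA : A ≤ normalizer (V : Set G)) : ⁅V, A⁆ ≤ V :=
  Subgroup.commutator_le.2 fun _ hv _ ha => comm_mem_of_mem_normalizer (hA ha) hv

theorem comm_mul_left_of_abelian {V : Subgroup G} (hV : IsMulCommutative V) {a v w : G}
    (ha : a ∈ normalizer (V : Set G)) (hv : v ∈ V) (hw : w ∈ V) :
    ⁅v * w, a⁆ = ⁅v, a⁆ * ⁅w, a⁆ := by
  have hwa := comm_mem_of_mem_normalizer ha hw
  have hva := comm_mem_of_mem_normalizer ha hv
  rw [show ⁅v * w, a⁆ = v * ⁅w, a⁆ * v⁻¹ * ⁅v, a⁆ by group,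
    comm_of_mem hV hv hwa, mul_inv_cancel_right, comm_of_mem hV hwa hva]

theorem comm_mul_right (v a b : G) : ⁅v, a * b⁆ = ⁅v, a⁆ * (a * ⁅v, b⁆ * a⁻¹) := by group

/-- `v ↦ ⁅v, a⁆` as a homomorphism on an abelian subgroup normalised by `a`. -/
def commHom {V : Subgroup G} (hV : IsMulCommutative V) {a : G}
    (ha : a ∈ normalizer (V : Set G)) : V →* G where
  toFun v := ⁅(v : G), a⁆
  map_one' := by simp
  map_mul' v w := comm_mul_left_of_abelian hV ha v.2 w.2

@[simp]
theorem commHom_apply {V : Subgroup G} (hV : IsMulCommutative V) {a : G}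
    (ha : a ∈ normalizer (V : Set G)) (v : V) : commHom hV ha v = ⁅(v : G), a⁆ := rfl

theorem mem_centralizer_zpowers {a x : G} :
    x ∈ centralizer (zpowers a : Set G) ↔ a * x = x * a := by
  constructor
  · exact fun h => mem_centralizer_iff.1 h a (mem_zpowers a)
  · intro h
    refine mem_centralizer_iff.2 ?_
    rintro _ ⟨n, rfl⟩
    exact ((show Commute a x from h).zpow_left n).eq

theorem commutator_commutator_self_le_centralizer {V H : Subgroup G}
    (hq : ⁅⁅V, H⁆, H⁆ = ⊥) : ⁅H, H⁆ ≤ centralizer (V : Set G) := by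
  rw [← commutator_eq_bot_iff_le_centralizer]
  apply commutator_commutator_eq_bot_of_rotate
  · rwa [commutator_comm H V]
  · exact hq

theorem comm_pow_of_commute {a v : G} (h : a * ⁅v, a⁆ = ⁅v, a⁆ * a) (n : ℕ) :
    ⁅v, a ^ n⁆ = ⁅v, a⁆ ^ n := by
  induction n with
  | zero => simp
  | succ n ih =>
    have hc : a ^ n * ⁅v, a⁆ = ⁅v, a⁆ * a ^ n := (Commute.pow_left h n).eq
    rw [pow_succ, comm_mul_right, ih, hc, mul_inv_cancel_right, pow_succ]

theorem pow_mem_centralizer_of_quadratic {p : ℕ} {V H : Subgroup G}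
    (hV : Cfsg.IsElementaryAbelian p V) (hHV : H ≤ normalizer (V : Set G))
    (hq : ⁅⁅V, H⁆, H⁆ = ⊥) {a : G} (ha : a ∈ H) : a ^ p ∈ centralizer (V : Set G) := by
  refine mem_centralizer_iff.2 fun v hv => ?_
  rw [← commutatorElement_eq_one_iff_mul_comm]
  have hc : a * ⁅v, a⁆ = ⁅v, a⁆ * a :=
    mem_centralizer_iff.1
      ((commutator_eq_bot_iff_le_centralizer.1 hq) (commutator_mem_commutator hv ha)) a ha
  rw [comm_pow_of_commute hc]
  exact hV.2 _ (comm_mem_of_mem_normalizer (hHV ha) hv)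

theorem card_le_sq_of_quadratic [Finite G] {V : Subgroup G} (hV : IsMulCommutative V) {a : G}
    (ha : a ∈ normalizer (V : Set G))
    (hq : ⁅⁅V, zpowers a⁆, zpowers a⁆ = ⊥) :
    Nat.card V ≤ Nat.card ↥(V ⊓ centralizer (zpowers a : Set G)) ^ 2 := by
  set f := commHom hV ha with hf
  have hmem : ∀ v : V, f v ∈ V ⊓ centralizer (zpowers a : Set G) := fun v =>
    ⟨comm_mem_of_mem_normalizer ha v.2,
      (commutator_eq_bot_iff_le_centralizer.1 hq) (commutator_mem_commutator v.2 (mem_zpowers a))⟩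
  have hr : Nat.card f.range ≤ Nat.card ↥(V ⊓ centralizer (zpowers a : Set G)) := by
    apply Subgroup.card_le_of_le
    rintro _ ⟨v, rfl⟩
    exact hmem v
  have hk : Nat.card f.ker = Nat.card ↥(V ⊓ centralizer (zpowers a : Set G)) := by
    have e : f.ker = (V ⊓ centralizer (zpowers a : Set G)).subgroupOf V := by
      ext v
      simp only [MonoidHom.mem_ker, mem_subgroupOf, mem_inf, mem_centralizer_zpowers, hf,
        commHom_apply, commutatorElement_eq_one_iff_mul_comm, v.2, true_and]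
      exact eq_comm
    rw [e]
    exact Nat.card_congr (subgroupOfEquivOfLe inf_le_left).toEquiv
  have hc := f.ker.card_mul_index
  rw [index_ker, hk] at hc
  rw [← hc, sq]
  exact Nat.mul_le_mul_left _ hr

/-! ### Fixed points of an automorphism of `p`-power order on a `p`-group -/

theorem exists_ne_one_commute_of_pow {p k : ℕ} [Fact p.Prime] [Finite G] {W : Subgroup G}
    (hW : IsPGroup p W) (hW1 : W ≠ ⊥) {a : G} (ha : a ∈ normalizer (W : Set G))
    (hak : a ^ p ^ k ∈ centralizer (W : Set G)) : ∃ w ∈ W, w ≠ 1 ∧ a * w = w * a := by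
  have : Fintype W := Fintype.ofFinite _
  classical
  let σ : Equiv.Perm W :=
    { toFun := fun w => ⟨a * w * a⁻¹, conj_mem_of_mem_normalizer ha w.2⟩
      invFun := fun w => ⟨a⁻¹ * w * a, conj_mem_of_mem_normalizer' ha w.2⟩
      left_inv := fun w => by ext; simp [mul_assoc]
      right_inv := fun w => by ext; simp [mul_assoc] }
  have hσn : ∀ (n : ℕ) (w : W), (((σ ^ n) w : W) : G) = a ^ n * w * (a ^ n)⁻¹ := by
    intro n
    induction n with
    | zero => simp
    | succ n ih =>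
      intro w
      rw [pow_succ', Equiv.Perm.mul_apply]
      show a * ((σ ^ n) w : W) * a⁻¹ = _
      rw [ih, pow_succ']; group
  have hσ : σ ^ p ^ k = 1 := by
    ext w
    rw [hσn, Equiv.Perm.one_apply, ← mem_centralizer_iff.1 hak w w.2, mul_inv_cancel_right]
  have hdvd : p ∣ Fintype.card W := by
    obtain ⟨m, hm⟩ := IsPGroup.iff_card.1 hW
    rw [← Nat.card_eq_fintype_card, hm]
    refine dvd_pow_self p ?_
    rintro rfl
    exact hW1 (Subgroup.eq_bot_of_card_eq _ (by simpa using hm))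
  obtain ⟨b, hb, hb1⟩ := Equiv.Perm.exists_fixed_point_of_prime' hdvd hσ
    (a := (1 : W)) (by ext; simp [σ])
  refine ⟨b, b.2, fun h => hb1 (Subtype.ext h), ?_⟩
  have h' : a * b * a⁻¹ = b := congrArg Subtype.val hb
  calc a * b = a * b * a⁻¹ * a := by group
    _ = b * a := by rw [h']

/-- If `a` acts on the abelian `p`-group `V` as an element of `p`-power order and stabilises the
subgroups `W ≥ R`, with `W = [W,a] R`, then `W = R`. -/
theorem le_of_le_comm_sup {p k : ℕ} [Fact p.Prime] [Finite G] {V W R : Subgroup G}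
    (hV : IsMulCommutative V) (hVp : IsPGroup p V) {a : G} (haV : a ∈ normalizer (V : Set G))
    (hak : a ^ p ^ k ∈ centralizer (V : Set G)) (hWV : W ≤ V)
    (hWa : a ∈ normalizer (W : Set G)) (hRW : R ≤ W) (hRa : a ∈ normalizer (R : Set G))
    (h : W ≤ (W.subgroupOf V).map (commHom hV haV) ⊔ R) : W ≤ R := by
  -- `X` is a minimal subgroup with `W ≤ X ⊔ R`, `X` stable under `a` and `[X,a] = X`
  let P : Subgroup G → Prop := fun X => X ≤ W ∧ a ∈ normalizer (X : Set G) ∧ W ≤ X ⊔ R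
  obtain ⟨X, ⟨hXW, hXa, hX⟩, hXmin⟩ :=
    WellFounded.has_min (wellFounded_lt (α := Subgroup G)) {X | P X}
      ⟨W, le_rfl, hWa, le_sup_left⟩
  let Y := (X.subgroupOf V).map (commHom hV haV)
  have hYX : Y ≤ X := by
    rintro _ ⟨v, hv, rfl⟩
    exact comm_mem_of_mem_normalizer hXa hv
  have hYa : a ∈ normalizer (Y : Set G) := by
    have fwd : ∀ x ∈ Y, a * x * a⁻¹ ∈ Y := by
      rintro _ ⟨v, hv, rfl⟩
      exact ⟨⟨a * v * a⁻¹, conj_mem_of_mem_normalizer haV v.2⟩,
        conj_mem_of_mem_normalizer hXa hv, by simp only [commHom_apply]; group⟩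
    have bwd : ∀ x ∈ Y, a⁻¹ * x * a ∈ Y := by
      rintro _ ⟨v, hv, rfl⟩
      exact ⟨⟨a⁻¹ * v * a, conj_mem_of_mem_normalizer' haV v.2⟩,
        conj_mem_of_mem_normalizer' hXa hv, by simp only [commHom_apply]; group⟩
    refine mem_normalizer_iff.2 fun x => ⟨fwd x, fun hx => ?_⟩
    simpa [mul_assoc] using bwd _ hx
  have hYR : W ≤ Y ⊔ R := by
    refine h.trans (sup_le ?_ le_sup_right)
    rintro _ ⟨w, hw, rfl⟩
    have hw' : (w : G) ∈ X ⊔ R := hX hw
    rw [← SetLike.mem_coe, Subgroup.coe_mul_of_left_le_normalizer_right] at hw'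
    · obtain ⟨x, hx, r, hr, hxr⟩ := hw'
      have hxV := hWV (hXW hx)
      have hrV := hWV (hRW hr)
      rw [commHom_apply, ← hxr, comm_mul_left_of_abelian hV haV hxV hrV]
      exact mul_mem (mem_sup_left ⟨⟨x, hxV⟩, hx, rfl⟩)
        (mem_sup_right (comm_mem_of_mem_normalizer hRa hr))
    · intro x hx
      refine mem_normalizer_iff.2 fun r => ?_
      constructor
      · intro hr
        rwa [comm_of_mem hV (hWV (hXW hx)) (hWV (hRW hr)), mul_inv_cancel_right]
      · intro hr
        have hm := hWV (hRW hr)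
        have : r ∈ V := by
          have := mul_mem (mul_mem (inv_mem (hWV (hXW hx))) hm) (hWV (hXW hx))
          simpa [mul_assoc] using this
        rwa [comm_of_mem hV (hWV (hXW hx)) this, mul_inv_cancel_right] at hr
  have hXY : Y = X := by
    by_contra hne
    exact hXmin Y ⟨hYX.trans hXW, hYa, hYR⟩ (lt_of_le_of_ne hYX hne)
  -- then `v ↦ [v,a]` is a bijection of `X`, so `a` has no nontrivial fixed point on `X`
  by_cases hX1 : X = ⊥
  · simpa [hX1] using hX
  exfalso
  have hXp : IsPGroup p X := hVp.to_le (hXW.trans hWV)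
  obtain ⟨w, hw, hw1, hwa⟩ := exists_ne_one_commute_of_pow hXp hX1 hXa
    (centralizer_le (hXW.trans hWV) hak)
  let g : X → X := fun x => ⟨⁅(x : G), a⁆, comm_mem_of_mem_normalizer hXa x.2⟩
  have hsurj : Function.Surjective g := by
    intro y
    obtain ⟨v, hv, hvy⟩ : (y : G) ∈ Y := by rw [hXY]; exact y.2
    exact ⟨⟨(v : G), hv⟩, Subtype.ext hvy⟩
  have hinj := (Finite.injective_iff_surjective).2 hsurj
  have : g ⟨w, hw⟩ = g 1 := by
    ext
    show ⁅w, a⁆ = ⁅(1 : G), a⁆
    rw [commutatorElement_one_left, commutatorElement_eq_one_iff_mul_comm, hwa]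
  exact hw1 (congrArg Subtype.val (hinj this))

/-- The action of `A` on the abelian subgroup is commutative. -/
theorem conj_conj_eq {V A : Subgroup G} (hAV : A ≤ normalizer (V : Set G))
    (hab : ⁅A, A⁆ ≤ centralizer (V : Set G)) {a b v : G} (ha : a ∈ A) (hb : b ∈ A)
    (hv : v ∈ V) : a * (b * v * b⁻¹) * a⁻¹ = b * (a * v * a⁻¹) * b⁻¹ := by
  have hw : b * (a * v * a⁻¹) * b⁻¹ ∈ V :=
    conj_mem_of_mem_normalizer (hAV hb) (conj_mem_of_mem_normalizer (hAV ha) hv)
  calc a * (b * v * b⁻¹) * a⁻¹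
      = ⁅a, b⁆ * (b * (a * v * a⁻¹) * b⁻¹) * ⁅a, b⁆⁻¹ := by group
    _ = (b * (a * v * a⁻¹) * b⁻¹) * ⁅a, b⁆ * ⁅a, b⁆⁻¹ := by
      rw [mem_centralizer_iff.1 (hab (commutator_mem_commutator ha hb)) _ hw]
    _ = _ := by group

/-- A commutative action by elements of `p`-power order on an abelian `p`-group is nilpotent. -/
theorem eq_bot_of_le_commutator {p : ℕ} [Fact p.Prime] [Finite G] {V W A : Subgroup G}
    (hV : IsMulCommutative V) (hVp : IsPGroup p V) (hAV : A ≤ normalizer (V : Set G))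
    (hab : ⁅A, A⁆ ≤ centralizer (V : Set G))
    (hAp : ∀ a ∈ A, ∃ k : ℕ, a ^ p ^ k ∈ centralizer (V : Set G))
    (hWV : W ≤ V) (hWA : A ≤ normalizer (W : Set G)) (h : W ≤ ⁅W, A⁆) : W = ⊥ := by
  classical
  have : Fintype G := Fintype.ofFinite _
  let D : {a : G // a ∈ A} → Subgroup G := fun a => (W.subgroupOf V).map (commHom hV (hAV a.2))
  have hD : ∀ a b : {a : G // a ∈ A}, (b : G) ∈ normalizer (D a : Set G) := by
    intro a b
    have key : ∀ c ∈ A, ∀ x ∈ D a, c * x * c⁻¹ ∈ D a := by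
      rintro c hc _ ⟨v, hv, rfl⟩
      refine ⟨⟨c * v * c⁻¹, conj_mem_of_mem_normalizer (hAV hc) v.2⟩,
        conj_mem_of_mem_normalizer (hWA hc) hv, ?_⟩
      have e := conj_conj_eq hAV hab hc a.2 (inv_mem v.2)
      simp only [commHom_apply]
      calc c * (v : G) * c⁻¹ * a * (c * (v : G) * c⁻¹)⁻¹ * (a : G)⁻¹
          = c * v * c⁻¹ * ((a : G) * (c * (v : G)⁻¹ * c⁻¹) * (a : G)⁻¹) := by group
        _ = c * v * c⁻¹ * (c * ((a : G) * (v : G)⁻¹ * (a : G)⁻¹) * c⁻¹) := by rw [e]
        _ = c * ⁅(v : G), (a : G)⁆ * c⁻¹ := by group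
    refine mem_normalizer_iff.2 fun x => ⟨key b b.2 x, fun hx => ?_⟩
    simpa [mul_assoc] using key _ (inv_mem b.2) _ hx
  have hall : W ≤ Finset.univ.sup D := by
    refine h.trans (Subgroup.commutator_le.2 fun w hw a ha => ?_)
    exact (Finset.le_sup (f := D) (Finset.mem_univ (⟨a, ha⟩ : {a : G // a ∈ A})))
      ⟨⟨w, hWV hw⟩, hw, rfl⟩
  suffices ∀ T : Finset {a : G // a ∈ A}, W ≤ T.sup D → W = ⊥ from this _ hall
  intro T
  induction T using Finset.induction with
  | empty => simp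
  | @insert a T haT ih =>
    intro hT
    rw [Finset.sup_insert] at hT
    refine ih ?_
    obtain ⟨k, hk⟩ := hAp _ a.2
    refine le_of_le_comm_sup hV hVp (hAV a.2) hk hWV (hWA a.2) ?_ ?_ hT
    · refine Finset.sup_le fun b _ => ?_
      rintro _ ⟨v, hv, rfl⟩
      exact comm_mem_of_mem_normalizer (hWA b.2) hv
    · -- `a` normalises a join of `A`-invariant subgroups
      have hgen : ∀ S : Finset {a : G // a ∈ A}, (a : G) ∈ normalizer ((S.sup D : Subgroup G) : Set G) := by
        intro S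
        induction S using Finset.induction with
        | empty => exact mem_normalizer_iff.2 fun x => by simp
        | @insert b S hbS ihS =>
          rw [Finset.sup_insert]
          exact normalizer_inf_normalizer_le_normalizer_sup _ _ ⟨hD b a, ihS⟩
      exact hgen T

end CfsgLib.PLocal
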