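import Mathlib
import Cfsg.Agent.Lib.PLocal.Quadratic

/-!
`A` normalises `B` and centralises `B'`: the derived group of `[B,A]` is central in `B`; if in
addition `A` is abelian and `[b,A,A,A] = 1` then `[b,A]'` has exponent `2`.
-/

set_option autoImplicit false
set_option linter.style.haveILetI false

namespace CfsgLib.PLocal

open Subgroup
open scoped commutatorElement

variable {G : Type*} [Group G] {A B : Subgroup G}

/-- The generators `b⁻¹ a b a⁻¹` of `[b,A]`. -/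
def bracketSet (b : G) (A : Subgroup G) : Set G := {g | ∃ a ∈ A, g = b⁻¹ * a * b * a⁻¹}

theorem commutator_le_centralizer_derived (hAB : A ≤ normalizer (B : Set G))
    (hc : ⁅⁅B, B⁆, A⁆ = ⊥) : ⁅B, A⁆ ≤ centralizer ((⁅B, B⁆ : Subgroup G) : Set G) := by
  refine Subgroup.commutator_le.2 fun b hb a ha => mem_centralizer_iff.2 fun c hc' => ?_
  have hA := mem_centralizer_iff.1 (le_centralizer_iff.1 (commutator_eq_bot_iff_le_centralizer.1 hc) ha)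
  -- conjugation by `a` fixes `B'`
  have hfix : ∀ z ∈ ⁅B, B⁆, a * z * a⁻¹ = z := fun z hz => by
    rw [← hA z hz, mul_inv_cancel_right]
  have hB' : ∀ z ∈ ⁅B, B⁆, ∀ u ∈ B, u * z * u⁻¹ ∈ ⁅B, B⁆ := fun z hz u hu => by
    have : ⁅B, B⁆.map (MulAut.conj u).toMonoidHom ≤ ⁅B, B⁆ := by
      rw [map_commutator, show B.map (MulAut.conj u).toMonoidHom = B from
        mem_normalizer_iff_map_conj_eq.1 (le_normalizer hu)]
    exact this ⟨z, hz, rfl⟩
  have h1 : a * (b⁻¹ * c * b) * a⁻¹ = b⁻¹ * c * b :=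
    hfix _ (by simpa using hB' c hc' b⁻¹ (inv_mem hb))
  have hfix' : a⁻¹ * c * a = c := by
    conv_lhs => rw [← hfix c hc']
    group
  have e : ⁅b, a⁆ * c * ⁅b, a⁆⁻¹ = b * (a * (b⁻¹ * (a⁻¹ * c * a) * b) * a⁻¹) * b⁻¹ := by group
  rw [hfix', h1] at e
  calc c * ⁅b, a⁆ = (⁅b, a⁆ * c * ⁅b, a⁆⁻¹) * ⁅b, a⁆ := by rw [e]; group
    _ = ⁅b, a⁆ * c := by group

theorem commutator_commutator_self_le_center (hAB : A ≤ normalizer (B : Set G))
    (hc : ⁅⁅B, B⁆, A⁆ = ⊥) : ⁅⁅B, A⁆, ⁅B, A⁆⁆ ≤ B ⊓ centralizer (B : Set G) := by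
  have hDB : ⁅B, A⁆ ≤ B := commutator_le_of_le_normalizer hAB
  refine le_inf ((commutator_mono hDB hDB).trans (commutator_le_self B)) ?_
  have h0 : ⁅⁅B, B⁆, ⁅B, A⁆⁆ = ⊥ := by
    rw [commutator_eq_bot_iff_le_centralizer, le_centralizer_iff]
    exact commutator_le_centralizer_derived hAB hc
  rw [← commutator_eq_bot_iff_le_centralizer]
  have h2 : ⁅⁅B, ⁅B, A⁆⁆, ⁅B, A⁆⁆ = ⊥ :=
    le_bot_iff.1 ((commutator_mono (commutator_mono le_rfl hDB) le_rfl).trans h0.le)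
  exact commutator_commutator_eq_bot_of_rotate
    (by rwa [commutator_comm ⁅B, A⁆ B]) h2

section Identity

variable {D : Subgroup G} (hD : ∀ u ∈ D, ∀ v ∈ D, ∀ w ∈ B, Commute ⁅u, v⁆ w) (hDB : D ≤ B)

include hD hDB

theorem comm_left_mul {u v w : G} (hu : u ∈ D) (hv : v ∈ D) (hw : w ∈ D) :
    ⁅u * v, w⁆ = ⁅u, w⁆ * ⁅v, w⁆ := by
  have h := hD v hv w hw u (hDB hu)
  calc ⁅u * v, w⁆ = u * ⁅v, w⁆ * u⁻¹ * ⁅u, w⁆ := by group
    _ = ⁅v, w⁆ * ⁅u, w⁆ := by rw [← h.eq, mul_inv_cancel_right]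
    _ = _ := ((hD u hu w hw) _ (show ⁅v, w⁆ ∈ B from
        mul_mem (mul_mem (mul_mem (hDB hv) (hDB hw)) (B.inv_mem (hDB hv))) (B.inv_mem (hDB hw)))).eq.symm

theorem comm_right_mul {u v w : G} (hu : u ∈ D) (hv : v ∈ D) (hw : w ∈ D) :
    ⁅u, v * w⁆ = ⁅u, v⁆ * ⁅u, w⁆ := by
  have h := hD u hu w hw v (hDB hv)
  rw [comm_mul_right, ← h.eq, mul_inv_cancel_right]

theorem sq_eq_one_of_bracket (hAB : A ≤ normalizer (B : Set G)) (hAD : A ≤ normalizer (D : Set G))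
    (hc : ∀ a ∈ A, ∀ z ∈ ⁅B, B⁆, a * z = z * a)
    (hcD : ∀ z ∈ ⁅B, B⁆, ∀ u ∈ D, u * z = z * u)
    (hA : ∀ a ∈ A, ∀ c ∈ A, a * c = c * a) {b : G} (hb : b ∈ B)
    (hXD : ∀ a ∈ A, b⁻¹ * a * b * a⁻¹ ∈ D)
    (h3 : ∀ a ∈ A, ∀ c ∈ A, ∀ e ∈ A,
      Commute e ((b⁻¹ * a * b * a⁻¹)⁻¹ * (c * (b⁻¹ * a * b * a⁻¹) * c⁻¹))) :
    ∀ a ∈ A, ∀ c ∈ A, ⁅b⁻¹ * a * b * a⁻¹, b⁻¹ * c * b * c⁻¹⁆ ^ 2 = 1 := by
  let x : G → G := fun a => b⁻¹ * a * b * a⁻¹
  let y : G → G → G := fun c a => (x a)⁻¹ * (c * x a * c⁻¹)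
  have hxD : ∀ a ∈ A, x a ∈ D := hXD
  have hyD : ∀ c ∈ A, ∀ a ∈ A, y c a ∈ D := fun c hc' a ha =>
    mul_mem (inv_mem (hxD a ha)) ((mem_normalizer_iff.1 (hAD hc') _).1 (hxD a ha))
  have hyfix : ∀ c ∈ A, ∀ a ∈ A, ∀ e ∈ A, e * y c a * e⁻¹ = y c a := fun c hc' a ha e he => by
    rw [(h3 a ha c hc' e he).eq, mul_inv_cancel_right]
  have hω : ∀ u ∈ D, ∀ v ∈ D, ∀ e ∈ A, e * ⁅u, v⁆ * e⁻¹ = ⁅u, v⁆ := fun u hu v hv e he => by
    rw [hc e he _ (commutator_mem_commutator (hDB hu) (hDB hv)), mul_inv_cancel_right]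
  have hωB : ∀ u ∈ D, ∀ v ∈ D, ⁅u, v⁆ ∈ B := fun u hu v hv =>
    commutator_le_self B (commutator_mem_commutator (hDB hu) (hDB hv))
  have hconjx : ∀ c ∈ A, ∀ a ∈ A, c * x a * c⁻¹ = x a * y c a := fun c _ a _ => by
    simp only [y]; group
  -- `[y, y'] = 1`
  have hyy : ∀ c ∈ A, ∀ a ∈ A, ∀ d ∈ A, ∀ e ∈ A, ⁅y c a, y d e⁆ = 1 := by
    intro c hc' a ha d hd e he
    have h1 : c * ⁅x a, y d e⁆ * c⁻¹ = ⁅c * x a * c⁻¹, c * y d e * c⁻¹⁆ := by group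
    rw [hω _ (hxD a ha) _ (hyD d hd e he) c hc', hyfix d hd e he c hc', hconjx c hc' a ha,
      comm_left_mul hD hDB (hxD a ha) (hyD c hc' a ha) (hyD d hd e he)] at h1
    exact mul_left_cancel (h1.symm.trans (mul_one _).symm)
  have hxmul : ∀ a ∈ A, ∀ d ∈ A, x (a * d) = x a * x d * y a d := fun a ha d hd => by
    rw [mul_assoc, ← hconjx a ha d hd]
    simp only [x]; group
  have hxcomm : ∀ a ∈ A, ∀ d ∈ A, y d a = (x d * x a)⁻¹ * (x a * x d) * y a d := fun a ha d hd => by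
    have h := hxmul a ha d hd
    rw [hA a ha d hd, hxmul d hd a ha] at h
    calc y d a = (x d * x a)⁻¹ * (x d * x a * y d a) := by group
      _ = (x d * x a)⁻¹ * (x a * x d * y a d) := by rw [h]
      _ = _ := by group
  have hzmem : ∀ a ∈ A, ∀ d ∈ A, (x d * x a)⁻¹ * (x a * x d) = ⁅(x a)⁻¹, (x d)⁻¹⁆ := fun a _ d _ => by
    group
  -- symmetry of `T a c d = [x a, y c d]`
  have T13 : ∀ a ∈ A, ∀ c ∈ A, ∀ d ∈ A, ⁅x a, y c d⁆ = ⁅x d, y c a⁆ := by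
    intro a ha c hc' d hd
    have h1 : c * ⁅x a, x d⁆ * c⁻¹ = ⁅c * x a * c⁻¹, c * x d * c⁻¹⁆ := by group
    have m1 := hxD a ha
    have m2 := hxD d hd
    have m3 := hyD c hc' a ha
    have m4 := hyD c hc' d hd
    rw [hω _ m1 _ m2 c hc', hconjx c hc' a ha, hconjx c hc' d hd,
      comm_left_mul hD hDB m1 m3 (mul_mem m2 m4), comm_right_mul hD hDB m1 m2 m4,
      comm_right_mul hD hDB m3 m2 m4, hyy c hc' a ha c hc' d hd, mul_one] at h1
    have h2 : ⁅x a, y c d⁆ * ⁅y c a, x d⁆ = 1 := by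
      have := h1
      rw [mul_assoc] at this
      exact mul_left_cancel (this.symm.trans (mul_one _).symm)
    rw [← commutatorElement_inv (x d) (y c a), mul_inv_eq_one] at h2
    exact h2
  have T23 : ∀ a ∈ A, ∀ c ∈ A, ∀ d ∈ A, ⁅x a, y c d⁆ = ⁅x a, y d c⁆ := by
    intro a ha c hc' d hd
    rw [hxcomm c hc' d hd, hzmem c hc' d hd]
    have hz : ⁅(x c)⁻¹, (x d)⁻¹⁆ ∈ D := by
      show (x c)⁻¹ * (x d)⁻¹ * ((x c)⁻¹)⁻¹ * ((x d)⁻¹)⁻¹ ∈ D
      simp only [inv_inv]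
      exact mul_mem (mul_mem (mul_mem (inv_mem (hxD c hc')) (inv_mem (hxD d hd))) (hxD c hc')) (hxD d hd)
    have hz1 : ⁅x a, ⁅(x c)⁻¹, (x d)⁻¹⁆⁆ = 1 :=
      (commutatorElement_eq_one_iff_mul_comm (g₁ := x a)).2
        (hD _ (inv_mem (hxD c hc')) _ (inv_mem (hxD d hd)) _ (hDB (hxD a ha))).eq.symm
    rw [comm_right_mul hD hDB (hxD a ha) hz (hyD c hc' d hd), hz1, one_mul]
  -- `[y c a, b]`
  have hγ : ∀ c ∈ A, ∀ a ∈ A, ⁅y c a, b⁆ = ⁅x c, x a⁆ * ⁅x c, y c a⁆ := by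
    intro c hc' a ha
    have m1 := hxD a ha
    have m2 := hxD c hc'
    have m3 := hyD c hc' a ha
    have hb1 : ⁅x a, b⁆ ∈ ⁅B, B⁆ := commutator_mem_commutator (hDB m1) hb
    have hb2 : ⁅y c a, b⁆ ∈ ⁅B, B⁆ := commutator_mem_commutator (hDB m3) hb
    have h1 : c * ⁅x a, b⁆ * c⁻¹ = ⁅c * x a * c⁻¹, c * b * c⁻¹⁆ := by group
    have hcb : c * b * c⁻¹ = b * x c := by simp only [x]; group
    rw [hc c hc' _ hb1, mul_inv_cancel_right, hconjx c hc' a ha, hcb, comm_mul_right,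
      ← (hD _ (mul_mem m1 m3) _ m2 b hb).eq, mul_inv_cancel_right,
      show ⁅x a * y c a, b⁆ = x a * ⁅y c a, b⁆ * (x a)⁻¹ * ⁅x a, b⁆ by group,
      hcD _ hb2 _ m1, mul_inv_cancel_right] at h1
    have hcen : Commute ⁅x a * y c a, x c⁆ ⁅x a, b⁆ :=
      hD _ (mul_mem m1 m3) _ m2 _ (commutator_le_self B hb1)
    rw [mul_assoc, ← hcen.eq, ← mul_assoc] at h1
    have h2 : ⁅y c a, b⁆ * ⁅x a * y c a, x c⁆ = 1 :=
      mul_right_cancel (h1.symm.trans (one_mul _).symm)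
    rw [mul_eq_one_iff_eq_inv.1 h2, commutatorElement_inv, comm_right_mul hD hDB m2 m1 m3]
  -- `T = 1`
  have T0 : ∀ c ∈ A, ∀ d ∈ A, ∀ a ∈ A, ⁅x c, y d a⁆ = 1 := by
    intro c hc' d hd a ha
    have hycd : y (c * d) a = y c a * y d a := by
      have h := hyfix d hd a ha c hc'
      calc y (c * d) a = (x a)⁻¹ * (c * (x a * ((x a)⁻¹ * (d * x a * d⁻¹))) * c⁻¹) := by
            simp only [y]; group
        _ = (x a)⁻¹ * (c * x a * c⁻¹) * (c * y d a * c⁻¹) := by simp only [y]; group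
        _ = _ := by rw [h]
    have m1 := hxD a ha
    have mc := hxD c hc'
    have md := hxD d hd
    have u1 := hyD c hc' a ha
    have u2 := hyD d hd a ha
    have u3 := hyD c hc' d hd
    have hLHS := hγ (c * d) (mul_mem hc' hd) a ha
    have hRHS : ⁅y c a * y d a, b⁆ = ⁅y d a, b⁆ * ⁅y c a, b⁆ := by
      rw [show ⁅y c a * y d a, b⁆ = y c a * ⁅y d a, b⁆ * (y c a)⁻¹ * ⁅y c a, b⁆ by group,
        hcD _ (commutator_mem_commutator (hDB u2) hb) _ u1, mul_inv_cancel_right]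
    have e0 : ⁅y c d, y c a * y d a⁆ = 1 := by
      rw [comm_right_mul hD hDB u3 u1 u2, hyy c hc' d hd c hc' a ha, hyy c hc' d hd d hd a ha, one_mul]
    rw [hycd, hRHS, hγ c hc' a ha, hγ d hd a ha, hxmul c hc' d hd,
      comm_left_mul hD hDB (mul_mem mc md) u3 m1, comm_left_mul hD hDB mc md m1,
      comm_left_mul hD hDB (mul_mem mc md) u3 (mul_mem u1 u2),
      comm_left_mul hD hDB mc md (mul_mem u1 u2), e0, mul_one, comm_right_mul hD hDB mc u1 u2,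
      comm_right_mul hD hDB md u1 u2] at hLHS
    -- everything in sight commutes
    let Z : Subgroup G := B ⊓ centralizer (B : Set G)
    have hZ : ∀ u ∈ D, ∀ v ∈ D, ⁅u, v⁆ ∈ Z := fun u hu v hv =>
      mem_inf.2 ⟨hωB u hu v hv, mem_centralizer_iff.2 fun w hw => (hD u hu v hv w hw).eq.symm⟩
    haveI hZc : IsMulCommutative Z := ⟨⟨fun p q => Subtype.ext
      (mem_centralizer_iff.1 (mem_inf.1 q.2).2 p (mem_inf.1 p.2).1)⟩⟩
    letI : CommGroup Z := { (inferInstance : Group Z) with mul_comm := hZc.is_comm.comm }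
    let q : ∀ u v : G, u ∈ D → v ∈ D → Z := fun u v hu hv => ⟨⁅u, v⁆, hZ u hu v hv⟩
    have key : (q _ _ md m1 * q _ _ md u2) * (q _ _ mc m1 * q _ _ mc u1)
        = (q _ _ mc m1 * q _ _ md m1 * q _ _ u3 m1) *
          ((q _ _ mc u1 * q _ _ mc u2) * (q _ _ md u1 * q _ _ md u2)) := Subtype.ext hLHS
    have key2 : q _ _ u3 m1 * q _ _ mc u2 * q _ _ md u1 = 1 := by
      have e : (q _ _ mc m1 * q _ _ md m1 * q _ _ u3 m1) *
          ((q _ _ mc u1 * q _ _ mc u2) * (q _ _ md u1 * q _ _ md u2))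
        = (q _ _ md m1 * q _ _ md u2) * (q _ _ mc m1 * q _ _ mc u1) *
          (q _ _ u3 m1 * q _ _ mc u2 * q _ _ md u1) := by ac_rfl
      rw [e] at key
      exact mul_left_cancel (key.symm.trans (mul_one _).symm)
    have k3 : ⁅y c d, x a⁆ * ⁅x c, y d a⁆ * ⁅x d, y c a⁆ = 1 := congrArg Subtype.val key2
    rw [← commutatorElement_inv (x a) (y c d), T13 a ha c hc' d hd] at k3
    have hcm : Commute ⁅x c, y d a⁆ ⁅x d, y c a⁆ := hD _ mc _ u2 _ (hωB _ md _ u1)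
    rw [mul_assoc, hcm.eq, inv_mul_cancel_left] at k3
    exact k3
  intro a ha c hc'
  show ⁅x a, x c⁆ ^ 2 = 1
  have e1 := hγ a ha c hc'
  rw [T0 a ha a ha c hc', mul_one] at e1
  have e2 := hγ c hc' a ha
  rw [T0 c hc' c hc' a ha, mul_one] at e2
  have hz : ⁅(x c)⁻¹, (x a)⁻¹⁆ ∈ D := by
    show (x c)⁻¹ * (x a)⁻¹ * ((x c)⁻¹)⁻¹ * ((x a)⁻¹)⁻¹ ∈ D
    simp only [inv_inv]
    exact mul_mem (mul_mem (mul_mem (inv_mem (hxD c hc')) (inv_mem (hxD a ha))) (hxD c hc')) (hxD a ha)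
  have e3 : ⁅y a c, b⁆ = ⁅y c a, b⁆ := by
    rw [hxcomm c hc' a ha, hzmem c hc' a ha,
      show ⁅⁅(x c)⁻¹, (x a)⁻¹⁆ * y c a, b⁆
        = ⁅(x c)⁻¹, (x a)⁻¹⁆ * ⁅y c a, b⁆ * ⁅(x c)⁻¹, (x a)⁻¹⁆⁻¹ * ⁅⁅(x c)⁻¹, (x a)⁻¹⁆, b⁆ by group,
      (commutatorElement_eq_one_iff_mul_comm (g₂ := b)).2
        (hD _ (inv_mem (hxD c hc')) _ (inv_mem (hxD a ha)) b hb).eq, mul_one,
      hcD _ (commutator_mem_commutator (hDB (hyD c hc' a ha)) hb) _ hz, mul_inv_cancel_right]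
  rw [e1, e2, ← commutatorElement_inv (x a) (x c)] at e3
  rw [pow_two]
  nth_rewrite 2 [e3]
  exact mul_inv_cancel _

end Identity

/-- If `A` is abelian, normalises `B`, centralises `B'` and `[b,A,A,A] = 1`, the generators of
`[b,A]` have commutators of order at most `2`; hence so has its derived group. -/
theorem sq_eq_one_of_mem_commutator_bracket (hAB : A ≤ normalizer (B : Set G))
    (hc : ⁅⁅B, B⁆, A⁆ = ⊥) (hA : IsMulCommutative A) {b : G} (hb : b ∈ B)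
    (h3 : ⁅⁅closure (bracketSet b A), A⁆, A⁆ = ⊥) :
    ∀ w ∈ ⁅closure (bracketSet b A), closure (bracketSet b A)⁆, w ^ 2 = 1 := by
  set D := ⁅B, A⁆ with hDdef
  have hDB : D ≤ B := commutator_le_of_le_normalizer hAB
  have hcen := commutator_commutator_self_le_center hAB hc
  have hD : ∀ u ∈ D, ∀ v ∈ D, ∀ w ∈ B, Commute ⁅u, v⁆ w := fun u hu v hv w hw =>
    ((mem_centralizer_iff.1 (mem_inf.1 (hcen (commutator_mem_commutator hu hv))).2) w hw).symm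
  have hAD : A ≤ normalizer (D : Set G) := fun a ha => by
    rw [mem_normalizer_iff_map_conj_eq, hDdef, map_commutator,
      mem_normalizer_iff_map_conj_eq.1 (hAB ha), mem_normalizer_iff_map_conj_eq.1 (le_normalizer ha)]
  have hXD : ∀ a ∈ A, b⁻¹ * a * b * a⁻¹ ∈ D := fun a ha => by
    have e : b⁻¹ * a * b * a⁻¹ = ⁅b⁻¹, a⁆ := by group
    rw [e]; exact commutator_mem_commutator (inv_mem hb) ha
  set X := closure (bracketSet b A) with hX
  have hXle : X ≤ D := (closure_le _).2 (by rintro _ ⟨a, ha, rfl⟩; exact hXD a ha)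
  have hsq := sq_eq_one_of_bracket (A := A) hD hDB hAB hAD
    (fun a ha z hz => (mem_centralizer_iff.1 (le_centralizer_iff.1
      (commutator_eq_bot_iff_le_centralizer.1 hc) ha) z hz).symm)
    (fun z hz u hu => (mem_centralizer_iff.1 (commutator_le_centralizer_derived hAB hc hu) z hz).symm)
    (fun a ha c hc' => comm_of_mem hA ha hc') hb hXD
    (fun a ha c hc' e he => by
      have hm : (b⁻¹ * a * b * a⁻¹)⁻¹ * (c * (b⁻¹ * a * b * a⁻¹) * c⁻¹) ∈ ⁅X, A⁆ := by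
        have e' : (b⁻¹ * a * b * a⁻¹)⁻¹ * (c * (b⁻¹ * a * b * a⁻¹) * c⁻¹)
          = ⁅(b⁻¹ * a * b * a⁻¹)⁻¹, c⁆ := by group
        rw [e']
        exact commutator_mem_commutator (inv_mem (subset_closure ⟨a, ha, rfl⟩)) hc'
      exact mem_centralizer_iff.1 ((commutator_eq_bot_iff_le_centralizer.1 h3) hm) e he)
  -- the set of elements whose commutators with `X` square to one
  let Q : Subgroup G :=
    { carrier := {z | z ∈ B ⊓ centralizer (B : Set G) ∧ z ^ 2 = 1}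
      one_mem' := ⟨one_mem _, one_pow 2⟩
      mul_mem' := fun {u v} hu hv => ⟨mul_mem hu.1 hv.1, by
        have h : Commute u v := (mem_centralizer_iff.1 (mem_inf.1 hv.1).2 u (mem_inf.1 hu.1).1)
        rw [h.mul_pow, hu.2, hv.2, one_mul]⟩
      inv_mem' := fun {u} hu => ⟨inv_mem hu.1, by rw [inv_pow, hu.2, inv_one]⟩ }
  suffices h : ⁅X, X⁆ ≤ Q from fun w hw => (h hw).2
  have gen : ∀ u ∈ X, ∀ c ∈ A, ⁅u, b⁻¹ * c * b * c⁻¹⁆ ∈ Q := by
    intro u hu c hc'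
    induction hu using closure_induction with
    | mem u hu =>
      obtain ⟨a, ha, rfl⟩ := hu
      exact ⟨hcen (commutator_mem_commutator (hXD a ha) (hXD c hc')), hsq a ha c hc'⟩
    | one => simp
    | mul u v hu hv ihu ihv =>
      rw [comm_left_mul hD hDB (hXle hu) (hXle hv) (hXD c hc')]
      exact mul_mem ihu ihv
    | inv u hu ih =>
      have e := comm_left_mul hD hDB (hXle hu) (inv_mem (hXle hu)) (hXD c hc')
      rw [mul_inv_cancel, commutatorElement_one_left] at e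
      rw [eq_inv_of_mul_eq_one_right e.symm]
      exact inv_mem ih
  refine Subgroup.commutator_le.2 fun u hu v hv => ?_
  induction hv using closure_induction with
  | mem v hv => obtain ⟨c, hc', rfl⟩ := hv; exact gen u hu c hc'
  | one => simp
  | mul v w hv hw ihv ihw =>
    rw [comm_right_mul hD hDB (hXle hu) (hXle hv) (hXle hw)]
    exact mul_mem ihv ihw
  | inv v hv ih =>
    have e := comm_right_mul hD hDB (hXle hu) (hXle hv) (inv_mem (hXle hv))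
    rw [mul_inv_cancel, commutatorElement_one_right] at e
    rw [eq_inv_of_mul_eq_one_right e.symm]
    exact inv_mem ih

end CfsgLib.PLocal
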