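import Mathlib
import Cfsg.Agent.Lib.PLocal.CommutatorLemma
import Cfsg.Agent.Lib.PLocal.Quadratic

/-!
Glauberman's replacement: `A* = (A ∩ A^b)[A,b]`.
-/

set_option autoImplicit false
set_option linter.style.haveILetI false

namespace CfsgLib.PLocal

open Subgroup
open scoped commutatorElement

variable {S : Type*} [Group S]

/-- `A* = (A ∩ b⁻¹Ab) [A,b]`. -/
def replaced (A : Subgroup S) (b : S) : Subgroup S :=
  (A ⊓ A.map (MulAut.conj b⁻¹).toMonoidHom) ⊔ closure {g : S | ∃ a ∈ A, g = a * b⁻¹ * a⁻¹ * b}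

/-- Some element of `B` normalises `N(A)` but not `A`. -/
theorem exists_mem_normalizer_normalizer [Finite S] {p : ℕ} [Fact p.Prime] (hS : IsPGroup p S)
    (B : Subgroup S) [B.Normal] (A : Subgroup S) (hnot : ¬ B ≤ normalizer (A : Set S)) :
    ∃ b ∈ B, b ∈ normalizer ((normalizer (A : Set S)) : Set S) ∧ b ∉ normalizer (A : Set S) := by
  set N := normalizer (A : Set S) with hN
  set M := B ⊔ N with hM
  have hlt : N.subgroupOf M < ⊤ := lt_top_iff_ne_top.2 fun h =>
    hnot (le_sup_left.trans (subgroupOf_eq_top.1 h))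
  haveI : Group.IsNilpotent M := (hS.to_subgroup M).isNilpotent
  obtain ⟨x, hx, hxN⟩ := SetLike.exists_of_lt (Group.normalizerCondition_of_isNilpotent _ hlt)
  have hx' : (x : S) ∈ B ⊔ N := x.2
  rw [← SetLike.mem_coe, Subgroup.normal_mul] at hx'
  obtain ⟨b, hb, n, hn, hbn⟩ := hx'
  have hxNN : (x : S) ∈ normalizer (N : Set S) := by
    refine mem_normalizer_iff.2 fun y => ⟨fun hy => ?_, fun hy => ?_⟩
    · exact (mem_normalizer_iff.1 hx (⟨y, le_sup_right (a := B) hy⟩ : M)).1 hy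
    · have hyM : y ∈ M := by
        simpa [mul_assoc] using M.mul_mem (M.mul_mem (M.inv_mem x.2) (le_sup_right (a := B) hy)) x.2
      exact (mem_normalizer_iff.1 hx (⟨y, hyM⟩ : M)).2 hy
  refine ⟨b, hb, ?_, fun h => hxN ?_⟩
  · have e : b = (x : S) * n⁻¹ := by rw [← hbn]; group
    rw [e]
    exact mul_mem hxNN (inv_mem (le_normalizer hn))
  · show (x : S) ∈ N
    rw [← hbn]; exact mul_mem h hn

theorem card_eq_of_hom {G H : Type*} [Group G] [Group H] [Finite G] (f : G →* H) :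
    Nat.card G = Nat.card f.ker * Nat.card f.range := by
  rw [← f.ker.card_mul_index, index_ker]

theorem mul_pow_of_class_two {u v : S} (h1 : Commute ⁅v, u⁆ u) (h2 : Commute ⁅v, u⁆ v) (n : ℕ) :
    (u * v) ^ n = u ^ n * v ^ n * ⁅v, u⁆ ^ n.choose 2 := by
  set z := ⁅v, u⁆ with hz
  have hvu : ∀ m : ℕ, v ^ m * u = u * v ^ m * z ^ m := by
    intro m
    induction m with
    | zero => simp
    | succ m ih =>
      have e : v * u = u * v * z := by
        calc v * u = z * u * v := by rw [hz]; group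
          _ = u * (z * v) := by rw [h1.eq, mul_assoc]
          _ = u * (v * z) := by rw [h2.eq]
          _ = _ := by rw [mul_assoc]
      calc v ^ (m + 1) * u = v * (v ^ m * u) := by rw [pow_succ', mul_assoc]
        _ = (v * u) * v ^ m * z ^ m := by rw [ih]; group
        _ = u * v * (z * v ^ m) * z ^ m := by rw [e]; group
        _ = u * v * (v ^ m * z) * z ^ m := by rw [(h2.pow_right m).eq]
        _ = u * v ^ (m + 1) * z ^ (m + 1) := by rw [pow_succ', pow_succ']; group
  induction n with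
  | zero => simp
  | succ n ih =>
    have hc : (n + 1).choose 2 = n.choose 2 + n := by
      rw [Nat.choose_succ_succ', Nat.choose_one_right]; ring
    calc (u * v) ^ (n + 1) = u ^ n * v ^ n * (z ^ n.choose 2 * u) * v := by
          rw [pow_succ, ih]; group
      _ = u ^ n * (v ^ n * u) * z ^ n.choose 2 * v := by rw [(h1.pow_left _).eq]; group
      _ = u ^ n * u * v ^ n * z ^ n * z ^ n.choose 2 * v := by rw [hvu n]; group
      _ = u ^ (n + 1) * v ^ n * (z ^ (n + 1).choose 2 * v) := by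
          rw [hc, pow_succ, pow_add, (Commute.pow_pow_self z n (n.choose 2)).symm.eq]; group
      _ = u ^ (n + 1) * (v ^ n * v) * z ^ (n + 1).choose 2 := by rw [(h2.pow_left _).eq]; group
      _ = _ := by rw [← pow_succ]

theorem odd_dvd_choose_two {e : ℕ} (h : Odd e) : e ∣ e.choose 2 := by
  obtain ⟨k, rfl⟩ := h
  rw [Nat.choose_two_right]
  refine ⟨k, ?_⟩
  rw [show 2 * k + 1 - 1 = 2 * k by omega, show (2 * k + 1) * (2 * k) = (2 * k + 1) * k * 2 by ring,
    Nat.mul_div_cancel _ (by norm_num)]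

theorem card_map_of_injective' {f : S →* S} (hf : Function.Injective f) (H : Subgroup S) :
    Nat.card (H.map f) = Nat.card H :=
  (Nat.card_congr (H.equivMapOfInjective f hf).toEquiv).symm

section Replace

variable {A B : Subgroup S} [B.Normal] {b : S}

/-- The facts about the replaced subgroup, all together. -/
structure ReplaceFacts (A B : Subgroup S) (b : S) : Prop where
  card_eq : Nat.card (replaced A b) = Nat.card A
  comm : IsMulCommutative (replaced A b)
  derived_le : ⁅B, B⁆ ≤ replaced A b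
  inf_lt : A ⊓ B < replaced A b ⊓ B
  inf_lt_B : replaced A b ⊓ B < B
  le_normalizer_repl : A ≤ normalizer (replaced A b : Set S)
  repl_le_normalizer : replaced A b ≤ normalizer (A : Set S)
  mem_normalizer : b ∈ normalizer (replaced A b : Set S)
  normalizer_lt : normalizer (A : Set S) < normalizer (replaced A b : Set S)
  le_sup : A.map (MulAut.conj b⁻¹).toMonoidHom ≤ replaced A b ⊔ A
  le_normal : ∀ D : Subgroup S, D.Normal → A ≤ D → replaced A b ≤ D
  exponent : ∀ e : ℕ, Odd e ∨ e = 0 → (∀ a ∈ A, a ^ e = 1) → ∀ x ∈ replaced A b, x ^ e = 1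

theorem replaceFacts [Finite S] {p : ℕ} [Fact p.Prime] (hS : IsPGroup p S)
    (hB2 : p = 2 → IsMulCommutative B) (hA : IsMulCommutative A) (hBA : ⁅B, B⁆ ≤ A)
    (hb : b ∈ B) (hbN : b ∈ normalizer ((normalizer (A : Set S)) : Set S))
    (hbA : b ∉ normalizer (A : Set S)) : ReplaceFacts A B b := by
  set N := normalizer (A : Set S) with hNdef
  set A' := A.map (MulAut.conj b⁻¹).toMonoidHom with hA'
  set M := A ⊓ A' with hMdef
  set X := closure (bracketSet b A) with hXdef
  let x : S → S := fun a => b⁻¹ * a * b * a⁻¹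
  have hAN : A ≤ N := le_normalizer
  have hA'mem : ∀ z, z ∈ A' ↔ b * z * b⁻¹ ∈ A := fun z => by
    constructor
    · rintro ⟨a, ha, rfl⟩; simpa [mul_assoc] using ha
    · intro h; exact ⟨b * z * b⁻¹, h, by simp [mul_assoc]⟩
  have hNb : ∀ n ∈ N, b⁻¹ * n * b ∈ N := fun n hn => by
    simpa using (mem_normalizer_iff.1 (inv_mem hbN) n).1 hn
  have hNb' : ∀ n ∈ N, b * n * b⁻¹ ∈ N := fun n hn => (mem_normalizer_iff.1 hbN n).1 hn
  have hA'N : A' ≤ N := fun z hz => by
    have h := hNb _ (hAN ((hA'mem z).1 hz))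
    simpa [mul_assoc] using h
  have hNA' : N ≤ normalizer (A' : Set S) := fun n hn => by
    refine mem_normalizer_iff.2 fun z => ?_
    rw [hA'mem, hA'mem]
    have e : b * (n * z * n⁻¹) * b⁻¹ = (b * n * b⁻¹) * (b * z * b⁻¹) * (b * n * b⁻¹)⁻¹ := by group
    rw [e]
    exact mem_normalizer_iff.1 (hNb' n hn) _
  have hNM : N ≤ normalizer (M : Set S) := fun n hn => mem_normalizer_iff.2 fun z => by
    simp only [hMdef, mem_inf, mem_normalizer_iff.1 hn z, mem_normalizer_iff.1 (hNA' hn) z]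
  have hxB : ∀ a, x a ∈ B := fun a => by
    have h := ‹B.Normal›.conj_mem b hb a
    have e : x a = b⁻¹ * (a * b * a⁻¹) := by simp only [x]; group
    rw [e]; exact mul_mem (inv_mem hb) h
  have hxN : ∀ a ∈ A, x a ∈ N := fun a ha => mul_mem (hNb a (hAN ha)) (inv_mem (hAN ha))
  have hBmem : ∀ u ∈ B, u ∈ A → u ∈ M := fun u hu huA => mem_inf.2 ⟨huA, by
    rw [hA'mem]
    have e : b * u * b⁻¹ = ⁅b, u⁆ * u := by group
    rw [e]
    exact mul_mem (hBA (commutator_mem_commutator hb hu)) huA⟩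
  have hB'M : ⁅B, B⁆ ≤ M := fun z hz => hBmem z (commutator_le_self B hz) (hBA hz)
  have hXgen : closure {g : S | ∃ a ∈ A, g = a * b⁻¹ * a⁻¹ * b} = X := by
    apply le_antisymm
    · rw [closure_le]
      rintro _ ⟨a, ha, rfl⟩
      have e : a * b⁻¹ * a⁻¹ * b = (x a)⁻¹ := by simp only [x]; group
      rw [SetLike.mem_coe, e]
      exact inv_mem (subset_closure ⟨a, ha, rfl⟩)
    · rw [hXdef, closure_le]
      rintro _ ⟨a, ha, rfl⟩
      have e : b⁻¹ * a * b * a⁻¹ = (a * b⁻¹ * a⁻¹ * b)⁻¹ := by group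
      rw [SetLike.mem_coe, e]
      exact inv_mem (subset_closure ⟨a, ha, rfl⟩)
  have hrep : replaced A b = M ⊔ X := by rw [replaced, hXgen]
  have hXN : X ≤ N := (closure_le _).2 (by rintro _ ⟨a, ha, rfl⟩; exact hxN a ha)
  have hXB : X ≤ B := (closure_le _).2 (by rintro _ ⟨a, ha, rfl⟩; exact hxB a)
  have hMN : M ≤ N := inf_le_left.trans hAN
  have hRN : replaced A b ≤ N := hrep ▸ sup_le hMN hXN
  -- `M` centralises `A A'`
  have hMA : ∀ m ∈ M, ∀ a ∈ A, m * a = a * m := fun m hm a ha =>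
    comm_of_mem hA (mem_inf.1 hm).1 ha
  have hMA' : ∀ m ∈ M, ∀ z ∈ A', m * z = z * m := fun m hm z hz => by
    have h := comm_of_mem hA ((hA'mem m).1 (mem_inf.1 hm).2) ((hA'mem z).1 hz)
    calc m * z = b⁻¹ * ((b * m * b⁻¹) * (b * z * b⁻¹)) * b := by group
      _ = b⁻¹ * ((b * z * b⁻¹) * (b * m * b⁻¹)) * b := by rw [h]
      _ = _ := by group
  have hxA' : ∀ a ∈ A, x a * a ∈ A' := fun a ha => by
    rw [hA'mem]
    have e : b * (x a * a) * b⁻¹ = a := by simp only [x]; group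
    rwa [e]
  have hMx : ∀ m ∈ M, ∀ a ∈ A, m * x a = x a * m := fun m hm a ha => by
    have h1 := hMA' m hm _ (hxA' a ha)
    have h2 := hMA m hm a⁻¹ (inv_mem ha)
    calc m * x a = (m * (x a * a)) * a⁻¹ := by group
      _ = x a * a * (m * a⁻¹) := by rw [h1]; group
      _ = x a * a * (a⁻¹ * m) := by rw [h2]
      _ = _ := by group
  have hMcomm : ∀ a ∈ A, ∀ z ∈ A', ⁅z, a⁆ ∈ M := fun a ha z hz => mem_inf.2 ⟨by
      have e : ⁅z, a⁆ = (z * a * z⁻¹) * a⁻¹ := by group
      rw [e]; exact mul_mem ((mem_normalizer_iff.1 (hA'N hz) a).1 ha) (inv_mem ha), by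
      have e : ⁅z, a⁆ = z * (a * z⁻¹ * a⁻¹) := by group
      rw [e]; exact mul_mem hz ((mem_normalizer_iff.1 (hNA' (hAN ha)) _).1 (inv_mem hz))⟩
  have hxcA : ∀ a ∈ A, ∀ c ∈ A, ⁅x a, c⁆ ∈ M := fun a ha c hc => by
    have h := hMcomm c hc _ (hxA' a ha)
    have e : ⁅x a * a, c⁆ = x a * ⁅a, c⁆ * (x a)⁻¹ * ⁅x a, c⁆ := by group
    rw [e, (commutatorElement_eq_one_iff_mul_comm (g₁ := a)).2 (comm_of_mem hA ha hc), mul_one,
      mul_inv_cancel, one_mul] at h
    exact h
  -- the commutators of `x a`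
  have hXX : ∀ a ∈ A, ∀ c ∈ A, ⁅x a, x c⁆ = 1 := by
    intro a ha c hc
    rcases (Fact.out : p.Prime).eq_two_or_odd' with h2 | hodd
    · exact (commutatorElement_eq_one_iff_mul_comm (g₁ := x a)).2
        (comm_of_mem (hB2 h2) (hxB a) (hxB c))
    · have hc0 : ⁅⁅B, B⁆, A⁆ = ⊥ :=
        le_bot_iff.1 ((commutator_mono hBA le_rfl).trans (commutator_self_eq_bot_iff.2 hA).le)
      have h3 : ⁅⁅X, A⁆, A⁆ = ⊥ := by
        refine le_bot_iff.1 ((commutator_mono (?_ : ⁅X, A⁆ ≤ A) le_rfl).trans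
          (commutator_self_eq_bot_iff.2 hA).le)
        exact commutator_le.2 fun u hu d hd => by
          have e : ⁅u, d⁆ = (u * d * u⁻¹) * d⁻¹ := by group
          rw [e]; exact mul_mem ((mem_normalizer_iff.1 (hXN hu) d).1 hd) (inv_mem hd)
      have h := sq_eq_one_of_mem_commutator_bracket
        ((le_normalizer_of_normal (H := B)).trans' (le_top (a := A))) hc0 hA hb h3 _
        (commutator_mem_commutator (subset_closure (show x a ∈ bracketSet b A from ⟨a, ha, rfl⟩))
          (subset_closure (show x c ∈ bracketSet b A from ⟨c, hc, rfl⟩)))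
      obtain ⟨k, hk⟩ := hS ⁅x a, x c⁆
      have hd1 : orderOf ⁅x a, x c⁆ ∣ 2 := orderOf_dvd_of_pow_eq_one h
      have hd2 : orderOf ⁅x a, x c⁆ ∣ p ^ k := orderOf_dvd_of_pow_eq_one hk
      exact orderOf_eq_one_iff.1 (Nat.eq_one_of_dvd_coprimes
        ((Nat.coprime_two_left.2 hodd).pow_right k) hd1 hd2)
  have hcomm : IsMulCommutative (replaced A b) := by
    rw [hrep, hXdef, ← closure_eq M, ← Subgroup.closure_union]
    refine isMulCommutative_closure ?_
    rintro u (hu | ⟨a, ha, rfl⟩) v (hv | ⟨c, hc, rfl⟩)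
    · exact hMA u hu v (mem_inf.1 hv).1
    · exact hMx u hu c hc
    · exact (hMx v hv a ha).symm
    · exact (commutatorElement_eq_one_iff_mul_comm (g₁ := x a)).1 (hXX a ha c hc)
  -- order
  haveI : (M.subgroupOf N).Normal := normal_subgroupOf_of_le_normalizer hNM
  let q := QuotientGroup.mk' (M.subgroupOf N)
  have hxmul : ∀ a ∈ A, ∀ c ∈ A, ∃ m ∈ M, x (a * c) = x a * x c * m := by
    intro a ha c hc
    refine ⟨(x c)⁻¹ * (a * x c * a⁻¹), ?_, by simp only [x]; group⟩
    have e : (x c)⁻¹ * (a * x c * a⁻¹) = (x c)⁻¹ * ⁅x c, a⁆⁻¹ * x c := by group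
    rw [e]
    have := (mem_normalizer_iff.1 (hNM (inv_mem (hxN c hc))) _).1 (inv_mem (hxcA c hc a ha))
    simpa using this
  let f : A →* N ⧸ M.subgroupOf N :=
    { toFun := fun a => q ⟨x a, hxN a a.2⟩
      map_one' := by
        have e : (⟨x ((1 : A) : S), hxN _ (1 : A).2⟩ : N) = 1 := Subtype.ext (by simp [x])
        rw [e, map_one]
      map_mul' := fun a c => by
        obtain ⟨m, hm, he⟩ := hxmul a a.2 c c.2
        have e : (⟨x ((a * c : A) : S), hxN _ (a * c).2⟩ : N)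
            = (⟨x a, hxN a a.2⟩ * ⟨x c, hxN c c.2⟩) * ⟨m, hMN hm⟩ := Subtype.ext he
        have hq : q ⟨m, hMN hm⟩ = 1 := (QuotientGroup.eq_one_iff _).2 hm
        rw [e, map_mul, hq, mul_one, map_mul] }
  have hrange : f.range = ((replaced A b).subgroupOf N).map q := by
    refine le_antisymm ?_ ?_
    · rintro _ ⟨a, rfl⟩
      exact ⟨⟨x a, hxN a a.2⟩, hrep ▸ mem_sup_right (subset_closure ⟨a, a.2, rfl⟩), rfl⟩
    · rw [map_le_iff_le_comap]
      intro y hy
      have hy' : (y : S) ∈ M ⊔ X := hrep ▸ hy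
      have : M ⊔ X ≤ (f.range.comap q).map N.subtype := by
        refine sup_le (fun m hm => ⟨⟨m, hMN hm⟩, ?_, rfl⟩) ((closure_le _).2 ?_)
        · show q ⟨m, hMN hm⟩ ∈ f.range
          rw [show q ⟨m, hMN hm⟩ = 1 from (QuotientGroup.eq_one_iff _).2 hm]
          exact one_mem _
        · rintro _ ⟨a, ha, rfl⟩
          exact ⟨⟨x a, hxN a ha⟩, ⟨⟨a, ha⟩, rfl⟩, rfl⟩
      obtain ⟨z, hz, hzy⟩ := this hy'
      rw [← (Subtype.ext hzy : z = y)]
      exact hz
  have hker : f.ker = (A ⊓ A.map (MulAut.conj b).toMonoidHom).subgroupOf A := by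
    ext a
    have ha : (a : S) ∈ A := a.2
    rw [MonoidHom.mem_ker, mem_subgroupOf]
    show q ⟨x a, hxN a a.2⟩ = 1 ↔ _
    rw [QuotientGroup.mk'_apply, QuotientGroup.eq_one_iff, mem_subgroupOf, mem_inf]
    show x a ∈ M ↔ _
    constructor
    · intro h
      refine ⟨ha, ⟨x a * a, mul_mem (mem_inf.1 h).1 ha, ?_⟩⟩
      simp only [MulEquiv.coe_toMonoidHom, MulAut.conj_apply, x]
      group
    · rintro ⟨-, c, hc, he⟩
      refine hBmem _ (hxB a) ?_
      have e : x a = c * (a : S)⁻¹ := by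
        simp only [MulEquiv.coe_toMonoidHom, MulAut.conj_apply] at he
        simp only [x, ← he]; group
      rw [e]; exact mul_mem hc (inv_mem ha)
  have hkerM : Nat.card f.ker = Nat.card M := by
    rw [hker, Nat.card_congr (subgroupOfEquivOfLe inf_le_left).toEquiv]
    refine Nat.card_congr ⟨fun z => ⟨b⁻¹ * z * b, ?_⟩, fun z => ⟨b * z * b⁻¹, ?_⟩, ?_, ?_⟩
    · obtain ⟨hz1, c, hc, he⟩ := z.2
      refine mem_inf.2 ⟨?_, by rw [hA'mem]; simpa [mul_assoc] using hz1⟩
      rw [← he]; simpa [mul_assoc] using hc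
    · refine mem_inf.2 ⟨(hA'mem _).1 (mem_inf.1 z.2).2, (z : S), (mem_inf.1 z.2).1, rfl⟩
    · intro z; ext; simp [mul_assoc]
    · intro z; ext; simp [mul_assoc]
  have hMR : M.subgroupOf N ≤ (replaced A b).subgroupOf N := comap_mono (hrep ▸ le_sup_left)
  have hcard : Nat.card (replaced A b) = Nat.card A := by
    rw [card_eq_of_hom f, hkerM, hrange, ← Nat.card_congr (subgroupOfEquivOfLe hRN).toEquiv,
      card_eq_of_hom (q.comp ((replaced A b).subgroupOf N).subtype), MonoidHom.range_comp,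
      range_subtype]
    congr 1
    have e : (q.comp ((replaced A b).subgroupOf N).subtype).ker
        = (M.subgroupOf N).subgroupOf ((replaced A b).subgroupOf N) := by
      rw [← MonoidHom.comap_ker, QuotientGroup.ker_mk']; rfl
    rw [e, Nat.card_congr (subgroupOfEquivOfLe hMR).toEquiv,
      Nat.card_congr (subgroupOfEquivOfLe hMN).toEquiv]
  -- intersections with `B`
  have hex : ∃ a ∈ A, x a ∉ A := by
    by_contra hall
    push Not at hall
    refine hbA (inv_mem_iff.1 (mem_normalizer_iff_map_conj_eq.2 ?_))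
    refine Subgroup.eq_of_le_of_card_ge ?_ (card_map_of_injective' (f := (MulAut.conj b⁻¹).toMonoidHom) (MulAut.conj b⁻¹).injective _).ge
    show A.map (MulAut.conj b⁻¹).toMonoidHom ≤ A
    rintro _ ⟨a, ha, rfl⟩
    have := mul_mem (hall a ha) ha
    simpa [x, mul_assoc] using this
  have hinf : A ⊓ B < replaced A b ⊓ B := by
    refine lt_of_le_of_ne (le_inf (fun z hz => hrep ▸ mem_sup_left (hBmem z (mem_inf.1 hz).2 (mem_inf.1 hz).1))
      inf_le_right) fun he => ?_
    obtain ⟨a, ha, hna⟩ := hex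
    have : x a ∈ A ⊓ B := he ▸ mem_inf.2 ⟨hrep ▸ mem_sup_right (subset_closure ⟨a, ha, rfl⟩), hxB a⟩
    exact hna (mem_inf.1 this).1
  have hinfB : replaced A b ⊓ B < B :=
    lt_of_le_of_ne inf_le_right fun he => hbA (hRN (inf_eq_right.1 he hb))
  -- normalisation
  have hB'R : ⁅B, B⁆ ≤ replaced A b := hB'M.trans (hrep ▸ le_sup_left)
  have hconjN : ∀ n ∈ N, ∀ z ∈ replaced A b, n * z * n⁻¹ ∈ replaced A b := by
    intro n hn z hz
    rw [hrep] at hz ⊢
    suffices h : M ⊔ X ≤ (M ⊔ X).comap (MulAut.conj n).toMonoidHom from h hz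
    refine sup_le (fun m hm => mem_sup_left ((mem_normalizer_iff.1 (hNM hn) m).1 hm))
      ((closure_le _).2 ?_)
    rintro _ ⟨a, ha, rfl⟩
    show n * (b⁻¹ * a * b * a⁻¹) * n⁻¹ ∈ M ⊔ X
    set a' := n * a * n⁻¹ with ha'
    have ha'A : a' ∈ A := (mem_normalizer_iff.1 hn a).1 ha
    set u := b⁻¹ * (n * b * n⁻¹) with hu
    have huB : u ∈ B := mul_mem (inv_mem hb) (‹B.Normal›.conj_mem b hb n)
    have huN : u ∈ N := by
      have e : u = (b⁻¹ * n * b) * n⁻¹ := by rw [hu]; group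
      rw [e]; exact mul_mem (hNb n hn) (inv_mem hn)
    have e1 : n * (b⁻¹ * a * b * a⁻¹) * n⁻¹
        = (x a' * ((x a')⁻¹ * u⁻¹ * x a' * u)) * (u⁻¹ * (a' * u * a'⁻¹)) := by
      simp only [x, hu, ha']; group
    rw [e1]
    refine mul_mem (mul_mem (mem_sup_right (subset_closure ⟨a', ha'A, rfl⟩)) (mem_sup_left (hB'M ?_)))
      (mem_sup_left (hBmem _ ?_ ?_))
    · have e : (x a')⁻¹ * u⁻¹ * x a' * u = ⁅(x a')⁻¹, u⁻¹⁆ := by group
      rw [e]; exact commutator_mem_commutator (inv_mem (hxB a')) (inv_mem huB)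
    · exact mul_mem (inv_mem huB) (‹B.Normal›.conj_mem u huB a')
    · have e : u⁻¹ * (a' * u * a'⁻¹) = (u⁻¹ * a' * u) * a'⁻¹ := by group
      rw [e]
      refine mul_mem ?_ (inv_mem ha'A)
      simpa using (mem_normalizer_iff.1 (inv_mem huN) a').1 ha'A
  have hNR : N ≤ normalizer (replaced A b : Set S) := fun n hn =>
    mem_normalizer_iff.2 fun z => ⟨hconjN n hn z, fun hz => by
      simpa [mul_assoc] using hconjN n⁻¹ (inv_mem hn) _ hz⟩
  have hbR : b ∈ normalizer (replaced A b : Set S) := by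
    refine inv_mem_iff.1 (mem_normalizer_iff_map_conj_eq.2 ?_)
    refine Subgroup.eq_of_le_of_card_ge ?_ (card_map_of_injective' (f := (MulAut.conj b⁻¹).toMonoidHom) (MulAut.conj b⁻¹).injective _).ge
    show (replaced A b).map (MulAut.conj b⁻¹).toMonoidHom ≤ replaced A b
    rw [hrep, map_le_iff_le_comap]
    refine sup_le (fun m hm => ?_) ((closure_le _).2 ?_)
    · show b⁻¹ * m * b⁻¹⁻¹ ∈ M ⊔ X
      have e : b⁻¹ * m * b⁻¹⁻¹ = x m * m := by simp only [x]; group
      rw [e]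
      exact mul_mem (mem_sup_right (subset_closure ⟨m, (mem_inf.1 hm).1, rfl⟩)) (mem_sup_left hm)
    · rintro _ ⟨a, ha, rfl⟩
      show b⁻¹ * x a * b⁻¹⁻¹ ∈ M ⊔ X
      have e : b⁻¹ * x a * b⁻¹⁻¹ = ⁅b⁻¹, x a⁆ * x a := by group
      rw [e]
      exact mul_mem (mem_sup_left (hB'M (commutator_mem_commutator (inv_mem hb) (hxB a))))
        (mem_sup_right (subset_closure ⟨a, ha, rfl⟩))
  refine ⟨hcard, hcomm, hB'R, hinf, hinfB, hAN.trans hNR, hRN, hbR,
    lt_of_le_of_ne hNR fun he => hbA (SetLike.ext_iff.1 he b |>.2 hbR), ?_, ?_, ?_⟩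
  · rintro _ ⟨a, ha, rfl⟩
    have e : (MulAut.conj b⁻¹).toMonoidHom a = x a * a := by simp [x, mul_assoc]
    rw [e]
    exact mul_mem (mem_sup_left (hrep ▸ mem_sup_right (subset_closure ⟨a, ha, rfl⟩))) (mem_sup_right ha)
  · intro D hD hAD
    rw [hrep]
    refine sup_le (inf_le_left.trans hAD) ((closure_le _).2 ?_)
    rintro _ ⟨a, ha, rfl⟩
    refine mul_mem ?_ (inv_mem (hAD ha))
    simpa using hD.conj_mem a (hAD ha) b⁻¹
  · intro e he hpow z hz
    rw [hrep, hXdef, ← closure_eq M, ← Subgroup.closure_union] at hz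
    induction hz using closure_induction with
    | mem z hz =>
      rcases hz with hz | ⟨a, ha, rfl⟩
      · exact hpow z (mem_inf.1 hz).1
      · show x a ^ e = 1
        rcases he with hodd | rfl
        swap
        · exact pow_zero _
        set u := x a * a with hu
        have huA' : u ∈ A' := hxA' a ha
        have hxu : x a = u * a⁻¹ := by rw [hu]; group
        have huM : ⁅a⁻¹, u⁆ ∈ M := by
          rw [← commutatorElement_inv]; exact inv_mem (hMcomm _ (inv_mem ha) _ huA')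
        have c1 : Commute ⁅a⁻¹, u⁆ u := hMA' _ huM _ huA'
        have c2 : Commute ⁅a⁻¹, u⁆ a⁻¹ := hMA _ huM _ (inv_mem ha)
        have hu1 : u ^ e = 1 := by
          have h := hpow _ ((hA'mem u).1 huA')
          rwa [conj_pow, conj_eq_one_iff] at h
        have hz1 : ⁅a⁻¹, u⁆ ^ e = 1 := hpow _ (mem_inf.1 huM).1
        rw [hxu, mul_pow_of_class_two c1 c2, hu1, hpow _ (inv_mem ha)]
        obtain ⟨k, hk⟩ := odd_dvd_choose_two hodd
        rw [hk, pow_mul, hz1, one_pow, one_mul, mul_one]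
    | one => exact one_pow e
    | mul u v hu hv ihu ihv =>
      have huv : Commute u v := by
        rw [Subgroup.closure_union, closure_eq, ← hXdef, ← hrep] at hu hv
        exact comm_of_mem hcomm hu hv
      rw [huv.mul_pow, ihu, ihv, one_mul]
    | inv u _ ih => rw [inv_pow, ih, inv_one]

end Replace

end CfsgLib.PLocal
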