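import Mathlib
import Cfsg.Prelude.Def_PLocal
import Cfsg.Agent.Lib.PLocal.Thompson
import Cfsg.Agent.Lib.PLocal.GlaubermanReplacement

/-!
The abelian subgroups of largest order, of exponent dividing a given `e` (`e = 0`: all abelian
subgroups, `e = p`: the elementary abelian ones), and their replacement property.
-/

set_option autoImplicit false

namespace CfsgLib.PLocal

open Subgroup Cfsg
open scoped commutatorElement

universe u

variable {G : Type u} [Group G] {H : Type*} [Group H] {e : ℕ}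

/-- Abelian of exponent dividing `e`. -/
def AbExp (e : ℕ) (A : Subgroup G) : Prop :=
  IsMulCommutative A ∧ ∀ a ∈ A, a ^ e = 1

/-- The abelian subgroups of exponent dividing `e` of `P`, of largest order among these. -/
def maxAbExp (e : ℕ) (P : Subgroup G) : Set (Subgroup G) :=
  {A | A ≤ P ∧ AbExp e A ∧ ∀ B ≤ P, AbExp e B → Nat.card B ≤ Nat.card A}

theorem abExp_zero {A : Subgroup G} : AbExp 0 A ↔ IsMulCommutative A :=
  ⟨fun h => h.1, fun h => ⟨h, fun a _ => pow_zero a⟩⟩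

theorem abExp_map_iff {f : G →* H} (hf : Function.Injective f) {A : Subgroup G} :
    AbExp e (A.map f) ↔ AbExp e A := by
  constructor
  · rintro ⟨h, hp⟩
    refine ⟨⟨⟨fun a b => Subtype.ext (hf ?_)⟩⟩, fun a ha => hf ?_⟩
    · have := comm_of_mem h (mem_map_of_mem f a.2) (mem_map_of_mem f b.2)
      simpa using this
    · simpa using hp _ (mem_map_of_mem f ha)
  · rintro ⟨h, hp⟩
    refine ⟨⟨⟨?_⟩⟩, ?_⟩
    · rintro ⟨_, a, ha, rfl⟩ ⟨_, b, hb, rfl⟩
      exact Subtype.ext (by simpa using congrArg f (comm_of_mem h ha hb))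
    · rintro _ ⟨a, ha, rfl⟩
      rw [← map_pow, hp a ha, map_one]

theorem card_map_subtype' {P : Subgroup G} (A : Subgroup P) :
    Nat.card (A.map P.subtype) = Nat.card A :=
  (Nat.card_congr (A.equivMapOfInjective _ P.subtype_injective).toEquiv).symm

theorem image_maxAbelianSubgroups (P : Subgroup G) :
    Set.image (fun A : Subgroup P => A.map P.subtype) (maxAbelianSubgroups P) = maxAbExp 0 P := by
  ext X
  constructor
  · rintro ⟨A, ⟨hA, hmax⟩, rfl⟩
    refine ⟨map_subtype_le _, (abExp_map_iff P.subtype_injective).2 (abExp_zero.2 hA),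
      fun B hB hBe => ?_⟩
    have hBc : IsMulCommutative (B.subgroupOf P) :=
      abExp_zero.1 ((abExp_map_iff P.subtype_injective).1 (by rwa [map_subgroupOf_eq_of_le hB]))
    have h := hmax _ hBc
    rw [card_map_subtype']
    rwa [← Nat.card_congr (subgroupOfEquivOfLe hB).toEquiv]
  · rintro ⟨hXP, hX, hmax⟩
    refine ⟨X.subgroupOf P, ⟨abExp_zero.1 ((abExp_map_iff P.subtype_injective).1
      (by rwa [map_subgroupOf_eq_of_le hXP])), fun B hB => ?_⟩, map_subgroupOf_eq_of_le hXP⟩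
    rw [Nat.card_congr (subgroupOfEquivOfLe hXP).toEquiv, ← card_map_subtype']
    exact hmax _ (map_subtype_le _) ((abExp_map_iff P.subtype_injective).2 (abExp_zero.2 hB))

theorem maxEAOf_eq_maxAbExp (p : ℕ) (P : Subgroup G) : maxEAOf p P = maxAbExp p P := rfl

theorem image_maxElementaryAbelianSubgroups (p : ℕ) (P : Subgroup G) :
    Set.image (fun A : Subgroup P => A.map P.subtype) (maxElementaryAbelianSubgroups p P)
      = maxAbExp p P := by
  rw [← maxEAOf_eq_maxAbExp]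
  ext X
  constructor
  · rintro ⟨A, hA, rfl⟩; exact map_subtype_mem_maxEAOf hA
  · intro hX; exact ⟨_, subgroupOf_mem_max hX, map_subgroupOf_eq_of_le hX.1⟩

theorem exists_mem_maxAbExp [Finite G] (e : ℕ) (P : Subgroup G) : (maxAbExp e P).Nonempty := by
  obtain ⟨A, ⟨hAP, hA⟩, hmax⟩ := Set.exists_max_image {A : Subgroup G | A ≤ P ∧ AbExp e A}
    (fun A => Nat.card A) (Set.toFinite _)
    ⟨⊥, bot_le, inferInstance, fun a ha => by rw [mem_bot.1 ha, one_pow]⟩
  exact ⟨A, hAP, hA, fun B hB hBe => hmax B ⟨hB, hBe⟩⟩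

/-- For odd `p` a normal `B` with a member containing `B'` but not `B` normalises such a member. -/
theorem maxAbExp_replacement_property [Finite G] {p : ℕ} [Fact p.Prime] (hG : IsPGroup p G)
    (hp : p ≠ 2) (he : Odd e ∨ e = 0) (D : Subgroup G) [hD : D.Normal] (B : Subgroup G) [B.Normal]
    (h : ∃ U ∈ maxAbExp e D, ⁅B, B⁆ ≤ U ∧ ¬ B ≤ U) :
    ∃ A ∈ maxAbExp e D, ⁅B, B⁆ ≤ A ∧ ¬ B ≤ A ∧ B ≤ normalizer (A : Set G) := by
  obtain ⟨U, hU, hU'⟩ := h
  obtain ⟨A, ⟨hA, hB'A, hBA⟩, hmax⟩ := Set.exists_max_image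
    {A : Subgroup G | A ∈ maxAbExp e D ∧ ⁅B, B⁆ ≤ A ∧ ¬ B ≤ A}
    (fun A => Nat.card (normalizer (A : Set G))) (Set.toFinite _) ⟨U, hU, hU'⟩
  by_cases hN : B ≤ normalizer (A : Set G)
  · exact ⟨A, hA, hB'A, hBA, hN⟩
  exfalso
  obtain ⟨b, hb, hbN, hbA⟩ := exists_mem_normalizer_normalizer hG B A hN
  have F := replaceFacts hG (fun h => absurd h hp) hA.2.1.1 hB'A hb hbN hbA
  refine (Nat.not_lt.2 (hmax (replaced A b) ⟨⟨F.le_normal D hD hA.1,
    ⟨F.comm, F.exponent e he hA.2.1.2⟩, ?_⟩, F.derived_le, ?_⟩)) ?_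
  · intro C hC hCe; rw [F.card_eq]; exact hA.2.2 C hC hCe
  · exact fun hle => F.inf_lt_B.ne (le_antisymm inf_le_right (le_inf hle le_rfl))
  · refine lt_of_le_of_ne (Nat.card_le_card_of_injective _
      (inclusion_injective F.normalizer_lt.le)) fun heq => F.normalizer_lt.ne ?_
    exact Subgroup.eq_of_le_of_card_ge F.normalizer_lt.le heq.ge

end CfsgLib.PLocal
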