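import Mathlib
import Cfsg.Prelude.Def_PLocal
import Cfsg.Agent.Lib.PLocal.MaxFamily
import Cfsg.Agent.Lib.PLocal.Frattini
import Cfsg.Agent.Lib.PLocal.Constrained

/-!
Glauberman's ZJ-theorem.
-/

set_option autoImplicit false
set_option linter.style.haveILetI false

namespace CfsgLib.PLocal

open Subgroup Cfsg CfsgLib.Base
open scoped commutatorElement

universe u

variable {G : Type u} [Group G] {H : Type*} [Group H] {e : ℕ}

/-- The intersection of the abelian subgroups of exponent dividing `e` of largest order of `P`. -/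
def maxCenter (e : ℕ) (P : Subgroup G) : Subgroup G := sInf (maxAbExp e P)

theorem maxCenter_le_of_mem {P A : Subgroup G} (h : A ∈ maxAbExp e P) : maxCenter e P ≤ A :=
  sInf_le h

theorem maxCenter_le [Finite G] (e : ℕ) (P : Subgroup G) : maxCenter e P ≤ P := by
  obtain ⟨A, hA⟩ := exists_mem_maxAbExp e P
  exact (maxCenter_le_of_mem hA).trans hA.1

theorem card_lt_of_lt [Finite G] {X Y : Subgroup G} (h : X < Y) : Nat.card X < Nat.card Y :=
  lt_of_le_of_ne (card_le_of_le h.le) fun he => h.ne (eq_of_le_of_card_ge h.le he.ge)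

theorem mem_maxCenter [Finite G] {P : Subgroup G} {x : G} (hx : x ∈ P) (hpow : x ^ e = 1)
    (hc : ∀ A ∈ maxAbExp e P, ∀ a ∈ A, a * x = x * a) : x ∈ maxCenter e P := by
  refine mem_sInf.2 fun A hA => ?_
  set B := closure ((A : Set G) ∪ {x}) with hBdef
  have hBP : B ≤ P := (closure_le _).2 (Set.union_subset hA.1 (by simpa using hx))
  have hcomm : IsMulCommutative B := by
    refine isMulCommutative_closure ?_
    rintro a (ha | ha) b (hb | hb)
    · exact comm_of_mem hA.2.1.1 ha hb
    · rw [Set.mem_singleton_iff.1 hb]; exact hc A hA a ha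
    · rw [Set.mem_singleton_iff.1 ha]; exact (hc A hA b hb).symm
    · rw [Set.mem_singleton_iff.1 ha, Set.mem_singleton_iff.1 hb]
  have hexp : ∀ b ∈ B, b ^ e = 1 := by
    intro b hb
    induction hb using closure_induction with
    | mem z hz =>
      rcases hz with hz | hz
      · exact hA.2.1.2 z hz
      · rw [Set.mem_singleton_iff.1 hz]; exact hpow
    | one => exact one_pow e
    | mul u v hu hv ihu ihv =>
      have huv : Commute u v := comm_of_mem hcomm hu hv
      rw [huv.mul_pow, ihu, ihv, one_mul]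
    | inv u _ ih => rw [inv_pow, ih, inv_one]
  have hAB : A ≤ B := fun a ha => subset_closure (Or.inl ha)
  rw [Subgroup.eq_of_le_of_card_ge hAB (hA.2.2 B hBP ⟨hcomm, hexp⟩)]
  exact subset_closure (Or.inr rfl)

theorem map_mem_maxAbExp {f : G →* H} (hf : Function.Injective f) {P A : Subgroup G}
    (hA : A ∈ maxAbExp e P) : A.map f ∈ maxAbExp e (P.map f) := by
  refine ⟨map_mono hA.1, (abExp_map_iff hf).2 hA.2.1, fun B hB hBe => ?_⟩
  have hBr : B ≤ f.range := hB.trans (Subgroup.map_le_range f P)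
  have e1 : (B.comap f).map f = B := map_comap_eq_self hBr
  have h1 : B.comap f ≤ P :=
    (comap_mono hB).trans (le_of_eq (comap_map_eq_self_of_injective hf P))
  have := hA.2.2 _ h1 ((abExp_map_iff hf).1 (by rwa [e1]))
  rw [← e1, CfsgLib.Base.card_map_of_injective hf, CfsgLib.Base.card_map_of_injective hf]
  exact this

theorem exists_map_eq_of_mem_maxAbExp {f : G →* H} (hf : Function.Injective f) {P : Subgroup G}
    {B : Subgroup H} (hB : B ∈ maxAbExp e (P.map f)) : ∃ A ∈ maxAbExp e P, A.map f = B := by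
  have e1 : (B.comap f).map f = B := map_comap_eq_self (hB.1.trans (Subgroup.map_le_range f P))
  refine ⟨B.comap f, ⟨(comap_mono hB.1).trans (le_of_eq (comap_map_eq_self_of_injective hf P)),
    (abExp_map_iff hf).1 (e1.symm ▸ hB.2.1), fun C hC hCe => ?_⟩, e1⟩
  have h := hB.2.2 (C.map f) (map_mono hC) ((abExp_map_iff hf).2 hCe)
  rwa [← e1, CfsgLib.Base.card_map_of_injective hf, CfsgLib.Base.card_map_of_injective hf] at h

theorem map_maxCenter [Finite G] {f : G →* H} (hf : Function.Injective f) (P : Subgroup G) :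
    (maxCenter e P).map f = maxCenter e (P.map f) := by
  refine le_antisymm (le_sInf fun B hB => ?_) fun y hy => ?_
  · obtain ⟨A, hA, rfl⟩ := exists_map_eq_of_mem_maxAbExp hf hB
    exact map_mono (sInf_le hA)
  · obtain ⟨A, hA⟩ := exists_mem_maxAbExp e P
    obtain ⟨x, -, rfl⟩ := mem_sInf.1 hy _ (map_mem_maxAbExp hf hA)
    refine mem_map_of_mem f (mem_sInf.2 fun C hC => ?_)
    exact (mem_map_iff_mem hf).1 (mem_sInf.1 hy _ (map_mem_maxAbExp hf hC))

theorem maxCenter_eq_map_top [Finite G] (P : Subgroup G) :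
    maxCenter e P = (maxCenter e (⊤ : Subgroup P)).map P.subtype := by
  rw [map_maxCenter P.subtype_injective, ← MonoidHom.range_eq_map, range_subtype]

theorem map_maxCenter_of_injective [Finite G] (f : G →* H) (P : Subgroup G)
    (hf : Function.Injective (f.comp P.subtype)) :
    (maxCenter e P).map f = maxCenter e (P.map f) := by
  rw [maxCenter_eq_map_top, Subgroup.map_map, map_maxCenter hf, ← Subgroup.map_map,
    ← MonoidHom.range_eq_map, range_subtype]

theorem maxCenter_le_normalizer [Finite G] (P : Subgroup G) :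
    normalizer (P : Set G) ≤ normalizer (maxCenter e P : Set G) := fun g hg => by
  rw [mem_normalizer_iff_map_conj_eq] at hg ⊢
  show (maxCenter e P).map (MulAut.conj g).toMonoidHom = maxCenter e P
  rw [map_maxCenter (MulAut.conj g).injective]
  exact congrArg (maxCenter e) hg

theorem maxAbExp_mono {P U A : Subgroup G} (hUP : U ≤ P) (hA : A ∈ maxAbExp e P) (hAU : A ≤ U) :
    maxAbExp e U = {B | B ∈ maxAbExp e P ∧ B ≤ U} := by
  ext B
  constructor
  · rintro ⟨hBU, hBe, hB⟩
    exact ⟨⟨hBU.trans hUP, hBe, fun C hC hCe => (hA.2.2 C hC hCe).trans (hB A hAU hA.2.1)⟩, hBU⟩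
  · rintro ⟨⟨-, hBe, hB⟩, hBU⟩
    exact ⟨hBU, hBe, fun C hC hCe => hB C (hC.trans hUP) hCe⟩

theorem maxCenter_comm [Finite G] (e : ℕ) (P : Subgroup G) :
    ∀ x ∈ maxCenter e P, ∀ y ∈ maxCenter e P, x * y = y * x := by
  obtain ⟨A, hA⟩ := exists_mem_maxAbExp e P
  exact fun x hx y hy => comm_of_mem hA.2.1.1 (sInf_le hA hx) (sInf_le hA hy)

theorem mk_mem_pCore_iff_mem_comap {p : ℕ} {C : Subgroup G} [C.Normal] {a : G} :
    (QuotientGroup.mk a : G ⧸ C) ∈ pCore p (G ⧸ C) ↔
      a ∈ (pCore p (G ⧸ C)).comap (QuotientGroup.mk' C) := Iff.rfl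

/-- Quadratic `p`-elements on normal `p`-subgroups act as elements of `O_p`. -/
def QuadStable (p : ℕ) (G : Type*) [Group G] : Prop :=
  ∀ (B : Subgroup G) [B.Normal], IsPGroup p B → ∀ a : G, IsPGroup p (zpowers a) →
    ⁅⁅B, zpowers a⁆, zpowers a⁆ = ⊥ →
      (QuotientGroup.mk a : G ⧸ centralizer (B : Set G)) ∈ pCore p (G ⧸ centralizer (B : Set G))

theorem quadStable_of_isPStableOn {p : ℕ}
    (h : ∀ (P : Subgroup G) [P.Normal], IsPGroup p P → IsPStableOn p P) : QuadStable p G :=
  fun B _ hB a _ hq => h B hB a hq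

theorem quadratic_le {p : ℕ} [Finite G] [Fact p.Prime] (hst : QuadStable p G) {B A : Subgroup G}
    [B.Normal] (hB : IsPGroup p B) (hA : IsPGroup p A) (hAc : IsMulCommutative A)
    (hBA : B ≤ normalizer (A : Set G)) :
    A ≤ (pCore p (G ⧸ centralizer (B : Set G))).comap (QuotientGroup.mk' _) := by
  intro a ha
  refine hst B hB a (hA.to_le ((zpowers_le).2 ha)) (le_bot_iff.1 ?_)
  refine (commutator_mono (commutator_mono le_rfl ((zpowers_le).2 ha)) ((zpowers_le).2 ha)).trans ?_
  refine (commutator_mono ?_ le_rfl).trans (commutator_self_eq_bot_iff.2 hAc).le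
  rw [commutator_comm]
  exact commutator_le_of_le_normalizer hBA

theorem isPGroup_maxAbExp {p : ℕ} {P A : Subgroup G} (hP : IsPGroup p P) (hA : A ∈ maxAbExp e P) :
    IsPGroup p A :=
  hP.to_le hA.1

/-- The core step: `Z ⊓ B` is normal for every normal `p`-subgroup `B`. -/
theorem maxCenter_inf_normal_of_closed [Finite G] {p : ℕ} [Fact p.Prime] (hp : p ≠ 2) (he : Odd e ∨ e = 0)
    (hst : QuadStable p G) (S : Sylow p G) (D0 : Subgroup G) (hD0 : D0 ≤ (S : Subgroup G))
    (hcl : ∀ x ∈ D0, ∀ g : G, g * x * g⁻¹ ∈ (S : Subgroup G) → g * x * g⁻¹ ∈ D0) :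
    ∀ n : ℕ, ∀ (B : Subgroup G) [B.Normal], Nat.card B = n → IsPGroup p B →
      (maxCenter e D0 ⊓ B).Normal := by
  intro n
  induction n using Nat.strong_induction_on with
  | _ n ih =>
  intro B _ hn hB
  set Z := maxCenter e D0 with hZdef
  set T := Z ⊓ B with hTdef
  have hBS : B ≤ (S : Subgroup G) := hB.le_sylow_of_normal S
  have hSD0 : (S : Subgroup G) ≤ normalizer (D0 : Set G) := fun s hs => mem_normalizer_iff.2 fun x =>
    ⟨fun hx => hcl x hx s (mul_mem (mul_mem hs (hD0 hx)) (inv_mem hs)), fun hx => by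
      have h := hcl _ hx s⁻¹ (by
        have hxS : x ∈ (S : Subgroup G) := by
          simpa [mul_assoc] using mul_mem (mul_mem (inv_mem hs) (hD0 hx)) hs
        simpa [mul_assoc] using hxS)
      simpa [mul_assoc] using h⟩
  have hSZ : (S : Subgroup G) ≤ normalizer (Z : Set G) :=
    hSD0.trans (maxCenter_le_normalizer _)
  by_cases hB0 : B = ⊥
  · rw [hTdef, hB0, inf_bot_eq]; infer_instance
  by_cases hnc : normalClosure (T : Set G) < B
  swap
  · have hcl' : normalClosure (T : Set G) = B :=
      eq_of_le_of_not_lt (normalClosure_le_normal inf_le_right) hnc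
    -- the derived subgroup of `B` lies in `Z`
    have hlt : ⁅B, B⁆ < B := by
      haveI : Nontrivial B := (nontrivial_iff_ne_bot B).2 hB0
      haveI : Group.IsNilpotent B := hB.isNilpotent
      refine lt_of_le_of_ne (commutator_le_self B) fun hEq => ?_
      have h2 : ⁅(⊤ : Subgroup B), (⊤ : Subgroup B)⁆ = (⊤ : Subgroup B) := by
        refine map_injective B.subtype_injective ?_
        rw [map_commutator, ← MonoidHom.range_eq_map, range_subtype, hEq]
      exact (Group.IsSolvable.commutator_lt_top_of_nontrivial (G := B)).ne h2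
    have hW : (Z ⊓ ⁅B, B⁆).Normal :=
      ih _ (hn ▸ card_lt_of_lt hlt) _ rfl (hB.to_le (commutator_le_self B))
    have hB'Z : ⁅B, B⁆ ≤ Z := by
      set W := Z ⊓ ⁅B, B⁆
      haveI : W.Normal := hW
      have hK : T ≤ (centralizer ((B.map (QuotientGroup.mk' W) : Subgroup (G ⧸ W)) : Set (G ⧸ W))).comap
          (QuotientGroup.mk' W) := by
        intro t ht
        refine mem_centralizer_iff.2 ?_
        rintro _ ⟨b, hb, rfl⟩
        rw [← commutatorElement_eq_one_iff_mul_comm, ← map_commutatorElement,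
          QuotientGroup.mk'_apply, QuotientGroup.eq_one_iff]
        refine mem_inf.2 ⟨?_, commutator_mem_commutator hb (mem_inf.1 ht).2⟩
        have e1 : ⁅b, t⁆ = (b * t * b⁻¹) * t⁻¹ := by group
        rw [e1]
        exact mul_mem ((mem_normalizer_iff.1 (hSZ (hBS hb)) t).1 (mem_inf.1 ht).1)
          (inv_mem (mem_inf.1 ht).1)
      haveI : (B.map (QuotientGroup.mk' W)).Normal :=
        Normal.map ‹B.Normal› _ (QuotientGroup.mk'_surjective _)
      have hK' := normalClosure_le_normal (N := (centralizer ((B.map (QuotientGroup.mk' W)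
        : Subgroup (G ⧸ W)) : Set (G ⧸ W))).comap (QuotientGroup.mk' W)) hK
      rw [hcl'] at hK'
      refine le_trans (?_ : ⁅B, B⁆ ≤ W) inf_le_left
      rw [← map_mk'_eq_bot_iff, map_commutator, commutator_eq_bot_iff_le_centralizer]
      exact map_le_iff_le_comap.2 hK'
    set N := normalizer (T : Set G) with hNdef
    set L := N.normalCore with hLdef
    haveI : L.Normal := normalCore_normal N
    have hSN : (S : Subgroup G) ≤ N := by
      refine le_trans ?_ (normalizer_inf_le _ _)
      exact le_inf hSZ (by rw [normalizer_eq_top]; exact le_top)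
    have hCL : centralizer (B : Set G) ≤ L := by
      refine normal_le_normalCore.2 fun c hc => mem_normalizer_iff.2 fun t => ?_
      constructor
      · intro ht
        rwa [← mem_centralizer_iff.1 hc t (mem_inf.1 ht).2, mul_inv_cancel_right]
      · intro ht
        have h1 := mem_centralizer_iff.1 hc _ (mem_inf.1 ht).2
        have h2 : c * t * c⁻¹ = t := by
          calc c * t * c⁻¹ = c⁻¹ * (c * (c * t * c⁻¹)) := by group
            _ = c⁻¹ * ((c * t * c⁻¹) * c) := by rw [← h1]
            _ = _ := by group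
        rwa [h2] at ht
    set DL := D0 ⊓ L with hDLdef
    have hDLn : normalizer (((S : Subgroup G) ⊓ L : Subgroup G) : Set G) ≤ normalizer (DL : Set G) := by
      intro n hn
      refine mem_normalizer_iff.2 fun x => ⟨fun hx => ?_, fun hx => ?_⟩
      · have h := (mem_normalizer_iff.1 hn x).1 (mem_inf.2 ⟨hD0 hx.1, hx.2⟩)
        exact mem_inf.2 ⟨hcl x hx.1 n h.1, h.2⟩
      · have h := (mem_normalizer_iff.1 hn x).2 (mem_inf.2 ⟨hD0 hx.1, hx.2⟩)
        refine mem_inf.2 ⟨?_, h.2⟩
        have e2 : n⁻¹ * (n * x * n⁻¹) * n⁻¹⁻¹ = x := by group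
        have h3 := hcl _ hx.1 n⁻¹ (e2.symm ▸ h.1)
        rwa [e2] at h3
    by_cases hall : ∀ A ∈ maxAbExp e D0, A ≤ L
    · obtain ⟨A0, hA0⟩ := exists_mem_maxAbExp e D0
      have hmem : maxAbExp e DL = maxAbExp e D0 := by
        rw [maxAbExp_mono inf_le_left hA0 (le_inf hA0.1 (hall A0 hA0))]
        ext A
        exact ⟨fun h => h.1, fun h => ⟨h, le_inf h.1 (hall A h)⟩⟩
      have hZeq : Z = maxCenter e DL := by rw [hZdef, maxCenter, maxCenter, hmem]
      refine normalizer_eq_top_iff.1 (top_le_iff.1 fun g _ => ?_)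
      obtain ⟨l, hl, m, hm, rfl⟩ := exists_mul_normalizer S L g
      refine mul_mem (N.normalCore_le hl) (normalizer_inf_le _ _ (mem_inf.2 ⟨?_, ?_⟩))
      · exact hZeq ▸ maxCenter_le_normalizer DL (hDLn hm)
      · rw [normalizer_eq_top]; exact mem_top m
    exfalso
    push Not at hall
    obtain ⟨U, hU, hUL⟩ := hall
    obtain ⟨A, ⟨hA, hAL⟩, hmax⟩ := Set.exists_max_image
      {A : Subgroup G | A ∈ maxAbExp e D0 ∧ ¬ A ≤ L}
      (fun A => Nat.card ↥(A ⊓ B)) (Set.toFinite _) ⟨U, hU, hUL⟩
    by_cases hBN : B ≤ normalizer (A : Set G)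
    · -- quadratic action
      refine hAL ((quadratic_le hst hB (S.2.to_le (hA.1.trans hD0)) hA.2.1.1 hBN).trans ?_)
      set C := centralizer (B : Set G) with hCdef
      haveI : C.Normal := inferInstance
      set D := (pCore p (G ⧸ C)).comap (QuotientGroup.mk' C) with hDdef
      haveI : D.Normal := (pCore_normal p (G ⧸ C)).comap _
      obtain ⟨k, hk⟩ := pCore_eq_pow_card p (G ⧸ C)
      have hDsup : C ⊔ ((S : Subgroup G) ⊓ D) = D := eq_sup_sylow_inf S (le_comap_mk' C _) (k := k)
        (by rw [← card_map_mk'_eq_relIndex, CfsgLib.Base.map_mk'_comap, hk])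
      refine normal_le_normalCore.2 ?_
      rw [← hDsup]
      exact sup_le (hCL.trans (normalCore_le N)) (inf_le_left.trans hSN)
    -- replacement inside `S`
    set AS := A.subgroupOf (S : Subgroup G) with hASdef
    set BS := B.subgroupOf (S : Subgroup G) with hBSdef
    have hAmap : AS.map (S : Subgroup G).subtype = A := map_subgroupOf_eq_of_le (hA.1.trans hD0)
    have hBmap : BS.map (S : Subgroup G).subtype = B := map_subgroupOf_eq_of_le hBS
    have hAS : AbExp e AS := (abExp_map_iff (S : Subgroup G).subtype_injective).1 (hAmap.symm ▸ hA.2.1)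
    haveI : BS.Normal := inferInstance
    have hB'A : ⁅BS, BS⁆ ≤ AS := by
      rw [← map_le_map_iff_of_injective (f := (S : Subgroup G).subtype) (S : Subgroup G).subtype_injective,
        map_commutator, hBmap, hAmap]
      exact hB'Z.trans (maxCenter_le_of_mem hA)
    have hnot : ¬ BS ≤ normalizer (AS : Set (S : Subgroup G)) := by
      intro h
      refine hBN ?_
      rw [← hBmap, ← hAmap]
      exact (map_mono h).trans (le_normalizer_map _)
    obtain ⟨b, hb, hbN, hbA⟩ := exists_mem_normalizer_normalizer S.2 BS AS hnot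
    have F := replaceFacts S.2 (fun h => absurd h hp) hAS.1 hB'A hb hbN hbA
    set R := (replaced AS b).map (S : Subgroup G).subtype with hRdef
    haveI : (D0.subgroupOf (S : Subgroup G)).Normal := normal_subgroupOf_of_le_normalizer hSD0
    have hRD : R ≤ D0 :=
      (map_mono (F.le_normal (D0.subgroupOf (S : Subgroup G)) inferInstance (comap_mono hA.1))).trans
        (le_of_eq (map_subgroupOf_eq_of_le hD0))
    have hR : R ∈ maxAbExp e D0 := by
      refine ⟨hRD, (abExp_map_iff (S : Subgroup G).subtype_injective).2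
        ⟨F.comm, F.exponent e he hAS.2⟩, fun C hC hCe => ?_⟩
      rw [hRdef, card_map_subtype', F.card_eq, ← card_map_subtype', hAmap]
      exact hA.2.2 C hC hCe
    have hlt1 : A ⊓ B < R ⊓ B := by
      rw [← hBmap, ← hAmap, hRdef, ← map_inf _ _ _ (S : Subgroup G).subtype_injective,
        ← map_inf _ _ _ (S : Subgroup G).subtype_injective]
      exact (map_lt_map_iff_of_injective (S : Subgroup G).subtype_injective).2 F.inf_lt
    have hRL : R ≤ L := by
      by_contra hRL
      exact absurd (hmax R ⟨hR, hRL⟩) (Nat.not_le.2 (card_lt_of_lt hlt1))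
    have hX : maxCenter e D0 ≤ maxCenter e DL := by
      refine sInf_le_sInf ?_
      rw [maxAbExp_mono inf_le_left hR (le_inf hR.1 hRL)]
      exact fun C hC => hC.1
    have hXR : maxCenter e DL ≤ R := maxCenter_le_of_mem (by
      rw [maxAbExp_mono inf_le_left hR (le_inf hR.1 hRL)]
      exact ⟨hR, le_inf hR.1 hRL⟩)
    have hT : T ≤ (maxCenter e DL).normalCore := by
      intro t ht g
      show g * t * g⁻¹ ∈ maxCenter e DL
      obtain ⟨l, hl, m, hm, he'⟩ := exists_mul_normalizer S L g⁻¹
      have e1 : g * t * g⁻¹ = m⁻¹ * (l⁻¹ * t * l) * m⁻¹⁻¹ := by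
        rw [← inv_inv g, he']; group
      rw [e1]
      refine (mem_normalizer_iff.1 (maxCenter_le_normalizer DL (hDLn (inv_mem hm))) _).1 (hX ?_)
      have h1 := (mem_normalizer_iff.1 (N.normalCore_le (inv_mem hl)) t).1 ht
      simpa using (mem_inf.1 h1).1
    have hBR : B ≤ R := by
      calc B = normalClosure (T : Set G) := hcl'.symm
        _ ≤ (maxCenter e DL).normalCore := normalClosure_le_normal hT
        _ ≤ _ := (normalCore_le _).trans hXR
    refine F.inf_lt_B.ne (map_injective (S : Subgroup G).subtype_injective ?_)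
    rw [map_inf _ _ _ (S : Subgroup G).subtype_injective, hBmap, ← hRdef]
    exact inf_eq_right.2 hBR
  · -- reduce to the normal closure
    have h := ih _ (hn ▸ card_lt_of_lt hnc) (normalClosure (T : Set G)) rfl (hB.to_le hnc.le)
    have e1 : Z ⊓ normalClosure (T : Set G) = T :=
      le_antisymm (le_inf inf_le_left (inf_le_right.trans hnc.le))
        (le_inf inf_le_left le_normalClosure)
    rwa [e1] at h

/-- The core step for `D0 = S`. -/
theorem maxCenter_inf_normal [Finite G] {p : ℕ} [Fact p.Prime] (hp : p ≠ 2) (he : Odd e ∨ e = 0)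
    (hst : QuadStable p G) (S : Sylow p G) :
    ∀ n : ℕ, ∀ (B : Subgroup G) [B.Normal], Nat.card B = n → IsPGroup p B →
      (maxCenter e (S : Subgroup G) ⊓ B).Normal :=
  maxCenter_inf_normal_of_closed hp he hst S _ le_rfl fun _ _ _ h => h

/-- The ZJ-theorem for a strongly closed subgroup. -/
theorem maxCenter_normal_of_closed [Finite G] {p : ℕ} [Fact p.Prime] (hp : p ≠ 2)
    (he : Odd e ∨ e = 0) (hc : centralizer (pCore p G : Set G) ≤ pCore p G)
    (hst : QuadStable p G) (S : Sylow p G) (D0 : Subgroup G) (hD0 : D0 ≤ (S : Subgroup G))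
    (hcl : ∀ x ∈ D0, ∀ g : G, g * x * g⁻¹ ∈ (S : Subgroup G) → g * x * g⁻¹ ∈ D0) :
    (maxCenter e D0).Normal := by
  have hPN : pCore p G ≤ normalizer (D0 : Set G) := (pCore_le_sylow S).trans fun s hs =>
    mem_normalizer_iff.2 fun x => ⟨fun hx => hcl x hx s (mul_mem (mul_mem hs (hD0 hx)) (inv_mem hs)),
      fun hx => by
        have hxS : x ∈ (S : Subgroup G) := by
          simpa [mul_assoc] using mul_mem (mul_mem (inv_mem hs) (hD0 hx)) hs
        have h := hcl _ hx s⁻¹ (by simpa [mul_assoc] using hxS)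
        simpa [mul_assoc] using h⟩
  have hZle : maxCenter e D0 ≤ pCore p G := by
    refine (quadratic_le hst (isPGroup_pCore p G) (S.2.to_le ((maxCenter_le e _).trans hD0))
      ⟨⟨fun a b => Subtype.ext (maxCenter_comm e _ _ a.2 _ b.2)⟩⟩
      (hPN.trans (maxCenter_le_normalizer _))).trans ?_
    haveI : ((pCore p (G ⧸ centralizer (pCore p G : Set G))).comap (QuotientGroup.mk' _)).Normal :=
      (pCore_normal p _).comap _
    refine le_pCore ((isPGroup_pCore p _).comap_of_ker_isPGroup _ ?_)
    rw [QuotientGroup.ker_mk']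
    exact (isPGroup_pCore p G).to_le hc
  have h := maxCenter_inf_normal_of_closed (e := e) hp he hst S D0 hD0 hcl _ (pCore p G) rfl
    (isPGroup_pCore p G)
  rwa [inf_eq_left.2 hZle] at h

/-- Glauberman's ZJ-theorem. -/
theorem maxCenter_characteristic [Finite G] {p : ℕ} [Fact p.Prime] (hp : p ≠ 2)
    (he : Odd e ∨ e = 0) (hc : centralizer (pCore p G : Set G) ≤ pCore p G)
    (hst : QuadStable p G) (S : Sylow p G) : (maxCenter e (S : Subgroup G)).Characteristic := by
  set Z := maxCenter e (S : Subgroup G) with hZdef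
  have hPS : pCore p G ≤ (S : Subgroup G) := pCore_le_sylow S
  have hZp : IsPGroup p Z := S.2.to_le (maxCenter_le e _)
  have hZle : Z ≤ pCore p G := by
    refine (quadratic_le hst (isPGroup_pCore p G) hZp ⟨⟨fun a b =>
      Subtype.ext (maxCenter_comm e _ _ a.2 _ b.2)⟩⟩
      (hPS.trans (le_normalizer.trans (maxCenter_le_normalizer _)))).trans ?_
    haveI : ((pCore p (G ⧸ centralizer (pCore p G : Set G))).comap (QuotientGroup.mk' _)).Normal :=
      (pCore_normal p _).comap _
    refine le_pCore ((isPGroup_pCore p _).comap_of_ker_isPGroup _ ?_)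
    rw [QuotientGroup.ker_mk']
    exact (isPGroup_pCore p G).to_le hc
  have hn : Z.Normal := by
    have h := maxCenter_inf_normal (e := e) hp he hst S _ (pCore p G) rfl (isPGroup_pCore p G)
    rwa [inf_eq_left.2 hZle] at h
  refine characteristic_iff_map_eq.2 fun φ => ?_
  obtain ⟨g, hg⟩ := MulAction.exists_smul_eq G S (S.mapSurjective (f := φ.toMonoidHom) φ.surjective)
  rw [hZdef, map_maxCenter φ.injective]
  have hS : (S : Subgroup G).map φ.toMonoidHom = (S : Subgroup G).map (MulAut.conj g).toMonoidHom := by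
    rw [CfsgLib.Base.map_conj_eq_smul, ← Sylow.coe_subgroup_smul, hg]; rfl
  rw [hS, ← map_maxCenter (MulAut.conj g).injective]
  exact mem_normalizer_iff_map_conj_eq.1 (by rw [normalizer_eq_top]; exact mem_top g)

theorem centerThompsonAOf_eq [Finite G] (P : Subgroup G) :
    centerThompsonAOf P = maxCenter 0 P := by
  have hJ : thompsonSubgroupAOf P = sSup (maxAbExp 0 P) := by
    rw [thompsonSubgroupAOf, thompsonSubgroupA, ← image_maxAbelianSubgroups, sSup_image,
      sSup_eq_iSup, Subgroup.map_iSup]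
    simp_rw [Subgroup.map_iSup]
  rw [centerThompsonAOf, hJ]
  refine le_antisymm (fun x hx => ?_) fun x hx => ?_
  · obtain ⟨hx1, hx2⟩ := mem_inf.1 hx
    refine mem_maxCenter ((sSup_le fun A hA => hA.1 : sSup (maxAbExp 0 P) ≤ P) hx1) (pow_zero x)
      fun A hA a ha => mem_centralizer_iff.1 hx2 a (le_sSup hA ha)
  · obtain ⟨A, hA⟩ := exists_mem_maxAbExp 0 P
    refine mem_inf.2 ⟨le_sSup hA (sInf_le hA hx), ?_⟩
    suffices h : sSup (maxAbExp 0 P) ≤ centralizer ({x} : Set G) from
      mem_centralizer_iff.2 fun y hy => (mem_centralizer_iff.1 (h hy) x rfl).symm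
    refine sSup_le fun B hB b hb => mem_centralizer_iff.2 ?_
    rintro _ rfl
    exact comm_of_mem hB.2.1.1 (sInf_le hB hx) hb

end CfsgLib.PLocal
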