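import Mathlib
import Cfsg.Agent.Lib.PLocal.Frattini
import Cfsg.Agent.Lib.PGroups.Basic

/-!
The stable normal closure `W(S)` of `Ω₁(Z(S))`.
-/

set_option autoImplicit false
set_option linter.style.haveILetI false

namespace CfsgLib.PLocal

open Subgroup Cfsg CfsgLib.Base

universe u

variable {S : Type u} [Group S] {p : ℕ}

theorem omegaOne_center_le_stable :
    omegaOne p (Subgroup.center S) ≤ stableNormalClosure p S :=
  le_sInf fun _ hW => hW.1

theorem map_inf_centralizer {G H : Type*} [Group G] [Group H] {f : G →* H}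
    (hf : Function.Injective f) (K : Subgroup G) :
    (K ⊓ centralizer (K : Set G)).map f = K.map f ⊓ centralizer ((K.map f : Subgroup H) : Set H) := by
  ext y
  constructor
  · rintro ⟨x, hx, rfl⟩
    refine mem_inf.2 ⟨mem_map_of_mem f (mem_inf.1 hx).1, mem_centralizer_iff.2 ?_⟩
    rintro _ ⟨z, hz, rfl⟩
    rw [← map_mul, ← map_mul, mem_centralizer_iff.1 (mem_inf.1 hx).2 z hz]
  · intro hy
    obtain ⟨x, hx, rfl⟩ := (mem_inf.1 hy).1
    refine ⟨x, mem_inf.2 ⟨hx, mem_centralizer_iff.2 fun z hz => hf ?_⟩, rfl⟩
    rw [map_mul, map_mul]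
    exact mem_centralizer_iff.1 (mem_inf.1 hy).2 _ (mem_map_of_mem f hz)

theorem omegaOne_center_le_omegaCenterThompson [Finite S] :
    omegaOne p (Subgroup.center S) ≤ omegaCenterThompson p S := by
  refine omegaOne_mono (p := p) le_rfl |>.trans ((closure_le _).2 fun x hx => ?_)
  have hxc : ∀ a : S, a * x = x * a := fun a => mem_center_iff.1 hx.1 a
  obtain ⟨A, hA⟩ := exists_mem_maxElementaryAbelian p S
  have hxJ : x ∈ thompsonSubgroup p S := by
    refine le_thompsonSubgroup hA ?_
    rw [← maxEAOf_top] at hA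
    exact mem_of_max_of_commute hA (mem_top x) hx.2 fun a _ => hxc a
  exact mem_omegaOne (mem_inf.2 ⟨hxJ, mem_centralizer_iff.2 fun a _ => hxc a⟩) hx.2

theorem map_omegaCenterThompson_normal {H : Type u} [Group H] {τ : S →* H}
    (hτ : IsStableEmbedding p τ) : ((omegaCenterThompson p S).map τ).Normal := by
  obtain ⟨hinj, -, -, -, hJ, -⟩ := hτ
  rw [omegaCenterThompson, map_omegaOne hinj, map_inf_centralizer hinj]
  haveI := hJ
  refine normal_of_map_conj_le fun g => le_of_eq ?_
  rw [map_omegaOne (MulAut.conj g).injective, map_inf_centralizer (MulAut.conj g).injective,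
    show ((thompsonSubgroup p S).map τ).map (MulAut.conj g).toMonoidHom = (thompsonSubgroup p S).map τ
      from mem_normalizer_iff_map_conj_eq.1 (by rw [normalizer_eq_top]; exact mem_top g)]

theorem stableNormalClosure_le [Finite S] :
    stableNormalClosure p S ≤ omegaCenterThompson p S :=
  sInf_le ⟨omegaOne_center_le_omegaCenterThompson,
    fun _ _ _ hτ => map_omegaCenterThompson_normal hτ⟩

theorem map_center_mulEquiv {S' : Type u} [Group S'] (η : S ≃* S') :
    (Subgroup.center S).map η.toMonoidHom = Subgroup.center S' := by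
  ext y
  constructor
  · rintro ⟨x, hx, rfl⟩
    refine mem_center_iff.2 fun z => ?_
    obtain ⟨w, rfl⟩ := η.surjective z
    show η w * η x = η x * η w
    rw [← map_mul, ← map_mul, mem_center_iff.1 hx w]
  · intro hy
    refine ⟨η.symm y, mem_center_iff.2 fun z => η.injective ?_, η.apply_symm_apply y⟩
    rw [map_mul, map_mul, η.apply_symm_apply]
    exact mem_center_iff.1 hy (η z)

theorem isStableEmbedding_comp {S' H : Type u} [Group S'] [Group H] (η : S ≃* S') {τ : S' →* H}
    (hτ : IsStableEmbedding p τ) : IsStableEmbedding p (τ.comp η.toMonoidHom) := by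
  obtain ⟨hinj, hfin, ⟨P, hP⟩, hc, hJ, hst⟩ := hτ
  refine ⟨hinj.comp η.injective, hfin, ⟨P, ?_⟩, hc, ?_, ?_⟩
  · rw [hP, MonoidHom.range_eq_map, MonoidHom.range_eq_map, ← Subgroup.map_map,
      Subgroup.map_top_of_surjective η.toMonoidHom η.surjective]
  · rw [← Subgroup.map_map, map_thompsonSubgroup η]; exact hJ
  · intro V _ hV
    refine hst V (hV.trans (le_of_eq ?_))
    rw [← Subgroup.map_map, omegaCenterThompson, omegaCenterThompson, map_omegaOne η.injective,
      map_inf_centralizer η.injective, map_thompsonSubgroup η]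

theorem map_stableNormalClosure_le {S' : Type u} [Group S'] (η : S ≃* S') :
    (stableNormalClosure p S).map η.toMonoidHom ≤ stableNormalClosure p S' := by
  refine le_sInf fun W hW => map_le_iff_le_comap.2 (sInf_le ⟨map_le_iff_le_comap.1 ?_, fun H _ τ hτ => ?_⟩)
  · rw [map_omegaOne η.injective, map_center_mulEquiv]
    exact hW.1
  · have h := hW.2 H (τ.comp η.symm.toMonoidHom) (isStableEmbedding_comp η.symm hτ)
    rwa [← Subgroup.map_map,
      show W.map η.symm.toMonoidHom = W.comap η.toMonoidHom from (comap_equiv_eq_map_symm' η W).symm] at h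

theorem map_stableNormalClosure {S' : Type u} [Group S'] (η : S ≃* S') :
    (stableNormalClosure p S).map η.toMonoidHom = stableNormalClosure p S' := by
  refine le_antisymm (map_stableNormalClosure_le η) fun y hy => ?_
  exact ⟨η.symm y, map_stableNormalClosure_le η.symm ⟨y, hy, rfl⟩, η.apply_symm_apply y⟩

theorem stableNormalClosure_characteristic : (stableNormalClosure p S).Characteristic :=
  characteristic_iff_map_eq.2 fun η => map_stableNormalClosure η

theorem stableNormalClosure_ne_bot [Finite S] [Fact p.Prime] [Nontrivial S] (hS : IsPGroup p S) :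
    stableNormalClosure p S ≠ ⊥ := by
  intro hb
  haveI := hS.center_nontrivial
  exact omegaOne_ne_bot (hS.to_subgroup (Subgroup.center S)) ((nontrivial_iff_ne_bot _).1 inferInstance)
    (le_bot_iff.1 (hb ▸ omegaOne_center_le_stable))

/-- The image of `W(S)` under a stable embedding is normal. -/
theorem map_stableNormalClosure_normal [Finite S] {H : Type u} [Group H] {τ : S →* H}
    (hτ : IsStableEmbedding p τ) : ((stableNormalClosure p S).map τ).Normal := by
  refine normal_of_map_conj_le fun g => ?_
  haveI : Nonempty {W : Subgroup S | omegaOne p (Subgroup.center S) ≤ W ∧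
      ∀ (K : Type u) [Group K] (ρ : S →* K), IsStableEmbedding p ρ → (W.map ρ).Normal} :=
    ⟨⟨omegaCenterThompson p S, omegaOne_center_le_omegaCenterThompson,
      fun _ _ _ hρ => map_omegaCenterThompson_normal hρ⟩⟩
  rw [stableNormalClosure, sInf_eq_iInf', Subgroup.map_iInf τ hτ.1,
    Subgroup.map_iInf _ (MulAut.conj g).injective]
  exact iInf_mono fun W => (le_of_eq (mem_normalizer_iff_map_conj_eq.1 (by
    haveI := W.2.2 H τ hτ
    rw [normalizer_eq_top]; exact mem_top g)))

end CfsgLib.PLocal
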