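import Mathlib
import Cfsg.Agent.Lib.PLocal.Frattini
import Cfsg.Agent.Lib.PLocal.Stable

/-!
Thompson factorizability and quotients by `O_{p'}`.
-/

set_option autoImplicit false
set_option linter.style.haveILetI false

namespace CfsgLib.PLocal

open Subgroup Cfsg CfsgLib.Base

variable {G : Type*} [Group G] {p : ℕ}

section Quot

variable [Finite G] [Fact p.Prime] (N : Subgroup G) [N.Normal] (hN : (Nat.card N).Coprime p)

include hN in
theorem injective_mk'_comp_subtype {P : Subgroup G} (hP : IsPGroup p P) :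
    Function.Injective ((QuotientGroup.mk' N).comp P.subtype) := by
  rw [← MonoidHom.ker_eq_bot_iff, eq_bot_iff]
  intro x hx
  have h2 : (x : G) ∈ N := (QuotientGroup.eq_one_iff (x : G)).1 hx
  exact Subtype.ext (mem_bot.1 ((inf_eq_bot_of_isPGroup_of_coprime hP hN).le ⟨x.2, h2⟩))

include hN in
theorem map_mk'_thompsonSubgroupOf {P : Subgroup G} (hP : IsPGroup p P) :
    (thompsonSubgroupOf p P).map (QuotientGroup.mk' N) =
      thompsonSubgroupOf p (P.map (QuotientGroup.mk' N)) := by
  have h := map_thompsonSubgroupOf (p := p) (injective_mk'_comp_subtype N hN hP) (⊤ : Subgroup P)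
  rw [thompsonSubgroupOf_eq_sSup p (⊤ : Subgroup P), ← thompsonSubgroup_eq_sSup,
    ← Subgroup.map_map, ← Subgroup.map_map, ← MonoidHom.range_eq_map, range_subtype] at h
  exact h

include hN in
theorem map_mk'_omegaCenter {P : Subgroup G} (hP : IsPGroup p P) :
    (omegaOne p (P ⊓ centralizer (P : Set G))).map (QuotientGroup.mk' N) =
      omegaOne p (P.map (QuotientGroup.mk' N) ⊓
        centralizer ((P.map (QuotientGroup.mk' N) : Subgroup (G ⧸ N)) : Set (G ⧸ N))) := by
  have e1 : ((⊤ : Subgroup P) ⊓ centralizer ((⊤ : Subgroup P) : Set P)).map P.subtype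
      = P ⊓ centralizer (P : Set G) := by
    rw [map_inf_centralizer P.subtype_injective, ← MonoidHom.range_eq_map, range_subtype]
  have e2 := map_inf_centralizer (injective_mk'_comp_subtype N hN hP) (⊤ : Subgroup P)
  rw [← Subgroup.map_map, e1, ← Subgroup.map_map, ← MonoidHom.range_eq_map, range_subtype] at e2
  rw [← e1, ← map_omegaOne P.subtype_injective, Subgroup.map_map,
    map_omegaOne (injective_mk'_comp_subtype N hN hP), ← Subgroup.map_map, e1, e2]

end Quot

theorem isThompsonFactorizable_quotient_iff [Finite G] [Fact p.Prime] :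
    IsThompsonFactorizable p (G ⧸ pPrimeCore p G) ↔ IsThompsonFactorizable p G := by
  have hN := pPrimeCore_coprime p G
  have hO := pPrimeCore_quotient_pPrimeCore p G
  set f := QuotientGroup.mk' (pPrimeCore p G) with hfdef
  have hf : Function.Surjective f := QuotientGroup.mk'_surjective _
  have key : ∀ S : Sylow p G,
      (centralizer (omegaOne p ((S : Subgroup G) ⊓ centralizer ((S : Subgroup G) : Set G)) : Set G)).map f =
        centralizer (omegaOne p ((S.mapSurjective hf : Subgroup (G ⧸ pPrimeCore p G)) ⊓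
          centralizer ((S.mapSurjective hf : Subgroup (G ⧸ pPrimeCore p G)) : Set _)) : Set _) ∧
      (normalizer (thompsonSubgroupOf p (S : Subgroup G) : Set G)).map f =
        normalizer (thompsonSubgroupOf p (S.mapSurjective hf : Subgroup (G ⧸ pPrimeCore p G)) : Set _) := by
    intro S
    refine ⟨(map_centralizer_mk' _ hN (S.2.to_le ((omegaOne_le p _).trans inf_le_left))).trans ?_,
      (map_normalizer_mk' _ hN (S.2.to_le (thompsonSubgroupOf_le p _))).trans ?_⟩
    · rw [map_mk'_omegaCenter _ hN S.2]; rfl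
    · rw [map_mk'_thompsonSubgroupOf _ hN S.2]; rfl
  constructor
  · intro h S g
    obtain ⟨k1, k2⟩ := key S
    obtain ⟨x, hx, c, hc, n, hn, he⟩ := h (S.mapSurjective hf) (f g)
    rw [hO, mem_bot] at hx
    subst hx
    rw [one_mul] at he
    rw [← k1] at hc
    rw [← k2] at hn
    obtain ⟨c, hc, rfl⟩ := hc
    obtain ⟨n, hn, rfl⟩ := hn
    refine ⟨g * (c * n)⁻¹, ?_, c, hc, n, hn, by group⟩
    rw [← QuotientGroup.eq_one_iff, ← QuotientGroup.mk'_apply, map_mul, map_inv]
    show f g * (f (c * n))⁻¹ = 1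
    rw [map_mul, he, mul_inv_cancel]
  · intro h S y
    obtain ⟨T, rfl⟩ := Sylow.mapSurjective_surjective hf p S
    obtain ⟨g, rfl⟩ := hf y
    obtain ⟨k1, k2⟩ := key T
    obtain ⟨x, hx, c, hc, n, hn, rfl⟩ := h T g
    refine ⟨1, one_mem _, f c, k1 ▸ mem_map_of_mem f hc, f n, k2 ▸ mem_map_of_mem f hn, ?_⟩
    rw [map_mul, map_mul, show f x = 1 from (QuotientGroup.eq_one_iff x).2 hx]

end CfsgLib.PLocal
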