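import Cfsg.Agent.Lib.PLocal.Replacement
import Cfsg.Agent.Lib.PLocal.Thompson

/-!
Elementary abelian subgroups of largest order as best offenders; the replacement.
-/

set_option autoImplicit false

namespace CfsgLib.PLocal

open Subgroup Cfsg
open scoped commutatorElement

variable {G : Type*} [Group G] {p : ℕ}

theorem inf_centralizer_eq_inf_of_max [Finite G] {S V A : Subgroup G}
    (hV : IsElementaryAbelian p V) (hVS : V ≤ S) (hA : A ∈ maxEAOf p S) :
    V ⊓ centralizer (A : Set G) = A ⊓ V := by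
  refine le_antisymm (fun v hv => ?_) (fun v hv => ?_)
  · exact mem_inf.2 ⟨mem_of_max_of_commute hA (hVS (mem_inf.1 hv).1) (hV.2 v (mem_inf.1 hv).1)
      (mem_centralizer_iff.1 (mem_inf.1 hv).2), (mem_inf.1 hv).1⟩
  · exact mem_inf.2 ⟨(mem_inf.1 hv).2, le_centralizer_self hA.2.1 (mem_inf.1 hv).1⟩

theorem isBestOffenderOn_of_maxEAOf [Finite G] {S V A : Subgroup G}
    (hV : IsElementaryAbelian p V) (hVS : V ≤ S) (hA : A ∈ maxEAOf p S) :
    IsBestOffenderOn p V A := by
  have hAA : IsMulCommutative A := hA.2.1.1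
  refine ⟨fun B hB => ?_, ?_, fun a ha => by rw [hA.2.1.2 a ha]; exact one_mem _⟩
  · rw [inf_centralizer_eq_inf_of_max hV hVS hA]
    set C := V ⊓ centralizer (B : Set G)
    have hBe := isElementaryAbelian_of_le hA.2.1 hB
    have hBC : B ≤ centralizer (C : Set G) := (le_centralizer_iff).1 inf_le_right
    have h1 := card_sup_mul_card_inf B C (hBC.trans (centralizer_le_normalizer _))
    have h2 := hA.2.2 (B ⊔ C) (sup_le (hB.trans hA.1) (inf_le_left.trans hVS))
      (isElementaryAbelian_sup hBe (isElementaryAbelian_of_le hV inf_le_left) hBC)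
    rw [← h1]
    exact Nat.mul_le_mul h2 (card_le_of_le (inf_le_inf hB inf_le_left))
  · rw [commutator_self_eq_bot_iff.2 hAA]
    exact bot_le

theorem isBestOffenderOn_of_max [Finite G] {V A : Subgroup G}
    (hV : IsElementaryAbelian p V) (hVS : V ≤ ⊤) (hA : A ∈ maxElementaryAbelianSubgroups p G) :
    IsBestOffenderOn p V A :=
  isBestOffenderOn_of_maxEAOf (S := ⊤) hV hVS (by rwa [maxEAOf_top])

/-- Thompson replacement: `[V,A] C_A([V,A])`. -/
theorem maxEA_replacement [Fact p.Prime] [Finite G] {S V A : Subgroup G}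
    (hV : IsElementaryAbelian p V) (hVS : V ≤ S) (hAS : A ≤ S) (hA : A ∈ maxEAOf p S)
    (hAV : A ≤ normalizer (V : Set G)) :
    (⁅V, A⁆ ⊔ (A ⊓ centralizer ((⁅V, A⁆ : Subgroup G) : Set G))) ∈ maxEAOf p S ∧
    ⁅⁅V, ⁅V, A⁆ ⊔ (A ⊓ centralizer ((⁅V, A⁆ : Subgroup G) : Set G))⁆,
      ⁅V, A⁆ ⊔ (A ⊓ centralizer ((⁅V, A⁆ : Subgroup G) : Set G))⁆ = ⊥ ∧
    (⁅V, A⁆ ≠ ⊥ →
      ⁅V, ⁅V, A⁆ ⊔ (A ⊓ centralizer ((⁅V, A⁆ : Subgroup G) : Set G))⁆ ≠ ⊥) := by
  obtain ⟨hmax, hab, hpow⟩ := isBestOffenderOn_of_maxEAOf hV hVS hA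
  obtain ⟨h1, h2⟩ := replacement hV.1 hAV hab hmax (le_refl V)
  have hX : ⁅V, A⁆ ≤ V := commutator_le_of_le_normalizer hAV
  set X := ⁅V, A⁆ with hXdef
  set B := A ⊓ centralizer (X : Set G) with hBdef
  set C := V ⊓ centralizer (A : Set G) with hCdef
  have hXe := isElementaryAbelian_of_le hV hX
  have hXB : X ≤ centralizer (B : Set G) := (le_centralizer_iff).1 inf_le_right
  have hE : IsElementaryAbelian p (X ⊔ B) :=
    isElementaryAbelian_sup hXe (isElementaryAbelian_of_le hA.2.1 inf_le_left) hXB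
  have hCA : C = A ⊓ V := inf_centralizer_eq_inf_of_max hV hVS hA
  -- `|X B| = |A|`
  have c1 := card_sup_mul_card_inf X B (hXB.trans (centralizer_le_normalizer _))
  have c2 := card_sup_mul_card_inf_of_le hV.1 hX (inf_le_left : C ≤ V)
  have eXB : X ⊓ B = X ⊓ C := by
    rw [hCA, hBdef]
    ext x
    simp only [mem_inf]
    constructor
    · rintro ⟨hx, hxA, -⟩; exact ⟨hx, hxA, hX hx⟩
    · rintro ⟨hx, hxA, hxV⟩
      exact ⟨hx, hxA, mem_centralizer_iff.2 fun y hy => comm_of_mem hV.1 (hX hy) hxV⟩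
  have hcard : Nat.card A = Nat.card ↥(X ⊔ B) := by
    unfold offMeasure at h1
    rw [h2] at h1
    rw [eXB] at c1
    have hpos : 0 < Nat.card C * Nat.card ↥(X ⊓ C) := Nat.mul_pos Nat.card_pos Nat.card_pos
    refine Nat.eq_of_mul_eq_mul_right hpos ?_
    calc Nat.card A * (Nat.card C * Nat.card ↥(X ⊓ C))
        = Nat.card B * (Nat.card ↥(X ⊔ C) * Nat.card ↥(X ⊓ C)) := by
          rw [← mul_assoc, ← h1]; ring
      _ = Nat.card B * (Nat.card X * Nat.card C) := by rw [c2]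
      _ = (Nat.card X * Nat.card B) * Nat.card C := by ring
      _ = _ := by rw [← c1]; ring
  refine ⟨⟨sup_le (hX.trans hVS) (inf_le_left.trans hAS), hE,
    fun D hD hDe => (hA.2.2 D hD hDe).trans hcard.le⟩, ?_, fun hne h0 => ?_⟩
  · rw [commutator_eq_bot_iff_le_centralizer, Subgroup.commutator_le]
    intro v hv a ha
    rw [← SetLike.mem_coe,
      coe_mul_of_left_le_normalizer_right _ _ (hXB.trans (centralizer_le_normalizer _))] at ha
    obtain ⟨x, hx, b, hb, rfl⟩ := ha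
    have e : ⁅v, x⁆ = 1 :=
      (commutatorElement_eq_one_iff_mul_comm (g₁ := v) (g₂ := x)).2 (comm_of_mem hV.1 hv (hX hx))
    rw [comm_mul_right, e, one_mul]
    have hvb : ⁅v, b⁆ ∈ X := commutator_mem_commutator hv (mem_inf.1 hb).1
    rw [comm_of_mem hV.1 (hX hx) (hX hvb), mul_inv_cancel_right]
    exact le_centralizer_self hE |>.trans (centralizer_le le_rfl) (mem_sup_left hvb)
  · refine replacement_nontrivial hV.1 (isPGroup_of_isElementaryAbelian hV) hAV hab
      (fun a ha => ⟨1, by simpa using hpow a ha⟩) hmax (le_refl V) hne ?_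
    rw [eq_bot_iff, ← h0]
    exact commutator_mono le_rfl le_sup_right

end CfsgLib.PLocal
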