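import Cfsg.Agent.Lib.PLocal.OffenderGlobal
import Cfsg.Agent.Lib.Coprime.Action

/-!
The structure theorem under coprime action of an elementary abelian group.
-/

set_option autoImplicit false
set_option linter.style.haveILetI false
set_option linter.unusedSectionVars false

namespace CfsgLib.PLocal

open Subgroup Cfsg
open scoped commutatorElement

section Faithful

variable {G : Type*} [Group G]

/-- Conjugation on an invariant subgroup. -/
def actHom (F P : Subgroup G) (h : F ≤ normalizer (P : Set G)) : F →* MulAut P where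
  toFun f :=
    { toFun := fun z => ⟨(f : G) * z * (f : G)⁻¹, conj_mem_of_mem_normalizer (h f.2) z.2⟩
      invFun := fun z => ⟨(f : G)⁻¹ * z * (f : G), conj_mem_of_mem_normalizer' (h f.2) z.2⟩
      left_inv := fun z => Subtype.ext (by simp [mul_assoc])
      right_inv := fun z => Subtype.ext (by simp [mul_assoc])
      map_mul' := fun z z' => Subtype.ext (by simp) }
  map_one' := MulEquiv.ext fun z => Subtype.ext (by simp)
  map_mul' f f' := MulEquiv.ext fun z => Subtype.ext (by simp [mul_assoc])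

theorem actHom_eq_one_iff {F P : Subgroup G} {h : F ≤ normalizer (P : Set G)} {f : F} :
    actHom F P h f = 1 ↔ (f : G) ∈ centralizer (P : Set G) := by
  constructor
  · intro hf
    refine mem_centralizer_iff.2 fun z hz => ?_
    have h1 : (f : G) * z * (f : G)⁻¹ = z := congrArg Subtype.val (MulEquiv.congr_fun hf ⟨z, hz⟩)
    calc z * (f : G) = (f : G) * z * (f : G)⁻¹ * f := by rw [h1]
      _ = _ := by group
  · intro hf
    refine MulEquiv.ext fun z => Subtype.ext ?_
    show (f : G) * z * (f : G)⁻¹ = z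
    rw [← mem_centralizer_iff.1 hf z z.2, mul_inv_cancel_right]

theorem not_dvd_relIndex_inf [Finite G] {p : ℕ} {S L D : Subgroup G} (hSL : S ≤ L) (hDL : D ≤ L)
    (hn : L ≤ normalizer (D : Set G)) (h : ¬ p ∣ S.relIndex L) : ¬ p ∣ (S ⊓ D).relIndex D := by
  intro hd
  refine h (hd.trans ?_)
  have h1 := card_sup_mul_card_inf S D (hSL.trans hn)
  have h2 := relIndex_mul_relIndex ⊥ (S ⊓ D) D bot_le inf_le_right
  have h3 := relIndex_mul_relIndex ⊥ S (S ⊔ D) bot_le le_sup_left
  simp only [relIndex_bot_left] at h2 h3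
  have he : S.relIndex (S ⊔ D) = (S ⊓ D).relIndex D := by
    refine Nat.eq_of_mul_eq_mul_left (Nat.mul_pos (Nat.card_pos (α := S)) (Nat.card_pos (α := ↥(S ⊓ D)))) ?_
    calc _ = Nat.card S * S.relIndex (S ⊔ D) * Nat.card ↥(S ⊓ D) := by ring
      _ = Nat.card S * Nat.card D := by rw [h3, h1]
      _ = _ := by rw [← h2]; ring
  rw [← he, ← relIndex_mul_relIndex S (S ⊔ D) L le_sup_left (sup_le hSL hDL)]
  exact dvd_mul_right _ _

variable [Finite G] {p : ℕ} [Fact p.Prime] {V H A : Subgroup G}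

/-- An automorphism of order prime to `|H|` fixing a factor centralises its plane and the factor. -/
theorem FFMin.centralizes_of_coprime (hA : FFMin p V H A) {q : ℕ} [hq : Fact q.Prime] {z : G}
    (hz : z ^ q = 1) (hqH : ¬ q ∣ Nat.card H) (hzV : z ∈ normalizer (V : Set G))
    (hzE : z ∈ normalizer (factor p H A : Set G))
    (hfz : ∀ g ∈ closure ((H : Set G) ∪ {z}), g ∈ centralizer (V : Set G) → g = 1) :
    z ∈ centralizer ((⁅V, factor p H A⁆ : Subgroup G) : Set G) ∧
      z ∈ centralizer (factor p H A : Set G) := by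
  have hP := hA.isPlane_factor
  set E := factor p H A
  set P := ⁅V, E⁆
  have hzP : z ∈ normalizer (P : Set G) := mem_of_map_conj_eq (by
    rw [map_conj_commutator hzV, map_conj_eq_of_mem hzE])
  have hEd : Nat.card E ∣ Nat.card (MulAut P) := by
    refine card_dvd_of_injective (actHom E P le_normalizer_self_commutator) ?_
    rw [injective_iff_map_eq_one]
    exact fun f hf => Subtype.ext (mem_bot.1 (hP.faithful ▸ mem_inf.2 ⟨f.2, actHom_eq_one_iff.1 hf⟩))
  have hle := card_mulAut_le hP.card_eq fun y hy => hA.grp.elem.2 y (hP.le hy)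
  have hzp : z ∈ centralizer (P : Set G) := by
    have h1 : actHom (zpowers z) P (zpowers_le.2 hzP) ⟨z, mem_zpowers z⟩ = 1 := by
      rw [← orderOf_eq_one_iff]
      refine (hq.out.eq_one_or_self_of_dvd _ (orderOf_dvd_of_pow_eq_one ?_)).resolve_right fun h => ?_
      · rw [← map_pow]
        convert map_one (actHom (zpowers z) P (zpowers_le.2 hzP)) using 2
        exact Subtype.ext hz
      · have hd : q ∣ Nat.card (MulAut P) := h ▸ orderOf_dvd_natCard _
        have hE : Nat.card E ∣ Nat.card H := card_dvd_of_le hA.factor_le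
        have hmem : ∀ r : ℕ, r ∣ Nat.card E → q ≠ r := fun r hr hqr => hqH (hqr ▸ hr.trans hE)
        obtain ⟨c, hc⟩ := hEd
        have hcpos : 0 < c := by
          refine Nat.pos_of_ne_zero ?_
          rintro rfl
          haveI : Finite (MulAut P) := Finite.of_injective _ DFunLike.coe_injective
          exact (Nat.card_pos (α := MulAut P)).ne' (by rw [hc, mul_zero])
        rcases hP.card_eq_or with ⟨rfl, h6⟩ | ⟨rfl, h6⟩
        · rw [hc, h6] at hle hd
          have : c = 1 := by norm_num at hle; omega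
          rw [this, mul_one, show (6 : ℕ) = 2 * 3 by norm_num] at hd
          rcases (Nat.Prime.dvd_mul hq.out).1 hd with h2 | h2
          · exact hmem 2 (by rw [h6]; norm_num) ((Nat.prime_dvd_prime_iff_eq hq.out Nat.prime_two).1 h2)
          · exact hmem 3 (by rw [h6]; norm_num) ((Nat.prime_dvd_prime_iff_eq hq.out Nat.prime_three).1 h2)
        · rw [hc, h6] at hle hd
          have hc2 : c = 1 ∨ c = 2 := by norm_num at hle; omega
          have h48 : q ∣ 2 ^ 4 * 3 := by
            rcases hc2 with rfl | rfl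
            · exact hd.trans (by norm_num)
            · exact hd.trans (by norm_num)
          rcases (Nat.Prime.dvd_mul hq.out).1 h48 with h2 | h2
          · exact hmem 2 (by rw [h6]; norm_num)
              ((Nat.prime_dvd_prime_iff_eq hq.out Nat.prime_two).1 (hq.out.dvd_of_dvd_pow h2))
          · exact hmem 3 (by rw [h6]; norm_num) ((Nat.prime_dvd_prime_iff_eq hq.out Nat.prime_three).1 h2)
    exact actHom_eq_one_iff.1 h1
  refine ⟨hzp, mem_centralizer_iff.2 fun e he => ?_⟩
  rw [← commutatorElement_eq_one_iff_mul_comm]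
  refine hfz _ ?_ (mem_centralizer_iff.2 fun v hv => ?_)
  · show e * z * e⁻¹ * z⁻¹ ∈ closure ((H : Set G) ∪ {z})
    have h1 : e ∈ closure ((H : Set G) ∪ {z}) := subset_closure (Or.inl (hA.factor_le he))
    have h2 : z ∈ closure ((H : Set G) ∪ {z}) := subset_closure (Or.inr rfl)
    exact mul_mem (mul_mem (mul_mem h1 h2) (inv_mem h1)) (inv_mem h2)
  suffices h : V ≤ centralizer ({⁅e, z⁆} : Set G) from mem_centralizer_singleton_iff.1 (h hv)
  rw [← hP.sup_fix]
  refine sup_le (fun y hy => mem_centralizer_singleton_iff.2 ?_)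
    (fun y hy => mem_centralizer_singleton_iff.2 ?_)
  · have hy' : e⁻¹ * y * e ∈ P := conj_mem_of_mem_normalizer' (le_normalizer_self_commutator he) hy
    have a1 : z * (e⁻¹ * y * e) = (e⁻¹ * y * e) * z := (mem_centralizer_iff.1 hzp _ hy').symm
    have a2 : z * y = y * z := (mem_centralizer_iff.1 hzp y hy).symm
    calc y * ⁅e, z⁆ = e * ((e⁻¹ * y * e) * z) * e⁻¹ * z⁻¹ := by group
      _ = e * (z * (e⁻¹ * y * e)) * e⁻¹ * z⁻¹ := by rw [a1]
      _ = e * z * e⁻¹ * (y * z⁻¹) := by group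
      _ = e * z * e⁻¹ * (z⁻¹ * (z * y) * z⁻¹) := by group
      _ = e * z * e⁻¹ * (z⁻¹ * (y * z) * z⁻¹) := by rw [a2]
      _ = _ := by group
  · have hz' : z⁻¹ * y * z ∈ centralizer (E : Set G) :=
      conj_mem_of_mem_normalizer' (le_normalizer_of_mem_aux hzE) hy.2
    have a1 : e * y = y * e := mem_centralizer_iff.1 hy.2 e he
    have a2 : e * (z⁻¹ * y * z) = (z⁻¹ * y * z) * e := mem_centralizer_iff.1 hz' e he
    calc y * ⁅e, z⁆ = (y * e) * z * e⁻¹ * z⁻¹ := by group
      _ = (e * y) * z * e⁻¹ * z⁻¹ := by rw [a1]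
      _ = e * z * ((z⁻¹ * y * z) * e) * e⁻¹ * e⁻¹ * z⁻¹ := by group
      _ = e * z * (e * (z⁻¹ * y * z)) * e⁻¹ * e⁻¹ * z⁻¹ := by rw [a2]
      _ = e * z * e * (z⁻¹ * y * z * (e⁻¹ * e⁻¹) ) * z⁻¹ := by group
      _ = e * z * e⁻¹ * z⁻¹ * y := by
        have a3 : (z⁻¹ * y * z) * (e⁻¹ * e⁻¹) = (e⁻¹ * e⁻¹) * (z⁻¹ * y * z) :=
          ((show Commute e (z⁻¹ * y * z) from a2).inv_left.mul_left
            (show Commute e (z⁻¹ * y * z) from a2).inv_left).eq.symm
        rw [a3]; group
where
  le_normalizer_of_mem_aux {z : G} {E : Subgroup G} (hzE : z ∈ normalizer (E : Set G)) :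
      z ∈ normalizer (centralizer (E : Set G) : Set G) :=
    CfsgLib.Coprime.le_normalizer_centralizer (zpowers_le.2 hzE) (mem_zpowers z)

/-- The hypotheses on the coprime operator group. -/
structure FFOperators (q : ℕ) (V H X : Subgroup G) : Prop where
  le_normV : X ≤ normalizer (V : Set G)
  le_normH : X ≤ normalizer (H : Set G)
  elem : IsElementaryAbelian q X
  not_dvd : ¬ q ∣ Nat.card H
  faithful : (H ⊔ X) ⊓ centralizer (V : Set G) = ⊥

theorem FFMin.conj_min (hA : FFMin p V H A) {x : G} (hxV : x ∈ normalizer (V : Set G))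
    (hxH : x ∈ normalizer (H : Set G)) : FFMin p V H (A.map (MulAut.conj x).toMonoidHom) :=
  ⟨hA.grp, (map_mono hA.le).trans (map_conj_eq_of_mem hxH).le, hA.trans.conj hxV⟩

theorem map_conj_coreIn {x : G} (hxH : x ∈ normalizer (H : Set G)) :
    (coreIn p H).map (MulAut.conj x).toMonoidHom = coreIn p H := by
  haveI : (pPrimeCore p H).Characteristic := inferInstance
  exact map_conj_eq_of_mem (CfsgLib.Base.normalizer_le_normalizer_map_subtype _ _ hxH)

theorem map_conj_factor {x : G} (hxH : x ∈ normalizer (H : Set G)) :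
    (factor p H A).map (MulAut.conj x).toMonoidHom = factor p H (A.map (MulAut.conj x).toMonoidHom) := by
  rw [Subgroup.map_sup, map_commutator, map_conj_coreIn hxH]

variable {q : ℕ} [Fact q.Prime] {X : Subgroup G}

theorem FFOperators.centralizes (ho : FFOperators q V H X) (hA : FFMin p V H A) {z : G} (hz : z ∈ X)
    (hzE : z ∈ normalizer (factor p H A : Set G)) :
    z ∈ centralizer ((⁅V, factor p H A⁆ : Subgroup G) : Set G) ∧
      z ∈ centralizer (factor p H A : Set G) :=
  hA.centralizes_of_coprime (ho.elem.2 z hz) ho.not_dvd (ho.le_normV hz) hzE fun g hg hgV => by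
    refine mem_bot.1 (ho.faithful ▸ mem_inf.2 ⟨(closure_le _).2 ?_ hg, hgV⟩)
    rintro y (hy | rfl)
    · exact mem_sup_left hy
    · exact mem_sup_right hz

/-- Translates of a factor are equal to it or lie in the kernel of its plane. -/
theorem FFOperators.conj_cases (ho : FFOperators q V H X) (hA : FFMin p V H A) {x : G} (hx : x ∈ X) :
    (∀ e ∈ factor p H A, x * e * x⁻¹ = e) ∧ (∀ w ∈ ⁅V, factor p H A⁆, x * w * x⁻¹ = w) ∧
        x ∈ normalizer (factor p H A : Set G) ∨
      x ∉ normalizer (factor p H A : Set G) ∧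
      (∀ e ∈ factor p H A, x * e * x⁻¹ ∈ H ⊓ centralizer ((⁅V, factor p H A⁆ : Subgroup G) : Set G)) ∧
      (∀ w ∈ ⁅V, factor p H A⁆, x * w * x⁻¹ ∈ centralizer (factor p H A : Set G)) := by
  by_cases hn : x ∈ normalizer (factor p H A : Set G)
  · obtain ⟨h1, h2⟩ := ho.centralizes hA hx hn
    refine Or.inl ⟨fun e he => ?_, fun w hw => ?_, hn⟩
    · rw [← mem_centralizer_iff.1 h2 e he, mul_inv_cancel_right]
    · rw [← mem_centralizer_iff.1 h1 w hw, mul_inv_cancel_right]
  · refine Or.inr ⟨hn, ?_⟩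
    have hB := hA.conj_min (ho.le_normV hx) (ho.le_normH hx)
    have e := map_conj_factor (p := p) (A := A) (ho.le_normH hx)
    rcases hA.dichotomy hB with h | ⟨-, -, h1, h2⟩
    · exact absurd (mem_of_map_conj_eq (e.trans h)) hn
    constructor
    · intro y hy
      have hm : x * y * x⁻¹ ∈ factor p H (A.map (MulAut.conj x).toMonoidHom) :=
        e.le (mem_map_of_mem _ hy)
      exact ⟨hB.factor_le hm, le_centralizer_iff.1 h2 hm⟩
    · intro w hw
      refine h1 ?_
      rw [← e, ← map_conj_commutator (ho.le_normV hx)]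
      exact mem_map_of_mem _ hw

theorem FFOperators.coprime_card (ho : FFOperators q V H X) (m : ℕ) {e : G} (he : e ∈ H) :
    (q ^ m).Coprime (orderOf e) := by
  refine Nat.Coprime.pow_left m (((Fact.out : q.Prime).coprime_iff_not_dvd).2 fun h => ho.not_dvd ?_)
  refine h.trans ?_
  have := orderOf_dvd_natCard (⟨e, he⟩ : H)
  rwa [← Subgroup.orderOf_coe] at this

/-- Products of `X`-translates. -/
theorem exists_fixed_product {x₀ : G} (Y : Subgroup G)
    (hY : ∀ x ∈ Y, ∀ y ∈ Y, Commute (x * x₀ * x⁻¹) (y * x₀ * y⁻¹)) {N : Subgroup G} (Stab : Subgroup G) (hStab : Stab ≤ Y)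
    (h1 : ∀ x ∈ Stab, x * x₀ * x⁻¹ = x₀) (h2 : ∀ x ∈ Y, x ∉ Stab → x * x₀ * x⁻¹ ∈ N) :
    ∃ d : G, d ∈ centralizer (Y : Set G) ∧ d ∈ closure {g | ∃ x ∈ Y, g = x * x₀ * x⁻¹} ∧
      ∃ k ∈ N, d = x₀ ^ Nat.card Stab * k := by
  classical
  haveI : Fintype Y := Fintype.ofFinite _
  let B : Subgroup G := closure {g | ∃ x ∈ Y, g = x * x₀ * x⁻¹}
  have hB : IsMulCommutative B := by
    refine isMulCommutative_closure ?_
    rintro a ⟨x, hx, rfl⟩ b ⟨y, hy, rfl⟩
    exact hY x hx y hy
  letI : CommGroup B := { (inferInstance : Group B) with mul_comm := fun a b => hB.is_comm.comm a b }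
  let f : Y → B := fun x => ⟨(x : G) * x₀ * (x : G)⁻¹, subset_closure ⟨x, x.2, rfl⟩⟩
  set d : B := ∏ x : Y, f x
  refine ⟨d, mem_centralizer_iff.2 fun z hz => ?_, d.2, ?_⟩
  · have hinv : ∀ b ∈ B, z * b * z⁻¹ ∈ B := by
      intro b hb
      have : B.map (MulAut.conj z).toMonoidHom ≤ B := by
        rw [MonoidHom.map_closure, closure_le]
        rintro _ ⟨_, ⟨x, hx, rfl⟩, rfl⟩
        exact subset_closure ⟨z * x, mul_mem hz hx, by simp [mul_assoc]⟩
      exact this (mem_map_of_mem _ hb)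
    let σ : B →* B :=
      { toFun := fun b => ⟨z * b * z⁻¹, hinv b b.2⟩
        map_one' := Subtype.ext (by simp)
        map_mul' := fun a b => Subtype.ext (by simp [mul_assoc]) }
    have h : σ d = d := by
      rw [map_prod]
      refine Fintype.prod_equiv (Equiv.mulLeft (⟨z, hz⟩ : Y)) _ _ fun x => Subtype.ext ?_
      show z * ((x : G) * x₀ * (x : G)⁻¹) * z⁻¹ = (z * x) * x₀ * (z * (x : G))⁻¹
      group
    have h' : z * (d : G) * z⁻¹ = d := congrArg Subtype.val h
    calc z * (d : G) = z * d * z⁻¹ * z := by group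
      _ = _ := by rw [h']
  · refine ⟨((∏ x ∈ Finset.univ.filter (fun x : Y => ¬ (x : G) ∈ Stab), f x : B) : G), ?_, ?_⟩
    · exact Finset.prod_induction f (fun b => (b : G) ∈ N) (fun a b ha hb => mul_mem ha hb) (one_mem _)
        fun x hx => h2 x x.2 (Finset.mem_filter.1 hx).2
    · have hd : d = (∏ x ∈ Finset.univ.filter (fun x : Y => (x : G) ∈ Stab), f x) *
          ∏ x ∈ Finset.univ.filter (fun x : Y => ¬ (x : G) ∈ Stab), f x :=
        (Finset.prod_filter_mul_prod_filter_not _ _ _).symm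
      have hx₀ : x₀ ∈ B := subset_closure ⟨1, one_mem _, by simp⟩
      have hconst : (∏ x ∈ Finset.univ.filter (fun x : Y => (x : G) ∈ Stab), f x) = (⟨x₀, hx₀⟩ : B) ^ Nat.card Stab := by
        rw [Finset.prod_congr rfl (fun x hx => (Subtype.ext (h1 x (Finset.mem_filter.1 hx).2) : f x = ⟨x₀, hx₀⟩)),
          Finset.prod_const]
        congr 1
        rw [← Fintype.card_subtype, ← Nat.card_eq_fintype_card]
        exact Nat.card_congr ((subgroupOfEquivOfLe hStab).toEquiv)
      rw [hd, hconst]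
      rfl

theorem exists_pow_eq_of_coprime {e : G} {n : ℕ} (h : n.Coprime (orderOf e)) :
    ∃ i : ℕ, (e ^ i) ^ n = e := by
  obtain ⟨i, hi⟩ := exists_pow_eq_self_of_coprime h
  exact ⟨i, by rwa [← pow_mul, mul_comm, pow_mul]⟩

/-- The centraliser of the operators covers every factor. -/
theorem FFOperators.exists_lift (ho : FFOperators q V H X) (hA : FFMin p V H A) {e : G}
    (he : e ∈ factor p H A) :
    ∃ d ∈ H ⊓ centralizer (X : Set G),
      ∃ k ∈ H ⊓ centralizer ((⁅V, factor p H A⁆ : Subgroup G) : Set G), d = e * k := by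
  haveI : IsMulCommutative X := ho.elem.1
  set E := factor p H A
  set K := H ⊓ centralizer ((⁅V, E⁆ : Subgroup G) : Set G)
  set St := X ⊓ normalizer (E : Set G)
  have hXq : IsPGroup q X := isPGroup_of_isElementaryAbelian ho.elem
  obtain ⟨m, hm⟩ : ∃ m, Nat.card St = q ^ m := IsPGroup.iff_card.1 (hXq.to_le inf_le_left)
  obtain ⟨i, hi⟩ := exists_pow_eq_of_coprime (ho.coprime_card m (hA.factor_le he))
  set e₀ := e ^ i
  have he₀ : e₀ ∈ E := pow_mem he i
  have hcomm : ∀ x ∈ X, ∀ y ∈ X, Commute (x * e₀ * x⁻¹) (y * e₀ * y⁻¹) := by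
    intro x hx y hy
    by_cases hxy : x⁻¹ * y ∈ normalizer (E : Set G)
    · have := (ho.centralizes hA (mul_mem (inv_mem hx) hy) hxy).2
      have h1 := mem_centralizer_iff.1 this e₀ he₀
      have : y * e₀ * y⁻¹ = x * e₀ * x⁻¹ := by
        calc y * e₀ * y⁻¹ = x * ((x⁻¹ * y) * e₀) * (x⁻¹ * y)⁻¹ * x⁻¹ := by group
          _ = x * (e₀ * (x⁻¹ * y)) * (x⁻¹ * y)⁻¹ * x⁻¹ := by rw [h1]
          _ = _ := by group
      rw [this]
    · have hB := hA.conj_min (ho.le_normV hx) (ho.le_normH hx)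
      have hC := hA.conj_min (ho.le_normV hy) (ho.le_normH hy)
      have eB := map_conj_factor (p := p) (A := A) (ho.le_normH hx)
      have eC := map_conj_factor (p := p) (A := A) (ho.le_normH hy)
      rcases hB.dichotomy hC with h | ⟨-, h, -, -⟩
      · refine absurd (mem_of_map_conj_eq ?_) hxy
        refine Subgroup.map_injective (f := (MulAut.conj x).toMonoidHom) (MulAut.conj x).injective ?_
        rw [Subgroup.map_map, eB, ← h, ← eC]
        congr 1; ext z; simp [mul_assoc]
      · exact (mem_centralizer_iff.1 ((commutator_eq_bot_iff_le_centralizer.1 h) (eB.le (mem_map_of_mem _ he₀)))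
          _ (eC.le (mem_map_of_mem _ he₀))).symm
  have hfix : ∀ x ∈ St, x * e₀ * x⁻¹ = e₀ := fun x hx => by
    rw [← mem_centralizer_iff.1 (ho.centralizes hA hx.1 hx.2).2 e₀ he₀, mul_inv_cancel_right]
  have hmove : ∀ x ∈ X, x ∉ St → x * e₀ * x⁻¹ ∈ K := fun x hx hxs =>
    (((ho.conj_cases hA hx).resolve_left fun h => hxs ⟨hx, h.2.2⟩).2.1) e₀ he₀
  obtain ⟨d, hdX, hdB, k, hk, hd⟩ := exists_fixed_product X hcomm St inf_le_left hfix hmove
  have hdH : d ∈ H := (closure_le _).2 (by
    rintro _ ⟨x, hx, rfl⟩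
    exact conj_mem_of_mem_normalizer (ho.le_normH hx) (hA.factor_le he₀)) hdB
  exact ⟨d, ⟨hdH, hdX⟩, k, hk, by rw [hd, hm, hi]⟩

variable (hS3 : H = ⨆ A : {A : Subgroup G // A ≤ H ∧ IsBestOffenderOn p V A}, (A : Subgroup G))

include hS3

/-- A Sylow subgroup and the fixed points of the operators generate `H`. -/
theorem FFOperators.le_of_sylow_of_fixed (ho : FFOperators q V H X) (hh : FFGroup p V H)
    {S L M : Subgroup G} (hSL : S ≤ L) (hHL : H ≤ L) (hLH : L ≤ normalizer (H : Set G))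
    (hSp : IsPGroup p S) (hidx : ¬ p ∣ S.relIndex L) (hSM : S ≤ M)
    (hXM : H ⊓ centralizer (X : Set G) ≤ M) : H ≤ M := by
  have hp : p.Prime := Fact.out
  refine hh.le_of_forall_min hS3 fun A hA => ?_
  have hP := hA.isPlane_factor
  obtain ⟨hEK, -, -, -⟩ := hA.splitting hS3
  set E := factor p H A
  set T := S ⊓ H ⊓ E
  have hT : ¬ p ∣ T.relIndex E := not_dvd_relIndex_inf inf_le_right hA.factor_le
    (hA.le_normalizer_factor_H hS3) (not_dvd_relIndex_inf hSL hHL hLH hidx)
  -- all conjugates of `T` under `E` lie in `M`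
  set N := closure {g | ∃ e ∈ E, ∃ t ∈ T, g = e * t * e⁻¹}
  have hNM : N ≤ M := by
    refine (closure_le _).2 ?_
    rintro _ ⟨e, he, t, ht, rfl⟩
    obtain ⟨d, hd, k, hk, rfl⟩ := ho.exists_lift hA he
    have hkt : k * t = t * k :=
      (mem_centralizer_iff.1 ((commutator_eq_bot_iff_le_centralizer.1 hEK) ht.2) k hk)
    have e1 : e * t * e⁻¹ = e * k * t * (e * k)⁻¹ := by
      calc e * t * e⁻¹ = e * (t * k) * k⁻¹ * e⁻¹ := by group
        _ = e * (k * t) * k⁻¹ * e⁻¹ := by rw [hkt]
        _ = _ := by group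
    rw [SetLike.mem_coe, e1]
    exact mul_mem (mul_mem (hXM hd) (hSM ht.1.1)) (inv_mem (hXM hd))
  have hNE : N ≤ E := by
    refine (closure_le _).2 ?_
    rintro _ ⟨e, he, t, ht, rfl⟩
    exact mul_mem (mul_mem he ht.2) (inv_mem he)
  have hNn : E ≤ normalizer (N : Set G) := by
    intro g hg
    refine mem_of_map_conj_eq (Subgroup.eq_of_le_of_card_ge ?_ (CfsgLib.Base.card_map_conj g N).ge)
    rw [MonoidHom.map_closure, closure_le]
    rintro _ ⟨_, ⟨e, he, t, ht, rfl⟩, rfl⟩
    exact subset_closure ⟨g * e, mul_mem hg he, t, ht, by simp [mul_assoc]⟩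
  have hTN : T ≤ N := fun t ht => subset_closure ⟨1, one_mem _, t, ht, by simp⟩
  have hpN : ¬ p ∣ N.relIndex E := fun h => hT (h.trans (relIndex_dvd_of_le_left E hTN))
  haveI : (N.subgroupOf E).Normal := normal_subgroupOf_of_le_normalizer hNn
  intro a ha
  refine hNM ?_
  have h1 : (⟨a, (le_sup_right : A ≤ factor p H A) ha⟩ : E) ^ (N.subgroupOf E).index ∈ N.subgroupOf E :=
    Subgroup.pow_index_mem _ _
  have h2 : a ^ (N.relIndex E) ∈ N := h1
  obtain ⟨i, hi⟩ := exists_pow_eq_of_coprime (e := a) (n := N.relIndex E) (by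
    refine Nat.Coprime.coprime_dvd_right (orderOf_dvd_of_pow_eq_one (hA.elem.2 a ha)) ?_
    exact ((hp.coprime_iff_not_dvd).2 hpN).symm)
  rw [← hi, ← pow_mul, mul_comm, pow_mul]
  exact pow_mem h2 i

/-- A plane fixed by the operators. -/
theorem FFOperators.exists_fixed_plane (ho : FFOperators q V H X) (hA : FFMin p V H A) :
    ∃ W : Subgroup G, W ≤ V ⊓ centralizer (X : Set G) ∧ Nat.card W = p ^ 2 ∧
      H ⊓ centralizer (X : Set G) ≤ normalizer (W : Set G) ∧
      (∀ d ∈ H ⊓ centralizer (X : Set G), (d ∈ centralizer (W : Set G) ↔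
        d ∈ centralizer ((⁅V, factor p H A⁆ : Subgroup G) : Set G))) ∧
      H ⊓ centralizer (X : Set G) ≤ normalizer ((⁅V, factor p H A⁆ : Subgroup G) : Set G) := by
  classical
  have hP := hA.isPlane_factor
  have hp : p.Prime := Fact.out
  set E := factor p H A
  set P := ⁅V, E⁆
  have hHP : H ≤ normalizer (P : Set G) := fun g hg => mem_of_map_conj_eq (by
    rw [map_conj_commutator (hA.grp.le_norm hg), map_conj_eq_of_mem (hA.le_normalizer_factor_H hS3 hg)])
  letI : CommGroup V :=
    { (inferInstance : Group V) with mul_comm := fun a b => Subtype.ext (comm_of_mem hA.grp.elem.1 a.2 b.2) }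
  haveI : Fintype X := Fintype.ofFinite _
  let Ψ : P →* V :=
    { toFun := fun w => ∏ x : X, (⟨(x : G) * w * (x : G)⁻¹,
        conj_mem_of_mem_normalizer (ho.le_normV x.2) (hP.le w.2)⟩ : V)
      map_one' := Finset.prod_eq_one fun x _ => Subtype.ext (by simp)
      map_mul' := fun a b => by
        rw [← Finset.prod_mul_distrib]
        refine Finset.prod_congr rfl fun x _ => Subtype.ext ?_
        simp [mul_assoc] }
  have hequiv : ∀ d ∈ H ⊓ centralizer (X : Set G), ∀ w : P, ∃ w' : P,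
      (w' : G) = d * w * d⁻¹ ∧ (d * (Ψ w : G) * d⁻¹ = (Ψ w' : G)) := by
    intro d hd w
    refine ⟨⟨d * w * d⁻¹, conj_mem_of_mem_normalizer (hHP hd.1) w.2⟩, rfl, ?_⟩
    let σ : V →* V :=
      { toFun := fun v => ⟨d * v * d⁻¹, conj_mem_of_mem_normalizer (hA.grp.le_norm hd.1) v.2⟩
        map_one' := Subtype.ext (by simp)
        map_mul' := fun a b => Subtype.ext (by simp [mul_assoc]) }
    have h : σ (Ψ w) = Ψ ⟨d * w * d⁻¹, conj_mem_of_mem_normalizer (hHP hd.1) w.2⟩ := by
      show σ (∏ x : X, _) = ∏ x : X, _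
      rw [map_prod]
      refine Finset.prod_congr rfl fun x _ => Subtype.ext ?_
      show d * ((x : G) * w * (x : G)⁻¹) * d⁻¹ = (x : G) * (d * w * d⁻¹) * (x : G)⁻¹
      have hxd : (x : G) * d = d * x := mem_centralizer_iff.1 hd.2 x x.2
      calc d * ((x : G) * w * (x : G)⁻¹) * d⁻¹ = (d * x) * w * (d * x)⁻¹ := by group
        _ = ((x : G) * d) * w * ((x : G) * d)⁻¹ := by rw [hxd]
        _ = _ := by group
    exact congrArg Subtype.val h
  have hinj : Function.Injective Ψ := by
    rw [injective_iff_map_eq_one]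
    intro w hw
    set St := X ⊓ normalizer (E : Set G)
    set c : V := ∏ x ∈ Finset.univ.filter (fun x : X => ¬ (x : G) ∈ St),
      (⟨(x : G) * w * (x : G)⁻¹, conj_mem_of_mem_normalizer (ho.le_normV x.2) (hP.le w.2)⟩ : V)
    have hc : (c : G) ∈ centralizer (E : Set G) := by
      refine Finset.prod_induction _ (fun v : V => (v : G) ∈ centralizer (E : Set G))
        (fun a b ha hb => mul_mem ha hb) (one_mem _) fun x hx => ?_
      exact ((ho.conj_cases hA x.2).resolve_left
        fun h => (Finset.mem_filter.1 hx).2 ⟨x.2, h.2.2⟩).2.2 w w.2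
    have h1 : (⟨(w : G), hP.le w.2⟩ : V) ^ Nat.card St * c = 1 := by
      have hsplit := Finset.prod_filter_mul_prod_filter_not (Finset.univ : Finset X)
        (fun x : X => (x : G) ∈ St)
        (fun x => (⟨(x : G) * w * (x : G)⁻¹, conj_mem_of_mem_normalizer (ho.le_normV x.2) (hP.le w.2)⟩ : V))
      rw [← hw]
      refine Eq.trans ?_ hsplit
      congr 1
      have hfx : ∀ x ∈ Finset.univ.filter (fun x : X => (x : G) ∈ St),
          (⟨(x : G) * w * (x : G)⁻¹, conj_mem_of_mem_normalizer (ho.le_normV x.2) (hP.le w.2)⟩ : V) =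
            ⟨(w : G), hP.le w.2⟩ := fun x hx => Subtype.ext (by
        show (x : G) * w * (x : G)⁻¹ = w
        rw [← mem_centralizer_iff.1 (ho.centralizes hA x.2 (Finset.mem_filter.1 hx).2.2).1 w w.2,
          mul_inv_cancel_right])
      rw [Finset.prod_congr rfl hfx, Finset.prod_const]
      congr 1
      rw [← Fintype.card_subtype, ← Nat.card_eq_fintype_card]
      exact (Nat.card_congr (subgroupOfEquivOfLe inf_le_left).toEquiv).symm
    have h2 : (w : G) ^ Nat.card St * (c : G) = 1 := congrArg Subtype.val h1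
    have h3 : (w : G) ^ Nat.card St = 1 := mem_bot.1 (hP.inf_fix ▸ mem_inf.2
      ⟨pow_mem w.2 _, pow_mem (hP.le w.2) _, by rw [eq_inv_of_mul_eq_one_left h2]; exact (centralizer (E : Set G)).inv_mem hc⟩)
    obtain ⟨m, hm⟩ := IsPGroup.iff_card.1
      ((isPGroup_of_isElementaryAbelian ho.elem).to_le (inf_le_left : St ≤ X))
    refine Subtype.ext (orderOf_eq_one_iff.1 ?_)
    refine Nat.eq_one_of_dvd_coprimes (?_ : (Nat.card St).Coprime p)
      (orderOf_dvd_of_pow_eq_one h3) (orderOf_dvd_of_pow_eq_one (hA.grp.elem.2 _ (hP.le w.2)))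
    rw [hm]
    refine Nat.Coprime.pow_left m ((Nat.coprime_primes (Fact.out : q.Prime) hp).2 fun hqp => ho.not_dvd ?_)
    rw [hqp]
    exact (dvd_of_eq hA.trans.card_eq.symm).trans (card_dvd_of_le hA.le)
  refine ⟨Ψ.range.map V.subtype, le_inf (map_subtype_le _) ?_, ?_, ?_, ?_, inf_le_left.trans hHP⟩
  · rintro _ ⟨_, ⟨w, rfl⟩, rfl⟩
    refine mem_centralizer_iff.2 fun z hz => ?_
    let σ : V →* V :=
      { toFun := fun v => ⟨z * v * z⁻¹, conj_mem_of_mem_normalizer (ho.le_normV hz) v.2⟩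
        map_one' := Subtype.ext (by simp)
        map_mul' := fun a b => Subtype.ext (by simp [mul_assoc]) }
    have h : σ (Ψ w) = Ψ w := by
      show σ (∏ x : X, _) = ∏ x : X, _
      rw [map_prod]
      refine Fintype.prod_equiv (Equiv.mulLeft (⟨z, hz⟩ : X)) _ _ fun x => Subtype.ext ?_
      show z * ((x : G) * w * (x : G)⁻¹) * z⁻¹ = (z * x) * w * (z * (x : G))⁻¹
      group
    have h' : z * (Ψ w : G) * z⁻¹ = Ψ w := congrArg Subtype.val h
    show z * (Ψ w : G) = (Ψ w : G) * z
    calc z * (Ψ w : G) = z * (Ψ w : G) * z⁻¹ * z := by group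
      _ = _ := by rw [h']
  · rw [card_map_of_injective V.subtype_injective, ← Nat.card_congr (MonoidHom.ofInjective hinj).toEquiv]
    exact hP.card_eq
  · intro d hd
    refine mem_of_map_conj_eq (Subgroup.eq_of_le_of_card_ge ?_ (CfsgLib.Base.card_map_conj d _).ge)
    rintro _ ⟨_, ⟨_, ⟨w, rfl⟩, rfl⟩, rfl⟩
    obtain ⟨w', -, h⟩ := hequiv d hd w
    exact ⟨Ψ w', ⟨w', rfl⟩, h.symm⟩
  · intro d hd
    constructor
    · intro hc
      refine mem_centralizer_iff.2 fun w hw => ?_
      obtain ⟨w', hw', h⟩ := hequiv d hd ⟨w, hw⟩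
      have h1 : d * (Ψ ⟨w, hw⟩ : G) * d⁻¹ = Ψ ⟨w, hw⟩ := by
        have hcomm : (Ψ ⟨w, hw⟩ : G) * d = d * (Ψ ⟨w, hw⟩ : G) :=
          mem_centralizer_iff.1 hc _ ⟨Ψ ⟨w, hw⟩, ⟨_, rfl⟩, rfl⟩
        rw [← hcomm]; group
      have h2 : w' = ⟨w, hw⟩ := hinj (Subtype.ext (h.symm.trans h1))
      rw [h2] at hw'
      calc w * d = d * w * d⁻¹ * d := by rw [← hw']
        _ = _ := by group
    · intro hc
      refine mem_centralizer_iff.2 ?_
      rintro _ ⟨_, ⟨w, rfl⟩, rfl⟩
      obtain ⟨w', hw', h⟩ := hequiv d hd w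
      have h2 : w' = w := Subtype.ext (by rw [hw', ← mem_centralizer_iff.1 hc w w.2, mul_inv_cancel_right])
      rw [h2] at h
      show (Ψ w : G) * d = d * (Ψ w : G)
      calc (Ψ w : G) * d = d * (Ψ w : G) * d⁻¹ * d := by rw [h]
        _ = _ := by group

/-- The fixed points induce `SL₂(p)` on the plane. -/
theorem FFOperators.fixed_equiv (ho : FFOperators q V H X) (hA : FFMin p V H A)
    {D : Type*} [Group D] (f : D →* G) (hf : f.range = H ⊓ centralizer (X : Set G))
    {N : Subgroup D} [N.Normal]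
    (hN : ∀ d, d ∈ N ↔ f d ∈ centralizer ((⁅V, factor p H A⁆ : Subgroup G) : Set G)) :
    Nonempty ((D ⧸ N) ≃* Matrix.SpecialLinearGroup (Fin 2) (ZMod p)) := by
  have hP := hA.isPlane_factor
  obtain ⟨-, -, hsup, -⟩ := hA.splitting hS3
  set E := factor p H A
  set P := ⁅V, E⁆
  have hHP : H ≤ normalizer (P : Set G) := fun g hg => mem_of_map_conj_eq (by
    rw [map_conj_commutator (hA.grp.le_norm hg), map_conj_eq_of_mem (hA.le_normalizer_factor_H hS3 hg)])
  set θ := actHom H P hHP
  let ψ : D →* MulAut P := θ.comp (f.codRestrict H fun d => (hf.le ⟨d, rfl⟩).1)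
  let θE : E →* MulAut P := θ.comp (Subgroup.inclusion hA.factor_le)
  have hker : ψ.ker = N := by
    ext d
    rw [MonoidHom.mem_ker, hN]
    exact actHom_eq_one_iff (h := hHP)
  have hθE : Function.Injective θE := by
    rw [injective_iff_map_eq_one]
    exact fun e he => Subtype.ext (mem_bot.1 (hP.faithful ▸ mem_inf.2 ⟨e.2, (actHom_eq_one_iff (h := hHP) (f := Subgroup.inclusion hA.factor_le e)).1 he⟩))
  have hrange : ψ.range = θE.range := by
    apply le_antisymm
    · rintro _ ⟨d, rfl⟩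
      obtain ⟨e, he, k, hk, hek⟩ := (CfsgLib.Coprime.mem_sup_iff_of_le_normalizer
        ((hA.factor_le).trans (CfsgLib.Coprime.le_normalizer_inf_inf le_normalizer
          (CfsgLib.Coprime.le_normalizer_centralizer hHP)))).1 (hsup.symm.le (hf.le ⟨d, rfl⟩).1)
      refine ⟨⟨e, he⟩, ?_⟩
      show θ ⟨e, hA.factor_le he⟩ = θ ⟨f d, (hf.le ⟨d, rfl⟩).1⟩
      rw [show (⟨f d, (hf.le ⟨d, rfl⟩).1⟩ : H) = ⟨e, hA.factor_le he⟩ * ⟨k, hk.1⟩ from Subtype.ext hek.symm,
        map_mul, show θ ⟨k, hk.1⟩ = 1 from actHom_eq_one_iff.2 hk.2, mul_one]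
    · rintro _ ⟨e, rfl⟩
      obtain ⟨d, hd, k, hk, hdk⟩ := ho.exists_lift hA e.2
      obtain ⟨d', hd'⟩ := hf.ge hd
      refine ⟨d', ?_⟩
      show θ ⟨f d', (hf.le ⟨d', rfl⟩).1⟩ = θ ⟨e, hA.factor_le e.2⟩
      rw [show (⟨f d', (hf.le ⟨d', rfl⟩).1⟩ : H) = ⟨(e : G), hA.factor_le e.2⟩ * ⟨k, hk.1⟩ from
          Subtype.ext (hd'.trans hdk),
        map_mul, show θ ⟨k, hk.1⟩ = 1 from actHom_eq_one_iff.2 hk.2, mul_one]
  obtain ⟨eE⟩ := hP.equiv
  exact ⟨(QuotientGroup.quotientMulEquivOfEq hker.symm).trans ((QuotientGroup.quotientKerEquivRange ψ).trans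
    ((MulEquiv.subgroupCongr hrange).trans ((MonoidHom.ofInjective hθE).symm.trans eE)))⟩

omit hS3

end Faithful

end CfsgLib.PLocal

namespace CfsgLib.PLocal

open Subgroup Cfsg
open scoped commutatorElement

section Global

variable {G K₀ : Type*} [Group G] [Finite G] [Group K₀] [Finite K₀] {p : ℕ} [Fact p.Prime]
  {q : ℕ} [Fact q.Prime]

theorem map_iSup_omegaCenterSylow_le {X Y : Type*} [Group X] [Group Y] [Finite X] [Finite Y]
    (e : X ≃* Y) :
    (⨆ S : Sylow p X, omegaCenterSylow S).map e.toMonoidHom ≤ ⨆ S : Sylow p Y, omegaCenterSylow S := by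
  rw [Subgroup.map_iSup]
  refine iSup_le fun S => le_iSup_of_le (S.mapSurjective (f := e.toMonoidHom) e.surjective) (le_of_eq ?_)
  rw [omegaCenterSylow, omegaCenterSylow, map_omegaOne e.injective,
    Subgroup.map_inf _ _ _ e.injective, CfsgLib.Base.map_centralizer_mulEquiv]
  rfl

theorem map_iSup_omegaCenterSylow {X Y : Type*} [Group X] [Group Y] [Finite X] [Finite Y] (e : X ≃* Y) :
    (⨆ S : Sylow p X, omegaCenterSylow S).map e.toMonoidHom = ⨆ S : Sylow p Y, omegaCenterSylow S := by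
  refine le_antisymm (map_iSup_omegaCenterSylow_le e) ?_
  have h := map_mono (f := e.toMonoidHom) (map_iSup_omegaCenterSylow_le (p := p) e.symm)
  rwa [Subgroup.map_map, show e.toMonoidHom.comp e.symm.toMonoidHom = MonoidHom.id Y from by ext x; simp,
    Subgroup.map_id] at h

theorem pCore_range_eq_bot {Y : Type*} [Group Y] [Finite Y] (f : K₀ →* Y) {V : Subgroup K₀} [V.Normal]
    (hker : f.ker = centralizer (V : Set K₀))
    (hgen : V ≤ ⨆ S : Sylow p K₀, V ⊓ centralizer ((S : Subgroup K₀) : Set K₀)) :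
    pCore p f.range = ⊥ := by
  have e : (K₀ ⧸ centralizer (V : Set K₀)) ≃* f.range :=
    (QuotientGroup.quotientMulEquivOfEq hker.symm).trans (QuotientGroup.quotientKerEquivRange f)
  rw [← CfsgLib.Base.map_pCore_mulEquiv e, pCore_quotient_eq_bot hgen, Subgroup.map_bot]

/-- The data of a normal `p`-solvable subgroup `j(K₀)` under coprime operators. -/
theorem coprime_setup (j : K₀ →* G) (hj : Function.Injective j) [hn : j.range.Normal] (X : Subgroup G)
    (hX : IsElementaryAbelian q X) (hq : ¬ q ∣ Nat.card K₀) (hsep : IsPSolvable p K₀)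
    (hO : pPrimeCore p K₀ = ⊥) :
    ∃ (V : Subgroup G) (_ : V.Normal),
      V = (⨆ S : Sylow p K₀, omegaCenterSylow S).map j ∧ IsElementaryAbelian p V ∧
      (centralizer (V : Set G)).comap j =
        centralizer ((⨆ S : Sylow p K₀, omegaCenterSylow S : Subgroup K₀) : Set K₀) ∧
      FFGroup p (holBase V) (((thompsonSubgroup p K₀).map j).map (toHol V)) ∧
      ((thompsonSubgroup p K₀).map j).map (toHol V) = (⨆ B : {B : Subgroup (Hol V) //
        B ≤ ((thompsonSubgroup p K₀).map j).map (toHol V) ∧ IsBestOffenderOn p (holBase V) B},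
        (B : Subgroup (Hol V))) ∧
      FFOperators q (holBase V) (((thompsonSubgroup p K₀).map j).map (toHol V)) (X.map (toHol V)) ∧
      ((thompsonSubgroup p K₀).map j).Normal ∧
      (∀ k ∈ j.range, toHol V k ∈ centralizer ((X.map (toHol V) : Subgroup (Hol V)) : Set (Hol V)) →
        ∃ c ∈ j.range ⊓ centralizer (X : Set G), toHol V c = toHol V k) := by
  set VK := ⨆ S : Sylow p K₀, omegaCenterSylow S with hVK
  haveI : VK.Normal := iSup_omegaCenterSylow_normal
  let e := MonoidHom.ofInjective hj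
  set V := VK.map j with hV
  haveI hVn : V.Normal := by
    haveI : (⨆ S : Sylow p j.range, omegaCenterSylow S).Characteristic :=
      characteristic_iff_map_eq.2 fun η => map_iSup_omegaCenterSylow η
    have : V = (⨆ S : Sylow p j.range, omegaCenterSylow S).map j.range.subtype := by
      rw [← map_iSup_omegaCenterSylow (p := p) e, Subgroup.map_map]; rfl
    rw [this]
    exact CfsgLib.Base.normal_map_subtype _
  have hVe : IsElementaryAbelian p V :=
    isElementaryAbelian_map _ (isElementaryAbelian_iSup_omegaCenterSylow (centralizer_pCore_le hsep hO))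
  have hVK' : V ≤ j.range := map_le_range _ _
  have hJ : thompsonSubgroupOf p j.range = (thompsonSubgroup p K₀).map j := by
    rw [MonoidHom.range_eq_map, ← map_thompsonSubgroupOf hj, thompsonSubgroupOf_eq_sSup, maxEAOf_top]
    rfl
  have hcent : (centralizer (V : Set G)).comap j = centralizer (VK : Set K₀) := by
    ext k
    rw [mem_comap, mem_centralizer_iff, mem_centralizer_iff]
    constructor
    · exact fun h v hv => hj (by rw [map_mul, map_mul]; exact h (j v) (mem_map_of_mem _ hv))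
    · rintro h _ ⟨v, hv, rfl⟩
      rw [← map_mul, ← map_mul, h v hv]
  have hcore : pCore p ↥(j.range.map (toHol V)) = ⊥ := by
    rw [← MonoidHom.range_comp]
    refine pCore_range_eq_bot _ ?_ iSup_omegaCenterSylow_le
    rw [← hcent, ← MonoidHom.comap_ker, ker_toHol]
  obtain ⟨hh, hS3⟩ := ffGroup_of_normal (K := j.range) hVe hVK' ((isPSolvable_congr e).1 hsep) hcore
  rw [hJ] at hh hS3
  haveI := thompsonSubgroup_characteristic p ↥j.range
  have hJn : ((thompsonSubgroup p K₀).map j).Normal := by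
    rw [← hJ]; exact CfsgLib.Base.normal_map_subtype _
  have hcardK : Nat.card j.range = Nat.card K₀ := (Nat.card_congr e.toEquiv).symm
  have hXq : IsPGroup q X := isPGroup_of_isElementaryAbelian hX
  refine ⟨V, hVn, rfl, hVe, hcent, hh, hS3,
    ⟨(map_le_range _ _).trans range_le_normalizer, ?_, isElementaryAbelian_map _ hX, ?_, ?_⟩, hJn, ?_⟩
  · refine (map_le_range _ _).trans ?_
    rw [MonoidHom.range_eq_map]
    exact (map_mono (le_normalizer_of_normal (H := (thompsonSubgroup p K₀).map j))).trans (le_normalizer_map _)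
  · intro hd
    refine hq (hd.trans ?_)
    refine (Subgroup.card_map_dvd _ _).trans ?_
    refine (card_dvd_of_le (map_le_range j _)).trans ?_
    rw [hcardK]
  · exact eq_bot_iff.2 ((inf_le_inf_right _ (sup_le (map_le_range _ _) (map_le_range _ _))).trans
      range_inf_centralizer.le)
  · intro k hk hc
    have hcop : (Nat.card X).Coprime (Nat.card ↥(j.range ⊓ centralizer (V : Set G))) := by
      obtain ⟨n, hn'⟩ := IsPGroup.iff_card.1 hXq
      rw [hn']
      refine Nat.Coprime.pow_left n (((Fact.out : q.Prime).coprime_iff_not_dvd).2 fun h => hq ?_)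
      rw [← hcardK]
      exact h.trans (card_dvd_of_le inf_le_left)
    have hfix : ∀ a ∈ X, k⁻¹ * (a * k * a⁻¹) ∈ j.range ⊓ centralizer (V : Set G) := by
      intro a ha
      refine mem_inf.2 ⟨mul_mem (inv_mem hk) (hn.conj_mem k hk a), ?_⟩
      rw [← ker_toHol, MonoidHom.mem_ker, map_mul, map_mul, map_mul, map_inv, map_inv,
        inv_mul_eq_one]
      have hak : toHol V a * toHol V k = toHol V k * toHol V a :=
        mem_centralizer_iff.1 hc _ (mem_map_of_mem _ ha)
      rw [hak, mul_inv_cancel_right]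
    obtain ⟨c, hcX, hkc⟩ := CfsgLib.Coprime.exists_centralizing_in_coset (A := X)
      (CfsgLib.Coprime.le_normalizer_inf_inf le_normalizer_of_normal
        (CfsgLib.Coprime.le_normalizer_centralizer le_normalizer_of_normal)) hcop
      (Or.inl (by haveI := hX.1; exact Group.isSolvable_of_comm fun a b => mul_comm' a b)) hfix
    refine ⟨c, ⟨?_, hcX⟩, ?_⟩
    · have := mul_mem hk hkc.1
      rwa [mul_inv_cancel_left] at this
    · have h2 : k⁻¹ * c ∈ (toHol V).ker := ker_toHol (V := V) ▸ hkc.2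
      rw [MonoidHom.mem_ker, map_mul, map_inv, inv_mul_eq_one] at h2
      exact h2.symm

/-- `K` is generated by `N(J(S))`, `C(Ω₁Z(S))` and the fixed points of coprime operators. -/
theorem generated_by_fixed (j : K₀ →* G) (hj : Function.Injective j) [hn : j.range.Normal]
    (X : Subgroup G) (hX : IsElementaryAbelian q X) (hq : ¬ q ∣ Nat.card K₀) (hsep : IsPSolvable p K₀)
    (hO : pPrimeCore p K₀ = ⊥) (S : Sylow p K₀) :
    normalizer (thompsonSubgroupOf p (S : Subgroup K₀) : Set K₀) ⊔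
      centralizer (omegaCenterSylow S : Set K₀) ⊔ (centralizer (X : Set G)).comap j = ⊤ := by
  obtain ⟨V, hVn, hV, -, hcent, hh, hS3, ho, hJn, hlift⟩ := coprime_setup j hj X hX hq hsep hO
  haveI := hVn
  set M := normalizer (thompsonSubgroupOf p (S : Subgroup K₀) : Set K₀) ⊔
    centralizer (omegaCenterSylow S : Set K₀) ⊔ (centralizer (X : Set G)).comap j with hM
  haveI := thompsonSubgroup_characteristic p ↥(S : Subgroup K₀)
  have hSM : (S : Subgroup K₀) ≤ M :=
    (le_normalizer.trans (CfsgLib.Base.normalizer_le_normalizer_map_subtype _ _)).trans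
      (le_sup_left.trans le_sup_left)
  have hCM : centralizer ((⨆ T : Sylow p K₀, omegaCenterSylow T : Subgroup K₀) : Set K₀) ≤ M :=
    (centralizer_le (le_iSup (fun T : Sylow p K₀ => omegaCenterSylow T) S)).trans
      (le_sup_right.trans le_sup_left)
  set ι := (toHol V).comp j
  set JK := thompsonSubgroup p K₀ with hJK
  set H := (JK.map j).map (toHol V) with hH
  have hHι : H = JK.map ι := Subgroup.map_map _ _ _
  have hHM : H ≤ M.map ι := by
    refine ho.le_of_sylow_of_fixed hS3 hh (S := (S : Subgroup K₀).map ι) (L := ι.range) ?_ ?_ ?_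
      (S.2.map ι) ?_ (map_mono hSM) ?_
    · exact map_le_range _ _
    · rw [hHι]; exact map_le_range _ _
    · haveI : JK.Characteristic := thompsonSubgroup_characteristic p K₀
      rw [hHι, MonoidHom.range_eq_map]
      exact (map_mono (le_normalizer_of_normal (H := JK))).trans (le_normalizer_map _)
    · rw [MonoidHom.range_eq_map]
      intro hd
      refine S.not_dvd_index (hd.trans ?_)
      rw [← relIndex_top_right]
      exact CfsgLib.Coprime.relIndex_map_dvd ι _ _
    · rintro z ⟨hzH, hzX⟩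
      obtain ⟨_, ⟨k, -, rfl⟩, rfl⟩ := hzH
      obtain ⟨c, ⟨⟨c₀, rfl⟩, hcX⟩, hc⟩ := hlift (j k) ⟨k, rfl⟩ hzX
      exact ⟨c₀, mem_sup_right hcX, hc⟩
  have hker : ι.ker = centralizer ((⨆ T : Sylow p K₀, omegaCenterSylow T : Subgroup K₀) : Set K₀) := by
    rw [← hcent, ← MonoidHom.comap_ker, ker_toHol]
  have hJM : JK ≤ M := by
    refine (map_le_map_iff.1 (hHι ▸ hHM)).trans (sup_le le_rfl ?_)
    rw [hker]; exact hCM
  refine eq_top_iff.2 fun k _ => ?_
  haveI : JK.Characteristic := thompsonSubgroup_characteristic p K₀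
  haveI : (⨆ T : Sylow p K₀, omegaCenterSylow T).Normal := iSup_omegaCenterSylow_normal
  set D := JK ⊔ centralizer ((⨆ T : Sylow p K₀, omegaCenterSylow T : Subgroup K₀) : Set K₀)
  obtain ⟨d, hd, n, hn', rfl⟩ := exists_mul_normalizer S D k
  refine mul_mem (sup_le hJM hCM hd) (mem_sup_left (mem_sup_left ?_))
  rw [← thompsonSubgroupOf_eq_of_le (P := (S : Subgroup K₀)) (U := (S : Subgroup K₀) ⊓ D)
    (le_inf (thompsonSubgroupOf_le p _) ((thompsonSubgroupOf_sylow_le S).trans le_sup_left)) inf_le_left]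
  haveI := thompsonSubgroup_characteristic p ↥((S : Subgroup K₀) ⊓ D)
  exact CfsgLib.Base.normalizer_le_normalizer_map_subtype _ _ hn'

/-- Failure of factorisation is visible in the fixed points of coprime operators. -/
theorem fixed_plane (j : K₀ →* G) (hj : Function.Injective j) [hn : j.range.Normal] (X : Subgroup G)
    (hX : IsElementaryAbelian q X) (hq : ¬ q ∣ Nat.card K₀) (hsep : IsPSolvable p K₀)
    (hO : pPrimeCore p K₀ = ⊥)
    (hJ : ¬ thompsonSubgroup p K₀ ≤
      centralizer ((⨆ S : Sylow p K₀, omegaCenterSylow S : Subgroup K₀) : Set K₀)) :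
    (p = 2 ∨ p = 3) ∧ ∃ W D : Subgroup G, W ≤ j.range ⊓ centralizer (X : Set G) ∧
      D ≤ j.range ⊓ centralizer (X : Set G) ∧ IsElementaryAbelian p W ∧ Nat.card W = p ^ 2 ∧
      D ≤ normalizer (W : Set G) ∧ ∃ _hn : ((centralizer (W : Set G)).subgroupOf D).Normal,
        Nonempty ((D ⧸ (centralizer (W : Set G)).subgroupOf D) ≃*
          Matrix.SpecialLinearGroup (Fin 2) (ZMod p)) := by
  obtain ⟨V, hVn, hV, hVe, hcent, hh, hS3, ho, hJn, hlift⟩ := coprime_setup j hj X hX hq hsep hO
  haveI := hVn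
  set JK := thompsonSubgroup p K₀ with hJK
  set H := (JK.map j).map (toHol V) with hH
  obtain ⟨A, hA⟩ : ∃ A, FFMin p (holBase V) H A := by
    by_contra hno; push Not at hno
    apply hJ
    have hb : H ≤ ⊥ := hh.le_of_forall_min hS3 fun B hB => absurd hB (hno B)
    rw [← hcent, ← ker_toHol, MonoidHom.comap_ker, ← Subgroup.map_eq_bot_iff, ← Subgroup.map_map]
    exact le_bot_iff.1 hb
  obtain ⟨Wb, hWb, hWcard, hWn, hWc, -⟩ := ho.exists_fixed_plane hS3 hA
  set inl : ↥V →* Hol V := SemidirectProduct.inl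
  set W := (Wb.comap inl).map V.subtype with hW
  set D := j.range ⊓ centralizer (X : Set G) ⊓ H.comap (toHol V) with hD
  have hWV : W ≤ V := map_subtype_le _
  have hDrange : ∀ d ∈ D, toHol V d ∈ H ⊓ centralizer ((X.map (toHol V) : Subgroup (Hol V)) : Set (Hol V)) := by
    intro d hd
    refine ⟨hd.2, mem_centralizer_iff.2 ?_⟩
    rintro _ ⟨x, hx, rfl⟩
    rw [← map_mul, ← map_mul, mem_centralizer_iff.1 hd.1.2 x hx]
  have hiff : ∀ d ∈ D, (d ∈ centralizer (W : Set G) ↔
      toHol V d ∈ centralizer (Wb : Set (Hol V))) := by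
    intro d _
    constructor
    · intro h
      refine mem_centralizer_iff.2 fun z hz => ?_
      obtain ⟨v, rfl⟩ := (hWb hz).1
      exact ((inl_comm_iff d v).2 (mem_centralizer_iff.1 h v ⟨v, hz, rfl⟩).symm).symm
    · intro h
      refine mem_centralizer_iff.2 ?_
      rintro _ ⟨v, hv, rfl⟩
      exact ((inl_comm_iff d v).1 (mem_centralizer_iff.1 h _ hv).symm).symm
  have hDW : D ≤ normalizer (W : Set G) := by
    intro d hd
    refine mem_of_map_conj_eq (Subgroup.eq_of_le_of_card_ge ?_ (CfsgLib.Base.card_map_conj d W).ge)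
    rintro _ ⟨_, ⟨v, hv, rfl⟩, rfl⟩
    refine ⟨⟨d * v * d⁻¹, hVn.conj_mem v v.2 d⟩, ?_, rfl⟩
    show inl _ ∈ Wb
    rw [← toHol_conj d v]
    exact conj_mem_of_mem_normalizer (hWn (hDrange d hd)) hv
  refine ⟨hA.isPlane_factor.small, W, D, le_inf ?_ ?_, inf_le_left,
    isElementaryAbelian_of_le hVe hWV, ?_, hDW, ?_⟩
  · exact hWV.trans (hV ▸ map_le_range _ _)
  · rintro _ ⟨v, hv, rfl⟩
    refine mem_centralizer_iff.2 fun x hx => ?_
    exact (inl_comm_iff x v).1 (mem_centralizer_iff.1 (hWb hv).2 _ (mem_map_of_mem _ hx))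
  · rw [hW, card_map_of_injective V.subtype_injective, ← hWcard,
      ← card_map_of_injective (K := Wb.comap inl) (f := inl) SemidirectProduct.inl_injective,
      map_comap_eq_self (hWb.trans inf_le_left)]
  · haveI hn' : ((centralizer (W : Set G)).subgroupOf D).Normal :=
      normal_subgroupOf_of_le_normalizer (CfsgLib.Coprime.le_normalizer_centralizer hDW)
    refine ⟨hn', ho.fixed_equiv hS3 hA ((toHol V).comp D.subtype) ?_ ?_⟩
    · rw [MonoidHom.range_comp, range_subtype]
      refine le_antisymm ?_ ?_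
      · rintro _ ⟨d, hd, rfl⟩; exact hDrange d hd
      · rintro z ⟨hzH, hzX⟩
        obtain ⟨_, ⟨k, hk, rfl⟩, rfl⟩ := hzH
        obtain ⟨c, hc, hck⟩ := hlift (j k) ⟨k, rfl⟩ hzX
        exact ⟨c, ⟨hc, show toHol V c ∈ H from hck ▸ mem_map_of_mem _ (mem_map_of_mem _ hk)⟩, hck⟩
    · intro d
      rw [mem_subgroupOf, hiff d d.2]
      exact hWc _ (hDrange d d.2)

end Global

end CfsgLib.PLocal
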