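import Mathlib.Data.Set.Finite.Basic
import Cfsg.Agent.Lib.PLocal.Quadratic

/-!
The Timmesfeld replacement argument.
-/

set_option autoImplicit false

namespace CfsgLib.PLocal

open Subgroup
open scoped commutatorElement

variable {G : Type*} [Group G]

/-- The measure `|B| |C_V(B)|`. -/
noncomputable def offMeasure (V B : Subgroup G) : ℕ :=
  Nat.card B * Nat.card ↥(V ⊓ centralizer (B : Set G))

theorem le_normalizer_of_abelian {V X : Subgroup G} (hV : IsMulCommutative V) (hX : X ≤ V) :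
    V ≤ normalizer (X : Set G) := by
  intro v hv
  refine mem_normalizer_iff.2 fun x => ⟨fun hx => ?_, fun hx => ?_⟩
  · rwa [comm_of_mem hV hv (hX hx), mul_inv_cancel_right]
  · have hxV : x ∈ V := by
      simpa [mul_assoc] using mul_mem (mul_mem (inv_mem hv) (hX hx)) hv
    rwa [comm_of_mem hV hv hxV, mul_inv_cancel_right] at hx

theorem card_sup_mul_card_inf_of_le [Finite G] {V X Y : Subgroup G} (hV : IsMulCommutative V)
    (hX : X ≤ V) (hY : Y ≤ V) :
    Nat.card ↥(X ⊔ Y) * Nat.card ↥(X ⊓ Y) = Nat.card X * Nat.card Y :=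
  card_sup_mul_card_inf X Y (hX.trans (le_normalizer_of_abelian hV hY))

theorem inf_centralizer_sup (V X Y : Subgroup G) :
    V ⊓ centralizer ((X ⊔ Y : Subgroup G) : Set G)
      = (V ⊓ centralizer (X : Set G)) ⊓ (V ⊓ centralizer (Y : Set G)) := by
  ext v
  simp only [mem_inf, Subgroup.sup_eq_closure, centralizer_closure, mem_centralizer_iff,
    Set.mem_union]
  constructor
  · rintro ⟨hv, h⟩
    exact ⟨⟨hv, fun x hx => h x (Or.inl hx)⟩, hv, fun x hx => h x (Or.inr hx)⟩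
  · rintro ⟨⟨hv, h1⟩, -, h2⟩
    exact ⟨hv, fun x hx => hx.elim (h1 x) (h2 x)⟩

theorem le_normalizer_of_centralizer_le {V A B : Subgroup G}
    (hab : ⁅A, A⁆ ≤ centralizer (V : Set G)) (hB : B ≤ A)
    (hK : A ⊓ centralizer (V : Set G) ≤ B) : A ≤ normalizer (B : Set G) := by
  have key : ∀ a ∈ A, ∀ b ∈ B, a * b * a⁻¹ ∈ B := by
    intro a ha b hb
    have hc : ⁅a, b⁆ ∈ B :=
      hK ⟨(show a * b * a⁻¹ * b⁻¹ ∈ A from
        mul_mem (mul_mem (mul_mem ha (hB hb)) (A.inv_mem ha)) (A.inv_mem (hB hb))),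
        hab (commutator_mem_commutator ha (hB hb))⟩
    have e : a * b * a⁻¹ = ⁅a, b⁆ * b := by group
    rw [e]; exact mul_mem hc hb
  intro a ha
  refine mem_normalizer_iff.2 fun x => ⟨key a ha x, fun hx => ?_⟩
  simpa [mul_assoc] using key a⁻¹ (inv_mem ha) _ hx

/-- The lattice step: two maximisers of the measure intersect in a maximiser. -/
theorem offMeasure_inf [Finite G] {V A B D : Subgroup G} (hV : IsMulCommutative V)
    (hab : ⁅A, A⁆ ≤ centralizer (V : Set G))
    (hmax : ∀ X, X ≤ A → offMeasure V X ≤ offMeasure V A)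
    (hB : B ≤ A) (hD : D ≤ A) (hKD : A ⊓ centralizer (V : Set G) ≤ D)
    (mB : offMeasure V B = offMeasure V A) (mD : offMeasure V D = offMeasure V A) :
    offMeasure V (B ⊓ D) = offMeasure V A ∧
      V ⊓ centralizer ((B ⊓ D : Subgroup G) : Set G)
        = (V ⊓ centralizer (B : Set G)) ⊔ (V ⊓ centralizer (D : Set G)) := by
  set CB := V ⊓ centralizer (B : Set G)
  set CD := V ⊓ centralizer (D : Set G)
  set CI := V ⊓ centralizer ((B ⊓ D : Subgroup G) : Set G)
  have hle : CB ⊔ CD ≤ CI :=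
    sup_le (inf_le_inf_left _ (centralizer_le inf_le_left))
      (inf_le_inf_left _ (centralizer_le inf_le_right))
  have h1 := card_sup_mul_card_inf B D (hB.trans (le_normalizer_of_centralizer_le hab hD hKD))
  have h2 := card_sup_mul_card_inf_of_le hV (X := CB) (Y := CD) inf_le_left inf_le_left
  have hI : offMeasure V (B ⊓ D) ≤ offMeasure V A := hmax _ (inf_le_left.trans hB)
  have hS : offMeasure V (B ⊔ D) ≤ offMeasure V A := hmax _ (sup_le hB hD)
  have eS : offMeasure V (B ⊔ D) = Nat.card ↥(B ⊔ D) * Nat.card ↥(CB ⊓ CD) := by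
    rw [offMeasure, inf_centralizer_sup]
  have eI : offMeasure V (B ⊓ D) = Nat.card ↥(B ⊓ D) * Nat.card CI := rfl
  have hc : Nat.card ↥(CB ⊔ CD) ≤ Nat.card CI := card_le_of_le hle
  have hkey : offMeasure V A * offMeasure V A
      = (Nat.card ↥(B ⊓ D) * Nat.card ↥(CB ⊔ CD)) * offMeasure V (B ⊔ D) := by
    conv_lhs => rw [← mB]; arg 2; rw [mB, ← mD]
    rw [eS]
    calc Nat.card B * Nat.card CB * (Nat.card D * Nat.card CD)
        = (Nat.card B * Nat.card D) * (Nat.card CB * Nat.card CD) := by ring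
      _ = _ := by rw [← h1, ← h2]; ring
  have hpos : 0 < offMeasure V A := Nat.mul_pos Nat.card_pos Nat.card_pos
  have hge : offMeasure V A ≤ Nat.card ↥(B ⊓ D) * Nat.card ↥(CB ⊔ CD) := by
    by_contra hlt
    push Not at hlt
    have := Nat.mul_lt_mul_of_lt_of_le hlt hS hpos
    omega
  have hle' : Nat.card ↥(B ⊓ D) * Nat.card ↥(CB ⊔ CD) ≤ offMeasure V (B ⊓ D) :=
    Nat.mul_le_mul_left _ hc
  have heq : offMeasure V (B ⊓ D) = offMeasure V A := le_antisymm hI (hge.trans hle')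
  refine ⟨heq, (Subgroup.eq_of_le_of_card_ge hle ?_).symm⟩
  refine Nat.le_of_mul_le_mul_left ?_ (Nat.card_pos (α := ↥(B ⊓ D)))
  rw [← eI, heq]; exact hge

/-- The commutators `[u,a]`, `u ∈ T`, `a ∈ A`. -/
def commSet (T : Set G) (A : Subgroup G) : Set G := {g | ∃ u ∈ T, ∃ a ∈ A, ⁅u, a⁆ = g}

theorem closure_commSet (U A : Subgroup G) : closure (commSet (U : Set G) A) = ⁅U, A⁆ :=
  (Subgroup.commutator_def U A).symm

theorem centralizer_commutator (U A : Subgroup G) :
    centralizer ((⁅U, A⁆ : Subgroup G) : Set G) = centralizer (commSet (U : Set G) A) := by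
  rw [← closure_commSet, centralizer_closure]

theorem comm_mul_right_of_centralizes {V : Subgroup G} {u x z : G} (hu : u ∈ V)
    (hz : z ∈ centralizer (V : Set G)) : ⁅u, x * z⁆ = ⁅u, x⁆ := by
  rw [comm_mul_right, (commutatorElement_eq_one_iff_mul_comm (g₁ := u) (g₂ := z)).2
    (mem_centralizer_iff.1 hz u hu)]
  simp

theorem comm_symm {V A : Subgroup G} (hV : IsMulCommutative V)
    (hAV : A ≤ normalizer (V : Set G)) (hab : ⁅A, A⁆ ≤ centralizer (V : Set G))
    {u d e : G} (hu : u ∈ V) (hd : d ∈ A) (he : e ∈ A)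
    (h : e * ⁅u, d⁆ = ⁅u, d⁆ * e) : d * ⁅u, e⁆ = ⁅u, e⁆ * d := by
  have hz : ⁅d⁻¹, e⁻¹⁆ ∈ centralizer (V : Set G) :=
    hab (commutator_mem_commutator (inv_mem hd) (inv_mem he))
  have e1 : d * e = e * d * ⁅d⁻¹, e⁻¹⁆ := by group
  have e2 : ⁅u, d * e⁆ = ⁅u, e * d⁆ := by rw [e1, comm_mul_right_of_centralizes hu hz]
  rw [comm_mul_right, comm_mul_right, h, mul_inv_cancel_right] at e2
  have hud := comm_mem_of_mem_normalizer (hAV hd) hu
  have hue := comm_mem_of_mem_normalizer (hAV he) hu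
  rw [comm_of_mem hV hue hud] at e2
  have e3 := mul_left_cancel e2
  calc d * ⁅u, e⁆ = d * ⁅u, e⁆ * d⁻¹ * d := by group
    _ = ⁅u, e⁆ * d := by rw [e3]

/-- The case of a single element `u`. -/
theorem replacement_singleton [Finite G] {V A : Subgroup G} (hV : IsMulCommutative V)
    (hAV : A ≤ normalizer (V : Set G)) (hab : ⁅A, A⁆ ≤ centralizer (V : Set G))
    (hmax : ∀ X, X ≤ A → offMeasure V X ≤ offMeasure V A) {u : G} (hu : u ∈ V) :
    offMeasure V (A ⊓ centralizer (commSet {u} A)) = offMeasure V A ∧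
      V ⊓ centralizer ((A ⊓ centralizer (commSet {u} A) : Subgroup G) : Set G)
        = closure (commSet {u} A) ⊔ (V ⊓ centralizer (A : Set G)) := by
  set S := commSet {u} A
  set B := A ⊓ centralizer S with hBdef
  set C := V ⊓ centralizer (A : Set G) with hCdef
  set W := closure S ⊔ C with hWdef
  set CB := V ⊓ centralizer (B : Set G) with hCBdef
  have hWCB : W ≤ CB := by
    refine sup_le ((closure_le _).2 ?_) (inf_le_inf_left _ (centralizer_le inf_le_left))
    rintro _ ⟨v, rfl, a, ha, rfl⟩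
    exact ⟨comm_mem_of_mem_normalizer (hAV ha) hu, mem_centralizer_iff.2 fun b hb =>
      (mem_centralizer_iff.1 (mem_inf.1 hb).2 _ ⟨_, rfl, a, ha, rfl⟩).symm⟩
  -- the map `a ↦ [u,a]` induces an injection from `A / B` into `W / C`
  have hW : ∀ a ∈ A, ⁅u, a⁆ ∈ W := fun a ha =>
    mem_sup_left (subset_closure ⟨u, rfl, a, ha, rfl⟩)
  let f : A → W ⧸ C.subgroupOf W := fun a => QuotientGroup.mk ⟨⁅u, (a : G)⁆, hW a a.2⟩
  have hf : ∀ a b : A, f a = f b ↔ (QuotientGroup.mk a : A ⧸ B.subgroupOf A) = QuotientGroup.mk b := by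
    intro a b
    simp only [f, QuotientGroup.eq, mem_subgroupOf, Subgroup.coe_mul, InvMemClass.coe_inv]
    have hd : (a : G)⁻¹ * b ∈ A := mul_mem (inv_mem a.2) b.2
    have e1 : ⁅u, (a : G)⁆⁻¹ * ⁅u, (b : G)⁆ = (a : G) * ⁅u, (a : G)⁻¹ * b⁆ * (a : G)⁻¹ := by group
    rw [e1]
    constructor
    · intro h
      refine ⟨hd, mem_centralizer_iff.2 ?_⟩
      rintro _ ⟨v, rfl, x, hx, rfl⟩
      refine (comm_symm hV hAV hab hu hd hx ?_).symm
      have h1 : (a : G) * ⁅v, (a : G)⁻¹ * b⁆ * (a : G)⁻¹ = ⁅v, (a : G)⁻¹ * b⁆ := by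
        have hc := mem_centralizer_iff.1 (mem_inf.1 h).2 a a.2
        calc _ = (a : G)⁻¹ * ((a : G) * ((a : G) * ⁅v, (a : G)⁻¹ * b⁆ * (a : G)⁻¹)) := by group
          _ = (a : G)⁻¹ * (((a : G) * ⁅v, (a : G)⁻¹ * b⁆ * (a : G)⁻¹) * a) := by rw [hc]
          _ = _ := by group
      rw [h1] at h
      exact mem_centralizer_iff.1 (mem_inf.1 h).2 x hx
    · intro h
      have hc : ∀ x ∈ A, x * ⁅u, (a : G)⁻¹ * b⁆ = ⁅u, (a : G)⁻¹ * b⁆ * x := fun x hx =>
        comm_symm hV hAV hab hu hx hd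
          (mem_centralizer_iff.1 (mem_inf.1 h).2 _ ⟨u, rfl, x, hx, rfl⟩).symm
      rw [hc a a.2, mul_inv_cancel_right]
      exact mem_inf.2 ⟨comm_mem_of_mem_normalizer (hAV hd) hu, mem_centralizer_iff.2 hc⟩
  have hidx : B.relIndex A ≤ C.relIndex W :=
    Nat.card_le_card_of_injective (fun q : A ⧸ B.subgroupOf A => f q.out) fun q r h => by
      simpa using (hf _ _).1 h
  have hA : Nat.card B * B.relIndex A = Nat.card A := by
    simpa [relIndex_bot_left] using relIndex_mul_relIndex ⊥ B A bot_le inf_le_left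
  have hWc : Nat.card C * C.relIndex W = Nat.card W := by
    simpa [relIndex_bot_left] using relIndex_mul_relIndex ⊥ C W bot_le le_sup_right
  have h1 : offMeasure V A ≤ Nat.card B * Nat.card W := by
    show Nat.card A * Nat.card C ≤ _
    rw [← hA, ← hWc, mul_assoc, mul_comm (B.relIndex A)]
    exact Nat.mul_le_mul_left _ (Nat.mul_le_mul_left _ hidx)
  have h2 : Nat.card B * Nat.card W ≤ offMeasure V B := Nat.mul_le_mul_left _ (card_le_of_le hWCB)
  have h3 : offMeasure V B ≤ offMeasure V A := hmax _ inf_le_left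
  refine ⟨le_antisymm h3 (h1.trans h2), (Subgroup.eq_of_le_of_card_ge hWCB ?_).symm⟩
  exact Nat.le_of_mul_le_mul_left (h3.trans h1) (Nat.card_pos (α := B))

/-- Timmesfeld replacement. -/
theorem replacement [Finite G] {V A : Subgroup G} (hV : IsMulCommutative V)
    (hAV : A ≤ normalizer (V : Set G)) (hab : ⁅A, A⁆ ≤ centralizer (V : Set G))
    (hmax : ∀ X, X ≤ A → offMeasure V X ≤ offMeasure V A) {U : Subgroup G} (hU : U ≤ V) :
    offMeasure V (A ⊓ centralizer ((⁅U, A⁆ : Subgroup G) : Set G)) = offMeasure V A ∧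
      V ⊓ centralizer ((A ⊓ centralizer ((⁅U, A⁆ : Subgroup G) : Set G) : Subgroup G) : Set G)
        = ⁅U, A⁆ ⊔ (V ⊓ centralizer (A : Set G)) := by
  rw [centralizer_commutator, ← closure_commSet U A]
  suffices ∀ T : Set G, T.Finite → T ⊆ (V : Set G) →
      offMeasure V (A ⊓ centralizer (commSet T A)) = offMeasure V A ∧
      V ⊓ centralizer ((A ⊓ centralizer (commSet T A) : Subgroup G) : Set G)
        = closure (commSet T A) ⊔ (V ⊓ centralizer (A : Set G)) from
    this _ (Set.toFinite _) hU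
  intro T hT
  induction T, hT using Set.Finite.induction_on with
  | empty =>
    intro _
    have e : commSet (∅ : Set G) A = ∅ := by ext; simp [commSet]
    have e' : centralizer (∅ : Set G) = ⊤ := by ext; simp [mem_centralizer_iff]
    rw [e, e', inf_top_eq, Subgroup.closure_empty, bot_sup_eq]
    exact ⟨rfl, rfl⟩
  | @insert u T _ _ ih =>
    intro hins
    obtain ⟨hu, hTV⟩ := Set.insert_subset_iff.1 hins
    obtain ⟨m1, c1⟩ := replacement_singleton hV hAV hab hmax hu
    obtain ⟨m2, c2⟩ := ih hTV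
    have hS : commSet (insert u T) A = commSet {u} A ∪ commSet T A := by
      ext; simp [commSet, Set.mem_insert_iff, or_and_right, exists_or]
    have hinf : A ⊓ centralizer (commSet (insert u T) A)
        = (A ⊓ centralizer (commSet {u} A)) ⊓ (A ⊓ centralizer (commSet T A)) := by
      ext x
      simp only [hS, mem_inf, mem_centralizer_iff, Set.mem_union]
      constructor
      · rintro ⟨hx, h⟩
        exact ⟨⟨hx, fun y hy => h y (Or.inl hy)⟩, hx, fun y hy => h y (Or.inr hy)⟩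
      · rintro ⟨⟨hx, h1⟩, -, h2⟩
        exact ⟨hx, fun y hy => hy.elim (h1 y) (h2 y)⟩
    have hK : A ⊓ centralizer (V : Set G) ≤ A ⊓ centralizer (commSet T A) := by
      refine inf_le_inf_left _ (centralizer_le ?_)
      rintro _ ⟨v, hv, a, ha, rfl⟩
      exact comm_mem_of_mem_normalizer (hAV ha) (hTV hv)
    obtain ⟨m, c⟩ := offMeasure_inf hV hab hmax inf_le_left inf_le_left hK m1 m2
    rw [hinf]
    refine ⟨m, ?_⟩
    rw [c, hS, Subgroup.closure_union, sup_sup_distrib_right]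
    exact congrArg₂ (· ⊔ ·) c1 c2

/-- The replaced subgroup acts nontrivially whenever `A` does. -/
theorem replacement_nontrivial {p : ℕ} [Fact p.Prime] [Finite G] {V A : Subgroup G}
    (hV : IsMulCommutative V) (hVp : IsPGroup p V)
    (hAV : A ≤ normalizer (V : Set G)) (hab : ⁅A, A⁆ ≤ centralizer (V : Set G))
    (hAp : ∀ a ∈ A, ∃ k : ℕ, a ^ p ^ k ∈ centralizer (V : Set G))
    (hmax : ∀ X, X ≤ A → offMeasure V X ≤ offMeasure V A) {U : Subgroup G} (hU : U ≤ V)
    (hne : ⁅V, A⁆ ≠ ⊥) : ⁅V, A ⊓ centralizer ((⁅U, A⁆ : Subgroup G) : Set G)⁆ ≠ ⊥ := by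
  intro h0
  obtain ⟨-, hC⟩ := replacement hV hAV hab hmax hU
  rw [commutator_eq_bot_iff_le_centralizer] at h0
  rw [inf_eq_left.2 h0] at hC
  set C := V ⊓ centralizer (A : Set G) with hCdef
  have hUA : ⁅U, A⁆ ≤ ⁅V, A⁆ := commutator_mono hU le_rfl
  have hVAle : ⁅V, A⁆ ≤ V := commutator_le_of_le_normalizer hAV
  have hnorm : A ≤ normalizer ((⁅V, A⁆ : Subgroup G) : Set G) := by
    have key : ∀ a ∈ A, ∀ x ∈ ⁅V, A⁆, a * x * a⁻¹ ∈ ⁅V, A⁆ := by
      intro a ha x hx
      have hmap : (⁅V, A⁆ : Subgroup G).map (MulAut.conj a).toMonoidHom ≤ ⁅V, A⁆ := by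
        rw [map_commutator]
        refine commutator_mono ?_ ?_
        · rintro _ ⟨y, hy, rfl⟩
          exact conj_mem_of_mem_normalizer (hAV ha) hy
        · rintro _ ⟨y, hy, rfl⟩
          exact mul_mem (mul_mem ha hy) (inv_mem ha)
      exact hmap ⟨x, hx, rfl⟩
    intro a ha
    refine mem_normalizer_iff.2 fun x => ⟨key a ha x, fun hx => ?_⟩
    simpa [mul_assoc] using key a⁻¹ (inv_mem ha) _ hx
  refine hne (eq_bot_of_le_commutator hV hVp hAV hab hAp hVAle hnorm ?_)
  refine Subgroup.commutator_le.2 fun v hv a ha => ?_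
  have hv' : v ∈ ⁅U, A⁆ ⊔ C := hC ▸ hv
  rw [← SetLike.mem_coe, coe_mul_of_left_le_normalizer_right _ _
    ((hUA.trans hVAle).trans (le_normalizer_of_abelian hV inf_le_left))] at hv'
  obtain ⟨x, hx, c, hc, rfl⟩ := hv'
  rw [comm_mul_left_of_abelian hV (hAV ha) (hVAle (hUA hx)) (mem_inf.1 hc).1,
    (commutatorElement_eq_one_iff_mul_comm (g₁ := c) (g₂ := a)).2
      (mem_centralizer_iff.1 (mem_inf.1 hc).2 a ha).symm, mul_one]
  exact commutator_mem_commutator (hUA hx) ha

end CfsgLib.PLocal
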