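import Mathlib
import Cfsg.Agent.Lib.PGroups.Basic

/-!
p-groups of maximal class.
-/

set_option autoImplicit false
set_option linter.style.haveILetI false

namespace CfsgLib.PLocal

open Subgroup
open scoped commutatorElement

variable {G : Type*} [Group G] {p : ℕ} [Fact p.Prime]

theorem sq_le_index_commutator [Finite G] (hG : IsPGroup p G) (h : commutator G ≠ ⊥) :
    p ^ 2 ≤ (commutator G).index := by
  obtain ⟨k, hk⟩ := CfsgLib.PGroups.index_eq_pow hG (commutator G)
  rw [hk]
  refine Nat.pow_le_pow_right (Fact.out : p.Prime).pos ?_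
  by_contra hlt
  have hcyc : IsCyclic (G ⧸ commutator G) := by
    rcases Nat.eq_zero_or_pos k with rfl | hk0
    · haveI : Subsingleton (G ⧸ commutator G) :=
        (Nat.card_eq_one_iff_unique.1 (by rw [← index_eq_card, hk, pow_zero])).1
      infer_instance
    · refine isCyclic_of_prime_card (p := p) ?_
      rw [← index_eq_card, hk, show k = 1 by omega, pow_one]
  obtain ⟨x, hx⟩ := hcyc.exists_generator
  obtain ⟨g, rfl⟩ := QuotientGroup.mk_surjective x
  have htop : zpowers g ⊔ commutator G = ⊤ := by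
    refine eq_top_iff.2 fun y _ => ?_
    obtain ⟨i, hi⟩ := hx (QuotientGroup.mk y)
    have h1 : (g ^ i)⁻¹ * y ∈ commutator G := by
      rw [← QuotientGroup.eq_one_iff, QuotientGroup.mk_mul, QuotientGroup.mk_inv,
        QuotientGroup.mk_zpow, ← hi]
      exact inv_mul_cancel _
    have h2 : y = g ^ i * ((g ^ i)⁻¹ * y) := (mul_inv_cancel_left _ _).symm
    rw [h2]
    exact mul_mem (mem_sup_left (zpow_mem (mem_zpowers g) i)) (mem_sup_right h1)
  have htop' : zpowers g = ⊤ := by
    refine frattini_nongenerating (top_le_iff.1 ?_)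
    rw [← htop]
    exact sup_le_sup_left (CfsgLib.PGroups.commutator_le_frattini hG) _
  refine h (le_bot_iff.1 ?_)
  rw [_root_.commutator_def, commutator_le]
  intro a _ b _
  rw [mem_bot, commutatorElement_eq_one_iff_mul_comm]
  obtain ⟨i, rfl⟩ := mem_zpowers_iff.1 (htop' ▸ mem_top a : a ∈ zpowers g)
  obtain ⟨j, rfl⟩ := mem_zpowers_iff.1 (htop' ▸ mem_top b : b ∈ zpowers g)
  exact ((Commute.refl g).zpow_zpow i j).eq

theorem card_lowerCentralSeries_mul_le [Finite G] (hG : IsPGroup p G) :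
    ∀ i, 1 ≤ i → (⊤ : Subgroup G).lowerCentralSeries i ≠ ⊥ →
      Nat.card ((⊤ : Subgroup G).lowerCentralSeries i) * p ^ (i + 1) ≤ Nat.card G := by
  intro i hi
  induction i, hi using Nat.le_induction with
  | base =>
    intro h
    rw [top_lowerCentralSeries_one] at h ⊢
    rw [← card_mul_index (commutator G)]
    exact Nat.mul_le_mul_left _ (sq_le_index_commutator hG h)
  | succ i hi ih =>
    intro h
    set A := (⊤ : Subgroup G).lowerCentralSeries (i + 1) with hA
    set B := (⊤ : Subgroup G).lowerCentralSeries i with hB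
    have hBne : B ≠ ⊥ := fun hb => h (le_bot_iff.1 ((Subgroup.lowerCentralSeries_antitone _ (Nat.le_succ i)).trans hb.le))
    have hlt : A < B := CfsgLib.PGroups.commutator_top_lt hG hBne
    have hdvd : p ∣ A.relIndex B := by
      rw [relIndex]
      exact CfsgLib.PGroups.dvd_index_of_ne_top (hG.to_subgroup B) fun ht =>
        hlt.not_ge (subgroupOf_eq_top.1 ht)
    have hpos : 0 < A.relIndex B := Nat.pos_of_ne_zero index_ne_zero_of_finite
    have hcard : Nat.card A * A.relIndex B = Nat.card B := by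
      simpa [relIndex_bot_left] using relIndex_mul_relIndex ⊥ A B bot_le hlt.le
    calc Nat.card A * p ^ (i + 1 + 1) = Nat.card A * p * p ^ (i + 1) := by ring
      _ ≤ Nat.card A * A.relIndex B * p ^ (i + 1) :=
        Nat.mul_le_mul_right _ (Nat.mul_le_mul_left _ (Nat.le_of_dvd hpos hdvd))
      _ ≤ Nat.card G := by rw [hcard]; exact ih hBne

theorem lowerCentralSeries_le_of_index [Finite G] (hG : IsPGroup p G) (N : Subgroup G) [N.Normal]
    {r : ℕ} (hr : 2 ≤ r) (hN : N.index = p ^ r) :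
    (⊤ : Subgroup G).lowerCentralSeries (r - 1) ≤ N := by
  set f := QuotientGroup.mk' N
  have hmap : ((⊤ : Subgroup G).lowerCentralSeries (r - 1)).map f
      = (⊤ : Subgroup (G ⧸ N)).lowerCentralSeries (r - 1) := by
    rw [map_lowerCentralSeries, map_top_of_surjective f (QuotientGroup.mk'_surjective N)]
  intro x hx
  have h1 : f x ∈ (⊤ : Subgroup (G ⧸ N)).lowerCentralSeries (r - 1) := hmap ▸ mem_map_of_mem f hx
  by_contra hxN
  have hne : (⊤ : Subgroup (G ⧸ N)).lowerCentralSeries (r - 1) ≠ ⊥ := fun hb =>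
    hxN ((QuotientGroup.eq_one_iff x).1 (mem_bot.1 (hb ▸ h1)))
  have h2 := card_lowerCentralSeries_mul_le (hG.to_quotient N) (r - 1) (by omega) hne
  rw [← index_eq_card, hN, show r - 1 + 1 = r by omega] at h2
  have h3 : 1 < Nat.card ((⊤ : Subgroup (G ⧸ N)).lowerCentralSeries (r - 1)) :=
    (one_lt_card_iff_ne_bot _).2 hne
  nlinarith [pow_pos (Fact.out : p.Prime).pos r]

theorem maximalClass_card [Finite G] {n : ℕ} (hG : Nat.card G = p ^ n)
    (hcl : Group.nilpotencyClass G = n - 1) (hn : 3 ≤ n) :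
    ∀ i, 1 ≤ i → i ≤ n - 1 → Nat.card ((⊤ : Subgroup G).lowerCentralSeries i) = p ^ (n - 1 - i) := by
  have hP : IsPGroup p G := IsPGroup.of_card hG
  have hpos : 0 < p := (Fact.out : p.Prime).pos
  haveI := hP.isNilpotent
  have hbot : (⊤ : Subgroup G).lowerCentralSeries (n - 1) = ⊥ :=
    Subgroup.lowerCentralSeries_eq_bot_iff_nilpotencyClass_le.2 hcl.le
  have hne : ∀ i, i < n - 1 → (⊤ : Subgroup G).lowerCentralSeries i ≠ ⊥ := fun i hi hb => by
    have := Subgroup.lowerCentralSeries_eq_bot_iff_nilpotencyClass_le.1 hb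
    omega
  have hlow : ∀ d, d ≤ n - 1 →
      p ^ d ≤ Nat.card ((⊤ : Subgroup G).lowerCentralSeries (n - 1 - d)) := by
    intro d
    induction d with
    | zero => intro _; rw [pow_zero]; exact Nat.card_pos
    | succ d ih =>
      intro hd
      have h1 := ih (by omega)
      set B := (⊤ : Subgroup G).lowerCentralSeries (n - 1 - (d + 1)) with hBdef
      have hBne : B ≠ ⊥ := hne _ (by omega)
      have hlt := CfsgLib.PGroups.commutator_top_lt hP hBne
      have hA : ⁅B, (⊤ : Subgroup G)⁆ = (⊤ : Subgroup G).lowerCentralSeries (n - 1 - d) := by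
        rw [hBdef, show n - 1 - d = n - 1 - (d + 1) + 1 by omega, Subgroup.lowerCentralSeries_succ]
      rw [hA] at hlt
      obtain ⟨a, ha⟩ := CfsgLib.PGroups.card_subgroup_eq_pow hP B
      obtain ⟨b, hb⟩ := CfsgLib.PGroups.card_subgroup_eq_pow hP
        ((⊤ : Subgroup G).lowerCentralSeries (n - 1 - d))
      have hlt' : Nat.card ((⊤ : Subgroup G).lowerCentralSeries (n - 1 - d)) < Nat.card B :=
        lt_of_le_of_ne (card_le_of_le hlt.le) fun he => hlt.ne (eq_of_le_of_card_ge hlt.le he.ge)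
      rw [hb] at h1 hlt'
      rw [ha] at hlt' ⊢
      refine Nat.pow_le_pow_right hpos ?_
      have h2 := (Nat.pow_le_pow_iff_right (Fact.out : p.Prime).one_lt).1 h1
      have h3 := (Nat.pow_lt_pow_iff_right (Fact.out : p.Prime).one_lt).1 hlt'
      omega
  intro i hi hin
  refine le_antisymm ?_ ?_
  · rcases hin.eq_or_lt with rfl | hlt
    · rw [hbot, card_bot, Nat.sub_self, pow_zero]
    · have h1 := card_lowerCentralSeries_mul_le hP i hi (hne i hlt)
      rw [hG, show p ^ n = p ^ (n - 1 - i) * p ^ (i + 1) by rw [← pow_add]; congr 1; omega] at h1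
      exact Nat.le_of_mul_le_mul_right h1 (pow_pos hpos _)
  · have := hlow (n - 1 - i) (by omega)
    rwa [show n - 1 - (n - 1 - i) = i by omega] at this

theorem maximalClass_normal_eq [Finite G] {n : ℕ} (hG : Nat.card G = p ^ n)
    (hcl : Group.nilpotencyClass G = n - 1) (hn : 3 ≤ n) (N : Subgroup G) [N.Normal] {r : ℕ}
    (hr : 2 ≤ r) (hN : N.index = p ^ r) : N = (⊤ : Subgroup G).lowerCentralSeries (r - 1) := by
  have hP : IsPGroup p G := IsPGroup.of_card hG
  have h1 := card_mul_index N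
  obtain ⟨a, ha⟩ := CfsgLib.PGroups.card_subgroup_eq_pow hP N
  rw [ha, hN, hG, ← pow_add] at h1
  have h2 := Nat.pow_right_injective (Fact.out : p.Prime).two_le h1
  refine (eq_of_le_of_card_ge (lowerCentralSeries_le_of_index hP N hr hN) ?_).symm
  rw [ha, maximalClass_card hG hcl hn (r - 1) (by omega) (by omega)]
  exact Nat.pow_le_pow_right (Fact.out : p.Prime).pos (by omega)

theorem card_subgroups_prime_card [Finite G] (hG : Nat.card G = p ^ 2) (hnc : ¬ IsCyclic G) :
    Nat.card {H : Subgroup G // Nat.card H = p} = p + 1 := by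
  have hpr : p.Prime := Fact.out
  haveI : NeZero p := ⟨hpr.ne_zero⟩
  have hord : ∀ x : G, x ≠ 1 → orderOf x = p := by
    intro x hx
    obtain ⟨k, hk, hkx⟩ := (Nat.dvd_prime_pow hpr).1 (hG ▸ orderOf_dvd_natCard x)
    rcases (by omega : k = 0 ∨ k = 1 ∨ k = 2) with rfl | rfl | rfl
    · exact absurd (orderOf_eq_one_iff.1 (by simpa using hkx)) hx
    · simpa using hkx
    · exact absurd (isCyclic_of_orderOf_eq_card x (by rw [hkx, hG])) hnc
  haveI : Nontrivial G := Finite.one_lt_card_iff_nontrivial.1 (by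
    rw [hG]; exact Nat.one_lt_pow two_ne_zero hpr.one_lt)
  obtain ⟨a, ha⟩ := exists_ne (1 : G)
  obtain ⟨b, hb⟩ : ∃ b, b ∉ zpowers a := by
    by_contra hall
    push Not at hall
    exact hnc ⟨a, hall⟩
  have hb1 : b ≠ 1 := fun h => hb (h ▸ one_mem _)
  have hcard : Nat.card (zpowers a) = p := by rw [Nat.card_zpowers, hord a ha]
  letI : CommGroup G := IsPGroup.commGroupOfCardEqPrimeSq hG
  have hidx : (zpowers a).index = p := by
    have h := card_mul_index (zpowers a)
    rw [hcard, hG, sq] at h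
    exact Nat.eq_of_mul_eq_mul_left hpr.pos h
  have hcosets : ∀ x : G, ∃ i j : ℤ, x = a ^ i * b ^ j := by
    intro x
    have hb' : (QuotientGroup.mk b : G ⧸ zpowers a) ≠ 1 := fun h =>
      hb ((QuotientGroup.eq_one_iff b).1 h)
    obtain ⟨j, hj⟩ : (QuotientGroup.mk x : G ⧸ zpowers a) ∈ zpowers (QuotientGroup.mk b : G ⧸ zpowers a) :=
      (zpowers_eq_top_of_prime_card (hidx : Nat.card (G ⧸ zpowers a) = p) hb').symm ▸ mem_top _
    obtain ⟨i, hi⟩ : x * (b ^ j)⁻¹ ∈ zpowers a := by
      rw [← QuotientGroup.eq_one_iff, QuotientGroup.mk_mul, QuotientGroup.mk_inv,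
        QuotientGroup.mk_zpow, ← hj]
      exact mul_inv_cancel _
    exact ⟨i, j, by rw [show a ^ i = x * (b ^ j)⁻¹ from hi, inv_mul_cancel_right]⟩
  have hbp : ∀ v : ℤ, b ^ (v * (p : ℤ)) = 1 := fun v =>
    orderOf_dvd_iff_zpow_eq_one.1 (by rw [hord b hb1]; exact dvd_mul_left _ v)
  have hindep : ∀ i j : ℤ, a ^ i * b ^ j = 1 → (p : ℤ) ∣ i ∧ (p : ℤ) ∣ j := by
    intro i j h
    have hj : (p : ℤ) ∣ j := by
      by_contra hnd
      obtain ⟨u, v, huv⟩ : IsCoprime j (p : ℤ) :=
        ((Nat.prime_iff_prime_int.1 hpr).coprime_iff_not_dvd.2 hnd).symm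
      refine hb ?_
      have h1 : b = (b ^ j) ^ u := by
        rw [← zpow_mul]
        conv_lhs => rw [← zpow_one b, ← huv]
        rw [zpow_add, hbp, mul_one, mul_comm]
      rw [h1, eq_inv_of_mul_eq_one_right h]
      exact zpow_mem (inv_mem (zpow_mem (mem_zpowers a) i)) u
    refine ⟨?_, hj⟩
    obtain ⟨t, rfl⟩ := hj
    rw [zpow_mul, zpow_natCast, ← hord b hb1, pow_orderOf_eq_one, one_zpow, mul_one] at h
    rw [← hord a ha]
    exact orderOf_dvd_iff_zpow_eq_one.2 h
  have hne : ∀ i : Fin p, a ^ ((i : ℕ) : ℤ) * b ≠ 1 := fun i h => by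
    have := (hindep ((i : ℕ) : ℤ) 1 (by rw [zpow_one]; exact h)).2
    exact hpr.ne_one (Nat.dvd_one.1 (by exact_mod_cast this))
  let F : Option (Fin p) → {H : Subgroup G // Nat.card H = p} := fun o => match o with
    | none => ⟨zpowers a, hcard⟩
    | some i => ⟨zpowers (a ^ ((i : ℕ) : ℤ) * b), by rw [Nat.card_zpowers, hord _ (hne i)]⟩
  have hF : Function.Bijective F := by
    refine ⟨?_, ?_⟩
    · rintro (_ | i) (_ | j) h
      · rfl
      · exfalso
        have h' : zpowers a = zpowers (a ^ ((j : ℕ) : ℤ) * b) := congrArg Subtype.val h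
        exact hb ((mul_mem_cancel_left (zpow_mem (mem_zpowers a) _)).1 (h'.symm ▸ mem_zpowers _))
      · exfalso
        have h' : zpowers (a ^ ((i : ℕ) : ℤ) * b) = zpowers a := congrArg Subtype.val h
        exact hb ((mul_mem_cancel_left (zpow_mem (mem_zpowers a) _)).1 (h' ▸ mem_zpowers _))
      · have h' : zpowers (a ^ ((i : ℕ) : ℤ) * b) = zpowers (a ^ ((j : ℕ) : ℤ) * b) := congrArg Subtype.val h
        obtain ⟨t, ht⟩ := mem_zpowers_iff.1 (h' ▸ mem_zpowers (a ^ ((i : ℕ) : ℤ) * b))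
        rw [mul_zpow, ← zpow_mul] at ht
        have h1 : a ^ (((j : ℕ) : ℤ) * t - ((i : ℕ) : ℤ)) * b ^ (t - 1) = 1 := by
          rw [zpow_sub, zpow_sub, zpow_one, mul_mul_mul_comm, ht, ← mul_inv, mul_inv_cancel]
        obtain ⟨h2, h3⟩ := hindep _ _ h1
        have h4 : (p : ℤ) ∣ ((j : ℕ) : ℤ) - ((i : ℕ) : ℤ) := by
          have := dvd_sub h2 (h3.mul_left ((j : ℕ) : ℤ))
          rwa [show ((j : ℕ) : ℤ) * t - ((i : ℕ) : ℤ) - ((j : ℕ) : ℤ) * (t - 1)
            = ((j : ℕ) : ℤ) - ((i : ℕ) : ℤ) by ring] at this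
        congr 1
        exact Fin.ext (Nat.ModEq.eq_of_lt_of_lt (Nat.modEq_iff_dvd.2 (by exact_mod_cast h4)) i.2 j.2)
    · rintro ⟨H, hH⟩
      by_cases hHa : H = zpowers a
      · exact ⟨none, Subtype.ext hHa.symm⟩
      haveI : Nontrivial H := Finite.one_lt_card_iff_nontrivial.1 (by rw [hH]; exact hpr.one_lt)
      obtain ⟨⟨x, hx⟩, hx1⟩ := exists_ne (1 : H)
      have hx1' : x ≠ 1 := fun h => hx1 (Subtype.ext h)
      have hHx : zpowers x = H :=
        eq_of_le_of_card_ge (zpowers_le.2 hx) (by rw [Nat.card_zpowers, hord x hx1', hH])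
      obtain ⟨i, j, rfl⟩ := hcosets x
      have hj : ¬ (p : ℤ) ∣ j := by
        rintro ⟨t, rfl⟩
        refine hHa (hHx ▸ eq_of_le_of_card_ge (zpowers_le.2 ?_)
          (by rw [hcard, Nat.card_zpowers, hord _ hx1']))
        rw [zpow_mul, zpow_natCast, ← hord b hb1, pow_orderOf_eq_one, one_zpow, mul_one]
        exact zpow_mem (mem_zpowers a) i
      obtain ⟨u, v, huv⟩ : IsCoprime j (p : ℤ) :=
        ((Nat.prime_iff_prime_int.1 hpr).coprime_iff_not_dvd.2 hj).symm
      have hk0 : 0 ≤ (i * u) % (p : ℤ) := Int.emod_nonneg _ (by exact_mod_cast hpr.ne_zero)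
      have hk1 : (i * u) % (p : ℤ) < p := Int.emod_lt_of_pos _ (by exact_mod_cast hpr.pos)
      refine ⟨some ⟨((i * u) % (p : ℤ)).toNat, by omega⟩, Subtype.ext ?_⟩
      show zpowers (a ^ ((((i * u) % (p : ℤ)).toNat : ℕ) : ℤ) * b) = H
      refine eq_of_le_of_card_ge (zpowers_le.2 ?_) (le_of_eq ?_)
      · rw [← hHx]
        refine mem_zpowers_iff.2 ⟨u, ?_⟩
        rw [mul_zpow, ← zpow_mul, ← zpow_mul, Int.toNat_of_nonneg hk0]
        congr 1
        · rw [zpow_eq_zpow_iff_modEq, hord a ha]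
          exact (Int.mod_modEq _ _).symm
        · conv_rhs => rw [← zpow_one b]
          rw [zpow_eq_zpow_iff_modEq, hord b hb1, Int.modEq_iff_dvd]
          exact ⟨v, by rw [← huv]; ring⟩
      · rw [hH, Nat.card_zpowers, hord]
        exact hne ⟨((i * u) % (p : ℤ)).toNat, by omega⟩
  rw [← Nat.card_eq_of_bijective F hF, Nat.card_eq_fintype_card, Fintype.card_option, Fintype.card_fin]

theorem maximalClass_count [Finite G] {n : ℕ} (hG : Nat.card G = p ^ n)
    (hcl : Group.nilpotencyClass G = n - 1) (hn : 3 ≤ n) :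
    Nat.card {N : Subgroup G // N.Normal ∧ N.index = p} = p + 1 := by
  have hP : IsPGroup p G := IsPGroup.of_card hG
  have hcard := maximalClass_card hG hcl hn 1 le_rfl (by omega)
  rw [top_lowerCentralSeries_one] at hcard
  set D := commutator G with hD
  set f := QuotientGroup.mk' D with hf
  have hQ : Nat.card (G ⧸ D) = p ^ 2 := by
    have h := card_mul_index D
    rw [hcard, hG] at h
    refine Nat.eq_of_mul_eq_mul_left (pow_pos (Fact.out : p.Prime).pos (n - 1 - 1)) ?_
    rw [← index_eq_card, h, ← pow_add]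
    congr 1
    omega
  have hQnc : ¬ IsCyclic (G ⧸ D) := by
    intro hc
    haveI := hP.isNilpotent
    obtain ⟨x, hx⟩ := hc.exists_generator
    obtain ⟨g, rfl⟩ := QuotientGroup.mk_surjective x
    have htop : zpowers g = ⊤ := by
      refine frattini_nongenerating (top_le_iff.1 ?_)
      refine le_trans ?_ (sup_le_sup_left (CfsgLib.PGroups.commutator_le_frattini hP) _)
      intro y _
      obtain ⟨i, hi⟩ := hx (QuotientGroup.mk y)
      have h1 : (g ^ i)⁻¹ * y ∈ D := by
        rw [← QuotientGroup.eq_one_iff, QuotientGroup.mk_mul, QuotientGroup.mk_inv,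
          QuotientGroup.mk_zpow, ← hi]
        exact inv_mul_cancel _
      rw [← mul_inv_cancel_left (g ^ i) y]
      exact mul_mem (mem_sup_left (zpow_mem (mem_zpowers g) i)) (mem_sup_right h1)
    have hlt : p ^ 2 ≤ (commutator G).index := by rw [← hD, index_eq_card, hQ]
    have hne : D ≠ ⊥ := fun hb => by
      rw [hb, card_bot] at hcard
      exact absurd hcard.symm (Nat.one_lt_pow (by omega) (Fact.out : p.Prime).one_lt).ne'
    refine hne (le_bot_iff.1 ?_)
    rw [hD, _root_.commutator_def, commutator_le]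
    intro a _ b _
    rw [mem_bot, commutatorElement_eq_one_iff_mul_comm]
    obtain ⟨i, rfl⟩ := mem_zpowers_iff.1 (htop ▸ mem_top a : a ∈ zpowers g)
    obtain ⟨j, rfl⟩ := mem_zpowers_iff.1 (htop ▸ mem_top b : b ∈ zpowers g)
    exact ((Commute.refl g).zpow_zpow i j).eq
  rw [← card_subgroups_prime_card hQ hQnc]
  refine Nat.card_congr
    ⟨fun N => ⟨(N : Subgroup G).map f, ?_⟩, fun H => ⟨(H : Subgroup (G ⧸ D)).comap f, ?_, ?_⟩, ?_, ?_⟩
  · obtain ⟨N, hN, hNi⟩ := N
    have hDN : D ≤ N := CfsgLib.PGroups.commutator_le_of_isCoatom hP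
      (CfsgLib.PGroups.isCoatom_of_index_eq_prime hNi)
    have h1 : (N.map f).index = p := by
      rw [index_map_eq _ (QuotientGroup.mk'_surjective D) (by rw [QuotientGroup.ker_mk']; exact hDN)]
      exact hNi
    have h2 := card_mul_index (N.map f)
    rw [h1, hQ, sq] at h2
    exact Nat.eq_of_mul_eq_mul_right (Fact.out : p.Prime).pos h2
  · exact ⟨fun x hx g => by
      show f (g * x * g⁻¹) ∈ (H : Subgroup (G ⧸ D))
      have h1 : (H : Subgroup (G ⧸ D)).Normal := by
        letI : CommGroup (G ⧸ D) := IsPGroup.commGroupOfCardEqPrimeSq hQ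
        exact inferInstance
      rw [map_mul, map_mul, map_inv]
      exact h1.conj_mem _ hx _⟩
  · rw [index_comap_of_surjective _ (QuotientGroup.mk'_surjective D)]
    have h2 := card_mul_index (H : Subgroup (G ⧸ D))
    rw [H.2, hQ, sq] at h2
    exact Nat.eq_of_mul_eq_mul_left (Fact.out : p.Prime).pos h2
  · intro N
    obtain ⟨N, hN, hNi⟩ := N
    ext1
    show (N.map f).comap f = N
    rw [comap_map_eq, QuotientGroup.ker_mk', sup_eq_left]
    exact CfsgLib.PGroups.commutator_le_of_isCoatom hP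
      (CfsgLib.PGroups.isCoatom_of_index_eq_prime hNi)
  · intro H
    ext1
    exact map_comap_eq_self_of_surjective (QuotientGroup.mk'_surjective D) _

end CfsgLib.PLocal
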