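import Mathlib
import Cfsg.Agent.Lib.PLocal.PSolvable

/-!
The p-length is at most the class of a Sylow p-subgroup.
-/

set_option autoImplicit false
set_option linter.style.haveILetI false

namespace CfsgLib.PLocal

open Subgroup Cfsg CfsgLib.Base

universe u

variable {G X : Type u} [Group G] [Group X] {p : ℕ}

theorem exists_equiv_quotient_comap {f : G →* X} (hf : Function.Surjective f) (N : Subgroup X)
    [N.Normal] :
    ∃ e : (G ⧸ N.comap f) ≃* (X ⧸ N),
      e.toMonoidHom.comp (QuotientGroup.mk' (N.comap f)) = (QuotientGroup.mk' N).comp f := by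
  have hk : N.comap f = ((QuotientGroup.mk' N).comp f).ker := by
    rw [← MonoidHom.comap_ker, QuotientGroup.ker_mk']
  refine ⟨(QuotientGroup.quotientMulEquivOfEq hk).trans
    (QuotientGroup.quotientKerEquivOfSurjective _ ((QuotientGroup.mk'_surjective _).comp hf)), ?_⟩
  ext x; rfl

theorem comap_pCore_comap {f : G →* X} (hf : Function.Surjective f) (N : Subgroup X) [N.Normal]
    (M : Subgroup G) [M.Normal] (hM : M = N.comap f) :
    ((pCore p (X ⧸ N)).comap (QuotientGroup.mk' N)).comap f
      = (pCore p (G ⧸ M)).comap (QuotientGroup.mk' M) := by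
  subst hM
  obtain ⟨e, he⟩ := exists_equiv_quotient_comap hf N
  rw [Subgroup.comap_comap, ← he, ← Subgroup.comap_comap, ← map_pCore_mulEquiv (p := p) e,
    Subgroup.comap_map_eq_self_of_injective e.injective]

theorem comap_pPrimeCore_comap {f : G →* X} (hf : Function.Surjective f) (N : Subgroup X) [N.Normal]
    (M : Subgroup G) [M.Normal] (hM : M = N.comap f) :
    ((pPrimeCore p (X ⧸ N)).comap (QuotientGroup.mk' N)).comap f
      = (pPrimeCore p (G ⧸ M)).comap (QuotientGroup.mk' M) := by
  subst hM
  obtain ⟨e, he⟩ := exists_equiv_quotient_comap hf N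
  rw [Subgroup.comap_comap, ← he, ← Subgroup.comap_comap, ← map_pPrimeCore_mulEquiv (p := p) e,
    Subgroup.comap_map_eq_self_of_injective e.injective]

theorem comap_upperPSeries (p : ℕ) (G : Type u) [Group G] (n : ℕ) :
    (upperPSeries p (G ⧸ (upperPSeries p G 2).1) n).1.comap
      (QuotientGroup.mk' (upperPSeries p G 2).1) = (upperPSeries p G (n + 2)).1 := by
  induction n with
  | zero => rw [upperPSeries_zero, MonoidHom.comap_bot, QuotientGroup.ker_mk']
  | succ n ih =>
    rcases Nat.even_or_odd' n with ⟨k, rfl | rfl⟩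
    · rw [upperPSeries_odd, show 2 * k + 1 + 2 = 2 * (k + 1) + 1 by ring, upperPSeries_odd]
      exact comap_pPrimeCore_comap (QuotientGroup.mk'_surjective _) _ _
        (by rw [ih]; congr 2)
    · rw [show 2 * k + 1 + 1 = 2 * k + 2 by ring, upperPSeries_even,
        show 2 * k + 2 + 2 = 2 * (k + 1) + 2 by ring, upperPSeries_even]
      exact comap_pCore_comap (QuotientGroup.mk'_surjective _) _ _
        (by rw [ih]; congr 2)

theorem upperPSeries_one_eq_top [Finite G] [Fact p.Prime] (h : (Nat.card G).Coprime p) :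
    (upperPSeries p G 1).1 = ⊤ := by
  rw [show (1 : ℕ) = 2 * 0 + 1 from rfl, upperPSeries_odd]
  have hc : (Nat.card (G ⧸ (upperPSeries p G (2 * 0)).1)).Coprime p := by
    refine h.coprime_dvd_left ?_
    exact (upperPSeries p G (2 * 0)).1.index_dvd_card
  rw [pPrimeCore_eq_top_iff.2 hc, comap_top]

/-- `Z(S) ≤ O_{p',p}(G)` in a p-solvable group. -/
theorem center_sylow_le [Finite G] [Fact p.Prime] (hG : IsPSolvable p G) (S : Sylow p G) :
    (Subgroup.center ↥(S : Subgroup G)).map (S : Subgroup G).subtype ≤ (upperPSeries p G 2).1 := by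
  rw [show (2 : ℕ) = 2 * 0 + 2 from rfl, upperPSeries_even, ← map_le_iff_le_comap]
  set N := (upperPSeries p G (2 * 0 + 1)).1 with hN
  have hO : pPrimeCore p (G ⧸ N) = ⊥ := by
    have e : N = (pPrimeCore p (G ⧸ (upperPSeries p G (2 * 0)).1)).comap
        (QuotientGroup.mk' (upperPSeries p G (2 * 0)).1) := upperPSeries_odd p G 0
    have e2 : N.map (QuotientGroup.mk' (upperPSeries p G (2 * 0)).1) = pPrimeCore p _ := by
      rw [e, CfsgLib.Base.map_mk'_comap]
    rw [← map_pPrimeCore_mulEquiv
      (QuotientGroup.quotientQuotientEquivQuotient (upperPSeries p G (2 * 0)).1 N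
        (upperPSeries_monotone p G (Nat.le_succ (2 * 0)))),
      ← map_pPrimeCore_mulEquiv (QuotientGroup.quotientMulEquivOfEq e2.symm),
      pPrimeCore_quotient_pPrimeCore, Subgroup.map_bot, Subgroup.map_bot]
  refine le_trans ?_ (centralizer_pCore_le (isPSolvable_quotient hG N) hO)
  intro y hy
  obtain ⟨_, ⟨z, hz, rfl⟩, rfl⟩ := hy
  refine mem_centralizer_iff.2 fun w hw => ?_
  have hle := pCore_le_sylow (S.mapSurjective (QuotientGroup.mk'_surjective N))
  obtain ⟨s, hs, rfl⟩ := hle hw
  rw [← map_mul, ← map_mul]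
  congr 1
  exact congrArg Subtype.val (mem_center_iff.1 hz ⟨s, hs⟩)

theorem pLengthLE_of_nilpotencyClass_le (c : ℕ) : ∀ {G : Type u} [Group G] [Finite G]
    [Fact p.Prime], IsPSolvable p G → ∀ S : Sylow p G,
      Group.nilpotencyClass ↥(S : Subgroup G) ≤ c → PLengthLE p c G := by
  induction c with
  | zero =>
    intro G _ _ hp hG S hS
    haveI : Group.IsNilpotent ↥(S : Subgroup G) := S.2.isNilpotent
    have hs : Subsingleton ↥(S : Subgroup G) :=
      Group.nilpotencyClass_zero_iff_subsingleton.1 (Nat.le_zero.1 hS)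
    refine upperPSeries_one_eq_top ((hp.out.coprime_iff_not_dvd.2 fun hd => ?_).symm)
    have hne := S.ne_bot_of_dvd_card hd
    exact hne (Subgroup.eq_bot_of_subsingleton _)
  | succ c ih =>
    intro G _ _ hp hG S hS
    set U := (upperPSeries p G 2).1 with hU
    haveI : Group.IsNilpotent ↥(S : Subgroup G) := S.2.isNilpotent
    set T := S.mapSurjective (QuotientGroup.mk'_surjective U) with hT
    let g : ↥(S : Subgroup G) →* ↥(T : Subgroup (G ⧸ U)) :=
      (QuotientGroup.mk' U).subgroupMap (S : Subgroup G)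
    have hg : Function.Surjective g := (QuotientGroup.mk' U).subgroupMap_surjective _
    have hker : Subgroup.center ↥(S : Subgroup G) ≤ g.ker := fun z hz =>
      Subtype.ext ((QuotientGroup.eq_one_iff _).2 (center_sylow_le hG S (mem_map_of_mem _ hz)))
    let g' : ↥(S : Subgroup G) ⧸ Subgroup.center ↥(S : Subgroup G) →* ↥(T : Subgroup (G ⧸ U)) :=
      QuotientGroup.lift _ g hker
    have hg' : Function.Surjective g' := fun y => by
      obtain ⟨x, hx⟩ := hg y
      exact ⟨QuotientGroup.mk x, hx⟩
    have h1 := Group.nilpotencyClass_le_of_surjective g' hg'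
    rw [Group.nilpotencyClass_quotient_center] at h1
    have h2 := ih (isPSolvable_quotient hG U) T (by omega)
    show (upperPSeries p G (2 * (c + 1) + 1)).1 = ⊤
    rw [show 2 * (c + 1) + 1 = (2 * c + 1) + 2 by ring, ← comap_upperPSeries, h2, comap_top]

end CfsgLib.PLocal
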