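import Mathlib
import Cfsg.Agent.Lib.PLocal.PLength
import Cfsg.Agent.Lib.Coprime.Action2
import Cfsg.Agent.Lib.PGroups.Basic
import Cfsg.Agent.Lib.Base.Frattini
import Cfsg.Agent.S0633

/-!
The action of a `p`-soluble group on the Frattini quotient of its `p`-core, and the resulting
bound from Theorem B of Hall and Higman.
-/

set_option autoImplicit false
set_option linter.style.haveILetI false
set_option maxHeartbeats 400000

namespace CfsgLib.PLocal.FrattiniRep

open Cfsg CfsgLib.Base
open scoped commutatorElement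

universe u

variable {X : Type u} [Group X] [Finite X] {p : ℕ} [Fact p.Prime]

/-- `(X - 1) ^ (p ^ m - 1) = 1 + X + ⋯ + X ^ (p ^ m - 1)` in characteristic `p`. -/
theorem geom_sum_pow {A : Type*} [Ring A] [Algebra (ZMod p) A] (f : A) (m : ℕ) :
    ∑ i ∈ Finset.range (p ^ m), f ^ i = (f - 1) ^ (p ^ m - 1) := by
  have h : ∑ i ∈ Finset.range (p ^ m), (Polynomial.X : Polynomial (ZMod p)) ^ i
      = (Polynomial.X - 1) ^ (p ^ m - 1) := by
    have hne : (Polynomial.X - 1 : Polynomial (ZMod p)) ≠ 0 := by
      rw [← Polynomial.C_1]; exact Polynomial.X_sub_C_ne_zero 1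
    refine mul_right_cancel₀ hne ?_
    rw [geom_sum_mul, ← pow_succ, Nat.sub_add_cancel (Nat.one_le_pow _ _ (Fact.out : p.Prime).pos),
      sub_pow_char_pow, one_pow]
  simpa using congrArg (Polynomial.aeval f) h

/-- The data of the action of `X` on `O_p(X) / Φ(O_p(X))`. -/
structure Data (X : Type u) [Group X] (p : ℕ) where
  V : Type u
  [addCommGroup : AddCommGroup V]
  [module : Module (ZMod p) V]
  [finite : Finite V]
  proj : ↥(pCore p X) → V
  ρ : X →* (V ≃ₗ[ZMod p] V)
  proj_mul : ∀ a b, proj (a * b) = proj a + proj b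
  proj_surjective : Function.Surjective proj
  conj : ∀ (x : X) (r r' : ↥(pCore p X)), (r' : X) = x * r * x⁻¹ → proj r' = ρ x (proj r)
  ker : ρ.ker = pCore p X

attribute [instance] Data.addCommGroup Data.module Data.finite

theorem exists_data (hG : IsPSolvable p X) (hO : pPrimeCore p X = ⊥) : Nonempty (Data X p) := by
  classical
  have hpp : p.Prime := Fact.out
  set R := pCore p X with hR
  haveI : R.Normal := pCore_normal p X
  have hRp : IsPGroup p R := isPGroup_pCore p X
  letI : CommGroup (R ⧸ frattini R) :=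
    { (inferInstance : Group (R ⧸ frattini R)) with
      mul_comm := fun a b => by
        obtain ⟨a, rfl⟩ := QuotientGroup.mk_surjective a
        obtain ⟨b, rfl⟩ := QuotientGroup.mk_surjective b
        rw [← QuotientGroup.mk_mul, ← QuotientGroup.mk_mul, QuotientGroup.eq]
        refine CfsgLib.PGroups.commutator_le_frattini hRp ?_
        rw [show (a * b)⁻¹ * (b * a) = ⁅b⁻¹, a⁻¹⁆ by simp [commutatorElement_def, mul_assoc],
          _root_.commutator_def]
        exact Subgroup.commutator_mem_commutator (Subgroup.mem_top _) (Subgroup.mem_top _) }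
  have hexp : ∀ a : R ⧸ frattini R, a ^ p = 1 := fun a => by
    obtain ⟨a, rfl⟩ := QuotientGroup.mk_surjective a
    rw [← QuotientGroup.mk_pow, QuotientGroup.eq_one_iff]
    exact CfsgLib.PGroups.pow_mem_frattini hRp a
  letI : Module (ZMod p) (Additive (R ⧸ frattini R)) := AddCommGroup.zmodModule (n := p) hexp
  let σ : X →* MulAut (R ⧸ frattini R) := MonoidHom.mk'
    (fun x => QuotientGroup.congr _ _ (MulAut.conjNormal x) (map_frattini_mulEquiv _))
    (fun x y => MulEquiv.ext fun a => by
      obtain ⟨a, rfl⟩ := QuotientGroup.mk_surjective a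
      show ((MulAut.conjNormal (x * y) a : R) : R ⧸ frattini R) =
        ((MulAut.conjNormal x (MulAut.conjNormal y a) : R) : R ⧸ frattini R)
      rw [map_mul, MulAut.mul_apply])
  let τ : MulAut (R ⧸ frattini R) →* Module.End (ZMod p) (Additive (R ⧸ frattini R)) :=
    { toFun := fun φ => φ.toMonoidHom.toAdditive.toZModLinearMap p
      map_one' := LinearMap.ext fun _ => rfl
      map_mul' := fun _ _ => LinearMap.ext fun _ => rfl }
  let ρ : X →* (Additive (R ⧸ frattini R) ≃ₗ[ZMod p] Additive (R ⧸ frattini R)) :=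
    (LinearMap.GeneralLinearGroup.generalLinearEquiv (ZMod p) _).toMonoidHom.comp
      (τ.toHomUnits.comp σ)
  have hρ : ∀ (x : X) (r : R), ρ x (Additive.ofMul (r : R ⧸ frattini R)) =
      Additive.ofMul ((MulAut.conjNormal x r : R) : R ⧸ frattini R) := fun _ _ => rfl
  refine ⟨{ V := Additive (R ⧸ frattini R)
            proj := fun r => Additive.ofMul (r : R ⧸ frattini R)
            ρ := ρ
            proj_mul := fun _ _ => rfl
            proj_surjective := fun v => by
              obtain ⟨a, ha⟩ := QuotientGroup.mk_surjective (Additive.toMul v)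
              exact ⟨a, congrArg Additive.ofMul ha⟩
            conj := fun x r r' h => by
              rw [hρ]
              exact congrArg _ (congrArg _ (Subtype.ext (by rw [MulAut.conjNormal_apply]; exact h)))
            ker := ?_ }⟩
  have hker : ∀ x : X, x ∈ ρ.ker ↔ ∀ r : R,
      ((MulAut.conjNormal x r : R) : R ⧸ frattini R) = (r : R ⧸ frattini R) := by
    intro x
    rw [MonoidHom.mem_ker]
    constructor
    · intro h r
      exact Additive.ofMul.injective ((hρ x r).symm.trans (LinearEquiv.congr_fun h _))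
    · intro h
      refine LinearEquiv.ext fun v => ?_
      obtain ⟨a, ha⟩ := QuotientGroup.mk_surjective (Additive.toMul v)
      have hv : v = Additive.ofMul (a : R ⧸ frattini R) := (congrArg Additive.ofMul ha).symm
      rw [hv, hρ, h a]
      rfl
  refine le_antisymm ?_ fun x hx => (hker x).2 fun r => ?_
  · haveI : ρ.ker.Normal := inferInstance
    refine le_pCore fun x => ?_
    set y : X := (x : X) with hy
    have hy' : y ∈ ρ.ker := x.2
    obtain ⟨e, m, hm, hem⟩ := Nat.exists_eq_pow_mul_and_not_dvd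
      (Nat.pos_iff_ne_zero.1 (orderOf_pos y)) p hpp.ne_one
    refine ⟨e, Subtype.ext ?_⟩
    show y ^ p ^ e = 1
    set z := y ^ p ^ e with hz
    have hzker : z ∈ ρ.ker := pow_mem hy' _
    have hzm : z ^ m = 1 := by rw [hz, ← pow_mul, ← hem, pow_orderOf_eq_one]
    have hzc : (orderOf z).Coprime p :=
      (hpp.coprime_iff_not_dvd.2 fun h => hm (h.trans (orderOf_dvd_of_pow_eq_one hzm))).symm
    obtain ⟨a, ha⟩ := IsPGroup.iff_card.1 (hRp.to_subgroup (frattini R))
    have hle : Subgroup.zpowers z ≤ Subgroup.centralizer (R : Set X) := by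
      refine CfsgLib.Coprime.le_centralizer_of_trivial_mod_frattini
        (Subgroup.normalizer_eq_top (H := R) ▸ le_top) ?_ ?_
      · rw [Nat.card_zpowers, ha]
        exact hzc.pow_right a
      · intro w hw k hk
        have h1 := (hker w).1 ((Subgroup.zpowers_le.2 hzker) hw) ⟨k, hk⟩
        rw [QuotientGroup.eq] at h1
        have h2 := (inferInstance : (frattini R).Normal).conj_mem _ ((frattini R).inv_mem h1)
          (MulAut.conjNormal w (⟨k, hk⟩ : R))
        refine ⟨_, h2, ?_⟩
        simp [MulAut.conjNormal_apply, mul_assoc]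
    have hzR : z ∈ R := centralizer_pCore_le hG hO (hle (Subgroup.mem_zpowers z))
    obtain ⟨j, hj⟩ := hRp ⟨z, hzR⟩
    exact orderOf_eq_one_iff.1 (Nat.eq_one_of_dvd_coprimes (hzc.pow_right j) dvd_rfl
      (orderOf_dvd_of_pow_eq_one (congrArg Subtype.val hj)))
  · have hc : (MulAut.conjNormal x r : R) = ⟨x, hx⟩ * r * (⟨x, hx⟩ : R)⁻¹ :=
      Subtype.ext (by simp [MulAut.conjNormal_apply])
    rw [hc, QuotientGroup.mk_mul, QuotientGroup.mk_mul, QuotientGroup.mk_inv, mul_comm _
      (r : R ⧸ frattini R), mul_inv_cancel_right]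

namespace Data

variable (D : Data X p)

omit [Finite X] in
theorem proj_one : D.proj 1 = 0 := by
  have h := D.proj_mul 1 1
  rw [mul_one] at h
  simpa using h

/-- The endomorphism induced by `x`. -/
def f (x : X) : Module.End (ZMod p) D.V := (D.ρ x : Module.End (ZMod p) D.V)

omit [Finite X] in
theorem f_pow (x : X) (k : ℕ) : D.f x ^ k = D.f (x ^ k) := by
  induction k with
  | zero => rw [pow_zero, pow_zero, f, map_one]; rfl
  | succ k ih => rw [pow_succ, pow_succ, ih, f, f, f, map_mul]; rfl

omit [Finite X] in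
theorem f_eq_one {x : X} (hx : x ∈ pCore p X) : D.f x = 1 := by
  have h : D.ρ x = 1 := MonoidHom.mem_ker.1 (D.ker ▸ hx)
  rw [f, h]; rfl

omit [Finite X] in
/-- The `k`-th power of `r x`. -/
theorem exists_pow_eq (x : X) (r : ↥(pCore p X)) (k : ℕ) :
    ∃ c : ↥(pCore p X), ((r : X) * x) ^ k = (c : X) * x ^ k ∧
      D.proj c = (∑ i ∈ Finset.range k, D.f x ^ i) (D.proj r) := by
  induction k with
  | zero => exact ⟨1, by simp, by simp [proj_one]⟩
  | succ k ih =>
    obtain ⟨c, hc, hpc⟩ := ih
    set c' : ↥(pCore p X) := ⟨x * c * x⁻¹, (pCore_normal p X).conj_mem _ c.2 x⟩ with hc'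
    refine ⟨r * c', ?_, ?_⟩
    · rw [pow_succ', hc, Subgroup.coe_mul, hc', pow_succ']
      group
    · rw [D.proj_mul, D.conj x c c' rfl, hpc, geom_sum_succ, LinearMap.add_apply, add_comm]
      rfl

/-- Theorem B: outside the exceptional case the minimal polynomial has full degree. -/
theorem exists_ne_zero (hG : IsPSolvable p X) {x : X} {m : ℕ} (hm : 1 ≤ m)
    (hx : orderOf (D.ρ x) = p ^ m)
    (hexc : ∀ n₀ q k : ℕ, 1 ≤ n₀ → n₀ ≤ m → q.Prime → 1 ≤ k → p ^ n₀ - 1 = q ^ k →
      ∃ Q : Sylow q X, IsMulCommutative (Q : Subgroup X)) :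
    ∃ v : D.V, ((D.f x - 1) ^ (p ^ m - 1)) v ≠ 0 := by
  classical
  have hpp : p.Prime := Fact.out
  haveI : Nontrivial D.V := by
    by_contra h
    rw [not_nontrivial_iff_subsingleton] at h
    have h1 : D.ρ x = 1 := LinearEquiv.ext fun v => Subsingleton.elim _ _
    rw [h1, orderOf_one] at hx
    exact absurd hx (Nat.one_lt_pow (by omega) hpp.one_lt).ne
  have hsur := D.ρ.rangeRestrict_surjective
  have hOp : pCore p D.ρ.range = ⊥ := by
    rw [← map_pCore_mulEquiv (QuotientGroup.quotientKerEquivRange D.ρ),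
      ← map_pCore_mulEquiv (QuotientGroup.quotientMulEquivOfEq D.ker.symm), pCore_quotient_pCore,
      Subgroup.map_bot, Subgroup.map_bot]
  have hfP : (D.f x - 1) ^ p ^ m = 0 := by
    haveI : CharP (Module.End (ZMod p) D.V) p :=
      charP_of_injective_algebraMap (algebraMap (ZMod p) (Module.End (ZMod p) D.V)).injective p
    rw [sub_pow_char_pow_of_commute (R := Module.End (ZMod p) D.V) p m (Commute.one_right _),
      one_pow, f_pow, f, map_pow, ← hx, pow_orderOf_eq_one, sub_eq_zero]
    rfl
  have hprime : Prime (Polynomial.X - 1 : Polynomial (ZMod p)) := by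
    rw [← Polynomial.C_1]; exact Polynomial.prime_X_sub_C 1
  have hmonic : (Polynomial.X - 1 : Polynomial (ZMod p)).Monic := by
    rw [← Polynomial.C_1]; exact Polynomial.monic_X_sub_C 1
  obtain ⟨r, -, hr⟩ := (dvd_prime_pow hprime _).1 (minpoly.dvd (ZMod p) (D.f x)
    (p := (Polynomial.X - 1) ^ p ^ m) (by simpa using hfP))
  have hr' : minpoly (ZMod p) (D.f x) = (Polynomial.X - 1) ^ r :=
    Polynomial.eq_of_monic_of_associated (minpoly.monic (Algebra.IsIntegral.isIntegral _))
      (hmonic.pow r) hr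
  haveI : Finite D.ρ.range := Finite.of_surjective _ hsur
  rcases Cfsg.Agent.S0633.result D.ρ.range (isPSolvable_of_surjective D.ρ.rangeRestrict hsur hG)
    hOp (D.ρ x) ⟨x, rfl⟩ m hx r hr' with h | ⟨n₀, q, k, h1, h2, h3, h4, h5, h6, -⟩
  · by_contra hall
    push Not at hall
    have h0 : (D.f x - 1) ^ (p ^ m - 1) = 0 := LinearMap.ext hall
    have h1 : minpoly (ZMod p) (D.f x) ∣ (Polynomial.X - 1) ^ (p ^ m - 1) :=
      minpoly.dvd (ZMod p) (D.f x) (by simpa using h0)
    rw [hr', h] at h1
    have h2 := (pow_dvd_pow_iff hprime.ne_zero hprime.not_isUnit).1 h1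
    have := Nat.one_le_pow m p hpp.pos
    omega
  · haveI : Fact q.Prime := ⟨h3⟩
    obtain ⟨Q, hQ⟩ := hexc n₀ q k h1 h2 h3 h4 h5
    refine absurd (Subgroup.map_isMulCommutative (Q : Subgroup X) D.ρ.rangeRestrict) ?_
    exact h6 (Q.mapSurjective hsur)

end Data

end CfsgLib.PLocal.FrattiniRep
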