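import Mathlib
import Cfsg.Agent.Lib.OddOrder.QuadraticPair

/-!
A quadratic pair acting irreducibly leaves a natural `SL₂(p)`-plane.
-/

set_option autoImplicit false

namespace CfsgLib.PLocal.Plane

open Matrix
open scoped OnePoint
open CfsgLib.Classical (uSL lSL uSL_coe lSL_coe)
open CfsgLib.OddOrder.SL2

section Standard

variable {K : Type*} [Field K]

/-- Two transvections with lower parameter `±1` give a copy of `SL₂(p)`. -/
theorem exists_sl2_std_of_pair (p : ℕ) [Fact p.Prime] [CharP K p]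
    (L : Subgroup (Matrix.SpecialLinearGroup (Fin 2) K)) (hu : uSL 1 ∈ L) (x0 : K) {s : K}
    (hs : s = 1 ∨ s = -1) (hl : uSL x0 * lSL s * (uSL x0)⁻¹ ∈ L) :
    ∃ x : K, ∀ g : Matrix.SpecialLinearGroup (Fin 2) (ZMod p),
      uSL x * Matrix.SpecialLinearGroup.map (n := Fin 2) (ZMod.castHom (dvd_refl p) K) g * (uSL x)⁻¹ ∈ L := by
  set f := ZMod.castHom (dvd_refl p) K with hf
  set φ := (MulAut.conj (uSL x0)).toMonoidHom.comp (Matrix.SpecialLinearGroup.map (n := Fin 2) f)
  refine ⟨x0, ?_⟩
  have hu' : uSL 1 ∈ L.comap φ := by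
    show uSL x0 * Matrix.SpecialLinearGroup.map f (uSL 1) * (uSL x0)⁻¹ ∈ L
    rw [map_uSL, map_one, ← uSL_neg, ← uSL_add, ← uSL_add,
      show x0 + 1 + -x0 = 1 from by abel]
    exact hu
  have hl' : lSL 1 ∈ L.comap φ := by
    show uSL x0 * Matrix.SpecialLinearGroup.map f (lSL 1) * (uSL x0)⁻¹ ∈ L
    rw [map_lSL, map_one]
    rcases hs with rfl | rfl
    · exact hl
    · have h := inv_mem hl
      rwa [_root_.mul_inv_rev, _root_.mul_inv_rev, inv_inv, ← mul_assoc,
        show (lSL (-1 : K))⁻¹ = lSL 1 from inv_eq_of_mul_eq_one_right (by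
          rw [← lSL_add, neg_add_cancel]
          exact Matrix.SpecialLinearGroup.transvection_coeff_zero _)] at h
  intro a
  have := zmod_eq_top hu' hl'
  exact (this ▸ Subgroup.mem_top a : a ∈ L.comap φ)

variable [DecidableEq K] [IsAlgClosed K] {p : ℕ} [Fact p.Prime] [CharP K p]

omit [DecidableEq K] in
/-- **Dickson**: `SL₂(p)` lies in every finite subgroup with two opposite transvections. -/
theorem exists_sl2_std (hp : p ≠ 2) (L : Subgroup (Matrix.SpecialLinearGroup (Fin 2) K)) [Finite L]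
    (hu : uSL 1 ∈ L) {t : K} (ht : t ≠ 0) (hw : lSL t ∈ L) :
    ∃ x : K, ∀ g : Matrix.SpecialLinearGroup (Fin 2) (ZMod p),
      uSL x * Matrix.SpecialLinearGroup.map (n := Fin 2) (ZMod.castHom (dvd_refl p) K) g * (uSL x)⁻¹ ∈ L := by
  classical
  rcases dickson_count hp L hu ht hw with h | ⟨h3, hS⟩
  · exact exists_sl2_std_of_pair p L hu 0 (Or.inl rfl)
      (by simpa [uSL_zero] using lSL_one_mem hp L hu ht hw h)
  subst h3
  have hthree : (3 : K) = 0 := by exact_mod_cast CharP.cast_eq_zero K 3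
  obtain ⟨g, hg, hg4⟩ : ∃ g ∈ L, g.1 1 0 ^ 4 = 1 := by
    by_cases ht4 : t ^ 4 = 1
    · exact ⟨_, hw, by simpa [lSL_coe] using ht4⟩
    have hnine : ∀ g ∈ L, tr g ^ 9 = tr g := by
      intro g hg
      rcases hS g hg with h | h | h
      · rw [h]; ring
      · linear_combination (tr g ^ 5 + tr g) * h
      · linear_combination (tr g ^ 5 - tr g) * h
    have htr : ∀ x : K, tr (uSL x * lSL t) = 2 + x * t := by
      intro x
      simp [tr, Matrix.mul_apply, Fin.sum_univ_two, uSL_coe, lSL_coe]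
      ring
    have hu' : uSL (-1 : K) ∈ L := by rw [uSL_neg]; exact inv_mem hu
    have hpl : tr (uSL (1 : K) * lSL t) = t - 1 := by rw [htr]; linear_combination hthree
    have hmi : tr (uSL (-1 : K) * lSL t) = -t - 1 := by rw [htr]; linear_combination hthree
    have ht9 : t ^ 9 = t := by
      have h := hnine _ (mul_mem hu hw)
      rw [hpl, show (9 : ℕ) = 3 ^ 2 by norm_num, sub_pow_char_pow, one_pow] at h
      linear_combination h
    have ht8 : t ^ 4 = -1 := by
      have h : t ^ 8 = 1 := mul_left_cancel₀ ht (by linear_combination ht9)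
      exact (mul_self_eq_one_iff.1 (by linear_combination h : t ^ 4 * t ^ 4 = 1)).resolve_left ht4
    obtain ⟨a, ha, ha4⟩ : ∃ a : K, uSL a ∈ L ∧ tr (uSL a * lSL t) ^ 4 = -1 := by
      rcases hS _ (mul_mem hu hw) with h | h | h
      · exact absurd (by rw [sub_eq_zero.1 (hpl ▸ h : t - 1 = 0)]; norm_num) ht4
      · rcases hS _ (mul_mem hu' hw) with h' | h' | h'
        · exact absurd (by rw [show t = -1 by linear_combination -(hmi ▸ h' : -t - 1 = 0)]; norm_num) ht4
        · exfalso
          rw [hpl] at h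
          rw [hmi] at h'
          have h8 : t * (t ^ 2 + 1) = 0 := by linear_combination h - h' + (3 * t ^ 3 + 3 * t) * hthree
          rcases mul_eq_zero.1 h8 with h9 | h9
          · exact ht h9
          · exact ht4 (by linear_combination (t ^ 2 - 1) * h9)
        · exact ⟨-1, hu', h'⟩
      · exact ⟨1, hu, h⟩
    refine ⟨uSL a * lSL t * (uSL a * lSL t), mul_mem (mul_mem ha hw) (mul_mem ha hw), ?_⟩
    rw [(mul_self_entries _).2.2.1, mul_pow, ha4]
    have h10 : (uSL a * lSL t).1 1 0 = t := by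
      simp [Matrix.mul_apply, Fin.sum_univ_two, uSL_coe, lSL_coe]
    rw [h10, ht8]
    ring
  have hc : g.1 1 0 ≠ 0 := fun h => by rw [h] at hg4; norm_num at hg4
  refine exists_sl2_std_of_pair 3 L hu (g.1 0 0 / g.1 1 0) (s := -(g.1 1 0 * g.1 1 0)) ?_ ?_
  · rcases mul_self_eq_one_iff.1 (by linear_combination hg4 :
      g.1 1 0 * g.1 1 0 * (g.1 1 0 * g.1 1 0) = 1) with h | h
    · exact Or.inr (by rw [h])
    · exact Or.inl (by rw [h, neg_neg])
  · have he : uSL (g.1 0 0 / g.1 1 0) * lSL (-(g.1 1 0 * g.1 1 0)) *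
        uSL (-(g.1 0 0 / g.1 1 0)) * g = g * uSL 1 := by
      have hd := det_eq g
      apply Subtype.ext
      ext i j
      fin_cases i <;> fin_cases j <;>
        simp [Matrix.mul_apply, Fin.sum_univ_two, uSL_coe, lSL_coe] <;> field_simp
      · ring
      · linear_combination g.1 0 0 * g.1 1 0 * hd
      · ring
      · linear_combination g.1 1 0 * hd
    rw [← uSL_neg, eq_mul_inv_iff_mul_eq.2 he]
    exact mul_mem (mul_mem hg hu) (inv_mem hg)

end Standard

variable {p : ℕ} [Fact p.Prime]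

theorem exists_sl2_std_finite {K : Type*} [Field K] [Finite K] [CharP K p] (hp : p ≠ 2)
    (L : Subgroup (Matrix.SpecialLinearGroup (Fin 2) K)) (hu : uSL 1 ∈ L) {t : K} (ht : t ≠ 0)
    (hw : lSL t ∈ L) :
    ∃ x : K, ∀ g : Matrix.SpecialLinearGroup (Fin 2) (ZMod p),
      uSL x * Matrix.SpecialLinearGroup.map (n := Fin 2) (ZMod.castHom (dvd_refl p) K) g * (uSL x)⁻¹ ∈ L := by
  classical
  let F := AlgebraicClosure K
  let f : K →+* F := algebraMap K F
  haveI : CharP F p := charP_of_injective_algebraMap f.injective p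
  let Φ := Matrix.SpecialLinearGroup.map (n := Fin 2) f
  haveI : Finite L := inferInstance
  haveI : Finite (L.map Φ) := Finite.of_surjective _ (Φ.subgroupMap_surjective L)
  obtain ⟨x, hx⟩ := exists_sl2_std (p := p) hp (L.map Φ)
    ⟨uSL 1, hu, by rw [CfsgLib.OddOrder.SL2.map_uSL, map_one]⟩ (t := f t)
    (fun h => ht (f.injective (by rw [h, map_zero]))) ⟨lSL t, hw, CfsgLib.OddOrder.SL2.map_lSL f t⟩
  obtain ⟨y, rfl⟩ : ∃ y : K, f y = x := by
    obtain ⟨M, -, hM⟩ := hx (lSL 1)
    refine ⟨M.1 0 0 - 1, ?_⟩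
    have h1 := congrArg (fun N : Matrix.SpecialLinearGroup (Fin 2) F => N.1 0 0) hM
    rw [← uSL_neg, CfsgLib.OddOrder.SL2.map_lSL, map_one] at h1
    simp [Φ, Matrix.mul_apply, Fin.sum_univ_two, uSL_coe, lSL_coe] at h1
    simp [map_sub, h1]
  refine ⟨y, fun g => ?_⟩
  obtain ⟨M, hM, hMeq⟩ := hx g
  have e : Matrix.SpecialLinearGroup.map (n := Fin 2) (ZMod.castHom (dvd_refl p) F) g
      = Φ (Matrix.SpecialLinearGroup.map (n := Fin 2) (ZMod.castHom (dvd_refl p) K) g) := by
    apply Subtype.ext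
    ext i j
    exact RingHom.congr_fun (RingHom.ext_zmod (ZMod.castHom (dvd_refl p) F)
      (f.comp (ZMod.castHom (dvd_refl p) K))) (g.1 i j)
  have hinj : Function.Injective Φ := fun a b h => Subtype.ext <| Matrix.ext fun i j =>
    f.injective (congrFun (congrFun (congrArg Subtype.val h) i) j)
  rw [e, ← CfsgLib.OddOrder.SL2.map_uSL f y, ← map_inv, ← map_mul, ← map_mul] at hMeq
  exact hinj hMeq ▸ hM

theorem eq_one_of_fixed {X : Type*} [Group X] {W : Type*} [AddCommGroup W] [Module (ZMod p) W]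
    (ρ : X →* Module.End (ZMod p) W) {a b : X} (hgen : Subgroup.closure ({a, b} : Set X) = ⊤)
    (hirr : ∀ U : Submodule (ZMod p) W, (∀ h, U ≤ U.comap (ρ h)) → U = ⊥ ∨ U = ⊤)
    {v : W} (hv : v ≠ 0) (ha : (ρ a - 1) v = 0) (hb : (ρ b - 1) v = 0) (h : X) : ρ h = 1 := by
  have hfix : ∀ h : X, ρ h v = v := by
    intro h
    have hh : h ∈ Subgroup.closure ({a, b} : Set X) := hgen ▸ Subgroup.mem_top h
    induction hh using Subgroup.closure_induction with
    | mem z hz =>
      rcases hz with rfl | rfl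
      · simpa [sub_eq_zero] using ha
      · simpa [sub_eq_zero] using hb
    | one => simp
    | mul g h _ _ hg hh => rw [map_mul, Module.End.mul_apply, hh, hg]
    | inv g _ hg =>
      nth_rewrite 1 [← hg]
      rw [← Module.End.mul_apply, ← map_mul, inv_mul_cancel, map_one, Module.End.one_apply]
  have htop : (ZMod p ∙ v) = ⊤ := by
    refine (hirr _ fun g => ?_).resolve_left fun hb' => hv ?_
    · rw [Submodule.span_singleton_le_iff_mem, Submodule.mem_comap, hfix]
      exact Submodule.mem_span_singleton_self v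
    · have hm : v ∈ (ZMod p ∙ v) := Submodule.mem_span_singleton_self v
      rwa [hb', Submodule.mem_bot] at hm
  refine LinearMap.ext fun u => ?_
  obtain ⟨s, rfl⟩ := Submodule.mem_span_singleton.1 (htop ▸ Submodule.mem_top : u ∈ (ZMod p ∙ v))
  rw [map_smul, hfix, Module.End.one_apply]

/-- An irreducible nontrivial quadratic pair has a natural plane. -/
theorem exists_prime_plane {X : Type*} [Group X] {W : Type*} [AddCommGroup W]
    [Module (ZMod p) W] [Finite W] [Nontrivial W] (hp : p ≠ 2)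
    (ρ : X →* Module.End (ZMod p) W) {a b : X} (hgen : Subgroup.closure ({a, b} : Set X) = ⊤)
    (ha : (ρ a - 1) * (ρ a - 1) = 0) (hb : (ρ b - 1) * (ρ b - 1) = 0)
    (hirr : ∀ U : Submodule (ZMod p) W, (∀ h, U ≤ U.comap (ρ h)) → U = ⊥ ∨ U = ⊤)
    (hne : ∃ h, ρ h ≠ 1) :
    ∃ ψ : (Fin 2 → ZMod p) →+ W, Function.Injective ψ ∧
      ∀ g : Matrix.SpecialLinearGroup (Fin 2) (ZMod p), ∃ h : X, ∀ v,
        ρ h (ψ v) = ψ (g.1.mulVec v) := by
  classical
  obtain ⟨h0, hh0⟩ := hne
  set A := ρ a - 1 with hA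
  set B := ρ b - 1 with hB
  set c := A * B + B * A with hc
  have hAA : A * A = 0 := ha
  have hBB : B * B = 0 := hb
  -- `c` commutes with the image
  have hcA : Commute c A := by
    show (A * B + B * A) * A = A * (A * B + B * A)
    rw [add_mul, mul_add, mul_assoc B A A, hAA, mul_zero, ← mul_assoc A A B, hAA, zero_mul,
      add_zero, zero_add, mul_assoc]
  have hcB : Commute c B := by
    show (A * B + B * A) * B = B * (A * B + B * A)
    rw [add_mul, mul_add, mul_assoc A B B, hBB, mul_zero, ← mul_assoc B B A, hBB, zero_mul,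
      add_zero, zero_add, mul_assoc]
  have hca : Commute c (ρ a) := by
    have := hcA.add_right (Commute.one_right c)
    rwa [hA, sub_add_cancel] at this
  have hcb : Commute c (ρ b) := by
    have := hcB.add_right (Commute.one_right c)
    rwa [hB, sub_add_cancel] at this
  set K : Subalgebra (ZMod p) (Module.End (ZMod p) W) := Algebra.adjoin (ZMod p) {c} with hK
  have hcK : c ∈ K := Algebra.self_mem_adjoin_singleton _ c
  have hcomm : ∀ h : X, ∀ x ∈ K, Commute x (ρ h) := by
    intro h x hx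
    have hch : Commute c (ρ h) := by
      have hh : h ∈ Subgroup.closure ({a, b} : Set X) := hgen ▸ Subgroup.mem_top h
      induction hh using Subgroup.closure_induction with
      | mem z hz => rcases hz with rfl | rfl <;> assumption
      | one => rw [map_one]; exact Commute.one_right c
      | mul g h _ _ hg hh => rw [map_mul]; exact hg.mul_right hh
      | inv g _ hg =>
        show c * ρ g⁻¹ = ρ g⁻¹ * c
        calc c * ρ g⁻¹ = ρ (g⁻¹ * g) * c * ρ g⁻¹ := by rw [inv_mul_cancel, map_one, one_mul]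
          _ = ρ g⁻¹ * (c * ρ g) * ρ g⁻¹ := by rw [map_mul, mul_assoc (ρ g⁻¹), hg.eq]
          _ = ρ g⁻¹ * c * ρ (g * g⁻¹) := by rw [map_mul]; simp [mul_assoc]
          _ = _ := by rw [mul_inv_cancel, map_one, mul_one]
    exact (Algebra.commute_of_mem_adjoin_singleton_of_commute hx hch.symm).symm
  have hinj : ∀ x ∈ K, x ≠ 0 → ∀ v, x v = 0 → v = 0 := by
    intro x hx hx0 v hv
    have hbot : LinearMap.ker x = ⊥ := by
      refine (hirr _ fun h u hu => ?_).resolve_right fun ht =>
        hx0 (LinearMap.ker_eq_top.1 ht)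
      rw [Submodule.mem_comap, LinearMap.mem_ker, ← Module.End.mul_apply, (hcomm h x hx).eq,
        Module.End.mul_apply, LinearMap.mem_ker.1 hu, map_zero]
    exact (Submodule.mem_bot _).1 (hbot ▸ LinearMap.mem_ker.2 hv)
  haveI : Finite (Module.End (ZMod p) W) :=
    Finite.of_injective (fun f => (f : W → W)) DFunLike.coe_injective
  haveI : Nontrivial K := ⟨0, 1, fun h => by
    obtain ⟨v, hv⟩ := exists_ne (0 : W)
    exact hv (LinearMap.congr_fun (congrArg Subtype.val h) v).symm⟩
  letI : CommRing K :=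
    { (inferInstance : Ring K) with
      mul_comm := fun x y => Subtype.ext <|
        (Algebra.commute_of_mem_adjoin_singleton_of_commute y.2
          (Algebra.commute_of_mem_adjoin_self x.2).symm).eq }
  haveI : NoZeroDivisors K := ⟨fun {x y} h => or_iff_not_imp_left.2 fun hx => Subtype.ext <|
    LinearMap.ext fun v => hinj x.1 x.2 (fun h0 => hx (Subtype.ext h0)) (y.1 v)
      (LinearMap.congr_fun (congrArg Subtype.val h) v)⟩
  haveI : IsDomain K := NoZeroDivisors.to_isDomain K
  letI : Field K := (Finite.isField_of_domain K).toField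
  haveI : CharP K p := charP_of_injective_ringHom (algebraMap (ZMod p) K).injective p
  let ρK : X →* Module.End K W :=
    { toFun := fun h =>
        { toFun := ρ h
          map_add' := map_add (ρ h)
          map_smul' := fun x v => by
            show ρ h (x.1 v) = x.1 (ρ h v)
            rw [← Module.End.mul_apply, ← Module.End.mul_apply, (hcomm h x.1 x.2).eq] }
      map_one' := LinearMap.ext fun v => by simp
      map_mul' := fun g h => LinearMap.ext fun v => by simp }
  obtain ⟨w, hw⟩ := exists_ne (0 : W)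
  have hρ : ∀ (h : X) (v : W), (ρK h - 1) v = (ρ h - 1) v := fun h v => rfl
  rcases CfsgLib.OddOrder.fixed_or_plane (ρK a - 1) (ρK b - 1)
    (LinearMap.ext fun v => LinearMap.congr_fun hAA v)
    (LinearMap.ext fun v => LinearMap.congr_fun hBB v) hw (l := (⟨c, hcK⟩ : K)) rfl with
    ⟨v, hv, hva, hvb⟩ | ⟨hl0, φ, hφ, hX, hY⟩
  · exact absurd (eq_one_of_fixed ρ hgen hirr hv hva hvb h0) hh0
  let L : Subgroup (Matrix.SpecialLinearGroup (Fin 2) K) :=
    { carrier := {M | ∃ h : X, ∀ v, ρK h (φ v) = φ (M.1.mulVec v)}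
      one_mem' := ⟨1, fun v => by simp⟩
      mul_mem' := by
        rintro M N ⟨g, hg⟩ ⟨h, hh⟩
        refine ⟨g * h, fun v => ?_⟩
        rw [map_mul, Module.End.mul_apply, hh, hg, Matrix.SpecialLinearGroup.coe_mul,
          Matrix.mulVec_mulVec]
      inv_mem' := by
        rintro M ⟨g, hg⟩
        refine ⟨g⁻¹, fun v => ?_⟩
        have h1 : φ v = φ (M.1.mulVec ((M⁻¹).1.mulVec v)) := by
          rw [Matrix.mulVec_mulVec, ← Matrix.SpecialLinearGroup.coe_mul, mul_inv_cancel,
            Matrix.SpecialLinearGroup.coe_one, Matrix.one_mulVec]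
        rw [h1, ← hg, ← Module.End.mul_apply, ← map_mul, inv_mul_cancel, map_one,
          Module.End.one_apply] }
  obtain ⟨x, hx⟩ := exists_sl2_std_finite (p := p) hp L
    ⟨a, fun v => by simpa using hX v⟩ hl0 ⟨b, fun v => by simpa using hY v⟩
  let cast : ZMod p →+* K := ZMod.castHom (dvd_refl p) K
  refine ⟨AddMonoidHom.mk' (fun v => φ ((uSL x).1.mulVec (cast ∘ v))) fun u v => ?_, ?_, ?_⟩
  · rw [← map_add, ← Matrix.mulVec_add]
    congr 2
    funext i
    exact map_add cast _ _
  · intro u v huv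
    have h1 := hφ huv
    have h2 := congrArg ((uSL x)⁻¹).1.mulVec h1
    rw [Matrix.mulVec_mulVec, Matrix.mulVec_mulVec, ← Matrix.SpecialLinearGroup.coe_mul,
      inv_mul_cancel, Matrix.SpecialLinearGroup.coe_one, Matrix.one_mulVec, Matrix.one_mulVec] at h2
    exact cast.injective.comp_left h2
  · intro g
    obtain ⟨h, hh⟩ := hx g
    refine ⟨h, fun v => ?_⟩
    show ρK h (φ ((uSL x).1.mulVec (cast ∘ v))) = φ ((uSL x).1.mulVec (cast ∘ g.1.mulVec v))
    rw [hh, Matrix.mulVec_mulVec, ← Matrix.SpecialLinearGroup.coe_mul, inv_mul_cancel_right,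
      Matrix.SpecialLinearGroup.coe_mul, ← Matrix.mulVec_mulVec]
    congr 2
    funext i
    exact (RingHom.map_mulVec cast g.1 v i).symm

end CfsgLib.PLocal.Plane
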