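import Mathlib
import Cfsg.Prelude.Def_PLocal
import Cfsg.Prelude.Def_LocalEven
import Cfsg.Agent.Lib.OddOrder.QuadraticSection
import Cfsg.Agent.Lib.PLocal.QuadraticPlane

/-!
A natural `SL₂(p)`-plane, and more generally a failure of p-stability, gives a section `Qd(p)`.
-/

set_option autoImplicit false
set_option linter.style.haveILetI false

namespace CfsgLib.PLocal

open Subgroup Cfsg Matrix
open scoped commutatorElement

/-- `H` is a homomorphic image of a subgroup of `G`. -/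
def InvHom (H G : Type*) [Group H] [Group G] : Prop :=
  ∃ (K : Subgroup G) (F : K →* H), Function.Surjective F

theorem InvHom.involves {H G : Type*} [Group H] [Group G] (h : InvHom H G) : Involves H G := by
  obtain ⟨K, F, hF⟩ := h
  have heq : (F.ker.map K.subtype).subgroupOf K = F.ker :=
    comap_map_eq_self_of_injective K.subtype_injective _
  haveI hn : ((F.ker.map K.subtype).subgroupOf K).Normal := by rw [heq]; infer_instance
  exact ⟨K, F.ker.map K.subtype, hn,
    ⟨(QuotientGroup.quotientMulEquivOfEq heq).trans (QuotientGroup.quotientKerEquivOfSurjective F hF)⟩⟩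

theorem InvHom.of_involves {H G : Type*} [Group H] [Group G] (h : Involves H G) : InvHom H G := by
  obtain ⟨K, R, hR, ⟨e⟩⟩ := h
  exact ⟨K, e.toMonoidHom.comp (QuotientGroup.mk' _), e.surjective.comp (QuotientGroup.mk'_surjective _)⟩

theorem InvHom.of_subgroup {H G : Type*} [Group H] [Group G] {S : Subgroup G} (h : InvHom H S) :
    InvHom H G := by
  obtain ⟨K, F, hF⟩ := h
  exact ⟨K.map S.subtype, F.comp (K.equivMapOfInjective S.subtype S.subtype_injective).symm.toMonoidHom,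
    hF.comp (MulEquiv.surjective _)⟩

theorem InvHom.of_surjective {H G Q : Type*} [Group H] [Group G] [Group Q] (π : G →* Q)
    (hπ : Function.Surjective π) (h : InvHom H Q) : InvHom H G := by
  obtain ⟨K, F, hF⟩ := h
  refine ⟨K.comap π, F.comp ((π.comp (K.comap π).subtype).codRestrict K fun x => x.2), fun y => ?_⟩
  obtain ⟨k, hk⟩ := hF y
  obtain ⟨x, hx⟩ := hπ k
  refine ⟨⟨x, by show π x ∈ K; rw [hx]; exact k.2⟩, ?_⟩
  rw [← hk, MonoidHom.comp_apply]
  exact congrArg F (Subtype.ext hx)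

variable {p : ℕ} [Fact p.Prime]

/-- The affine matrix `(g v; 0 1)`. -/
def affMat (v : Fin 2 → ZMod p) (g : Matrix.SpecialLinearGroup (Fin 2) (ZMod p)) :
    Matrix.SpecialLinearGroup (Fin 3) (ZMod p) :=
  ⟨!![g.1 0 0, g.1 0 1, v 0; g.1 1 0, g.1 1 1, v 1; 0, 0, 1], by
    have h := g.2
    rw [Matrix.det_fin_two] at h
    rw [Matrix.det_fin_three]
    simp
    linear_combination h⟩

theorem affMat_mul (u v : Fin 2 → ZMod p) (g h : Matrix.SpecialLinearGroup (Fin 2) (ZMod p)) :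
    affMat u g * affMat v h = affMat (u + g.1.mulVec v) (g * h) := by
  apply Subtype.ext
  rw [Matrix.SpecialLinearGroup.coe_mul]
  ext i j
  fin_cases i <;> fin_cases j <;>
    simp [affMat, Matrix.mul_apply, Fin.sum_univ_three, Fin.sum_univ_two, Matrix.mulVec,
      dotProduct] <;> ring

variable (p) in
/-- The hom on pairs. -/
theorem affMat_mem_qd (v : Fin 2 → ZMod p) (g : Matrix.SpecialLinearGroup (Fin 2) (ZMod p)) :
    affMat v g ∈ qd p :=
  subset_closure ⟨by simp [affMat], by simp [affMat], by simp [affMat]⟩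

theorem exists_affMat_eq {M : Matrix.SpecialLinearGroup (Fin 3) (ZMod p)}
    (h0 : M.1 2 0 = 0) (h1 : M.1 2 1 = 0) (h2 : M.1 2 2 = 1) : ∃ v g, affMat v g = M := by
  have hd := M.2
  rw [Matrix.det_fin_three, h0, h1, h2] at hd
  refine ⟨![M.1 0 2, M.1 1 2], ⟨!![M.1 0 0, M.1 0 1; M.1 1 0, M.1 1 1], ?_⟩, ?_⟩
  · rw [Matrix.det_fin_two]
    simp
    linear_combination hd
  · apply Subtype.ext
    ext i j
    fin_cases i <;> fin_cases j <;> simp [affMat, h0, h1, h2]

variable {G : Type*} [Group G]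

/-- A natural plane gives a `Qd(p)` section. -/
theorem invHom_qd_of_plane [Finite G] (hp : p ≠ 2) (ψ : (Fin 2 → ZMod p) → G)
    (hψ : Function.Injective ψ) (hadd : ∀ u v, ψ (u + v) = ψ u * ψ v)
    (hg : ∀ g : Matrix.SpecialLinearGroup (Fin 2) (ZMod p), ∃ h : G, ∀ v,
      h * ψ v * h⁻¹ = ψ (g.1.mulVec v)) : InvHom ↥(qd p) G := by
  classical
  have hone : ψ 0 = 1 := by
    have := hadd 0 0
    rw [add_zero] at this
    exact mul_eq_left.1 this.symm
  let Ψ : Multiplicative (Fin 2 → ZMod p) →* G :=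
    { toFun := fun v => ψ v.toAdd
      map_one' := hone
      map_mul' := fun u v => hadd _ _ }
  set W := Ψ.range with hW
  let D : Subgroup G :=
    { carrier := {h | ∃ g : Matrix.SpecialLinearGroup (Fin 2) (ZMod p), ∀ v,
        h * ψ v * h⁻¹ = ψ (g.1.mulVec v)}
      one_mem' := ⟨1, fun v => by simp⟩
      mul_mem' := by
        rintro x y ⟨g, hx⟩ ⟨g', hy⟩
        refine ⟨g * g', fun v => ?_⟩
        rw [Matrix.SpecialLinearGroup.coe_mul, ← Matrix.mulVec_mulVec, ← hx, ← hy]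
        group
      inv_mem' := by
        rintro x ⟨g, hx⟩
        refine ⟨g⁻¹, fun v => ?_⟩
        have h1 : ψ v = x * ψ ((g⁻¹).1.mulVec v) * x⁻¹ := by
          rw [hx, Matrix.mulVec_mulVec, ← Matrix.SpecialLinearGroup.coe_mul, mul_inv_cancel,
            Matrix.SpecialLinearGroup.coe_one, Matrix.one_mulVec]
        rw [h1]
        group }
  have hex : ∀ h : D, ∃ g : Matrix.SpecialLinearGroup (Fin 2) (ZMod p), ∀ v,
      (h : G) * ψ v * (h : G)⁻¹ = ψ (g.1.mulVec v) := fun h => h.2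
  choose π hπ using hex
  have hπu : ∀ (h : D) (g : Matrix.SpecialLinearGroup (Fin 2) (ZMod p)),
      (∀ v, (h : G) * ψ v * (h : G)⁻¹ = ψ (g.1.mulVec v)) → π h = g := by
    intro h g hh
    apply Subtype.ext
    apply Matrix.toLin'.injective
    refine LinearMap.ext fun v => hψ ?_
    rw [Matrix.toLin'_apply, Matrix.toLin'_apply, ← hπ, hh]
  let P : D →* Matrix.SpecialLinearGroup (Fin 2) (ZMod p) := MonoidHom.mk' π fun x y =>
    hπu _ _ fun v => by
      rw [Matrix.SpecialLinearGroup.coe_mul, ← Matrix.mulVec_mulVec, ← hπ, ← hπ, Subgroup.coe_mul]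
      group
  have hPs : Function.Surjective P := fun g => by
    obtain ⟨h, hh⟩ := hg g
    exact ⟨⟨h, g, hh⟩, hπu _ _ hh⟩
  have hcommψ : ∀ u v, Commute (ψ u) (ψ v) := fun u v => by
    show ψ u * ψ v = ψ v * ψ u
    rw [← hadd, ← hadd, add_comm]
  have hψD : ∀ v, ψ v ∈ D := fun v => ⟨1, fun u => by
    rw [Matrix.SpecialLinearGroup.coe_one, Matrix.one_mulVec, (hcommψ v u).eq, mul_inv_cancel_right]⟩
  have hPψ : ∀ v, P ⟨ψ v, hψD v⟩ = 1 := fun v => hπu _ _ fun u => by
    rw [Matrix.SpecialLinearGroup.coe_one, Matrix.one_mulVec]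
    show ψ v * ψ u * (ψ v)⁻¹ = ψ u
    rw [(hcommψ v u).eq, mul_inv_cancel_right]
  -- an element of 2-power order acting as `-1`
  let negOne : Matrix.SpecialLinearGroup (Fin 2) (ZMod p) :=
    ⟨!![-1, 0; 0, -1], by simp [Matrix.det_fin_two]⟩
  have hneg : ∀ g : Matrix.SpecialLinearGroup (Fin 2) (ZMod p), g * negOne * g⁻¹ = negOne := by
    intro g
    rw [mul_inv_eq_iff_eq_mul]
    apply Subtype.ext
    rw [Matrix.SpecialLinearGroup.coe_mul, Matrix.SpecialLinearGroup.coe_mul]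
    ext i j
    fin_cases i <;> fin_cases j <;> simp [negOne, Matrix.mul_apply, Fin.sum_univ_two]
  have hneg2 : negOne * negOne = 1 := by
    apply Subtype.ext
    rw [Matrix.SpecialLinearGroup.coe_mul]
    ext i j
    fin_cases i <;> fin_cases j <;> simp [negOne, Matrix.mul_apply, Fin.sum_univ_two]
  obtain ⟨t, ht⟩ := hPs negOne
  obtain ⟨k, m, hm, hkm⟩ : ∃ k m, Odd m ∧ orderOf t = 2 ^ k * m :=
    Nat.exists_eq_two_pow_mul_odd (orderOf_pos t).ne'
  set τ := t ^ m with hτ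
  have hτP : P τ = negOne := by
    obtain ⟨j, rfl⟩ := hm
    rw [hτ, map_pow, ht, pow_succ, pow_mul, sq, hneg2, one_pow, one_mul]
  have hτ2 : IsPGroup 2 (zpowers τ) := by
    refine IsPGroup.of_card (n := k) ?_
    rw [Nat.card_zpowers, hτ, orderOf_pow' t hm.pos.ne', hkm,
      Nat.gcd_eq_right (dvd_mul_left m _), Nat.mul_div_cancel _ hm.pos]
  set M0 := (zpowers negOne).comap P with hM0
  haveI : M0.Normal := by
    refine Normal.comap ⟨fun x hx g => ?_⟩ P
    obtain ⟨i, rfl⟩ := hx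
    show g * negOne ^ i * g⁻¹ ∈ zpowers negOne
    rw [← conj_zpow, hneg]
    exact zpow_mem (mem_zpowers _) i
  have hτM : zpowers τ ≤ M0 := zpowers_le.2 (show P τ ∈ zpowers negOne from hτP ▸ mem_zpowers _)
  haveI : Fact (Nat.Prime 2) := ⟨Nat.prime_two⟩
  obtain ⟨S, hS⟩ := (hτ2.comap_of_injective M0.subtype M0.subtype_injective).exists_le_sylow
  set N := normalizer (((S : Subgroup M0).map M0.subtype : Subgroup D) : Set D) with hN
  have hτN : τ ∈ (S : Subgroup M0).map M0.subtype :=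
    ⟨⟨τ, hτM (mem_zpowers τ)⟩, hS (mem_zpowers τ), rfl⟩
  have hNs : N.map P = ⊤ := by
    have h := congrArg (Subgroup.map P) (Sylow.normalizer_sup_eq_top S)
    rw [Subgroup.map_sup, map_top_of_surjective P hPs] at h
    refine top_le_iff.1 (h ▸ sup_le le_rfl ?_)
    rw [hM0, map_comap_eq_self_of_surjective hPs, zpowers_le, ← hτP]
    exact mem_map_of_mem P (le_normalizer hτN)
  -- `W ⊓ N = 1`
  have htriv : ∀ v, (⟨ψ v, hψD v⟩ : D) ∈ N → v = 0 := by
    intro v hv
    set w : D := ⟨ψ v, hψD v⟩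
    have h1 : w * τ * w⁻¹ * τ⁻¹ ∈ (S : Subgroup M0).map M0.subtype :=
      mul_mem ((mem_normalizer_iff.1 hv τ).1 hτN) (inv_mem hτN)
    have h2 : ((w * τ * w⁻¹ * τ⁻¹ : D) : G) = ψ (v + v) := by
      have h3 : (τ : G) * (ψ v)⁻¹ * (τ : G)⁻¹ = ψ v := by
        have e : (ψ v)⁻¹ = ψ (-v) := inv_eq_of_mul_eq_one_right (by rw [← hadd, add_neg_cancel, hone])
        rw [e, hπ τ, show π τ = negOne from hτP]
        congr 1
        funext i
        fin_cases i <;> simp [negOne, Matrix.mulVec, dotProduct, Fin.sum_univ_two]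
      show ψ v * (τ : G) * (ψ v)⁻¹ * (τ : G)⁻¹ = ψ (v + v)
      rw [mul_assoc (ψ v), mul_assoc (ψ v), h3, hadd]
    obtain ⟨s, hs, hseq⟩ := h1
    obtain ⟨i, hi⟩ := S.2 ⟨s, hs⟩
    have hi' : ψ (v + v) ^ 2 ^ i = 1 := by
      rw [← h2, ← hseq]
      exact congrArg (fun z : (S : Subgroup M0) => (((z : M0) : D) : G)) hi
    have hψpow : ∀ (n : ℕ) u, ψ u ^ n = ψ (n • u) := by
      intro n u
      induction n with
      | zero => simp [hone]
      | succ n ih => rw [pow_succ, ih, ← hadd, succ_nsmul]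
    rw [hψpow, ← hone] at hi'
    have h4 := hψ hi'
    have h2ne : (2 : ZMod p) ≠ 0 := by
      intro h
      have : ((2 : ℕ) : ZMod p) = 0 := by exact_mod_cast h
      exact hp ((Nat.prime_dvd_prime_iff_eq Fact.out Nat.prime_two).1 ((ZMod.natCast_eq_zero_iff 2 p).1 this))
    funext j
    have h5 := congrFun h4 j
    simp only [Pi.smul_apply, Pi.add_apply, nsmul_eq_mul, Nat.cast_pow, Nat.cast_ofNat,
      Pi.zero_apply] at h5
    rcases mul_eq_zero.1 h5 with h6 | h6
    · exact absurd h6 (pow_ne_zero _ h2ne)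
    · rw [← two_mul] at h6
      exact (mul_eq_zero.1 h6).resolve_left h2ne
  -- the section
  let K : Subgroup D :=
    { carrier := {h | ∃ v, ∃ d ∈ N, h = ⟨ψ v, hψD v⟩ * d}
      one_mem' := ⟨0, 1, one_mem _, Subtype.ext (by simp [hone])⟩
      mul_mem' := by
        rintro _ _ ⟨u, d, hd, rfl⟩ ⟨v, e, he, rfl⟩
        refine ⟨u + (π d).1.mulVec v, d * e, mul_mem hd he, Subtype.ext ?_⟩
        show ψ u * (d : G) * (ψ v * (e : G)) = ψ (u + (π d).1.mulVec v) * ((d : G) * (e : G))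
        rw [hadd, ← hπ]
        group
      inv_mem' := by
        rintro _ ⟨u, d, hd, rfl⟩
        refine ⟨(π d⁻¹).1.mulVec (-u), d⁻¹, inv_mem hd, Subtype.ext ?_⟩
        have e : (ψ u)⁻¹ = ψ (-u) := inv_eq_of_mul_eq_one_right (by rw [← hadd, add_neg_cancel, hone])
        show (ψ u * (d : G))⁻¹ = ψ ((π d⁻¹).1.mulVec (-u)) * (d : G)⁻¹
        rw [← hπ, ← e, Subgroup.coe_inv]
        group }
  have hK : ∀ h : K, ∃ v : Fin 2 → ZMod p, (⟨ψ v, hψD v⟩ : D)⁻¹ * (h : D) ∈ N := by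
    rintro ⟨_, v, d, hd, rfl⟩
    exact ⟨v, by simpa using hd⟩
  choose c hc using hK
  have hcu : ∀ (h : K) v, (⟨ψ v, hψD v⟩ : D)⁻¹ * (h : D) ∈ N → c h = v := by
    intro h v hv
    have h1 := mul_mem (hc h) (inv_mem hv)
    have h2 : (⟨ψ (-(c h) + v), hψD _⟩ : D) ∈ N := by
      convert h1 using 1
      apply Subtype.ext
      have e : (ψ (c h))⁻¹ = ψ (-(c h)) :=
        inv_eq_of_mul_eq_one_right (by rw [← hadd, add_neg_cancel, hone])
      show ψ (-(c h) + v) = (ψ (c h))⁻¹ * ((h : D) : G) * ((ψ v)⁻¹ * ((h : D) : G))⁻¹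
      rw [hadd, ← e]
      group
    exact neg_add_eq_zero.1 (htriv _ h2)
  let F0 : K →* Matrix.SpecialLinearGroup (Fin 3) (ZMod p) :=
    MonoidHom.mk' (fun h => affMat (c h) (π h)) fun x y => by
      show affMat (c (x * y)) (P ((x : D) * (y : D))) = affMat (c x) (π x) * affMat (c y) (π y)
      rw [affMat_mul, map_mul]
      congr 1
      apply hcu
      set dx : D := (⟨ψ (c x), hψD _⟩ : D)⁻¹ * (x : D) with hdx
      set dy : D := (⟨ψ (c y), hψD _⟩ : D)⁻¹ * (y : D) with hdy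
      have hπx : π (x : D) = π dx := by
        show P (x : D) = P dx
        rw [hdx, map_mul, map_inv, hPψ, inv_one, one_mul]
      convert mul_mem (hc x) (hc y) using 1
      rw [← hdx, ← hdy, hπx]
      apply Subtype.ext
      show (ψ (c x + (π dx).1.mulVec (c y)))⁻¹ * (((x : D) : G) * ((y : D) : G)) = (dx : G) * (dy : G)
      rw [hadd, ← hπ, show (dx : G) = (ψ (c x))⁻¹ * ((x : D) : G) from rfl,
        show (dy : G) = (ψ (c y))⁻¹ * ((y : D) : G) from rfl]
      group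
  have hFmem : ∀ h : K, F0 h ∈ qd p := fun h => affMat_mem_qd p _ _
  refine InvHom.of_subgroup (S := D) ⟨K, F0.codRestrict (qd p) hFmem, ?_⟩
  have hrange : qd p ≤ F0.range := by
    refine (closure_le _).2 ?_
    rintro M ⟨h0, h1, h2⟩
    obtain ⟨v, g, rfl⟩ := exists_affMat_eq h0 h1 h2
    obtain ⟨d, hd, rfl⟩ : g ∈ N.map P := hNs ▸ mem_top g
    refine ⟨⟨⟨ψ v, hψD v⟩ * d, v, d, hd, rfl⟩, ?_⟩
    show affMat (c _) (P (⟨ψ v, hψD v⟩ * d)) = affMat v (P d)
    rw [map_mul, hPψ, one_mul, hcu _ v]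
    simpa using hd
  rintro ⟨M, hM⟩
  obtain ⟨h, hh⟩ := hrange hM
  exact ⟨h, Subtype.ext hh⟩

end CfsgLib.PLocal
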