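import Mathlib
import Cfsg.Agent.Lib.PLocal.QdSection
import Cfsg.Agent.Lib.PLocal.Quadratic
import Cfsg.Agent.Lib.PLocal.ZJ
import Cfsg.Agent.Lib.PGroups.Basic

/-!
Groups without a `Qd(p)` section act p-stably on their normal p-subgroups.
-/

set_option autoImplicit false
set_option linter.style.haveILetI false

namespace CfsgLib.PLocal

open Subgroup Cfsg
open scoped commutatorElement

universe u

variable {p : ℕ} [Fact p.Prime]

theorem exists_plane_of_action_aux (hp : p ≠ 2) {X : Type*} [Group X] {A : Type*} [CommGroup A]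
    [Finite A] [Nontrivial A] [Module (ZMod p) (Additive A)] (α : X →* MulAut A) {x y : X}
    (hgen : closure ({x, y} : Set X) = ⊤)
    (hx : ∀ v, α x (α x v) * v = α x v * α x v) (hy : ∀ v, α y (α y v) * v = α y v * α y v)
    (hirr : ∀ U : Subgroup A, (∀ h, ∀ u ∈ U, α h u ∈ U) → U = ⊥ ∨ U = ⊤) (hne : ∃ h, α h ≠ 1) :
    ∃ ψ : (Fin 2 → ZMod p) → A, Function.Injective ψ ∧ (∀ u v, ψ (u + v) = ψ u * ψ v) ∧
      ∀ g : Matrix.SpecialLinearGroup (Fin 2) (ZMod p), ∃ h : X, ∀ v,
        α h (ψ v) = ψ (g.1.mulVec v) := by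
  set ρ := CfsgLib.OddOrder.zmodRep p α with hρ
  have hact : ∀ (h : X) (v : Additive A), (ρ h v).toMul = α h v.toMul := fun h v => rfl
  have hq : ∀ z, (∀ v, α z (α z v) * v = α z v * α z v) → (ρ z - 1) * (ρ z - 1) = 0 :=
    fun z hz => CfsgLib.OddOrder.sq_sub_one_eq_zero fun v => congrArg Additive.ofMul (hz v.toMul)
  have hirr' : ∀ U : Submodule (ZMod p) (Additive A), (∀ h, U ≤ U.comap (ρ h)) → U = ⊥ ∨ U = ⊤ := by
    intro U hU
    rcases hirr (AddSubgroup.toSubgroup' U.toAddSubgroup) (fun h u hu => hU h hu) with h | h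
    · refine Or.inl ((Submodule.eq_bot_iff _).2 fun v hv => ?_)
      have h1 : v.toMul ∈ AddSubgroup.toSubgroup' U.toAddSubgroup := hv
      rw [h, mem_bot] at h1
      exact Additive.toMul.injective h1
    · refine Or.inr (eq_top_iff.2 fun v _ => ?_)
      show v.toMul ∈ AddSubgroup.toSubgroup' U.toAddSubgroup
      rw [h]; exact mem_top _
  obtain ⟨h0, hh0⟩ := hne
  obtain ⟨ψ, hψ, hg⟩ := Plane.exists_prime_plane hp ρ hgen (hq x hx) (hq y hy) hirr'
    ⟨h0, fun h1 => hh0 (MulEquiv.ext fun v => by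
      show α h0 v = v
      rw [show α h0 v = (ρ h0 (Additive.ofMul v)).toMul from rfl, h1]
      rfl)⟩
  refine ⟨fun v => (ψ v).toMul, fun u v h => hψ (Additive.toMul.injective h),
    fun u v => by simp [map_add], fun g => ?_⟩
  obtain ⟨h, hh⟩ := hg g
  exact ⟨h, fun v => by rw [← hact, hh]⟩

theorem exists_plane_of_action (hp : p ≠ 2) {X : Type*} [Group X] {A : Type*} [CommGroup A]
    [Finite A] [Nontrivial A] (hA : ∀ v : A, v ^ p = 1) (α : X →* MulAut A) {x y : X}
    (hgen : closure ({x, y} : Set X) = ⊤)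
    (hx : ∀ v, α x (α x v) * v = α x v * α x v) (hy : ∀ v, α y (α y v) * v = α y v * α y v)
    (hirr : ∀ U : Subgroup A, (∀ h, ∀ u ∈ U, α h u ∈ U) → U = ⊥ ∨ U = ⊤) (hne : ∃ h, α h ≠ 1) :
    ∃ ψ : (Fin 2 → ZMod p) → A, Function.Injective ψ ∧ (∀ u v, ψ (u + v) = ψ u * ψ v) ∧
      ∀ g : Matrix.SpecialLinearGroup (Fin 2) (ZMod p), ∃ h : X, ∀ v,
        α h (ψ v) = ψ (g.1.mulVec v) :=
  @exists_plane_of_action_aux p _ hp X _ A _ _ _
    (AddCommGroup.zmodModule (fun v => Additive.toMul.injective (hA v.toMul))) α x y hgen hx hy hirr hne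

/-- An irreducible quadratic pair centralises, or gives a `Qd(p)` section. -/
theorem centralizes_or_invHom_qd {G : Type u} [Group G] [Finite G] (hp : p ≠ 2) (W : Subgroup G)
    (hW : IsElementaryAbelian p W) (hW1 : W ≠ ⊥) {a b : G}
    (hXW : closure ({a, b} : Set G) ≤ normalizer (W : Set G))
    (ha : ⁅⁅W, zpowers a⁆, zpowers a⁆ = ⊥) (hb : ⁅⁅W, zpowers b⁆, zpowers b⁆ = ⊥)
    (hirr : ∀ U ≤ W, closure ({a, b} : Set G) ≤ normalizer (U : Set G) → U = ⊥ ∨ U = W) :
    closure ({a, b} : Set G) ≤ centralizer (W : Set G) ∨ InvHom ↥(qd p) G := by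
  by_cases hne : closure ({a, b} : Set G) ≤ centralizer (W : Set G)
  · exact Or.inl hne
  refine Or.inr ?_
  set X := closure ({a, b} : Set G) with hX
  letI : CommGroup W := { (inferInstance : Group W) with mul_comm := hW.1.is_comm.comm }
  haveI : Nontrivial W := (nontrivial_iff_ne_bot W).2 hW1
  let α : X →* MulAut W := W.normalizerMonoidHom.comp (Subgroup.inclusion hXW)
  have haX : a ∈ X := subset_closure (Or.inl rfl)
  have hbX : b ∈ X := subset_closure (Or.inr rfl)
  have hgen : closure ({⟨a, haX⟩, ⟨b, hbX⟩} : Set X) = ⊤ := by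
    apply map_injective X.subtype_injective
    rw [MonoidHom.map_closure, ← MonoidHom.range_eq_map, range_subtype, Set.image_pair]
    rfl
  obtain ⟨ψ, hψ, hadd, hg⟩ := exists_plane_of_action hp
    (fun v => Subtype.ext (by simpa using hW.2 v v.2)) α hgen
    (fun v => Subtype.ext (CfsgLib.OddOrder.quad_apply hW.1 (hXW haX) ha v.2))
    (fun v => Subtype.ext (CfsgLib.OddOrder.quad_apply hW.1 (hXW hbX) hb v.2))
    (fun U hU => by
      have hn : X ≤ normalizer ((U.map W.subtype : Subgroup G) : Set G) := by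
        intro x hx
        refine mem_normalizer_iff.2 fun v => ⟨?_, ?_⟩
        · rintro ⟨w, hw, rfl⟩
          exact ⟨α ⟨x, hx⟩ w, hU _ _ hw, rfl⟩
        · rintro ⟨w, hw, he⟩
          refine ⟨α ⟨x, hx⟩⁻¹ w, hU _ _ hw, ?_⟩
          show x⁻¹ * (w : G) * x⁻¹⁻¹ = v
          rw [show (w : G) = x * v * x⁻¹ from he]
          group
      rcases hirr _ (map_subtype_le U) hn with h | h
      · exact Or.inl ((map_eq_bot_iff_of_injective _ W.subtype_injective).1 h)
      · refine Or.inr (map_injective W.subtype_injective ?_)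
        rw [h, ← MonoidHom.range_eq_map, range_subtype])
    (by
      by_contra hall
      push Not at hall
      refine hne fun x hx => mem_centralizer_iff.2 fun v hv => ?_
      have h1 : x * v * x⁻¹ = v := congrArg Subtype.val (MulEquiv.congr_fun (hall ⟨x, hx⟩) ⟨v, hv⟩)
      exact (mul_inv_eq_iff_eq_mul.1 h1).symm)
  refine invHom_qd_of_plane hp (fun v => ((ψ v : W) : G))
    (fun u v h => hψ (Subtype.ext h)) (fun u v => by rw [hadd]; rfl) fun g => ?_
  obtain ⟨h, hh⟩ := hg g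
  exact ⟨h, fun v => congrArg Subtype.val (hh v)⟩

/-- A group generated by a quadratic pair on a p-group acts as a p-group, or gives `Qd(p)`. -/
theorem pair_acts_as_pGroup (hp : p ≠ 2) : ∀ n : ℕ, ∀ (G : Type u) [Group G] [Finite G],
    ¬ InvHom ↥(qd p) G → ∀ (M : Subgroup G) (a b : G), Nat.card M = n → IsPGroup p M →
      closure ({a, b} : Set G) ≤ normalizer (M : Set G) →
      ⁅⁅M, zpowers a⁆, zpowers a⁆ = ⊥ → ⁅⁅M, zpowers b⁆, zpowers b⁆ = ⊥ →
      ∀ y ∈ closure ({a, b} : Set G), ∃ k : ℕ, y ^ p ^ k ∈ centralizer (M : Set G) := by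
  intro n
  induction n using Nat.strong_induction_on with
  | _ n ih =>
  intro G _ _ hno M a b hn hM hX ha hb y hy
  set X := closure ({a, b} : Set G) with hXdef
  by_cases hM1 : M = ⊥
  · exact ⟨0, mem_centralizer_iff.2 fun v hv => by
      rw [hM1, SetLike.mem_coe, mem_bot] at hv; simp [hv]⟩
  -- a minimal invariant subgroup of the centre
  haveI : Nontrivial M := (nontrivial_iff_ne_bot M).2 hM1
  haveI := hM.center_nontrivial
  obtain ⟨z, hz⟩ := exists_prime_orderOf_dvd_card' (G := center M) p (by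
    obtain ⟨k, hk⟩ := IsPGroup.iff_card.1 (hM.to_subgroup (center M))
    rw [hk]
    refine dvd_pow_self p fun h0 => ?_
    have := (Finite.one_lt_card : 1 < Nat.card (center M))
    rw [hk, h0, pow_zero] at this
    exact lt_irrefl 1 this)
  set Ω : Subgroup G := M ⊓ centralizer (M : Set G)
  have hΩX : X ≤ normalizer (Ω : Set G) :=
    le_trans (le_inf hX (hX.trans (normalizer_le_centralizer_normalizer M))) (normalizer_inf_le _ _)
  have hE : ∃ U : Subgroup G, U ≠ ⊥ ∧ U ≤ Ω ∧ (∀ v ∈ U, v ^ p = 1) ∧ X ≤ normalizer (U : Set G) := by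
    refine ⟨closure {v : G | v ∈ Ω ∧ v ^ p = 1}, ?_, (closure_le _).2 fun v hv => hv.1, ?_, ?_⟩
    · intro hb'
      have h1 : ((z : M) : G) ∈ closure {v : G | v ∈ Ω ∧ v ^ p = 1} := by
        refine subset_closure ⟨mem_inf.2 ⟨(z : M).2, mem_centralizer_iff.2 fun v hv => ?_⟩, ?_⟩
        · exact congrArg Subtype.val (mem_center_iff.1 z.2 ⟨v, hv⟩)
        · rw [← hz, ← SubmonoidClass.coe_pow, ← SubmonoidClass.coe_pow, pow_orderOf_eq_one]; rfl
      rw [hb', mem_bot] at h1
      have h2 : z = 1 := Subtype.ext (Subtype.ext h1)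
      rw [h2, orderOf_one] at hz
      exact (Fact.out : p.Prime).ne_one hz.symm
    · intro v hv
      have hle : closure {v : G | v ∈ Ω ∧ v ^ p = 1} ≤ Ω := (closure_le _).2 fun v hv => hv.1
      induction hv using closure_induction with
      | mem v hv => exact hv.2
      | one => exact one_pow p
      | mul u w hu hw ihu ihw =>
        have : Commute u w := mem_centralizer_iff.1 (mem_inf.1 (hle hw)).2 u (mem_inf.1 (hle hu)).1
        rw [this.mul_pow, ihu, ihw, one_mul]
      | inv u _ ih => rw [inv_pow, ih, inv_one]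
    · intro x hx
      rw [mem_normalizer_iff_map_conj_eq]
      show (closure {v : G | v ∈ Ω ∧ v ^ p = 1}).map (MulAut.conj x).toMonoidHom = _
      rw [MonoidHom.map_closure]
      congr 1
      ext v
      constructor
      · rintro ⟨w, ⟨hw, hwp⟩, rfl⟩
        refine ⟨(mem_normalizer_iff.1 (hΩX hx) w).1 hw, ?_⟩
        show (x * w * x⁻¹) ^ p = 1
        rw [conj_pow, hwp, mul_one, mul_inv_cancel]
      · rintro ⟨hv, hvp⟩
        refine ⟨x⁻¹ * v * x, ⟨?_, ?_⟩, by simp [mul_assoc]⟩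
        · simpa using (mem_normalizer_iff.1 (hΩX (inv_mem hx)) v).1 hv
        · have := conj_pow (i := p) (a := x⁻¹) (b := v)
          rw [inv_inv] at this
          rw [this, hvp, mul_one, inv_mul_cancel]
  obtain ⟨U0, hU0⟩ := hE
  obtain ⟨W, ⟨hW1, hWΩ, hWp, hWX⟩, hmin⟩ := Set.exists_min_image
    {U : Subgroup G | U ≠ ⊥ ∧ U ≤ Ω ∧ (∀ v ∈ U, v ^ p = 1) ∧ X ≤ normalizer (U : Set G)}
    (fun U => Nat.card U) (Set.toFinite _) ⟨U0, hU0⟩
  have hWM : W ≤ M := hWΩ.trans inf_le_left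
  have hWe : IsElementaryAbelian p W :=
    ⟨⟨⟨fun u v => Subtype.ext (mem_centralizer_iff.1 (mem_inf.1 (hWΩ v.2)).2 u (hWM u.2))⟩⟩, hWp⟩
  have hXc : X ≤ centralizer (W : Set G) := by
    refine (centralizes_or_invHom_qd hp W hWe hW1 hWX ?_ ?_ ?_).resolve_right hno
    · exact le_bot_iff.1 ((commutator_mono (commutator_mono hWM le_rfl) le_rfl).trans ha.le)
    · exact le_bot_iff.1 ((commutator_mono (commutator_mono hWM le_rfl) le_rfl).trans hb.le)
    · intro U hUW hUX
      by_contra hc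
      push Not at hc
      exact hc.2 (eq_of_le_of_card_ge hUW
        (hmin U ⟨hc.1, hUW.trans hWΩ, fun v hv => hWp v (hUW hv), hUX⟩))
  -- pass to the quotient
  set NW := normalizer (W : Set G)
  have hMW : M ≤ NW := fun x hx => centralizer_le_normalizer _
    (mem_centralizer_iff.2 fun v hv => (mem_centralizer_iff.1 (mem_inf.1 (hWΩ hv)).2 x hx).symm)
  set π := QuotientGroup.mk' (W.subgroupOf NW)
  set M' := (M.subgroupOf NW).map π
  have hM'lt : Nat.card M' < n := by
    have h1 : Nat.card M' = (W.subgroupOf NW).relIndex (M.subgroupOf NW) := by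
      rw [← relIndex_ker (f := π), QuotientGroup.ker_mk']
    have h2 := relIndex_mul_relIndex ⊥ (W.subgroupOf NW) (M.subgroupOf NW) bot_le (comap_mono hWM)
    rw [relIndex_bot_left, relIndex_bot_left, Nat.card_congr (subgroupOfEquivOfLe (le_normalizer)).toEquiv,
      Nat.card_congr (subgroupOfEquivOfLe hMW).toEquiv, hn, ← h1] at h2
    rw [← h2]
    have hW2 : 1 < Nat.card W := (one_lt_card_iff_ne_bot W).2 hW1
    exact lt_mul_of_one_lt_left Nat.card_pos hW2
  have hmap : closure ({π ⟨a, hWX (subset_closure (Or.inl rfl))⟩,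
      π ⟨b, hWX (subset_closure (Or.inr rfl))⟩} : Set _) = (X.subgroupOf NW).map π := by
    rw [show X.subgroupOf NW = closure ({⟨a, hWX (subset_closure (Or.inl rfl))⟩,
      ⟨b, hWX (subset_closure (Or.inr rfl))⟩} : Set NW) from ?_, MonoidHom.map_closure, Set.image_pair]
    refine map_injective NW.subtype_injective ?_
    rw [map_subgroupOf_eq_of_le hWX, MonoidHom.map_closure, Set.image_pair]
    rfl
  have hquad : ∀ (x : G) (hx : x ∈ NW), ⁅⁅M, zpowers x⁆, zpowers x⁆ = ⊥ →
      ⁅⁅M', zpowers (π ⟨x, hx⟩)⁆, zpowers (π ⟨x, hx⟩)⁆ = ⊥ := by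
    intro x hx hqx
    rw [← MonoidHom.map_zpowers, ← map_commutator, ← map_commutator]
    have : ⁅⁅M.subgroupOf NW, zpowers (⟨x, hx⟩ : NW)⁆, zpowers (⟨x, hx⟩ : NW)⁆ = ⊥ := by
      refine map_injective NW.subtype_injective ?_
      rw [map_commutator, map_commutator, map_subgroupOf_eq_of_le hMW, MonoidHom.map_zpowers,
        Subgroup.map_bot]
      exact hqx
    rw [this, Subgroup.map_bot]
  obtain ⟨k, hk⟩ := ih (Nat.card M') hM'lt (NW ⧸ W.subgroupOf NW)
    (fun h => hno ((h.of_surjective π (QuotientGroup.mk'_surjective _)).of_subgroup)) M' _ _ rfl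
    ((hM.comap_of_injective NW.subtype NW.subtype_injective).map π)
    (by
      rw [hmap]
      refine (map_mono ?_).trans (le_normalizer_map _)
      exact (comap_mono hX).trans (le_of_eq (subgroupOf_normalizer_eq hMW)))
    (hquad a _ ha) (hquad b _ hb) (π ⟨y, hWX hy⟩) (hmap ▸ mem_map_of_mem π (show (⟨y, hWX hy⟩ : NW) ∈ X.subgroupOf NW from hy))
  refine ⟨k + 1, mem_centralizer_iff.2 fun m hm => ?_⟩
  set c := y ^ p ^ k with hc
  have hcX : c ∈ X := pow_mem hy _
  have hw : c * m * c⁻¹ * m⁻¹ ∈ W := by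
    have h1 := mem_centralizer_iff.1 hk (π ⟨m, hMW hm⟩) (mem_map_of_mem π hm)
    rw [← map_pow, ← map_mul, ← map_mul, QuotientGroup.mk'_apply, QuotientGroup.mk'_apply,
      QuotientGroup.eq, mem_subgroupOf] at h1
    have h2 : (m * c)⁻¹ * (c * m) ∈ W := h1
    have h4 : c * m * c⁻¹ * m⁻¹ = m * c * ((m * c)⁻¹ * (c * m)) * (m * c)⁻¹ := by group
    rw [h4]
    exact (mem_normalizer_iff.1 (mul_mem (hMW hm) (hWX hcX)) _).1 h2
  have hiter : ∀ i : ℕ, c ^ i * m * (c ^ i)⁻¹ = (c * m * c⁻¹ * m⁻¹) ^ i * m := by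
    intro i
    induction i with
    | zero => simp
    | succ i ih' =>
      set w := c * m * c⁻¹ * m⁻¹ with hwdef
      have hcw : Commute c (w ^ i) := (mem_centralizer_iff.1 (hXc hcX) _ (pow_mem hw i)).symm
      calc c ^ (i + 1) * m * (c ^ (i + 1))⁻¹ = c * (c ^ i * m * (c ^ i)⁻¹) * c⁻¹ := by
            rw [pow_succ']; group
        _ = c * w ^ i * m * c⁻¹ := by rw [ih']; group
        _ = w ^ i * (c * m * c⁻¹ * m⁻¹) * m := by rw [hcw.eq]; group
        _ = _ := by rw [← hwdef, ← pow_succ]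
  have h5 := hiter p
  rw [hWp _ hw, one_mul, mul_inv_eq_iff_eq_mul] at h5
  rw [pow_succ, pow_mul, ← hc]
  exact h5.symm

/-- Without a `Qd(p)` section, quadratic elements act in `O_p`. -/
theorem mem_pCore_of_quadratic_of_not_invHom {G : Type u} [Group G] [Finite G] (hp : p ≠ 2)
    (hno : ¬ InvHom ↥(qd p) G) (B : Subgroup G) [B.Normal] (hB : IsPGroup p B) (a : G)
    (hq : ⁅⁅B, zpowers a⁆, zpowers a⁆ = ⊥) :
    (QuotientGroup.mk a : G ⧸ centralizer (B : Set G)) ∈ pCore p (G ⧸ centralizer (B : Set G)) := by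
  refine CfsgLib.OddOrder.mem_pCore_of_pairs _ fun q => ?_
  obtain ⟨g, rfl⟩ := QuotientGroup.mk_surjective q
  have hgn : g ∈ normalizer (B : Set G) := by rw [normalizer_eq_top_iff.2 ‹B.Normal›]; exact mem_top g
  have hmap : (closure ({a, g * a * g⁻¹} : Set G)).map (QuotientGroup.mk' (centralizer (B : Set G)))
      = closure ({(QuotientGroup.mk a : G ⧸ centralizer (B : Set G)),
          QuotientGroup.mk g * QuotientGroup.mk a * (QuotientGroup.mk g)⁻¹} : Set _) := by
    rw [MonoidHom.map_closure, Set.image_pair]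
    rfl
  rw [← hmap]
  rintro ⟨_, x, hx, rfl⟩
  obtain ⟨k, hk⟩ := pair_acts_as_pGroup hp _ G hno B a (g * a * g⁻¹) rfl hB
    (by rw [normalizer_eq_top_iff.2 ‹B.Normal›]; exact le_top) hq
    (CfsgLib.OddOrder.quad_conj hgn hq) x hx
  refine ⟨k, Subtype.ext ?_⟩
  show (QuotientGroup.mk' (centralizer (B : Set G)) x) ^ p ^ k = 1
  rw [← map_pow, QuotientGroup.mk'_apply, QuotientGroup.eq_one_iff]
  exact hk

theorem quadStable_of_not_invHom {G : Type u} [Group G] [Finite G] (hp : p ≠ 2)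
    (hno : ¬ InvHom ↥(qd p) G) : QuadStable p G :=
  fun B _ hB a _ hq => mem_pCore_of_quadratic_of_not_invHom hp hno B hB a hq

end CfsgLib.PLocal
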