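import Mathlib
import Cfsg.Agent.Lib.PLocal.Stable
import Cfsg.Agent.Lib.PLocal.Offender
import Cfsg.Agent.Lib.Coprime.Action
import Cfsg.Agent.Lib.Base.Frattini

/-!
`W(S)`: quadratic elements centralise it; it is normal in p-stable groups.
-/

set_option autoImplicit false
set_option linter.style.haveILetI false

namespace CfsgLib.PLocal

open Subgroup Cfsg CfsgLib.Base
open scoped commutatorElement

/-- Quadratic action of a single element, elementwise. -/
theorem quadratic_iff {G : Type*} [Group G] {V : Subgroup G} {a : G} :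
    ⁅⁅V, zpowers a⁆, zpowers a⁆ = ⊥ ↔ ∀ v ∈ V, a * ⁅v, a⁆ = ⁅v, a⁆ * a := by
  constructor
  · intro h v hv
    exact mem_centralizer_iff.1 ((commutator_eq_bot_iff_le_centralizer.1 h)
      (commutator_mem_commutator hv (mem_zpowers a))) a (mem_zpowers a)
  · intro h
    rw [commutator_eq_bot_iff_le_centralizer, commutator_le]
    intro v hv g hg
    rw [zpowers_eq_closure] at hg
    induction hg using closure_induction with
    | mem x hx =>
      rw [Set.mem_singleton_iff.1 hx]
      exact mem_centralizer_zpowers.2 (h v hv)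
    | one => simp
    | mul x y hx hy ihx ihy =>
      have hxc : x ∈ centralizer (zpowers a : Set G) := by
        rw [← zpowers_eq_closure] at hx
        exact mem_centralizer_iff.2 fun z hz => (Commute.symm (by
          obtain ⟨i, rfl⟩ := hx; obtain ⟨j, rfl⟩ := hz; exact Commute.zpow_zpow_self a i j)).eq
      rw [comm_mul_right]
      exact mul_mem ihx (mul_mem (mul_mem hxc ihy) (inv_mem hxc))
    | inv x hx ih =>
      have hxc : x ∈ centralizer (zpowers a : Set G) := by
        rw [← zpowers_eq_closure] at hx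
        exact mem_centralizer_iff.2 fun z hz => (Commute.symm (by
          obtain ⟨i, rfl⟩ := hx; obtain ⟨j, rfl⟩ := hz; exact Commute.zpow_zpow_self a i j)).eq
      have e : ⁅v, x⁻¹⁆ = x⁻¹ * ⁅v, x⁆⁻¹ * x := by group
      rw [e]
      exact mul_mem (mul_mem (inv_mem hxc) (inv_mem ih)) hxc

universe u

variable {S : Type u} [Group S] {p : ℕ}

/-- An element acting quadratically on `W(S)` centralises it. -/
theorem stableNormalClosure_quadratic [Finite S] [Fact p.Prime] {x : S}
    (hq : ⁅⁅stableNormalClosure p S, zpowers x⁆, zpowers x⁆ = ⊥) :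
    ∀ w ∈ stableNormalClosure p S, x * w = w * x := by
  set W := stableNormalClosure p S with hWdef
  set U0 : Set S := {y | ∀ v ∈ W, y * ⁅v, y⁆ = ⁅v, y⁆ * y} with hU0
  suffices hmem : W ≤ W ⊓ centralizer U0 by
    intro w hw
    exact mem_centralizer_iff.1 (mem_inf.1 (hmem hw)).2 x (quadratic_iff.1 hq)
  refine sInf_le ⟨le_inf omegaOne_center_le_stable ?_, fun H _ τ hτ => ?_⟩
  · exact (omegaOne_le p _).trans (Subgroup.center_le_centralizer _)
  have hWn := map_stableNormalClosure_normal hτ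
  obtain ⟨hinj, hfin, ⟨P, hP⟩, -, -, hst⟩ := hτ
  set WH := W.map τ with hWH
  haveI : WH.Normal := hWn
  set C := centralizer (WH : Set H) with hC
  haveI : C.Normal := inferInstance
  set D := (pCore p (H ⧸ C)).comap (QuotientGroup.mk' C) with hD
  haveI : D.Normal := Normal.comap inferInstance _
  set UH : Set H := {h | ∀ v ∈ WH, h * ⁅v, h⁆ = ⁅v, h⁆ * h} with hUH
  have hWab : IsMulCommutative W := (isElementaryAbelian_of_le
    (isElementaryAbelian_omegaOne (p := p) (inf_centralizer_le_centralizer _))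
    stableNormalClosure_le).1
  have hinD : ∀ h ∈ UH, h ∈ D := fun h hh =>
    hst WH (map_mono stableNormalClosure_le) h (quadratic_iff.2 hh)
  obtain ⟨k, hk⟩ := pCore_eq_pow_card p (H ⧸ C)
  have hDsup : C ⊔ ((P : Subgroup H) ⊓ D) = D := eq_sup_sylow_inf P (le_comap_mk' C _) (k := k)
    (by rw [← card_map_mk'_eq_relIndex, CfsgLib.Base.map_mk'_comap, hk])
  have key : (W ⊓ centralizer U0).map τ = WH ⊓ centralizer UH := by
    ext y
    constructor
    · rintro ⟨w, hw, rfl⟩
      obtain ⟨hwW, hwc⟩ := mem_inf.1 hw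
      refine mem_inf.2 ⟨mem_map_of_mem τ hwW, mem_centralizer_iff.2 fun h hh => ?_⟩
      have hh' := hinD h hh
      rw [← hDsup, ← SetLike.mem_coe, Subgroup.normal_mul] at hh'
      obtain ⟨c, hc, z, hz, rfl⟩ := hh'
      obtain ⟨s, rfl⟩ : z ∈ τ.range := hP ▸ (mem_inf.1 hz).1
      have hs : s ∈ U0 := by
        intro v hv
        apply hinj
        have hcomm : ⁅τ v, c * τ s⁆ = ⁅τ v, τ s⁆ := by
          have h1 : ⁅τ v, c⁆ = 1 := (commutatorElement_eq_one_iff_mul_comm (g₁ := τ v) (g₂ := c)).2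
            (mem_centralizer_iff.1 hc _ (mem_map_of_mem τ hv))
          have h2 : ⁅τ v, τ s⁆ ∈ WH := comm_mem_of_mem_normalizer
            (by rw [normalizer_eq_top]; exact mem_top _) (mem_map_of_mem τ hv)
          rw [comm_mul_right, h1, one_mul, ← mem_centralizer_iff.1 hc _ h2, mul_inv_cancel_right]
        have h3 := hh (τ v) (mem_map_of_mem τ hv)
        have h2 : ⁅τ v, τ s⁆ ∈ WH := comm_mem_of_mem_normalizer
            (by rw [normalizer_eq_top]; exact mem_top _) (mem_map_of_mem τ hv)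
        rw [hcomm] at h3
        rw [map_mul, map_mul, map_commutatorElement]
        refine mul_left_cancel (a := c) ?_
        calc c * (τ s * ⁅τ v, τ s⁆) = c * τ s * ⁅τ v, τ s⁆ := by group
          _ = ⁅τ v, τ s⁆ * (c * τ s) := h3
          _ = c * (⁅τ v, τ s⁆ * τ s) := by
            rw [← mul_assoc, mem_centralizer_iff.1 hc _ h2, mul_assoc]
      have h4 : s * w = w * s := mem_centralizer_iff.1 hwc s hs
      calc c * τ s * τ w = c * τ (s * w) := by rw [map_mul]; group
        _ = c * τ w * τ s := by rw [h4, map_mul]; group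
        _ = τ w * c * τ s := by rw [← mem_centralizer_iff.1 hc _ (mem_map_of_mem τ hwW)]
        _ = τ w * (c * τ s) := by group
    · intro hy
      obtain ⟨⟨w, hw, rfl⟩, hyc⟩ := mem_inf.1 hy
      refine ⟨w, mem_inf.2 ⟨hw, mem_centralizer_iff.2 fun s hs => hinj ?_⟩, rfl⟩
      rw [map_mul, map_mul]
      refine mem_centralizer_iff.1 hyc (τ s) ?_
      rintro _ ⟨v, hv, rfl⟩
      rw [← map_commutatorElement, ← map_mul, ← map_mul, hs v hv]
  rw [key]
  refine normal_of_map_conj_le fun g => ?_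
  rintro _ ⟨y, hy, rfl⟩
  obtain ⟨hy1, hy2⟩ := mem_inf.1 hy
  refine mem_inf.2 ⟨hWn.conj_mem y hy1 g, mem_centralizer_iff.2 fun h hh => ?_⟩
  have hh' : g⁻¹ * h * g ∈ UH := by
    intro v hv
    have := hh (g * v * g⁻¹) (hWn.conj_mem v hv g)
    have e : ⁅v, g⁻¹ * h * g⁆ = g⁻¹ * ⁅g * v * g⁻¹, h⁆ * g := by group
    rw [e]
    calc g⁻¹ * h * g * (g⁻¹ * ⁅g * v * g⁻¹, h⁆ * g) = g⁻¹ * (h * ⁅g * v * g⁻¹, h⁆) * g := by group
      _ = g⁻¹ * (⁅g * v * g⁻¹, h⁆ * h) * g := by rw [this]
      _ = _ := by group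
  show h * (g * y * g⁻¹) = g * y * g⁻¹ * h
  calc h * (g * y * g⁻¹) = g * (g⁻¹ * h * g * y) * g⁻¹ := by group
    _ = g * (y * (g⁻¹ * h * g)) * g⁻¹ := by rw [mem_centralizer_iff.1 hy2 _ hh']
    _ = _ := by group

/-! ### Normality in p-stable groups -/

theorem sectionKernel_isPGroup {G : Type*} [Group G] [Finite G] [Fact p.Prime]
    (hc : centralizer (pCore p G : Set G) ≤ pCore p G) :
    IsPGroup p (sectionKernel (pCore p G)
      ((frattini ↥(pCore p G)).map (pCore p G).subtype)) := by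
  set P := pCore p G with hP
  set F := (frattini ↥P).map P.subtype with hF
  refine isPGroup_of_forall_coprime fun d hd hcop => ?_
  have hAK : zpowers d ≤ normalizer (P : Set G) :=
    (le_normalizer_of_normal (H := P)).trans' (le_top (a := zpowers d))
  have hcomm : ⁅P, zpowers d⁆ ≤ F := by
    haveI : F.Normal := CfsgLib.Base.normal_map_subtype _
    rw [commutator_le_iff_map_mk', MonoidHom.map_zpowers, le_centralizer_iff, zpowers_le]
    exact hd
  obtain ⟨n, hn⟩ := pCore_eq_pow_card p G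
  haveI : Group.IsNilpotent P := (isPGroup_pCore p G).isNilpotent
  have hcop' : (Nat.card (zpowers d)).Coprime (Nat.card P) := by
    rw [Nat.card_zpowers, hn]; exact hcop.pow_right n
  have h := CfsgLib.Coprime.commutator_sup_centralizer hAK hcop' (Or.inr inferInstance)
  set CP := P ⊓ centralizer (zpowers d : Set G)
  have htop : CP.subgroupOf P = ⊤ := by
    refine CfsgLib.Base.eq_top_of_sup_frattini (top_le_iff.1 ?_)
    rw [← map_subtype_le_map_subtype, ← MonoidHom.range_eq_map, range_subtype, Subgroup.map_sup,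
      map_subgroupOf_eq_of_le (inf_le_left : CP ≤ P)]
    conv_lhs => rw [← h]
    exact sup_le (hcomm.trans le_sup_right) le_sup_left
  have hle : zpowers d ≤ centralizer (P : Set G) :=
    le_centralizer_iff.1 ((subgroupOf_eq_top.1 htop).trans inf_le_right)
  exact mem_bot.1 ((inf_eq_bot_of_isPGroup_of_coprime (isPGroup_pCore p G)
    (by rw [Nat.card_zpowers]; exact hcop : (Nat.card (zpowers d)).Coprime p)).le
    ⟨hc (hle (mem_zpowers d)), mem_zpowers d⟩)

/-- `W(S)` is normal in a p-stable group with `C(O_p) ≤ O_p`. -/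
theorem stableNormalClosure_normal {G : Type u} [Group G] [Finite G] [Fact p.Prime]
    (hst : IsActionPStable p G) (hc : centralizer (pCore p G : Set G) ≤ pCore p G)
    (S : Sylow p G) :
    ((stableNormalClosure p ↥(S : Subgroup G)).map (S : Subgroup G).subtype).Normal := by
  set SG := (S : Subgroup G) with hSG
  set W0 := stableNormalClosure p ↥SG with hW0
  set W := W0.map SG.subtype with hW
  obtain ⟨hV, hsec, hN⟩ := hst
  set N := normalizer (thompsonSubgroupOf p SG : Set G) with hNdef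
  haveI := thompsonSubgroup_characteristic p ↥SG
  have hSN : SG ≤ N :=
    le_normalizer.trans (normalizer_le_normalizer_map_subtype SG (thompsonSubgroup p ↥SG))
  -- the embedding of `S` into `N` is stable
  have hτ : IsStableEmbedding p (Subgroup.inclusion hSN) := by
    have hsub : ∀ X : Subgroup ↥SG, (X.map (Subgroup.inclusion hSN)).map N.subtype = X.map SG.subtype := by
      intro X
      rw [Subgroup.map_map]; rfl
    refine ⟨Subgroup.inclusion_injective hSN, inferInstance, ⟨S.subtype hSN, ?_⟩, ?_, ?_, ?_⟩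
    · rw [Sylow.coe_subtype, inclusion_range]
    · have hle : (pCore p G).subgroupOf N ≤ pCore p N := by
        refine le_pCore (IsPGroup.of_equiv ((isPGroup_pCore p G).to_le inf_le_left)
          (subgroupOfEquivOfLe (inf_le_right : pCore p G ⊓ N ≤ N)).symm |>.to_le ?_)
        intro x hx
        exact ⟨hx, x.2⟩
      intro x hx
      refine hle (hc (mem_centralizer_iff.2 fun y hy => ?_))
      have hyN : y ∈ N := hSN (pCore_le_sylow S hy)
      exact congrArg Subtype.val (mem_centralizer_iff.1 hx ⟨y, hyN⟩ (hle (show (⟨y, hyN⟩ : N) ∈ _ from hy)))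
    · refine ⟨fun x hx n => ?_⟩
      have hx' : (x : G) ∈ thompsonSubgroupOf p SG := by
        rw [thompsonSubgroupOf, ← hsub]; exact mem_map_of_mem _ hx
      have := (mem_normalizer_iff.1 n.2 (x : G)).1 hx'
      rw [thompsonSubgroupOf, ← hsub] at this
      obtain ⟨z, hz, he⟩ := this
      exact (Subtype.ext he : z = n * x * n⁻¹) ▸ hz
    · intro V _ hVle
      exact hN S V ((map_mono hVle).trans (hsub _).le)
  have hWn : N ≤ normalizer (W : Set G) := by
    have := map_stableNormalClosure_normal hτ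
    have e : (W0.map (Subgroup.inclusion hSN)).map N.subtype = W := by rw [Subgroup.map_map]; rfl
    rw [← e]
    haveI := this
    exact le_trans (le_of_eq (by
      rw [normalizer_eq_top, ← MonoidHom.range_eq_map, range_subtype]))
      (le_normalizer_map N.subtype (H := W0.map (Subgroup.inclusion hSN)))
  have hWS : W ≤ SG := map_subtype_le _
  have hWe : IsElementaryAbelian p W := isElementaryAbelian_map _ (isElementaryAbelian_of_le
    (isElementaryAbelian_omegaOne (inf_centralizer_le_centralizer _)) stableNormalClosure_le)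
  have hWW : ⁅W, W⁆ = ⊥ := commutator_self_eq_bot_iff.2 hWe.1
  have hPW : ⁅pCore p G, W⁆ ≤ W := commutator_le.2 fun x hx w hw => by
    have e : ⁅x, w⁆ = (x * w * x⁻¹) * w⁻¹ := by group
    rw [e]
    exact mul_mem ((mem_normalizer_iff.1 (hWn (hSN (pCore_le_sylow S hx))) w).1 hw) (inv_mem hw)
  -- `W ≤ O_p(G)`
  have hWP : W ≤ pCore p G := by
    intro a ha
    haveI : ((frattini ↥(pCore p G)).map (pCore p G).subtype).Normal :=
      CfsgLib.Base.normal_map_subtype _
    obtain ⟨D, hDn, hKD, ⟨k, hk⟩, haD⟩ := hsec a (by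
      refine le_trans (commutator_mono (commutator_mono le_rfl (zpowers_le.2 ha)) (zpowers_le.2 ha)) ?_
      exact le_trans (commutator_mono hPW le_rfl) (hWW.le.trans bot_le))
    refine le_pCore (N := D) ?_ haD
    obtain ⟨j, hj⟩ := IsPGroup.iff_card.1 (sectionKernel_isPGroup hc (p := p))
    refine IsPGroup.of_card (n := j + k) ?_
    have := relIndex_mul_relIndex ⊥ (sectionKernel (pCore p G)
      ((frattini ↥(pCore p G)).map (pCore p G).subtype)) D bot_le hKD
    rw [relIndex_bot_left, relIndex_bot_left, hj, hk, ← pow_add] at this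
    exact this.symm
  -- elements of `S` quadratic on `W` centralise `W`
  have hquad : ∀ s ∈ SG, (∀ v ∈ W, s * ⁅v, s⁆ = ⁅v, s⁆ * s) → ∀ w ∈ W, s * w = w * s := by
    intro s hs hsq w hw
    obtain ⟨w0, hw0, rfl⟩ := hw
    have h := stableNormalClosure_quadratic (p := p) (x := (⟨s, hs⟩ : SG)) (quadratic_iff.2 fun v hv => by
      apply Subtype.ext
      exact hsq _ (mem_map_of_mem SG.subtype hv)) w0 hw0
    exact congrArg Subtype.val h
  -- the conjugates of `W` commute
  set V := ⨆ g : G, W.map (MulAut.conj g).toMonoidHom with hVdef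
  haveI hVn : V.Normal := normal_of_map_conj_le fun g => by
    rw [hVdef, Subgroup.map_iSup]
    refine iSup_le fun h => le_iSup_of_le (g * h) (le_of_eq ?_)
    rw [Subgroup.map_map]; congr 1; ext x; simp [mul_assoc]
  have hWV : W ≤ V := le_iSup_of_le 1 (le_of_eq (by
    conv_lhs => rw [← Subgroup.map_id W]
    congr 1; ext x; simp))
  have hcom : ∀ g : G, ∀ w ∈ W, ∀ u ∈ W, (g * w * g⁻¹) * u = u * (g * w * g⁻¹) := by
    intro g w hw u hu
    have hmem : g * w * g⁻¹ ∈ pCore p G := (pCore_normal p G).conj_mem w (hWP hw) g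
    refine hquad _ (pCore_le_sylow S hmem) (fun v hv => ?_) u hu
    have hmem' : g⁻¹ * v * g ∈ pCore p G := by
      simpa using (pCore_normal p G).conj_mem v (hWP hv) g⁻¹
    have h2 : ⁅g⁻¹ * v * g, w⁆ ∈ W := hPW (commutator_mem_commutator hmem' hw)
    have h3 : w * ⁅g⁻¹ * v * g, w⁆ = ⁅g⁻¹ * v * g, w⁆ * w := isElementaryAbelian_comm hWe hw h2
    have e : ⁅v, g * w * g⁻¹⁆ = g * ⁅g⁻¹ * v * g, w⁆ * g⁻¹ := by group
    rw [e]
    calc g * w * g⁻¹ * (g * ⁅g⁻¹ * v * g, w⁆ * g⁻¹) = g * (w * ⁅g⁻¹ * v * g, w⁆) * g⁻¹ := by group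
      _ = g * (⁅g⁻¹ * v * g, w⁆ * w) * g⁻¹ := by rw [h3]
      _ = _ := by group
  have hVe : IsElementaryAbelian p V := by
    have e : V = closure (⋃ g : G, (W.map (MulAut.conj g).toMonoidHom : Set G)) := by
      rw [hVdef, Subgroup.closure_iUnion]
      exact iSup_congr fun g => (Subgroup.closure_eq _).symm
    rw [e]
    refine isElementaryAbelian_closure ?_ ?_
    · rintro x ⟨_, ⟨g, rfl⟩, a, ha, rfl⟩ y ⟨_, ⟨h, rfl⟩, b, hb, rfl⟩
      show g * a * g⁻¹ * (h * b * h⁻¹) = h * b * h⁻¹ * (g * a * g⁻¹)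
      calc g * a * g⁻¹ * (h * b * h⁻¹) = h * ((h⁻¹ * g) * a * (h⁻¹ * g)⁻¹ * b) * h⁻¹ := by group
        _ = h * (b * ((h⁻¹ * g) * a * (h⁻¹ * g)⁻¹)) * h⁻¹ := by rw [hcom _ a ha b hb]
        _ = _ := by group
    · rintro x ⟨_, ⟨g, rfl⟩, a, ha, rfl⟩
      show (g * a * g⁻¹) ^ p = 1
      rw [conj_pow, hWe.2 a ha]; simp
  have hVS : V ≤ SG := (iSup_le fun g => by
    rintro _ ⟨a, ha, rfl⟩
    exact (pCore_normal p G).conj_mem a (hWP ha) g).trans (pCore_le_sylow S)
  set C := centralizer (V : Set G) with hCdef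
  haveI : C.Normal := inferInstance
  have hCW : C ≤ centralizer (W : Set G) := centralizer_le hWV
  -- `J(S)` centralises `V`
  have hJC : thompsonSubgroupOf p SG ≤ C := by
    rw [thompsonSubgroupOf_eq_sSup]
    refine sSup_le fun A hA => ?_
    by_contra hAC
    have hne : ⁅V, A⁆ ≠ ⊥ := fun h0 =>
      hAC (le_centralizer_iff.1 (commutator_eq_bot_iff_le_centralizer.1 h0))
    obtain ⟨hA', hq, hne'⟩ := maxEA_replacement hVe hVS hA.1 hA
      (le_normalizer_of_normal.trans' (le_top (a := A)))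
    set A' := ⁅V, A⁆ ⊔ (A ⊓ centralizer ((⁅V, A⁆ : Subgroup G) : Set G))
    refine hne' hne (commutator_eq_bot_iff_le_centralizer.2 ?_)
    refine iSup_le fun g => ?_
    rw [le_centralizer_iff]
    intro a ha
    have haq : ∀ v ∈ V, a * ⁅v, a⁆ = ⁅v, a⁆ * a :=
      quadratic_iff.1 (le_bot_iff.1 ((commutator_mono (commutator_mono le_rfl (zpowers_le.2 ha))
        (zpowers_le.2 ha)).trans hq.le))
    set D := (pCore p (G ⧸ C)).comap (QuotientGroup.mk' C) with hD
    haveI : D.Normal := Normal.comap inferInstance _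
    have haD : a ∈ D := hV V hVe a (quadratic_iff.2 haq)
    obtain ⟨k, hk⟩ := pCore_eq_pow_card p (G ⧸ C)
    have hDsup : C ⊔ (SG ⊓ D) = D := eq_sup_sylow_inf S (le_comap_mk' C _) (k := k)
      (by rw [← card_map_mk'_eq_relIndex, CfsgLib.Base.map_mk'_comap, hk])
    obtain ⟨d, hd, n, hn, hg⟩ := exists_mul_normalizer S D g⁻¹
    have hd' : d⁻¹ ∈ C ⊔ (SG ⊓ D) := hDsup.symm ▸ inv_mem hd
    rw [← SetLike.mem_coe, Subgroup.normal_mul] at hd'
    obtain ⟨c, hc', s, hs, hd'⟩ := hd'
    have hgW : ∀ w ∈ W, ∃ w' ∈ W, g * w * g⁻¹ = n⁻¹ * w' * n := by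
      intro w hw
      have hsw : s * w * s⁻¹ ∈ W := (mem_normalizer_iff.1 (hWn (hSN (mem_inf.1 hs).1)) w).1 hw
      refine ⟨s * w * s⁻¹, hsw, ?_⟩
      have hg' : g = n⁻¹ * (c * s) := by rw [show c * s = d⁻¹ from hd', ← mul_inv_rev, ← hg, inv_inv]
      rw [hg']
      calc n⁻¹ * (c * s) * w * (n⁻¹ * (c * s))⁻¹
          = n⁻¹ * (c * (s * w * s⁻¹) * c⁻¹) * n := by group
        _ = _ := by rw [← mem_centralizer_iff.1 (hCW hc') _ hsw, mul_inv_cancel_right]
    refine mem_centralizer_iff.2 ?_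
    rintro _ ⟨w, hw, rfl⟩
    obtain ⟨w', hw', he⟩ := hgW w hw
    show g * w * g⁻¹ * a = a * (g * w * g⁻¹)
    rw [he]
    have hna : n * a * n⁻¹ ∈ SG :=
      (mem_inf.1 ((mem_normalizer_iff.1 hn a).1 (mem_inf.2 ⟨hA'.1 ha, haD⟩))).1
    have h5 := hquad _ hna (fun v hv => by
      have h6 := haq (n⁻¹ * v * n) (by simpa using hVn.conj_mem v (hWV hv) n⁻¹)
      have e : ⁅v, n * a * n⁻¹⁆ = n * ⁅n⁻¹ * v * n, a⁆ * n⁻¹ := by group
      rw [e]
      calc n * a * n⁻¹ * (n * ⁅n⁻¹ * v * n, a⁆ * n⁻¹) = n * (a * ⁅n⁻¹ * v * n, a⁆) * n⁻¹ := by group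
        _ = n * (⁅n⁻¹ * v * n, a⁆ * a) * n⁻¹ := by rw [h6]
        _ = _ := by group) w' hw'
    calc n⁻¹ * w' * n * a = n⁻¹ * (w' * (n * a * n⁻¹)) * n := by group
      _ = n⁻¹ * ((n * a * n⁻¹) * w') * n := by rw [h5]
      _ = _ := by group
  -- conclusion
  refine normalizer_eq_top_iff.1 (top_le_iff.1 fun g _ => ?_)
  obtain ⟨c, hc', n, hn, rfl⟩ := exists_mul_normalizer S C g
  refine mul_mem ((hCW.trans (centralizer_le_normalizer _)) hc') (hWn ?_)
  haveI := thompsonSubgroup_characteristic p ↥(SG ⊓ C)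
  rw [hNdef, ← thompsonSubgroupOf_eq_of_le (P := SG) (U := SG ⊓ C)
    (le_inf (thompsonSubgroupOf_le p _) hJC) inf_le_left]
  exact normalizer_le_normalizer_map_subtype _ _ hn

end CfsgLib.PLocal
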