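import Mathlib
import Cfsg.Agent.Lib.PLocal.QdStable
import Cfsg.Agent.Lib.PLocal.StableNormal

/-!
The group `Qd(p)`: translations, block homomorphism, and failure of p-stability.
-/

set_option autoImplicit false
set_option linter.style.haveILetI false

namespace CfsgLib.PLocal

open Subgroup Cfsg Matrix
open scoped commutatorElement
open CfsgLib.Classical (uSL lSL uSL_coe lSL_coe)

variable {p : ℕ} [Fact p.Prime]

theorem affMat_injective {u v : Fin 2 → ZMod p} {g h : Matrix.SpecialLinearGroup (Fin 2) (ZMod p)}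
    (e : affMat u g = affMat v h) : u = v ∧ g = h := by
  have h00 := congrArg (fun M : Matrix.SpecialLinearGroup (Fin 3) (ZMod p) => M.1 0 0) e
  have h01 := congrArg (fun M : Matrix.SpecialLinearGroup (Fin 3) (ZMod p) => M.1 0 1) e
  have h02 := congrArg (fun M : Matrix.SpecialLinearGroup (Fin 3) (ZMod p) => M.1 0 2) e
  have h10 := congrArg (fun M : Matrix.SpecialLinearGroup (Fin 3) (ZMod p) => M.1 1 0) e
  have h11 := congrArg (fun M : Matrix.SpecialLinearGroup (Fin 3) (ZMod p) => M.1 1 1) e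
  have h12 := congrArg (fun M : Matrix.SpecialLinearGroup (Fin 3) (ZMod p) => M.1 1 2) e
  simp [affMat] at h00 h01 h02 h10 h11 h12
  refine ⟨funext fun i => ?_, Subtype.ext (Matrix.ext fun i j => ?_)⟩
  · fin_cases i <;> simp [h02, h12]
  · fin_cases i <;> fin_cases j <;> simp [h00, h01, h10, h11]

theorem affMat_one : affMat (0 : Fin 2 → ZMod p) 1 = 1 := by
  apply Subtype.ext
  ext i j
  fin_cases i <;> fin_cases j <;> simp [affMat]

/-- The set of affine matrices as a subgroup. -/
def affGroup (p : ℕ) [Fact p.Prime] : Subgroup (Matrix.SpecialLinearGroup (Fin 3) (ZMod p)) where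
  carrier := {M | ∃ v g, affMat v g = M}
  one_mem' := ⟨0, 1, affMat_one⟩
  mul_mem' := by
    rintro _ _ ⟨u, g, rfl⟩ ⟨v, h, rfl⟩
    exact ⟨u + g.1.mulVec v, g * h, (affMat_mul u v g h).symm⟩
  inv_mem' := by
    rintro _ ⟨u, g, rfl⟩
    refine ⟨(g⁻¹).1.mulVec (-u), g⁻¹, eq_inv_of_mul_eq_one_right ?_⟩
    rw [affMat_mul, mul_inv_cancel, Matrix.mulVec_mulVec, ← Matrix.SpecialLinearGroup.coe_mul,
      mul_inv_cancel, Matrix.SpecialLinearGroup.coe_one, Matrix.one_mulVec, add_neg_cancel, affMat_one]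

theorem qd_eq_affGroup : qd p = affGroup p := by
  refine le_antisymm ((closure_le _).2 ?_) ?_
  · rintro M ⟨h0, h1, h2⟩
    obtain ⟨v, g, e⟩ := exists_affMat_eq h0 h1 h2
    exact ⟨v, g, e⟩
  · rintro _ ⟨v, g, rfl⟩
    exact affMat_mem_qd p v g

/-- An element of `Qd(p)` from a translation and a block. -/
def qdElt (v : Fin 2 → ZMod p) (g : Matrix.SpecialLinearGroup (Fin 2) (ZMod p)) : ↥(qd p) :=
  ⟨affMat v g, affMat_mem_qd p v g⟩

theorem qdElt_mul (u v : Fin 2 → ZMod p) (g h : Matrix.SpecialLinearGroup (Fin 2) (ZMod p)) :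
    qdElt u g * qdElt v h = qdElt (u + g.1.mulVec v) (g * h) :=
  Subtype.ext (affMat_mul u v g h)

theorem qdElt_one : qdElt (0 : Fin 2 → ZMod p) 1 = 1 := Subtype.ext affMat_one

theorem exists_qdElt_eq (x : ↥(qd p)) : ∃ v g, qdElt v g = x := by
  obtain ⟨v, g, e⟩ := (qd_eq_affGroup (p := p) ▸ x.2 : (x : Matrix.SpecialLinearGroup (Fin 3) (ZMod p)) ∈ affGroup p)
  exact ⟨v, g, Subtype.ext e⟩

theorem qdElt_injective {u v : Fin 2 → ZMod p} {g h : Matrix.SpecialLinearGroup (Fin 2) (ZMod p)}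
    (e : qdElt u g = qdElt v h) : u = v ∧ g = h :=
  affMat_injective (congrArg Subtype.val e)

/-- The block homomorphism onto `SL₂(p)`. -/
noncomputable def qdBlock : ↥(qd p) →* Matrix.SpecialLinearGroup (Fin 2) (ZMod p) :=
  MonoidHom.mk' (fun x => (exists_qdElt_eq x).choose_spec.choose) fun x y => by
    obtain ⟨u, g, hx⟩ : ∃ u g, qdElt u g = x ∧ (exists_qdElt_eq x).choose_spec.choose = g :=
      ⟨_, _, (exists_qdElt_eq x).choose_spec.choose_spec, rfl⟩
    obtain ⟨v, h, hy⟩ : ∃ v h, qdElt v h = y ∧ (exists_qdElt_eq y).choose_spec.choose = h :=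
      ⟨_, _, (exists_qdElt_eq y).choose_spec.choose_spec, rfl⟩
    rw [hx.2, hy.2]
    have hxy := (exists_qdElt_eq (x * y)).choose_spec.choose_spec
    have h2 : qdElt (u + g.1.mulVec v) (g * h) = x * y := by rw [← qdElt_mul, hx.1, hy.1]
    exact (qdElt_injective (hxy.trans h2.symm)).2

theorem qdBlock_qdElt (v : Fin 2 → ZMod p) (g : Matrix.SpecialLinearGroup (Fin 2) (ZMod p)) :
    qdBlock (qdElt v g) = g :=
  (qdElt_injective ((exists_qdElt_eq (qdElt v g)).choose_spec.choose_spec)).2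

variable {Q : Type*} [Group Q]

/-- A group isomorphic to `Qd(p)` is not p-stable in the normalizer form. -/
theorem not_isNormalizerPStable_of_equiv [Finite Q] (hp : p ≠ 2) (e : Q ≃* ↥(qd p)) :
    ¬ IsNormalizerPStable p Q := by
  intro hst
  let j : (Fin 2 → ZMod p) → Matrix.SpecialLinearGroup (Fin 2) (ZMod p) → Q :=
    fun v g => e.symm (qdElt v g)
  have jmul : ∀ u v g h, j u g * j v h = j (u + g.1.mulVec v) (g * h) := fun u v g h => by
    show e.symm _ * e.symm _ = e.symm _
    rw [← map_mul, qdElt_mul]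
  let π : Q →* Matrix.SpecialLinearGroup (Fin 2) (ZMod p) := qdBlock.comp e.toMonoidHom
  have hπ : ∀ v g, π (j v g) = g := fun v g => by
    show qdBlock (e (e.symm (qdElt v g))) = g
    rw [e.apply_symm_apply, qdBlock_qdElt]
  have hj : ∀ x : Q, ∃ v g, j v g = x := fun x => by
    obtain ⟨v, g, h⟩ := exists_qdElt_eq (e x)
    exact ⟨v, g, by show e.symm _ = x; rw [h, e.symm_apply_apply]⟩
  have hsum : ∀ u v, j u 1 * j v 1 = j (u + v) 1 := fun u v => by
    rw [jmul, Matrix.SpecialLinearGroup.coe_one, Matrix.one_mulVec, one_mul]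
  set P := π.ker with hP
  have hPmem : ∀ x ∈ P, ∃ v, j v 1 = x := fun x hx => by
    obtain ⟨v, g, rfl⟩ := hj x
    rw [MonoidHom.mem_ker, hπ] at hx
    exact ⟨v, by rw [hx]⟩
  have hPp : IsPGroup p P := by
    intro x
    obtain ⟨v, hv⟩ := hPmem x x.2
    refine ⟨1, Subtype.ext ?_⟩
    have hn : ∀ n : ℕ, j v 1 ^ n = j (n • v) 1 := fun n => by
      induction n with
      | zero =>
        rw [pow_zero, zero_smul]
        show 1 = e.symm (qdElt 0 1)
        rw [qdElt_one, map_one]
      | succ n ih => rw [pow_succ, ih, hsum, succ_nsmul]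
    show (x : Q) ^ p ^ 1 = 1
    rw [← hv, pow_one, hn]
    show e.symm (qdElt (p • v) 1) = 1
    have h0 : p • v = 0 := funext fun i => by simp [nsmul_eq_mul]
    rw [h0, qdElt_one, map_one]
  have hNP : normalizer (P : Set Q) = ⊤ := normalizer_eq_top_iff.2 inferInstance
  have hCP : centralizer (P : Set Q) ≤ P := by
    intro x hx
    obtain ⟨v, g, rfl⟩ := hj x
    rw [MonoidHom.mem_ker, hπ]
    apply Subtype.ext
    apply Matrix.toLin'.injective
    refine LinearMap.ext fun u => ?_
    have h1 := mem_centralizer_iff.1 hx (j u 1) (by rw [SetLike.mem_coe, MonoidHom.mem_ker, hπ])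
    rw [jmul, jmul, Matrix.SpecialLinearGroup.coe_one, Matrix.one_mulVec] at h1
    have h2 := (qdElt_injective (e.symm.injective h1)).1
    rw [Matrix.toLin'_apply, Matrix.toLin'_apply, Matrix.SpecialLinearGroup.coe_one, Matrix.one_mulVec]
    exact add_left_cancel (h2.symm.trans (add_comm u v))
  set g0 := j 0 (uSL 1) with hg0
  have hq : ⁅⁅P, zpowers g0⁆, zpowers g0⁆ = ⊥ := by
    rw [quadratic_iff]
    intro w hw
    obtain ⟨v, rfl⟩ := hPmem w hw
    have h1 : g0 * j (-v) 1 * g0⁻¹ = j ((uSL 1).1.mulVec (-v)) 1 := by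
      rw [mul_inv_eq_iff_eq_mul, hg0, jmul, jmul, zero_add, Matrix.SpecialLinearGroup.coe_one,
        Matrix.one_mulVec, add_zero, mul_one, one_mul]
    have h2 : (j v 1)⁻¹ = j (-v) 1 := inv_eq_of_mul_eq_one_right (by
      rw [hsum, add_neg_cancel]; show e.symm (qdElt 0 1) = 1; rw [qdElt_one, map_one])
    have h3 : ⁅j v 1, g0⁆ = j (v + (uSL 1).1.mulVec (-v)) 1 := by
      rw [← hsum, ← h1, ← h2]; group
    rw [h3, hg0, jmul, jmul, zero_add, Matrix.SpecialLinearGroup.coe_one, Matrix.one_mulVec,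
      add_zero, mul_one, one_mul]
    congr 1
    funext i
    fin_cases i <;> simp [uSL_coe, Matrix.mulVec, dotProduct, Fin.sum_univ_two]
  have hmem := hst P hPp g0 (hNP ▸ mem_top _) hq
  set N := normalizer (P : Set Q)
  set C := (centralizer (P : Set Q)).subgroupOf N
  set D := (pCore p (N ⧸ C)).comap (QuotientGroup.mk' C)
  haveI : (pCore p (N ⧸ C)).Normal := pCore_normal p _
  haveI : D.Normal := Normal.comap inferInstance _
  have hDp : IsPGroup p D := by
    refine (CfsgLib.Base.isPGroup_pCore p _).comap_of_ker_isPGroup _ ?_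
    rw [QuotientGroup.ker_mk']
    exact (hPp.to_le hCP).comap_of_injective N.subtype N.subtype_injective
  let π' : N →* Matrix.SpecialLinearGroup (Fin 2) (ZMod p) := π.comp N.subtype
  have hπ's : Function.Surjective π' := fun g => ⟨⟨j 0 g, hNP ▸ mem_top _⟩, hπ 0 g⟩
  haveI : (D.map π').Normal := Normal.map inferInstance π' hπ's
  have hu : uSL (1 : ZMod p) ∈ D.map π' := ⟨⟨g0, hNP ▸ mem_top _⟩, hmem, hπ 0 _⟩
  let w : Matrix.SpecialLinearGroup (Fin 2) (ZMod p) := ⟨!![0, -1; 1, 0], by simp [Matrix.det_fin_two]⟩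
  have hl : lSL (1 : ZMod p) ∈ D.map π' := by
    have h1 := inv_mem ((inferInstance : (D.map π').Normal).conj_mem _ hu w)
    convert h1 using 1
    refine eq_inv_of_mul_eq_one_left ?_
    rw [← mul_assoc, ← mul_assoc, mul_inv_eq_one]
    apply Subtype.ext
    rw [Matrix.SpecialLinearGroup.coe_mul, Matrix.SpecialLinearGroup.coe_mul]
    ext i k
    fin_cases i <;> fin_cases k <;>
      simp [w, uSL_coe, lSL_coe, Matrix.mul_apply, Fin.sum_univ_two]
  have htop := CfsgLib.OddOrder.SL2.zmod_eq_top hu hl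
  let m : Matrix.SpecialLinearGroup (Fin 2) (ZMod p) := ⟨!![-1, 0; 0, -1], by simp [Matrix.det_fin_two]⟩
  obtain ⟨k, hk⟩ := (hDp.map π') ⟨m, htop ▸ mem_top m⟩
  have hk' : m ^ p ^ k = 1 := congrArg Subtype.val hk
  have hm2 : m * m = 1 := by
    apply Subtype.ext
    rw [Matrix.SpecialLinearGroup.coe_mul]
    ext i j
    fin_cases i <;> fin_cases j <;> simp [m, Matrix.mul_apply, Fin.sum_univ_two]
  obtain ⟨t, ht⟩ := (((Fact.out : p.Prime).odd_of_ne_two hp).pow : Odd (p ^ k))
  rw [ht, pow_succ, pow_mul, sq, hm2, one_pow, one_mul] at hk'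
  have h00 := congrArg (fun M : Matrix.SpecialLinearGroup (Fin 2) (ZMod p) => M.1 0 0) hk'
  simp [m] at h00
  have h2 : ((2 : ℕ) : ZMod p) = 0 := by
    have : (2 : ZMod p) = 0 := by linear_combination -h00
    exact_mod_cast this
  exact hp ((Nat.prime_dvd_prime_iff_eq Fact.out Nat.prime_two).1 ((ZMod.natCast_eq_zero_iff 2 p).1 h2))

/-- A group without a `Qd(p)` section is p-stable in the normalizer form. -/
theorem isNormalizerPStable_of_not_invHom {G : Type*} [Group G] [Finite G] (hp : p ≠ 2)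
    (hno : ¬ InvHom ↥(qd p) G) : IsNormalizerPStable p G := by
  intro P hP g hg hq
  set N := normalizer (P : Set G)
  haveI : (P.subgroupOf N).Normal := normal_subgroupOf_of_le_normalizer le_rfl
  have h := mem_pCore_of_quadratic_of_not_invHom hp (fun h => hno h.of_subgroup) (P.subgroupOf N)
    (hP.comap_of_injective N.subtype N.subtype_injective) (⟨g, hg⟩ : N) (by
      refine map_injective N.subtype_injective ?_
      rw [map_commutator, map_commutator, map_subgroupOf_eq_of_le le_normalizer,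
        MonoidHom.map_zpowers, Subgroup.map_bot]
      exact hq)
  have heq : centralizer ((P.subgroupOf N : Subgroup N) : Set N)
      = (centralizer (P : Set G)).subgroupOf N := by
    ext x
    rw [mem_subgroupOf, mem_centralizer_iff, mem_centralizer_iff]
    exact ⟨fun h v hv => congrArg Subtype.val (h ⟨v, le_normalizer hv⟩ hv),
      fun h v hv => Subtype.ext (h v hv)⟩
  let e := QuotientGroup.quotientMulEquivOfEq heq
  have := mem_map_of_mem e.toMonoidHom h
  rw [CfsgLib.Base.map_pCore_mulEquiv] at this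
  exact this

end CfsgLib.PLocal
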