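import Mathlib
import Cfsg.Agent.Lib.PLocal.Constrained
import Cfsg.Agent.Lib.PLocal.Quadratic

/-!
p-stability and quotients by `O_{p'}`.
-/

set_option autoImplicit false
set_option linter.style.haveILetI false

namespace CfsgLib.PLocal

open Subgroup Cfsg CfsgLib.Base
open scoped commutatorElement

variable {G : Type*} [Group G] {p : ℕ}

/-- The image of `A` in `N(P)/C(P)` lies in `O_p`. -/
def ActsInCore (p : ℕ) (A P : Subgroup G) : Prop :=
  (A.subgroupOf (normalizer (P : Set G))).map
      (QuotientGroup.mk' ((centralizer (P : Set G)).subgroupOf (normalizer (P : Set G))))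
    ≤ pCore p _

theorem actsInCore_quotient_iff [Finite G] [Fact p.Prime] (N : Subgroup G) [N.Normal]
    (hN : (Nat.card N).Coprime p) {A P : Subgroup G} (hP : IsPGroup p P)
    (hA : A ≤ normalizer (P : Set G)) :
    ActsInCore p (A.map (QuotientGroup.mk' N)) (P.map (QuotientGroup.mk' N)) ↔ ActsInCore p A P := by
  set f := QuotientGroup.mk' N with hf
  let φ : normalizer (P : Set G) →* normalizer ((P.map f : Subgroup (G ⧸ N)) : Set (G ⧸ N)) :=
    (f.comp (normalizer (P : Set G)).subtype).codRestrict _ fun x =>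
      map_normalizer_mk' N hN hP ▸ mem_map_of_mem f x.2
  let π := QuotientGroup.mk' ((centralizer ((P.map f : Subgroup (G ⧸ N)) : Set (G ⧸ N))).subgroupOf
    (normalizer ((P.map f : Subgroup (G ⧸ N)) : Set (G ⧸ N))))
  have hφ : Function.Surjective φ := by
    intro y
    have hy : (y : G ⧸ N) ∈ (normalizer (P : Set G)).map f := by
      rw [map_normalizer_mk' N hN hP]; exact y.2
    obtain ⟨x, hx, he⟩ := hy
    exact ⟨⟨x, hx⟩, Subtype.ext he⟩
  have hker : (π.comp φ).ker = (centralizer (P : Set G)).subgroupOf (normalizer (P : Set G)) := by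
    ext x
    rw [MonoidHom.mem_ker, MonoidHom.comp_apply, QuotientGroup.mk'_apply, QuotientGroup.eq_one_iff,
      mem_subgroupOf, mem_subgroupOf]
    show f x ∈ centralizer _ ↔ _
    constructor
    · intro h
      refine mem_centralizer_iff.2 fun a ha => ?_
      have h1 : ⁅a, (x : G)⁆ ∈ P := comm_mem_of_mem_normalizer x.2 ha
      have h2 : ⁅a, (x : G)⁆ ∈ N := by
        rw [← QuotientGroup.eq_one_iff, ← QuotientGroup.mk'_apply, map_commutatorElement,
          commutatorElement_eq_one_iff_mul_comm]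
        exact mem_centralizer_iff.1 h _ (mem_map_of_mem _ ha)
      have := mem_bot.1 (inf_eq_bot_of_isPGroup_of_coprime hP hN ▸ mem_inf.2 ⟨h1, h2⟩)
      rwa [commutatorElement_eq_one_iff_mul_comm] at this
    · intro h
      rw [← map_centralizer_mk' N hN hP]
      exact mem_map_of_mem f h
  let e := (QuotientGroup.quotientMulEquivOfEq hker.symm).trans
    (QuotientGroup.quotientKerEquivOfSurjective (π.comp φ) ((QuotientGroup.mk'_surjective _).comp hφ))
  have hmap : ((A.subgroupOf (normalizer (P : Set G))).map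
      (QuotientGroup.mk' ((centralizer (P : Set G)).subgroupOf (normalizer (P : Set G))))).map
        e.toMonoidHom = ((A.map f).subgroupOf (normalizer ((P.map f : Subgroup (G ⧸ N)) : Set (G ⧸ N)))).map π := by
    rw [Subgroup.map_map]
    have e1 : e.toMonoidHom.comp (QuotientGroup.mk' ((centralizer (P : Set G)).subgroupOf
        (normalizer (P : Set G)))) = π.comp φ := by ext x; rfl
    rw [e1, ← Subgroup.map_map]
    congr 1
    ext y
    rw [mem_subgroupOf]
    constructor
    · rintro ⟨x, hx, rfl⟩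
      exact ⟨x, hx, rfl⟩
    · rintro ⟨a, ha, he⟩
      exact ⟨⟨a, hA ha⟩, ha, Subtype.ext he⟩
  show ((A.map f).subgroupOf _).map π ≤ _ ↔ _
  rw [← hmap, ← map_pCore_mulEquiv e, map_le_map_iff_of_injective (f := e.toMonoidHom) e.injective]
  rfl

theorem isPStable_quotient_iff [Finite G] [Fact p.Prime] (hO : pCore p G ≠ ⊥) :
    IsPStable p G ↔ IsPStable p (G ⧸ pPrimeCore p G) := by
  have hN := pPrimeCore_coprime p G
  have hQ := pPrimeCore_quotient_pPrimeCore p G
  haveI := pPrimePCore_normal p G
  set N := pPrimeCore p G with hNdef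
  set f := QuotientGroup.mk' N with hf
  have hfs : Function.Surjective f := QuotientGroup.mk'_surjective _
  have hO' : pCore p (G ⧸ N) ≠ ⊥ := by
    intro hb
    refine hO (le_bot_iff.1 ?_)
    have h1 := (map_pCore_le (p := p) f hfs).trans hb.le
    rw [le_bot_iff, map_mk'_eq_bot_iff] at h1
    exact (le_inf le_rfl h1).trans (pCore_inf_pPrimeCore p G).le
  constructor
  · rintro ⟨hp, -, h⟩
    refine ⟨hp, hO', fun A P hA hP hAP hPle hPn hq => ?_⟩
    rw [pPrimePCore_eq_pCore hQ] at hPle
    rw [hQ, bot_sup_eq] at hPn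
    -- lift `P`, then `A` inside its normalizer
    obtain ⟨SP⟩ : Nonempty (Sylow p (P.comap f)) := inferInstance
    have hP0 : ((SP : Subgroup (P.comap f)).map (P.comap f).subtype).map f = P := by
      have hsurj : Function.Surjective (f.subgroupComap P) := by
        intro y
        obtain ⟨x, hx⟩ := hfs y
        exact ⟨⟨x, by rw [mem_comap, hx]; exact y.2⟩, Subtype.ext hx⟩
      have : (SP.mapSurjective hsurj).toSubgroup = ⊤ :=
        ((SP.mapSurjective hsurj).is_maximal' (hP.of_equiv Subgroup.topEquiv.symm) le_top).symm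
      refine le_antisymm ((map_mono (map_subtype_le _)).trans (map_comap_le f P)) fun y hy => ?_
      have hy' : (⟨y, hy⟩ : P) ∈ (SP.mapSurjective hsurj).toSubgroup := this ▸ mem_top _
      obtain ⟨a, ha, he⟩ := hy'
      exact ⟨a, mem_map_of_mem _ ha, congrArg Subtype.val he⟩
    set P0 := (SP : Subgroup (P.comap f)).map (P.comap f).subtype with hP0def
    have hP0p : IsPGroup p P0 := SP.2.map _
    have hAN : A ≤ (normalizer (P0 : Set G)).map f := by
      rw [map_normalizer_mk' N hN hP0p, hP0]
      intro a ha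
      refine mem_normalizer_iff.2 fun x => ⟨hAP a ha x, fun hx => ?_⟩
      simpa [mul_assoc] using hAP a⁻¹ (inv_mem ha) _ hx
    set M := normalizer (P0 : Set G) ⊓ A.comap f with hM
    have hMA : M.map f = A := by
      refine le_antisymm ((map_mono inf_le_right).trans (map_comap_le f A)) fun a ha => ?_
      obtain ⟨x, hx, rfl⟩ := hAN ha
      exact ⟨x, mem_inf.2 ⟨hx, ha⟩, rfl⟩
    obtain ⟨SA⟩ : Nonempty (Sylow p M) := inferInstance
    have hA0 : ((SA : Subgroup M).map M.subtype).map f = A := by
      have hsurj : Function.Surjective (f.subgroupMap M) := f.subgroupMap_surjective M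
      have hAp : IsPGroup p ↥(M.map f) := hA.to_le hMA.le
      have : (SA.mapSurjective hsurj).toSubgroup = ⊤ :=
        ((SA.mapSurjective hsurj).is_maximal' (hAp.of_equiv Subgroup.topEquiv.symm) le_top).symm
      refine le_antisymm ((map_mono (map_subtype_le _)).trans hMA.le) fun y hy => ?_
      have hy' : (⟨y, hMA.ge hy⟩ : M.map f) ∈ (SA.mapSurjective hsurj).toSubgroup := this ▸ mem_top _
      obtain ⟨a, ha, he⟩ := hy'
      exact ⟨a, mem_map_of_mem _ ha, congrArg Subtype.val he⟩
    set A0 := (SA : Subgroup M).map M.subtype with hA0def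
    have hA0n : A0 ≤ normalizer (P0 : Set G) := (map_subtype_le _).trans inf_le_left
    have hn0 : (N ⊔ P0).Normal := by
      have e : N ⊔ P0 = P.comap f := by rw [← hP0, hf, CfsgLib.Base.comap_map_mk', sup_comm]
      rw [e]
      exact Normal.comap hPn f
    have hq0 : ⁅⁅P0, A0⁆, A0⁆ = ⊥ := by
      have hle : ⁅⁅P0, A0⁆, A0⁆ ≤ P0 :=
        (commutator_mono (commutator_le_of_le_normalizer hA0n) le_rfl).trans
          (commutator_le_of_le_normalizer hA0n)
      have hle2 : ⁅⁅P0, A0⁆, A0⁆ ≤ N := by
        rw [← map_mk'_eq_bot_iff, map_commutator, map_commutator, hP0, hA0, hq]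
      exact le_bot_iff.1 ((le_inf hle hle2).trans (inf_eq_bot_of_isPGroup_of_coprime hP0p hN).le)
    have hres := h A0 P0 (SA.2.map _) hP0p
      (fun a ha x hx => (mem_normalizer_iff.1 (hA0n ha) x).1 hx) (by
        rw [pPrimePCore, ← map_le_iff_le_comap]
        exact hP0.le.trans hPle) hn0 hq0
    have := (actsInCore_quotient_iff N hN hP0p hA0n).2 hres
    rw [hA0, hP0] at this
    exact this
  · rintro ⟨hp, -, h⟩
    refine ⟨hp, hO, fun A P hA hP hAP hPle hPn hq => ?_⟩
    have hA' : A ≤ normalizer (P : Set G) := fun a ha => mem_normalizer_iff.2 fun x =>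
      ⟨hAP a ha x, fun hx => by simpa [mul_assoc] using hAP a⁻¹ (inv_mem ha) _ hx⟩
    refine (actsInCore_quotient_iff N hN hP hA').1 (h _ _ (hA.map f) (hP.map f) ?_ ?_ ?_ ?_)
    · rintro _ ⟨a, ha, rfl⟩ _ ⟨x, hx, rfl⟩
      exact ⟨a * x * a⁻¹, hAP a ha x hx, by simp⟩
    · rw [pPrimePCore_eq_pCore hQ, map_le_iff_le_comap]
      exact hPle
    · rw [hQ, bot_sup_eq]
      have e : P.map f = (N ⊔ P).map f := by
        rw [Subgroup.map_sup, map_mk'_eq_bot_iff.2 le_rfl, bot_sup_eq]
      rw [e]
      exact Normal.map hPn f hfs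
    · rw [← map_commutator, ← map_commutator, hq, Subgroup.map_bot]

end CfsgLib.PLocal
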