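import Mathlib
import Cfsg.Agent.Lib.PLocal.ZJ
import Cfsg.Agent.Lib.PLocal.PStable

/-!
The ZJ-theorem for p-constrained p-stable groups.
-/

set_option autoImplicit false
set_option linter.style.haveILetI false

namespace CfsgLib.PLocal

open Subgroup Cfsg CfsgLib.Base
open scoped commutatorElement

variable {G : Type*} [Group G] {p : ℕ}

theorem quadStable_of_isPStable [Finite G] [Fact p.Prime] (hO : pPrimeCore p G = ⊥)
    (hs : IsPStable p G) : QuadStable p G := by
  intro B _ hB a ha hq
  have hN : normalizer (B : Set G) = ⊤ := normalizer_eq_top_iff.2 ‹B.Normal›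
  have h := hs.2.2 (zpowers a) B ha hB (fun c _ x hx => ‹B.Normal›.conj_mem x hx c)
    (by rw [pPrimePCore_eq_pCore hO]; exact le_pCore hB) (by rw [hO, bot_sup_eq]; infer_instance) hq
  set C := centralizer (B : Set G)
  let ψ := QuotientGroup.map (C.subgroupOf (normalizer (B : Set G))) C
    (normalizer (B : Set G)).subtype le_rfl
  have hψ : Function.Surjective ψ := by
    intro y
    obtain ⟨g, rfl⟩ := QuotientGroup.mk_surjective y
    exact ⟨QuotientGroup.mk ⟨g, hN ▸ mem_top g⟩, rfl⟩
  exact map_pCore_le ψ hψ ⟨_, h ⟨⟨a, hN ▸ mem_top a⟩, mem_zpowers a, rfl⟩, rfl⟩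

/-- `G = O_{p'}(G) N(Z)` in a p-constrained p-stable group, and `Z` is normal if `O_{p'}(G) = 1`. -/
theorem sup_normalizer_maxCenter [Finite G] [Fact p.Prime] {e : ℕ} (hp : p ≠ 2)
    (he : Odd e ∨ e = 0) (hc : IsPConstrained p G) (hs : IsPStable p G) (P : Sylow p G) :
    pPrimeCore p G ⊔ normalizer (maxCenter e (P : Subgroup G) : Set G) = ⊤ := by
  set N := pPrimeCore p G with hNdef
  have hN : (Nat.card N).Coprime p := pPrimeCore_coprime p G
  set f := QuotientGroup.mk' N with hfdef
  have hf : Function.Surjective f := QuotientGroup.mk'_surjective _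
  have hs' := (isPStable_quotient_iff hs.2.1).1 hs
  have hQ : pPrimeCore p (G ⧸ N) = ⊥ := pPrimeCore_quotient_pPrimeCore p G
  have hc' := isPConstrained_iff.1 hc
  have hinj : Function.Injective (f.comp (P : Subgroup G).subtype) := by
    rw [← MonoidHom.ker_eq_bot_iff, eq_bot_iff]
    intro x hx
    have h2 : (x : G) ∈ N := (QuotientGroup.eq_one_iff (x : G)).1 hx
    exact Subtype.ext (mem_bot.1 ((inf_eq_bot_of_isPGroup_of_coprime P.2 hN).le ⟨x.2, h2⟩))
  haveI := maxCenter_characteristic hp he hc' (quadStable_of_isPStable hQ hs') (P.mapSurjective hf)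
  have e1 : (maxCenter e (P : Subgroup G)).map f
      = maxCenter e ((P.mapSurjective hf : Sylow p (G ⧸ N)) : Subgroup (G ⧸ N)) :=
    map_maxCenter_of_injective f _ hinj
  have e2 : (normalizer (maxCenter e (P : Subgroup G) : Set G)).map f = ⊤ := by
    rw [map_normalizer_mk' N hN (P.2.to_le (maxCenter_le e _)), e1, normalizer_eq_top_iff]
    infer_instance
  have e3 := comap_map_eq f (normalizer (maxCenter e (P : Subgroup G) : Set G))
  rw [e2, comap_top, QuotientGroup.ker_mk', sup_comm] at e3
  exact e3.symm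

end CfsgLib.PLocal
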