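import Mathlib
import Cfsg.Agent.Lib.PLocal.ZJPStable
import Cfsg.Agent.Lib.Fusion.SylowAux

/-!
The normalizer of `Z(J(P))` in a group of characteristic `p` type with p-stable p-locals.
-/

set_option autoImplicit false
set_option linter.style.haveILetI false

namespace CfsgLib.PLocal

open Subgroup Cfsg CfsgLib.Base
open scoped commutatorElement

variable {G : Type*} [Group G] {p : ℕ}

theorem maxCenter_zero_ne_bot [Finite G] [Fact p.Prime] {P : Subgroup G} (hP : IsPGroup p P)
    (h1 : P ≠ ⊥) : maxCenter 0 P ≠ ⊥ := by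
  haveI : Nontrivial P := (nontrivial_iff_ne_bot P).2 h1
  haveI := hP.center_nontrivial
  intro hb
  refine (nontrivial_iff_ne_bot (center P)).1 inferInstance (eq_bot_iff.2 fun z hz => ?_)
  have h : (z : G) ∈ maxCenter 0 P := mem_maxCenter z.2 (pow_zero _) fun A hA a ha =>
    congrArg Subtype.val (mem_center_iff.1 hz ⟨a, hA.1 ha⟩)
  rw [hb, mem_bot] at h
  exact Subtype.ext h

/-- The normalizer of every nontrivial subgroup of `P` lies in `N(Z(J(P)))`. -/
theorem normalizer_le_normalizer_maxCenter [Finite G] [Fact p.Prime] (hp : p ≠ 2)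
    (hloc : ∀ Q : Subgroup G, IsPGroup p Q → Q ≠ ⊥ →
      pPrimeCore p ↥(normalizer (Q : Set G)) = ⊥ ∧ IsPConstrained p ↥(normalizer (Q : Set G)) ∧
        IsPStable p ↥(normalizer (Q : Set G)))
    (P : Sylow p G) (Q : Subgroup G) (hQP : Q ≤ (P : Subgroup G)) (hQ1 : Q ≠ ⊥) :
    normalizer (Q : Set G) ≤ normalizer (maxCenter 0 (P : Subgroup G) : Set G) := by
  set M := normalizer (maxCenter 0 (P : Subgroup G) : Set G) with hMdef
  by_contra hbad
  obtain ⟨Q, ⟨hQP, hQ1, hQM⟩, hmax⟩ := Set.exists_max_image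
    {Q : Subgroup G | Q ≤ (P : Subgroup G) ∧ Q ≠ ⊥ ∧ ¬ normalizer (Q : Set G) ≤ M}
    (fun Q => Nat.card ↥((P : Subgroup G) ⊓ normalizer (Q : Set G))) (Set.toFinite _)
    ⟨Q, hQP, hQ1, hbad⟩
  set R := (P : Subgroup G) ⊓ normalizer (Q : Set G) with hRdef
  have hRp : IsPGroup p R := P.2.to_le inf_le_left
  have hmax' : ∀ Q' : Subgroup G, Q' ≤ (P : Subgroup G) → Q' ≠ ⊥ →
      Nat.card R < Nat.card ↥((P : Subgroup G) ⊓ normalizer (Q' : Set G)) →
      normalizer (Q' : Set G) ≤ M := by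
    intro Q' h1 h2 h3
    by_contra h4
    exact absurd (hmax Q' ⟨h1, h2, h4⟩) (Nat.not_le.2 h3)
  have hR1 : R ≠ ⊥ := fun h => hQ1 (le_bot_iff.1 (h ▸ le_inf hQP le_normalizer))
  -- a Sylow subgroup of `N(Q)` containing `R`
  obtain ⟨T0, hT0⟩ := (hRp.comap_of_injective (normalizer (Q : Set G)).subtype
    (normalizer (Q : Set G)).subtype_injective).exists_le_sylow
  set T := (T0 : Subgroup ↥(normalizer (Q : Set G))).map (normalizer (Q : Set G)).subtype with hTdef
  have hRT : R ≤ T := fun x hx => ⟨⟨x, (mem_inf.1 hx).2⟩, hT0 hx, rfl⟩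
  have hTp : IsPGroup p T := T0.2.map _
  have hTN : T ≤ normalizer (Q : Set G) := map_subtype_le _
  obtain ⟨hO, hc, hs⟩ := hloc Q (P.2.to_le hQP) hQ1
  have hK : normalizer (Q : Set G) ≤ normalizer (maxCenter 0 T : Set G) := by
    have h := sup_normalizer_maxCenter (e := 0) hp (Or.inr rfl) hc hs T0
    rw [hO, bot_sup_eq] at h
    rw [hTdef, ← map_maxCenter (normalizer (Q : Set G)).subtype_injective]
    calc normalizer (Q : Set G)
        = (⊤ : Subgroup ↥(normalizer (Q : Set G))).map (normalizer (Q : Set G)).subtype := by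
          rw [← MonoidHom.range_eq_map, range_subtype]
      _ ≤ _ := by rw [← h]; exact le_normalizer_map _
  by_cases hTR : T ≤ (P : Subgroup G)
  · have hEq : T = R := le_antisymm (le_inf hTR hTN) hRT
    rw [hEq] at hK
    rcases (inf_le_left : R ≤ (P : Subgroup G)).eq_or_lt with hRP | hRP
    · exact hQM (hK.trans (le_of_eq (congrArg (fun X : Subgroup G => normalizer (maxCenter 0 X : Set G)) hRP)))
    refine hQM (hK.trans (hmax' _ ((maxCenter_le 0 R).trans inf_le_left)
      (maxCenter_zero_ne_bot hRp hR1) ?_))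
    refine lt_of_lt_of_le (card_lt_of_lt (CfsgLib.Fusion.lt_inf_normalizer P.2 hRP)) ?_
    exact card_le_of_le (inf_le_inf_left _ (maxCenter_le_normalizer R))
  · have hRT' : R < T := lt_of_le_of_ne hRT fun h => hTR (h ▸ inf_le_left)
    have hRP : R < (P : Subgroup G) := lt_of_le_of_ne inf_le_left fun h =>
      hTR (P.3 hTp (h ▸ hRT)).le
    have hNR : normalizer (R : Set G) ≤ M := hmax' R inf_le_left hR1
      (card_lt_of_lt (CfsgLib.Fusion.lt_inf_normalizer P.2 hRP))
    have hlt : R < T ⊓ M := lt_of_lt_of_le (CfsgLib.Fusion.lt_inf_normalizer hTp hRT')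
      (inf_le_inf_left T hNR)
    have hPM : (P : Subgroup G) ≤ M := le_normalizer.trans (maxCenter_le_normalizer _)
    obtain ⟨m, hm, hmT⟩ := CfsgLib.Fusion.IsSylIn.exists_conj_le
      (⟨hPM, P.2, fun C hC h _ => P.3 hC h⟩ : CfsgLib.Fusion.IsSylIn p (P : Subgroup G) M)
      (hTp.to_le inf_le_left) (inf_le_right : T ⊓ M ≤ M)
    set c := (MulAut.conj m).toMonoidHom with hcdef
    have hcT : (T ⊓ M).map c ≤ (P : Subgroup G) := by
      rintro _ ⟨x, hx, rfl⟩
      exact hmT x hx
    have hQT : Q ≤ T ⊓ M := (le_inf hQP le_normalizer : Q ≤ R).trans hlt.le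
    have hnc : (normalizer (Q : Set G)).map c = normalizer ((Q.map c : Subgroup G) : Set G) :=
      Subgroup.map_equiv_normalizer_eq Q (MulAut.conj m)
    have h := hmax' (Q.map c) ((map_mono hQT).trans hcT)
      (fun h => hQ1 ((map_eq_bot_iff_of_injective _ (MulAut.conj m).injective).1 h)) ?_
    · refine hQM fun n hn => ?_
      have h2 : m * n * m⁻¹ ∈ M := h (hnc ▸ mem_map_of_mem c hn)
      simpa [mul_assoc] using mul_mem (mul_mem (inv_mem hm) h2) hm
    · refine lt_of_lt_of_le (card_lt_of_lt hlt) ?_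
      rw [← CfsgLib.Base.card_map_of_injective (f := c) (MulAut.conj m).injective]
      refine card_le_of_le (le_inf hcT ?_)
      rw [← hnc]
      exact map_mono (inf_le_left.trans hTN)

end CfsgLib.PLocal
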