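import Mathlib
import Cfsg.Agent.Lib.PLocal.QdBasic
import Cfsg.Agent.Lib.Transfer.ControlZJ
import Cfsg.Agent.Lib.Transfer.ZJStronglyClosed

/-!
`Qd(p)` is not involved iff `N(Z(J))` controls strong fusion in every section.
-/

set_option autoImplicit false
set_option linter.style.haveILetI false

namespace CfsgLib.PLocal

open Subgroup Cfsg Matrix
open scoped commutatorElement
open CfsgLib.Classical (uSL lSL uSL_coe lSL_coe)

universe u

variable {p : ℕ} [Fact p.Prime]

theorem InvHom.of_quotient {H G : Type*} [Group H] [Group G] (N : Subgroup G) [N.Normal]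
    (h : InvHom H (G ⧸ N)) : InvHom H G :=
  h.of_surjective _ (QuotientGroup.mk'_surjective N)

/-- `N(Z(J(P)))` controls strong fusion in a `Qd(p)`-free group. -/
theorem controlsFusion_centerThompsonAOf {G : Type u} [Group G] [Finite G] (hp : p ≠ 2)
    (hno : ¬ InvHom ↥(qd p) G) (P : Sylow p G) :
    CfsgLib.Transfer.ControlsFusion (P : Subgroup G)
      (normalizer (centerThompsonAOf (P : Subgroup G) : Set G)) :=
  CfsgLib.Transfer.controlsFusion_of_constrained (Φ := fun X _ => ¬ InvHom ↥(qd p) X)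
    (K := fun _ _ R => centerThompsonAOf R)
    CfsgLib.Transfer.subgroupFunctor_centerThompsonAOf (fun _ _ _ _ h hU => h hU.of_subgroup)
    (fun _ _ _ N _ h hq => h (hq.of_quotient N))
    (fun X _ _ h hc S D₀ hD => by
      rw [centerThompsonAOf_eq]
      exact CfsgLib.Transfer.maxCenter_normal_of_stronglyClosed (e := 0) hp (Or.inr rfl) hc
        (quadStable_of_not_invHom hp h) S hD) hno P

theorem controlsStrongFusion_centerThompsonAOf {G : Type u} [Group G] [Finite G] (hp : p ≠ 2)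
    (hno : ¬ InvHom ↥(qd p) G) (P : Sylow p G) :
    ControlsStrongFusion p (centerThompsonAOf (P : Subgroup G)) := by
  refine ⟨P, by rw [centerThompsonAOf_eq]; exact maxCenter_le 0 _, fun A hA => ⟨hA, fun g hg => ?_⟩⟩
  obtain ⟨n, hn, hn'⟩ := controlsFusion_centerThompsonAOf hp hno P A hA g⁻¹ fun a ha => by
    rw [inv_inv]
    exact hg ⟨a, ha, rfl⟩
  refine ⟨n⁻¹, inv_mem hn, fun a ha => ?_⟩
  have h := hn' a ha
  rw [inv_inv] at h ⊢
  exact h.symm

variable {Q : Type*} [Group Q]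

theorem not_controls_of_equiv [Finite Q] (e : Q ≃* ↥(qd p)) :
    ∃ T : Sylow p Q, ¬ ControlsStrongFusion p (centerThompsonAOf (T : Subgroup Q)) := by
  let j : (Fin 2 → ZMod p) → Matrix.SpecialLinearGroup (Fin 2) (ZMod p) → Q :=
    fun v g => e.symm (qdElt v g)
  have jmul : ∀ u v g h, j u g * j v h = j (u + g.1.mulVec v) (g * h) := fun u v g h => by
    show e.symm _ * e.symm _ = e.symm _
    rw [← map_mul, qdElt_mul]
  have jone : j 0 1 = 1 := by show e.symm (qdElt 0 1) = 1; rw [qdElt_one, map_one]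
  have jinj : ∀ u v g h, j u g = j v h → u = v ∧ g = h := fun u v g h hh =>
    qdElt_injective (e.symm.injective hh)
  let π : Q →* Matrix.SpecialLinearGroup (Fin 2) (ZMod p) := qdBlock.comp e.toMonoidHom
  have hπ : ∀ v g, π (j v g) = g := fun v g => by
    show qdBlock (e (e.symm (qdElt v g))) = g
    rw [e.apply_symm_apply, qdBlock_qdElt]
  have hj : ∀ x : Q, ∃ v g, j v g = x := fun x => by
    obtain ⟨v, g, h⟩ := exists_qdElt_eq (e x)
    exact ⟨v, g, by show e.symm _ = x; rw [h, e.symm_apply_apply]⟩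
  have hsum : ∀ u v, j u 1 * j v 1 = j (u + v) 1 := fun u v => by
    rw [jmul, Matrix.SpecialLinearGroup.coe_one, Matrix.one_mulVec, one_mul]
  have hpow : ∀ (n : ℕ) v, j v 1 ^ n = j (n • v) 1 := fun n v => by
    induction n with
    | zero => rw [pow_zero, zero_smul, jone]
    | succ n ih => rw [pow_succ, ih, hsum, succ_nsmul]
  set P := π.ker with hP
  have hPmem : ∀ x, x ∈ P ↔ ∃ v, j v 1 = x := fun x => by
    constructor
    · intro hx
      obtain ⟨v, g, rfl⟩ := hj x
      rw [MonoidHom.mem_ker, hπ] at hx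
      exact ⟨v, by rw [hx]⟩
    · rintro ⟨v, rfl⟩
      rw [MonoidHom.mem_ker, hπ]
  have hPp : IsPGroup p P := fun x => by
    obtain ⟨v, hv⟩ := (hPmem x).1 x.2
    refine ⟨1, Subtype.ext ?_⟩
    show (x : Q) ^ p ^ 1 = 1
    rw [← hv, pow_one, hpow, ← jone]
    congr 1
    exact funext fun i => by simp [nsmul_eq_mul]
  have hCP : centralizer (P : Set Q) ≤ P := by
    intro x hx
    obtain ⟨v, g, rfl⟩ := hj x
    rw [MonoidHom.mem_ker, hπ]
    apply Subtype.ext
    apply Matrix.toLin'.injective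
    refine LinearMap.ext fun u => ?_
    have h1 := mem_centralizer_iff.1 hx (j u 1) ((hPmem _).2 ⟨u, rfl⟩)
    rw [jmul, jmul, Matrix.SpecialLinearGroup.coe_one, Matrix.one_mulVec] at h1
    have h2 := (jinj _ _ _ _ h1).1
    rw [Matrix.toLin'_apply, Matrix.toLin'_apply, Matrix.SpecialLinearGroup.coe_one, Matrix.one_mulVec]
    exact add_left_cancel (h2.symm.trans (add_comm u v))
  have hu1 : uSL (1 : ZMod p) ^ p = 1 := CfsgLib.OddOrder.SL2.uSL_pow_char p 1
  have hUp : IsPGroup p ((zpowers (uSL (1 : ZMod p))).comap π) := by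
    refine IsPGroup.comap_of_ker_isPGroup ?_ π hPp
    intro x
    refine ⟨1, Subtype.ext ?_⟩
    obtain ⟨i, hi⟩ := x.2
    show (x : Matrix.SpecialLinearGroup (Fin 2) (ZMod p)) ^ p ^ 1 = 1
    rw [← hi, pow_one]
    show (uSL (1 : ZMod p) ^ i) ^ p = 1
    rw [← zpow_natCast, ← _root_.zpow_mul, mul_comm, _root_.zpow_mul, zpow_natCast, hu1, _root_.one_zpow]
  obtain ⟨T, hT⟩ := hUp.exists_le_sylow
  refine ⟨T, fun hctrl => ?_⟩
  have hPT : P ≤ (T : Subgroup Q) := le_trans (fun x hx => show π x ∈ zpowers _ by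
    rw [MonoidHom.mem_ker.1 hx]; exact one_mem _) hT
  rw [centerThompsonAOf_eq] at hctrl
  set Z := maxCenter 0 (T : Subgroup Q) with hZ
  -- `Z` is normal
  obtain ⟨T', -, hfus⟩ := hctrl
  have hPT' : (P : Set Q) ⊆ (T' : Subgroup Q) := hPp.le_sylow_of_normal T'
  haveI hZn : Z.Normal := by
    refine normalizer_eq_top_iff.1 (top_le_iff.1 fun g _ => ?_)
    obtain ⟨x, hx, hxa⟩ := (hfus _ hPT').2 g (by
      rintro _ ⟨a, ha, rfl⟩
      exact hPT' ((inferInstance : P.Normal).conj_mem a ha g))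
    have hc : x⁻¹ * g ∈ P := hCP (mem_centralizer_iff.2 fun a ha => by
      calc a * (x⁻¹ * g) = x⁻¹ * (x * a * x⁻¹) * g := by group
        _ = x⁻¹ * (g * a * g⁻¹) * g := by rw [hxa a ha]
        _ = _ := by group)
    rw [← mul_inv_cancel_left x g]
    exact mul_mem hx ((le_normalizer.trans (maxCenter_le_normalizer _)) (hPT hc))
  -- hence `Z = P`
  have hT1 : (T : Subgroup Q) ≠ ⊥ := fun h => by
    have h1 : j 0 (uSL 1) ∈ (T : Subgroup Q) := hT (show π (j 0 (uSL 1)) ∈ zpowers _ by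
      rw [hπ]; exact mem_zpowers _)
    rw [h, mem_bot, ← jone] at h1
    have h2 := congrArg (fun M : Matrix.SpecialLinearGroup (Fin 2) (ZMod p) => M.1 0 1) (jinj _ _ _ _ h1).2
    simp [uSL_coe] at h2
  have hZne : Z ≠ ⊥ := by
    intro hb
    refine CfsgLib.Transfer.inf_centralizer_ne_bot T.2 hT1 (le_bot_iff.1 (hb ▸ fun x hx => ?_))
    exact mem_maxCenter hx.1 (pow_zero x) fun A hA a ha => mem_centralizer_iff.1 hx.2 a (hA.1 ha)
  have hZP : Z ≤ P := by
    by_contra hnot
    obtain ⟨z, hz, hzP⟩ := SetLike.not_le_iff_exists.1 hnot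
    -- `[z, P] ⊆ Z ∩ P`, and `Z` is abelian
    have hcomm := maxCenter_comm 0 (T : Subgroup Q)
    refine hzP (hCP (mem_centralizer_iff.2 fun a ha => ?_))
    by_contra hne
    obtain ⟨v, g, rfl⟩ := hj z
    obtain ⟨u, rfl⟩ := (hPmem a).1 ha
    -- translate: `Z ∩ P` is invariant, hence all of `P`
    have hw : ⁅j u 1, j v g⁆ ∈ Z ⊓ P := by
      refine mem_inf.2 ⟨?_, ?_⟩
      · rw [commutatorElement_def]
        exact mul_mem (hZn.conj_mem _ hz _) (inv_mem hz)
      · rw [commutatorElement_def, mul_assoc, mul_assoc, ← mul_assoc (j v g)]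
        exact mul_mem ha ((inferInstance : P.Normal).conj_mem _ (inv_mem ha) _)
    have hfull : P ≤ Z := plane_minimal (W := P) j jmul jone hPmem (Z := Z) hw (fun h1 => hne
      (commutatorElement_eq_one_iff_mul_comm.1 h1))
    exact hne (hcomm _ (hfull ha) _ hz)
  obtain ⟨z, hz, hz1⟩ : ∃ z ∈ Z, z ≠ 1 := by
    by_contra hall
    push Not at hall
    exact hZne ((eq_bot_iff_forall _).2 hall)
  have hPZ : P ≤ Z := plane_minimal (W := P) j jmul jone hPmem (Z := Z) (w := z)
    (mem_inf.2 ⟨hz, hZP hz⟩) hz1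
  -- two members give a contradiction
  obtain ⟨A0, hA0⟩ := exists_mem_maxAbExp 0 (T : Subgroup Q)
  have hPA0 : P ≤ A0 := hPZ.trans (maxCenter_le_of_mem hA0)
  have hA0P : A0 ≤ P := fun a ha => hCP (mem_centralizer_iff.2 fun b hb =>
    comm_of_mem hA0.2.1.1 (hPA0 hb) ha)
  let A2 : Subgroup Q :=
    { carrier := {x | ∃ s t : ZMod p, j ![s, 0] (uSL t) = x}
      one_mem' := ⟨0, 0, by
        rw [CfsgLib.OddOrder.SL2.uSL_zero, show (![0, 0] : Fin 2 → ZMod p) = 0 by
          funext i; fin_cases i <;> rfl, jone]⟩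
      mul_mem' := by
        rintro _ _ ⟨s, t, rfl⟩ ⟨s', t', rfl⟩
        refine ⟨s + s', t + t', ?_⟩
        rw [jmul, ← CfsgLib.OddOrder.SL2.uSL_add]
        congr 1
        funext i
        fin_cases i <;> simp [uSL_coe, Matrix.mulVec, dotProduct, Fin.sum_univ_two]
      inv_mem' := by
        rintro _ ⟨s, t, rfl⟩
        refine ⟨-s, -t, eq_inv_of_mul_eq_one_left ?_⟩
        rw [jmul, ← CfsgLib.OddOrder.SL2.uSL_add, neg_add_cancel, CfsgLib.OddOrder.SL2.uSL_zero, ← jone]
        congr 1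
        funext i
        fin_cases i <;> simp [uSL_coe, Matrix.mulVec, dotProduct, Fin.sum_univ_two] }
  have hA2T : A2 ≤ (T : Subgroup Q) := by
    rintro _ ⟨s, t, rfl⟩
    refine hT (show π _ ∈ zpowers (uSL (1 : ZMod p)) from ?_)
    rw [hπ, ← ZMod.natCast_zmod_val t, ← mul_one ((t.val : ZMod p)),
      CfsgLib.OddOrder.SL2.uSL_natCast]
    exact pow_mem (mem_zpowers _) _
  have hA2 : AbExp 0 A2 := by
    refine abExp_zero.2 ⟨⟨?_⟩⟩
    rintro ⟨_, s, t, rfl⟩ ⟨_, s', t', rfl⟩
    apply Subtype.ext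
    show j _ _ * j _ _ = j _ _ * j _ _
    rw [jmul, jmul, ← CfsgLib.OddOrder.SL2.uSL_add, ← CfsgLib.OddOrder.SL2.uSL_add, add_comm t t']
    congr 1
    funext i
    fin_cases i <;> simp [uSL_coe, Matrix.mulVec, dotProduct, Fin.sum_univ_two, add_comm]
  have hcard : Nat.card A0 ≤ Nat.card A2 := by
    refine Nat.card_le_card_of_injective
      (fun a : A0 => (⟨j ![((hPmem a).1 (hA0P a.2)).choose 0, 0]
        (uSL (((hPmem a).1 (hA0P a.2)).choose 1)), _, _, rfl⟩ : A2)) fun a b hab => ?_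
    have h := jinj _ _ _ _ (congrArg Subtype.val hab)
    have h0 := congrFun h.1 0
    have h1 := CfsgLib.OddOrder.SL2.uSL_injective h.2
    simp only [Matrix.cons_val_zero] at h0
    refine Subtype.ext ?_
    rw [← ((hPmem a).1 (hA0P a.2)).choose_spec, ← ((hPmem b).1 (hA0P b.2)).choose_spec]
    congr 1
    funext i
    fin_cases i
    · exact h0
    · exact h1
  have hA2mem : A2 ∈ maxAbExp 0 (T : Subgroup Q) :=
    ⟨hA2T, hA2, fun C hC hCe => (hA0.2.2 C hC hCe).trans hcard⟩
  have hbad : j ![0, 1] 1 ∈ A2 := maxCenter_le_of_mem hA2mem (hPZ ((hPmem _).2 ⟨_, rfl⟩))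
  obtain ⟨s, t, hst⟩ := hbad
  have h := congrFun (jinj _ _ _ _ hst).1 1
  simp at h
where
  plane_minimal {W Z : Subgroup Q} [Z.Normal]
      (j : (Fin 2 → ZMod p) → Matrix.SpecialLinearGroup (Fin 2) (ZMod p) → Q)
      (jmul : ∀ u v g h, j u g * j v h = j (u + g.1.mulVec v) (g * h)) (jone : j 0 1 = 1)
      (hW : ∀ x, x ∈ W ↔ ∃ v, j v 1 = x) {w : Q} (hw : w ∈ Z ⊓ W) (hw1 : w ≠ 1) : W ≤ Z := by
    let S : AddSubgroup (Fin 2 → ZMod p) :=
      { carrier := {v | j v 1 ∈ Z}
        zero_mem' := by show j 0 1 ∈ Z; rw [jone]; exact one_mem _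
        add_mem' := fun {a b} ha hb => by
          show j (a + b) 1 ∈ Z
          have e : j a 1 * j b 1 = j (a + b) 1 := by
            rw [jmul, Matrix.SpecialLinearGroup.coe_one, Matrix.one_mulVec, one_mul]
          exact e ▸ mul_mem ha hb
        neg_mem' := fun {a} ha => by
          show j (-a) 1 ∈ Z
          have e : j a 1 * j (-a) 1 = 1 := by
            rw [jmul, Matrix.SpecialLinearGroup.coe_one, Matrix.one_mulVec, one_mul, add_neg_cancel, jone]
          exact (inv_eq_of_mul_eq_one_right e) ▸ inv_mem ha }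
    have hsmul : ∀ (c : ZMod p) v, v ∈ S → c • v ∈ S := fun c v hv => by
      rw [← ZMod.natCast_zmod_val c, Nat.cast_smul_eq_nsmul]
      exact S.nsmul_mem hv _
    have hinv : ∀ (g : Matrix.SpecialLinearGroup (Fin 2) (ZMod p)) v, v ∈ S → g.1.mulVec v ∈ S := by
      intro g v hv
      show j (g.1.mulVec v) 1 ∈ Z
      have e : j 0 g * j v 1 * (j 0 g)⁻¹ = j (g.1.mulVec v) 1 := by
        rw [mul_inv_eq_iff_eq_mul, jmul, jmul, zero_add, Matrix.SpecialLinearGroup.coe_one,
          Matrix.one_mulVec, add_zero, mul_one, one_mul]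
      exact e ▸ (inferInstance : Z.Normal).conj_mem _ hv _
    obtain ⟨v, rfl⟩ := (hW w).1 (mem_inf.1 hw).2
    have hvS : v ∈ S := (mem_inf.1 hw).1
    have hv0 : v ≠ 0 := fun h => hw1 (by rw [h, jone])
    have hE0 : (![1, 0] : Fin 2 → ZMod p) ∈ S := by
      by_cases h1 : v 1 = 0
      · have h0 : v 0 ≠ 0 := fun h => hv0 (by funext i; fin_cases i <;> assumption)
        convert hsmul (v 0)⁻¹ v hvS using 1
        funext i
        fin_cases i
        · simp [h0]
        · simp [h1]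
      · convert hsmul (v 1)⁻¹ _ (S.sub_mem (hinv (uSL 1) v hvS) hvS) using 1
        funext i
        fin_cases i <;> simp [uSL_coe, Matrix.mulVec, dotProduct, Fin.sum_univ_two, Matrix.vecHead, Matrix.vecTail, h1]
    have hE1 : (![0, 1] : Fin 2 → ZMod p) ∈ S := by
      convert S.sub_mem (hinv (lSL 1) _ hE0) hE0 using 1
      funext i
      fin_cases i <;> simp [lSL_coe, Matrix.mulVec, dotProduct, Fin.sum_univ_two]
    intro x hx
    obtain ⟨u, rfl⟩ := (hW x).1 hx
    have : u ∈ S := by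
      convert S.add_mem (hsmul (u 0) _ hE0) (hsmul (u 1) _ hE1) using 1
      funext i
      fin_cases i <;> simp
    exact this

end CfsgLib.PLocal
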