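import Mathlib

/-!
Polynomial sequences in a filtered group, and the Hall–Petrescu congruence for `p`-th powers.
-/

set_option autoImplicit false

namespace CfsgLib.PLocal

open Subgroup
open scoped commutatorElement

variable {G : Type*} [Group G]

variable (G) in
/-- The filtration of a group by its lower central series, started at `⊤, ⊤`. -/
def lcsFil (i : ℕ) : Subgroup G := (⊤ : Subgroup G).lowerCentralSeries (i - 1)

theorem lcsFil_antitone : Antitone (lcsFil G) := fun _ _ h =>
  Subgroup.lowerCentralSeries_antitone _ (Nat.sub_le_sub_right h 1)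

theorem lcsFil_zero : lcsFil G 0 = ⊤ := rfl

theorem lcsFil_one : lcsFil G 1 = ⊤ := rfl

theorem lcsFil_two : lcsFil G 2 = commutator G := top_lowerCentralSeries_one

/-- The commutator of two terms of the lower central series. -/
theorem commutator_lowerCentralSeries_le : ∀ i j : ℕ,
    ⁅(⊤ : Subgroup G).lowerCentralSeries i, (⊤ : Subgroup G).lowerCentralSeries j⁆ ≤
      (⊤ : Subgroup G).lowerCentralSeries (i + j + 1) := by
  intro i j
  induction j generalizing i with
  | zero => rfl
  | succ j ih =>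
    set γ := (⊤ : Subgroup G).lowerCentralSeries
    set N := γ (i + (j + 1) + 1) with hN
    have : N.Normal := inferInstanceAs ((⊤ : Subgroup G).lowerCentralSeries _).Normal
    let π := QuotientGroup.mk' N
    have hkill : ∀ A B C : Subgroup G, ⁅⁅A, B⁆, C⁆ ≤ N →
        ⁅⁅A.map π, B.map π⁆, C.map π⁆ = ⊥ := by
      intro A B C h
      rw [← map_commutator, ← map_commutator, Subgroup.map_eq_bot_iff, QuotientGroup.ker_mk']
      exact h
    have h1 : ⁅⁅(⊤ : Subgroup G), γ i⁆, γ j⁆ ≤ N := by
      rw [commutator_comm ⊤ (γ i)]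
      refine (ih (i + 1)).trans (le_of_eq ?_)
      rw [hN, show i + 1 + j + 1 = i + (j + 1) + 1 by ring]
    have h2 : ⁅⁅γ i, γ j⁆, (⊤ : Subgroup G)⁆ ≤ N :=
      (commutator_mono (ih i) le_rfl).trans (le_of_eq rfl)
    have h3 := commutator_commutator_eq_bot_of_rotate (hkill _ _ _ h1) (hkill _ _ _ h2)
    rw [← map_commutator, ← map_commutator, Subgroup.map_eq_bot_iff, QuotientGroup.ker_mk'] at h3
    rw [show γ (j + 1) = ⁅γ j, ⊤⁆ from rfl, commutator_comm]
    exact h3

theorem commutator_lcsFil_le (i j : ℕ) : ⁅lcsFil G i, lcsFil G j⁆ ≤ lcsFil G (i + j) := by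
  have hn : ∀ k, (lcsFil G k).Normal := fun k =>
    inferInstanceAs ((⊤ : Subgroup G).lowerCentralSeries (k - 1)).Normal
  rcases Nat.eq_zero_or_pos i with rfl | hi
  · rw [zero_add, lcsFil_zero]
    exact @commutator_le_right _ _ _ _ (hn j)
  rcases Nat.eq_zero_or_pos j with rfl | hj
  · rw [add_zero, lcsFil_zero]
    exact @commutator_le_left _ _ _ _ (hn i)
  refine (commutator_lowerCentralSeries_le _ _).trans (le_of_eq ?_)
  rw [lcsFil, show i - 1 + (j - 1) + 1 = i + j - 1 by omega]

/-- The difference of a sequence. -/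
def seqDiff (f : ℕ → G) : ℕ → G := fun n => (f n)⁻¹ * f (n + 1)

theorem seqDiff_mul (f g : ℕ → G) :
    seqDiff (f * g) = g⁻¹ * seqDiff f * g * seqDiff g := by
  funext n
  simp [seqDiff, mul_assoc]

theorem seqDiff_inv (f : ℕ → G) : seqDiff f⁻¹ = f * (seqDiff f)⁻¹ * f⁻¹ := by
  funext n
  simp [seqDiff, mul_assoc]

/-- `m`-fold polynomial sequences of filtration shift `i`. -/
def polyPred : ℕ → ℕ → (ℕ → G) → Prop
  | 0, i, f => ∀ n, f n ∈ lcsFil G i
  | m + 1, i, f => polyPred m i f ∧ polyPred m (i + 1) (seqDiff f)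

theorem polyPred_properties (m : ℕ) :
    (∀ i, polyPred (G := G) m i 1) ∧
    (∀ i f g, polyPred (G := G) m i f → polyPred m i g → polyPred m i (f * g)) ∧
    (∀ i f, polyPred (G := G) m i f → polyPred m i f⁻¹) ∧
    (∀ i j, i ≤ j → ∀ f, polyPred (G := G) m j f → polyPred m i f) ∧
    (∀ i j (f g : ℕ → G), polyPred m i f → polyPred m j g → polyPred m (i + j) ⁅f, g⁆) := by
  induction m with
  | zero =>
    exact ⟨fun i n => one_mem _, fun i f g hf hg n => mul_mem (hf n) (hg n),
      fun i f hf n => inv_mem (hf n), fun i j hij f hf n => lcsFil_antitone hij (hf n),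
      fun i j f g hf hg n => commutator_lcsFil_le i j (commutator_mem_commutator (hf n) (hg n))⟩
  | succ m ih =>
    obtain ⟨hone, hmul, hinv, hanti, hcomm⟩ := ih
    have hconj : ∀ i f g, polyPred (G := G) m i f → polyPred m 0 g →
        polyPred m i (g * f * g⁻¹) := by
      intro i f g hf hg
      have h := hcomm 0 i g f hg hf
      rw [zero_add] at h
      convert hmul i _ _ h hf using 1
      rw [commutatorElement_def]
      group
    have hconj' : ∀ i f g, polyPred (G := G) m i f → polyPred m 0 g →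
        polyPred m i (g⁻¹ * f * g) := by
      intro i f g hf hg
      convert hconj i f g⁻¹ hf (hinv 0 g hg) using 1
      rw [inv_inv]
    refine ⟨fun i => ⟨hone i, ?_⟩, fun i f g hf hg => ⟨hmul i f g hf.1 hg.1, ?_⟩,
      fun i f hf => ⟨hinv i f hf.1, ?_⟩,
      fun i j hij f hf => ⟨hanti i j hij f hf.1, hanti (i + 1) (j + 1) (by omega) _ hf.2⟩,
      fun i j f g hf hg => ⟨hcomm i j f g hf.1 hg.1, ?_⟩⟩
    · convert hone (i + 1)
      funext n
      simp [seqDiff]
    · rw [seqDiff_mul]
      exact hmul _ _ _ (hconj' _ _ _ hf.2 (hanti 0 i zero_le _ hg.1)) hg.2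
    · rw [seqDiff_inv]
      exact hconj _ _ _ (hinv _ _ hf.2) (hanti 0 i zero_le _ hf.1)
    · set a := seqDiff f
      set b := seqDiff g
      have hf0 := hanti 0 i zero_le _ hf.1
      have hg0 := hanti 0 j zero_le _ hg.1
      have e : seqDiff ⁅f, g⁆ = (⁅f, g⁆⁻¹ * (f * (⁅a, g⁆ * (g * ⁅a, b⁆ * g⁻¹)) * f⁻¹) * ⁅f, g⁆) *
          (g * ⁅f, b⁆ * g⁻¹) := by
        funext n
        simp only [seqDiff, commutatorElement_def, Pi.mul_apply, Pi.inv_apply, a, b]
        group
      rw [e]
      have h1 : polyPred m (i + j + 1) ⁅a, g⁆ := by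
        rw [show i + j + 1 = i + 1 + j by ring]; exact hcomm _ _ _ _ hf.2 hg.1
      have h2 : polyPred m (i + j + 1) ⁅a, b⁆ :=
        hanti _ (i + 1 + (j + 1)) (by omega) _ (hcomm _ _ _ _ hf.2 hg.2)
      have h3 : polyPred m (i + j + 1) ⁅f, b⁆ := by
        rw [show i + j + 1 = i + (j + 1) by ring]; exact hcomm _ _ _ _ hf.1 hg.2
      exact hmul _ _ _ (hconj' _ _ _ (hconj _ _ _ (hmul _ _ _ h1 (hconj _ _ _ h2 hg0)) hf0)
        (hanti 0 (i + j) zero_le _ (hcomm _ _ _ _ hf.1 hg.1))) (hconj _ _ _ h3 hg0)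

variable (G) in
/-- The group of polynomial sequences. -/
def polySeq : Subgroup (ℕ → G) where
  carrier := {f | ∀ m, polyPred m 0 f}
  one_mem' m := (polyPred_properties m).1 0
  mul_mem' hf hg m := (polyPred_properties m).2.1 0 _ _ (hf m) (hg m)
  inv_mem' hf m := (polyPred_properties m).2.2.1 0 _ (hf m)

theorem polyPred_choose (m : ℕ) : ∀ (i j : ℕ) (x : G), x ∈ lcsFil G (i + j) →
    polyPred m i fun n => x ^ n.choose j := by
  induction m with
  | zero => exact fun i j x hx n => pow_mem (lcsFil_antitone (Nat.le_add_right i j) hx) _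
  | succ m ih =>
    intro i j x hx
    refine ⟨ih i j x hx, ?_⟩
    rcases j with _ | j
    · convert (polyPred_properties m).1 (i + 1) using 1
      funext n
      simp [seqDiff]
    · convert ih (i + 1) j x (by rwa [show i + 1 + j = i + (j + 1) by ring]) using 1
      funext n
      simp only [seqDiff]
      rw [Nat.choose_succ_succ', add_comm (n.choose j), pow_add, inv_mul_cancel_left]

theorem choose_mem_polySeq {j : ℕ} {x : G} (hx : x ∈ lcsFil G j) :
    (fun n => x ^ n.choose j) ∈ polySeq G := fun m => polyPred_choose m 0 j x (by rwa [zero_add])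

theorem pow_mem_polySeq (x : G) : (fun n => x ^ n) ∈ polySeq G := by
  simpa using choose_mem_polySeq (j := 1) (x := x) (lcsFil_one (G := G) ▸ mem_top x)

/-- A polynomial sequence vanishing below `m` takes a value deep in the filtration at `m`. -/
theorem polyPred_top (m : ℕ) : ∀ (i : ℕ) (f : ℕ → G), polyPred m i f → (∀ n < m, f n = 1) →
    f m ∈ lcsFil G (i + m) := by
  induction m with
  | zero => exact fun i f hf _ => hf 0
  | succ m ih =>
    intro i f hf h
    have h1 := ih (i + 1) (seqDiff f) hf.2 fun n hn => by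
      simp [seqDiff, h n (by omega), h (n + 1) (by omega)]
    simp only [seqDiff, h m (lt_add_one m), inv_one, one_mul] at h1
    rwa [show i + (m + 1) = i + 1 + m by ring]

theorem polySeq_top {f : ℕ → G} (hf : f ∈ polySeq G) (m : ℕ) (h : ∀ n < m, f n = 1) :
    f m ∈ lcsFil G m := by simpa using polyPred_top m 0 f (hf m) h

/-- The Hall–Petrescu congruence: `(ab)^p ∈ a^p b^p U γ_p(G)` when `U` contains the `p`-th powers
of the commutator subgroup. -/
theorem hall_petrescu {p : ℕ} (hp : p.Prime) (U : Subgroup G)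
    (hU : ∀ x ∈ commutator G, x ^ p ∈ U) (a b : G) :
    ∃ u ∈ U, ∃ z ∈ (⊤ : Subgroup G).lowerCentralSeries (p - 1),
      (a * b) ^ p = a ^ p * b ^ p * (u * z) := by
  set f : ℕ → G := (fun n => (b ^ n)⁻¹) * (fun n => (a ^ n)⁻¹) * fun n => (a * b) ^ n with hf
  have hfP : f ∈ polySeq G :=
    mul_mem (mul_mem (inv_mem (pow_mem_polySeq b)) (inv_mem (pow_mem_polySeq a))) (pow_mem_polySeq _)
  have key : ∀ j, 1 ≤ j → j < p → ∃ g ∈ polySeq G, (∀ n ≤ j, g n = f n) ∧ g p ∈ U := by
    intro j hj1
    induction j, hj1 using Nat.le_induction with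
    | base =>
      refine fun _ => ⟨1, one_mem _, fun n hn => ?_, one_mem _⟩
      rcases Nat.le_one_iff_eq_zero_or_eq_one.1 hn with rfl | rfl <;> simp [hf, mul_assoc]
    | succ j hj1 ih =>
      intro hj
      obtain ⟨g, hg, hgf, hgp⟩ := ih (by omega)
      set x := ((g⁻¹ * f) (j + 1) : G) with hx
      have hxm : x ∈ lcsFil G (j + 1) := polySeq_top (mul_mem (inv_mem hg) hfP) _ fun n hn => by
        simp [hgf n (Nat.lt_succ_iff.1 hn)]
      refine ⟨g * fun n => x ^ n.choose (j + 1), mul_mem hg (choose_mem_polySeq hxm),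
        fun n hn => ?_, ?_⟩
      · rcases Nat.lt_or_ge n (j + 1) with h | h
        · simp [Nat.choose_eq_zero_of_lt h, hgf n (Nat.lt_succ_iff.1 h)]
        · obtain rfl := le_antisymm hn h
          simp [hx]
      · obtain ⟨t, ht⟩ := hp.dvd_choose_self (Nat.succ_ne_zero j) hj
        refine mul_mem hgp ?_
        show x ^ p.choose (j + 1) ∈ U
        rw [ht, pow_mul']
        refine hU _ (pow_mem ?_ t)
        rw [← lcsFil_two]
        exact lcsFil_antitone (by omega) hxm
  obtain ⟨g, hg, hgf, hgp⟩ := key (p - 1) (by have := hp.two_le; omega) (by have := hp.pos; omega)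
  refine ⟨g p, hgp, (g p)⁻¹ * f p, ?_, ?_⟩
  · exact polySeq_top (mul_mem (inv_mem hg) hfP) p fun n hn => by simp [hgf n (by omega)]
  · rw [mul_inv_cancel_left]
    simp [hf, mul_assoc]

end CfsgLib.PLocal
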