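import Mathlib
import Cfsg.Prelude.Def_PLocal
import Cfsg.Agent.Lib.PGroups.Basic
import Cfsg.Agent.Lib.PLocal.PolySeq

/-!
Regular p-groups after P. Hall: powers form subgroups, and regularity follows from its case `n = 1`.
-/

set_option autoImplicit false

namespace CfsgLib.PLocal

open Subgroup Cfsg
open scoped commutatorElement

variable {p : ℕ} {G : Type*} [Group G]

theorem powerClosure_mono {n : ℕ} {H K : Subgroup G} (h : H ≤ K) :
    powerClosure p n H ≤ powerClosure p n K :=
  closure_mono fun _ ⟨x, hx, e⟩ => ⟨x, h hx, e⟩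

theorem pow_mem_powerClosure {n : ℕ} {H : Subgroup G} {x : G} (hx : x ∈ H) :
    x ^ p ^ n ∈ powerClosure p n H := subset_closure ⟨x, hx, rfl⟩

theorem map_powerClosure {L : Type*} [Group L] (f : G →* L) (n : ℕ) (H : Subgroup G) :
    (powerClosure p n H).map f = powerClosure p n (H.map f) := by
  rw [powerClosure, powerClosure, MonoidHom.map_closure]
  congr 1
  ext y
  constructor
  · rintro ⟨_, ⟨x, hx, rfl⟩, rfl⟩
    exact ⟨f x, mem_map_of_mem f hx, map_pow f x _⟩
  · rintro ⟨_, ⟨x, hx, rfl⟩, rfl⟩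
    exact ⟨x ^ p ^ n, ⟨x, hx, rfl⟩, map_pow f x _⟩

theorem powerClosure_le_self {n : ℕ} (H : Subgroup G) : powerClosure p n H ≤ H :=
  (closure_le _).2 fun _ ⟨_, hx, e⟩ => e ▸ pow_mem hx _

theorem powerClosure_normal {n : ℕ} (H : Subgroup G) [hH : H.Normal] :
    (powerClosure p n H).Normal := by
  refine ⟨fun y hy g => ?_⟩
  have h : H.map (MulAut.conj g).toMonoidHom ≤ H := by
    rintro _ ⟨x, hx, rfl⟩; exact hH.conj_mem x hx g
  exact powerClosure_mono h (map_powerClosure (MulAut.conj g).toMonoidHom n H ▸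
    mem_map_of_mem (MulAut.conj g).toMonoidHom hy)

/-- If `⁅a, b⁆ ∈ S` and `a, b` normalize `S`, then `⟨a,b⟩' ≤ S`. -/
theorem commutator_closure_pair_le {a b : G} {S : Subgroup G}
    (ha : a ∈ normalizer (S : Set G)) (hb : b ∈ normalizer (S : Set G)) (hab : ⁅a, b⁆ ∈ S) :
    ⁅closure ({a, b} : Set G), closure ({a, b} : Set G)⁆ ≤ S := by
  have hclN : closure ({a, b} : Set G) ≤ normalizer (S : Set G) :=
    (closure_le _).2 (by rintro x (rfl | rfl) <;> assumption)
  let C : ∀ x ∈ normalizer (S : Set G), Subgroup G := fun x hx =>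
    { carrier := {y | y ∈ normalizer (S : Set G) ∧ ⁅x, y⁆ ∈ S}
      one_mem' := ⟨one_mem _, by rw [commutatorElement_one_right]; exact one_mem _⟩
      mul_mem' := fun {y z} hy hz => ⟨mul_mem hy.1 hz.1, by
        rw [show ⁅x, y * z⁆ = ⁅x, y⁆ * (y * ⁅x, z⁆ * y⁻¹) by simp [commutatorElement_def, mul_assoc]]
        exact mul_mem hy.2 ((mem_normalizer_iff.1 hy.1 _).1 hz.2)⟩
      inv_mem' := fun {y} hy => ⟨inv_mem hy.1, by
        rw [show ⁅x, y⁻¹⁆ = y⁻¹ * ⁅x, y⁆⁻¹ * y by simp [commutatorElement_def, mul_assoc]]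
        exact (mem_normalizer_iff''.1 hy.1 _).1 (inv_mem hy.2)⟩ }
  have h1 : closure ({a, b} : Set G) ≤ C a ha := (closure_le _).2 (by
    rintro x (rfl | rfl)
    · exact ⟨ha, by rw [commutatorElement_self]; exact one_mem _⟩
    · exact ⟨hb, hab⟩)
  have h2 : closure ({a, b} : Set G) ≤ C b hb := (closure_le _).2 (by
    rintro x (rfl | rfl)
    · exact ⟨ha, by rw [← commutatorElement_inv]; exact inv_mem hab⟩
    · exact ⟨hb, by rw [commutatorElement_self]; exact one_mem _⟩)
  refine commutator_le.2 fun y hy z hz => ?_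
  have h3 : closure ({a, b} : Set G) ≤ C y (hclN hy) := (closure_le _).2 (by
    rintro x (rfl | rfl)
    · exact ⟨ha, by rw [← commutatorElement_inv]; exact inv_mem (h1 hy).2⟩
    · exact ⟨hb, by rw [← commutatorElement_inv]; exact inv_mem (h2 hy).2⟩)
  exact (h3 hz).2

/-- In a non-abelian two-generator p-group a cyclic subgroup and the derived group do not
generate. -/
theorem zpowers_sup_commutator_lt [Finite G] [Fact p.Prime] (hG : IsPGroup p G) {a b : G}
    (hab : a * b ≠ b * a) {x : G} (hx : x ∈ closure ({a, b} : Set G)) :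
    zpowers x ⊔ ⁅closure ({a, b} : Set G), closure ({a, b} : Set G)⁆ < closure ({a, b} : Set G) := by
  set K := closure ({a, b} : Set G)
  refine lt_of_le_of_ne (sup_le (zpowers_le.2 hx) (commutator_le_self K)) fun h => ?_
  have hΦ : commutator K ≤ frattini K := CfsgLib.PGroups.commutator_le_frattini (hG.to_subgroup K)
  have htop : zpowers (⟨x, hx⟩ : K) ⊔ frattini K = ⊤ := by
    refine top_le_iff.1 ?_
    have h3 : (⊤ : Subgroup K).map K.subtype ≤
        (zpowers (⟨x, hx⟩ : K) ⊔ frattini K).map K.subtype := by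
      rw [← MonoidHom.range_eq_map, range_subtype, Subgroup.map_sup, MonoidHom.map_zpowers]
      refine le_trans (ge_of_eq h) (sup_le_sup le_rfl ?_)
      exact le_trans (ge_of_eq K.map_subtype_commutator) (map_mono hΦ)
    exact (map_le_map_iff_of_injective K.subtype_injective).1 h3
  have h1 : zpowers (⟨x, hx⟩ : K) = ⊤ := frattini_nongenerating htop
  apply hab
  obtain ⟨i, hi⟩ := mem_zpowers_iff.1 (h1 ▸ mem_top (⟨a, subset_closure (Or.inl rfl)⟩ : K))
  obtain ⟨j, hj⟩ := mem_zpowers_iff.1 (h1 ▸ mem_top (⟨b, subset_closure (Or.inr rfl)⟩ : K))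
  have h2 := ((Commute.refl (⟨x, hx⟩ : K)).zpow_zpow i j).eq
  rw [hi, hj] at h2
  exact congrArg Subtype.val h2

/-- The case `n = 1` of regularity. -/
def PRegular (p : ℕ) (G : Type*) [Group G] : Prop :=
  ∀ a b : G, ∃ c ∈ powerClosure p 1 ⁅closure ({a, b} : Set G), closure ({a, b} : Set G)⁆,
    (a * b) ^ p = a ^ p * b ^ p * c

theorem pRegular_of_isRegular (h : IsRegularPGroup p G) : PRegular p G := fun a b => by
  obtain ⟨c, hc, e⟩ := h.2 a b 1
  rw [pow_one] at e
  exact ⟨c, hc, e⟩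

theorem PRegular.map {L : Type*} [Group L] (h : PRegular p G) (f : G →* L)
    (hf : Function.Surjective f) : PRegular p L := by
  intro a b
  obtain ⟨a, rfl⟩ := hf a
  obtain ⟨b, rfl⟩ := hf b
  obtain ⟨c, hc, e⟩ := h a b
  refine ⟨f c, ?_, by rw [← map_mul, ← map_pow, e, map_mul, map_mul, map_pow, map_pow]⟩
  have := mem_map_of_mem f hc
  rwa [map_powerClosure, Subgroup.map_commutator, MonoidHom.map_closure, Set.image_pair] at this

theorem PRegular.of_injective {L : Type*} [Group L] (h : PRegular p G) (f : L →* G)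
    (hf : Function.Injective f) : PRegular p L := by
  intro a b
  obtain ⟨c, hc, e⟩ := h (f a) (f b)
  have h1 : powerClosure p 1 ⁅closure ({f a, f b} : Set G), closure ({f a, f b} : Set G)⁆ =
      (powerClosure p 1 ⁅closure ({a, b} : Set L), closure ({a, b} : Set L)⁆).map f := by
    rw [map_powerClosure, Subgroup.map_commutator, MonoidHom.map_closure, Set.image_pair]
  obtain ⟨d, hd, rfl⟩ := h1 ▸ hc
  exact ⟨d, hd, hf (by rw [map_pow, map_mul, e, map_mul, map_mul, map_pow, map_pow])⟩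

variable [Finite G] [Fact p.Prime]

omit [Fact p.Prime] in
theorem natCard_lt_of_lt {H K : Subgroup G} (h : H < K) : Nat.card H < Nat.card K :=
  (Subgroup.card_le_of_le h.le).lt_of_ne fun e => h.ne (eq_of_le_of_card_ge h.le e.ge)

theorem pow_eq_one_iff_one (hG : IsPGroup p G) (hR : PRegular p G) :
    ∀ a b : G, a ^ p = b ^ p ↔ (a⁻¹ * b) ^ p = 1 := by
  suffices h : ∀ k, ∀ K : Subgroup G, Nat.card K = k → ∀ a ∈ K, ∀ b ∈ K,
      (a ^ p = b ^ p ↔ (a⁻¹ * b) ^ p = 1) from fun a b => h _ ⊤ rfl a (mem_top a) b (mem_top b)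
  intro k
  induction k using Nat.strong_induction_on with
  | _ k ih =>
  intro K hK a ha b hb
  by_cases hab : a * b = b * a
  · rw [(Commute.inv_left (show Commute a b from hab)).mul_pow, inv_pow, inv_mul_eq_one]
  set L := closure ({a, b} : Set G) with hL
  have hLK : L ≤ K := (closure_le _).2 (by rintro x (rfl | rfl) <;> assumption)
  have haL : a ∈ L := subset_closure (Or.inl rfl)
  have hbL : b ∈ L := subset_closure (Or.inr rfl)
  have IH : ∀ J : Subgroup G, J < L → ∀ u ∈ J, ∀ v ∈ J, (u ^ p = v ^ p ↔ (u⁻¹ * v) ^ p = 1) :=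
    fun J hJ => ih _ (hK ▸ (natCard_lt_of_lt hJ).trans_le (Subgroup.card_le_of_le hLK)) J rfl
  set D := ⁅L, L⁆ with hD
  have hDlt : D < L :=
    lt_of_le_of_lt le_sup_right (zpowers_sup_commutator_lt hG hab (one_mem _))
  -- once `⁅a,b⁆^p = 1`, the derived group has exponent `p`
  have hexp : ⁅a, b⁆ ^ p = 1 → ∀ u ∈ L, ∀ v ∈ L, (u * v) ^ p = u ^ p * v ^ p := by
    intro hc
    let S : Subgroup G :=
      { carrier := {y | y ∈ D ∧ y ^ p = 1}
        one_mem' := ⟨one_mem _, one_pow _⟩
        mul_mem' := fun {u v} hu hv => ⟨mul_mem hu.1 hv.1, by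
          rw [← (IH D hDlt u hu.1 (u * v) (mul_mem hu.1 hv.1)).2 (by rw [inv_mul_cancel_left]; exact hv.2)]
          exact hu.2⟩
        inv_mem' := fun {u} hu => ⟨inv_mem hu.1, by rw [inv_pow, hu.2, inv_one]⟩ }
    have hLS : L ≤ normalizer (S : Set G) := by
      intro g hg
      refine mem_normalizer_iff.2 fun y => ?_
      have hgD := mem_normalizer_iff.1 (normalizer_commutator_ge_left (H₁ := L) (H₂ := L) hg) y
      exact ⟨fun hy => ⟨hgD.1 hy.1, by rw [conj_pow, hy.2, mul_one, mul_inv_cancel]⟩,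
        fun hy => ⟨hgD.2 hy.1, by simpa [conj_pow, mul_inv_eq_one] using hy.2⟩⟩
    have hDS : D ≤ S := commutator_closure_pair_le (hLS haL) (hLS hbL)
      ⟨commutator_mem_commutator haL hbL, hc⟩
    intro u hu v hv
    obtain ⟨c, hc', e⟩ := hR u v
    have hle : closure ({u, v} : Set G) ≤ L := (closure_le _).2 (by rintro x (rfl | rfl) <;> assumption)
    have h1 : powerClosure p 1 ⁅closure ({u, v} : Set G), closure ({u, v} : Set G)⁆ ≤ ⊥ :=
      (closure_le _).2 fun _ ⟨y, hy, ey⟩ => by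
        rw [ey, pow_one]
        exact (hDS (commutator_mono hle hle hy)).2
    rw [e, mem_bot.1 (h1 hc'), mul_one]
  constructor
  · intro he
    have hconj : (b * a * b⁻¹) ^ p = a ^ p := by
      rw [conj_pow, he, ← pow_succ', pow_succ, mul_inv_cancel_right]
    have hmem : b * a * b⁻¹ ∈ zpowers a ⊔ D := by
      rw [show b * a * b⁻¹ = ⁅b, a⁆ * a by simp [commutatorElement_def]]
      exact mul_mem (mem_sup_right (commutator_mem_commutator hbL haL))
        (mem_sup_left (mem_zpowers a))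
    have h1 := (IH _ (zpowers_sup_commutator_lt hG hab haL) a (mem_sup_left (mem_zpowers a)) _ hmem).1
      hconj.symm
    have h2 : ⁅a, b⁆ ^ p = 1 := by
      rw [show a⁻¹ * (b * a * b⁻¹) = a⁻¹ * ⁅a, b⁆⁻¹ * a⁻¹⁻¹ by simp [commutatorElement_def, mul_assoc],
        conj_pow, mul_inv_eq_one, mul_eq_left, inv_pow, inv_eq_one] at h1
      exact h1
    rw [hexp h2 _ (inv_mem haL) _ hbL, inv_pow, he, inv_mul_cancel]
  · intro he
    set x := a⁻¹ * b with hx
    have hxL : x ∈ L := mul_mem (inv_mem haL) hbL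
    have hmem : a * x * a⁻¹ ∈ zpowers x ⊔ D := by
      rw [show a * x * a⁻¹ = ⁅a, x⁆ * x by simp [commutatorElement_def]]
      exact mul_mem (mem_sup_right (commutator_mem_commutator haL hxL))
        (mem_sup_left (mem_zpowers x))
    have h1 := (IH _ (zpowers_sup_commutator_lt hG hab hxL) x (mem_sup_left (mem_zpowers x)) _ hmem).1
      (by rw [conj_pow, he, mul_one, mul_inv_cancel])
    have h2 : ⁅a, b⁆ ^ p = 1 := by
      rw [show x⁻¹ * (a * x * a⁻¹) = (b⁻¹ * ⁅a, b⁆ * b⁻¹⁻¹) by
        simp [hx, commutatorElement_def, mul_assoc], conj_pow, mul_inv_eq_one, mul_eq_left] at h1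
      exact h1
    calc a ^ p = a ^ p * x ^ p := by rw [he, mul_one]
      _ = (a * x) ^ p := (hexp h2 _ haL _ hxL).symm
      _ = b ^ p := by rw [hx, mul_inv_cancel_left]

theorem exists_pow_eq_mul (hG : IsPGroup p G) (hR : PRegular p G) :
    ∀ K : Subgroup G, ∀ a ∈ K, ∀ b ∈ K, ∃ e ∈ K, a ^ p * b ^ p = e ^ p := by
  suffices h : ∀ k, ∀ K : Subgroup G, Nat.card K = k → ∀ a ∈ K, ∀ b ∈ K,
      ∃ e ∈ K, a ^ p * b ^ p = e ^ p from fun K => h _ K rfl
  intro k
  induction k using Nat.strong_induction_on with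
  | _ k ih =>
  intro K hK a ha b hb
  by_cases hab : a * b = b * a
  · exact ⟨a * b, mul_mem ha hb, ((show Commute a b from hab).mul_pow p).symm⟩
  set L := closure ({a, b} : Set G) with hL
  have hLK : L ≤ K := (closure_le _).2 (by rintro x (rfl | rfl) <;> assumption)
  have haL : a ∈ L := subset_closure (Or.inl rfl)
  have hbL : b ∈ L := subset_closure (Or.inr rfl)
  have IH : ∀ J : Subgroup G, J < L → ∀ u ∈ J, ∀ v ∈ J, ∃ e ∈ J, u ^ p * v ^ p = e ^ p :=
    fun J hJ => ih _ (hK ▸ (natCard_lt_of_lt hJ).trans_le (Subgroup.card_le_of_le hLK)) J rfl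
  set D := ⁅L, L⁆ with hD
  obtain ⟨c, hc, he⟩ := hR a b
  have hDlt : D < L :=
    lt_of_le_of_lt le_sup_right (zpowers_sup_commutator_lt hG hab (one_mem _))
  have hset : ∀ y ∈ powerClosure p 1 D, ∃ d ∈ D, y = d ^ p := by
    intro y hy
    induction hy using closure_induction with
    | mem y hy =>
      obtain ⟨d, hd, rfl⟩ := hy
      exact ⟨d, hd, by rw [pow_one]⟩
    | one => exact ⟨1, one_mem _, (one_pow _).symm⟩
    | mul y z _ _ hy hz =>
      obtain ⟨d, hd, rfl⟩ := hy
      obtain ⟨d', hd', rfl⟩ := hz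
      exact IH D hDlt d hd d' hd'
    | inv y _ hy =>
      obtain ⟨d, hd, rfl⟩ := hy
      exact ⟨d⁻¹, inv_mem hd, (inv_pow d p).symm⟩
  obtain ⟨d, hd, rfl⟩ := hset c hc
  obtain ⟨e, he', hee⟩ := IH _ (zpowers_sup_commutator_lt hG hab (mul_mem haL hbL)) (a * b)
    (mem_sup_left (mem_zpowers _)) d⁻¹ (mem_sup_right (inv_mem hd))
  refine ⟨e, hLK ((zpowers_sup_commutator_lt hG hab (mul_mem haL hbL)).le he'), ?_⟩
  rw [← hee, he, inv_pow, mul_inv_cancel_right]

theorem pow_mul_eq_one (hG : IsPGroup p G) (hR : PRegular p G) : ∀ (k : ℕ) (a b : G),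
    a ^ p ^ k = 1 → b ^ p ^ k = 1 → (a * b) ^ p ^ k = 1 := by
  intro k
  induction k with
  | zero => intro a b ha hb; simp_all
  | succ k ih =>
    intro a b ha hb
    let Ω : Subgroup G :=
      { carrier := {x | x ^ p ^ k = 1}
        one_mem' := one_pow _
        mul_mem' := fun hx hy => ih _ _ hx hy
        inv_mem' := fun {x} (hx : x ^ p ^ k = 1) => show x⁻¹ ^ p ^ k = 1 by rw [inv_pow, hx, inv_one] }
    have : Ω.Normal := ⟨fun x (hx : x ^ p ^ k = 1) g => show _ = 1 by
      rw [conj_pow, hx, mul_one, mul_inv_cancel]⟩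
    let π := QuotientGroup.mk' Ω
    have hπ : ∀ x, π x ^ p = 1 ↔ x ^ p ^ (k + 1) = 1 := fun x => by
      rw [← map_pow, QuotientGroup.mk'_apply, QuotientGroup.eq_one_iff, pow_succ', pow_mul]
      rfl
    have hq := pow_eq_one_iff_one (hG.to_quotient Ω) (hR.map π (QuotientGroup.mk'_surjective Ω))
    rw [← hπ, map_mul, ← (hq (π a) (π a * π b)).2 (by rw [inv_mul_cancel_left]; exact (hπ b).2 hb)]
    exact (hπ a).2 ha

/-- The elements of order dividing `p^k` in a regular group. -/
def omegaPow (hG : IsPGroup p G) (hR : PRegular p G) (k : ℕ) : Subgroup G where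
  carrier := {x | x ^ p ^ k = 1}
  one_mem' := one_pow _
  mul_mem' hx hy := pow_mul_eq_one hG hR k _ _ hx hy
  inv_mem' {x} hx := show x⁻¹ ^ p ^ k = 1 by rw [inv_pow, show x ^ p ^ k = 1 from hx, inv_one]

theorem pow_eq_pow_iff (hG : IsPGroup p G) (hR : PRegular p G) : ∀ (k : ℕ) (a b : G),
    a ^ p ^ k = b ^ p ^ k ↔ (a⁻¹ * b) ^ p ^ k = 1 := by
  intro k
  induction k with
  | zero => intro a b; simp [inv_mul_eq_one]
  | succ k ih =>
    intro a b
    set Ω := omegaPow hG hR k
    have : Ω.Normal := ⟨fun x (hx : x ^ p ^ k = 1) g => show _ = 1 by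
      rw [conj_pow, hx, mul_one, mul_inv_cancel]⟩
    let π := QuotientGroup.mk' Ω
    have hπ : ∀ x, π x = 1 ↔ x ^ p ^ k = 1 := fun x => QuotientGroup.eq_one_iff x
    have hq := pow_eq_one_iff_one (hG.to_quotient Ω) (hR.map π (QuotientGroup.mk'_surjective Ω))
    rw [pow_succ', pow_mul, pow_mul, pow_mul, ih, ← hπ, ← hπ, map_mul, map_inv, inv_mul_eq_one,
      map_pow, map_pow, map_pow, map_mul, map_inv]
    exact hq _ _

theorem pow_comm_iff (hG : IsPGroup p G) (hR : PRegular p G) (k : ℕ) (a b : G) :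
    a ^ p ^ k * b = b * a ^ p ^ k ↔ (a⁻¹ * b⁻¹ * a * b) ^ p ^ k = 1 := by
  rw [show a⁻¹ * b⁻¹ * a * b = a⁻¹ * (b⁻¹ * a * b⁻¹⁻¹) by simp [mul_assoc],
    ← pow_eq_pow_iff hG hR, conj_pow, inv_inv, mul_assoc b⁻¹, eq_inv_mul_iff_mul_eq, eq_comm]

theorem powerClosure_eq (hG : IsPGroup p G) (hR : PRegular p G) : ∀ (n : ℕ) (H : Subgroup G),
    ∀ y ∈ powerClosure p n H, ∃ x ∈ H, y = x ^ p ^ n := by
  intro n
  induction n with
  | zero =>
    intro H y hy
    exact ⟨y, powerClosure_le_self H hy, by rw [pow_zero, pow_one]⟩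
  | succ n ih =>
    intro H y hy
    induction hy using closure_induction with
    | mem y hy => exact hy
    | one => exact ⟨1, one_mem _, (one_pow _).symm⟩
    | mul y z _ _ hy hz =>
      obtain ⟨u, hu, rfl⟩ := hy
      obtain ⟨v, hv, rfl⟩ := hz
      obtain ⟨e, he, hee⟩ := exists_pow_eq_mul hG hR (powerClosure p n H) _ (pow_mem_powerClosure hu)
        _ (pow_mem_powerClosure hv)
      obtain ⟨x, hx, rfl⟩ := ih H e he
      exact ⟨x, hx, by rw [pow_succ, pow_mul, pow_mul, pow_mul, hee]⟩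
    | inv y _ hy =>
      obtain ⟨u, hu, rfl⟩ := hy
      exact ⟨u⁻¹, inv_mem hu, (inv_pow u _).symm⟩

/-- Powers of a regular group commute with everything modulo powers of the derived group. -/
theorem commutator_powerClosure_le (hG : IsPGroup p G) (hR : PRegular p G) (n : ℕ) (H : Subgroup G) :
    ⁅powerClosure p n H, H⁆ ≤ powerClosure p n ⁅H, H⁆ := by
  set M := powerClosure p n (commutator H) with hM
  have hMn : M.Normal := powerClosure_normal (commutator H)
  let π := QuotientGroup.mk' M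
  have hR' : PRegular p (↥H ⧸ M) :=
    (hR.of_injective H.subtype H.subtype_injective).map π (QuotientGroup.mk'_surjective M)
  have hmap : M.map H.subtype = powerClosure p n ⁅H, H⁆ := by
    rw [hM, map_powerClosure, map_subtype_commutator]
  have hgen : ∀ (u v : H), ⁅u ^ p ^ n, v⁆ ∈ M := by
    intro u v
    rw [← QuotientGroup.eq_one_iff, ← QuotientGroup.mk'_apply M, map_commutatorElement,
      commutatorElement_eq_one_iff_mul_comm, map_pow,
      pow_comm_iff ((hG.to_subgroup H).to_quotient M) hR', ← map_inv, ← map_inv, ← map_mul, ← map_mul,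
      ← map_mul, ← map_pow, QuotientGroup.mk'_apply, QuotientGroup.eq_one_iff]
    refine pow_mem_powerClosure ?_
    rw [show u⁻¹ * v⁻¹ * u * v = ⁅u⁻¹, v⁻¹⁆ by simp [commutatorElement_def]]
    exact commutator_mem_commutator (mem_top _) (mem_top _)
  refine commutator_le.2 fun y hy z hz => ?_
  obtain ⟨x, hx, rfl⟩ := powerClosure_eq hG hR n H y hy
  rw [← hmap]
  exact ⟨⁅(⟨x, hx⟩ : H) ^ p ^ n, ⟨z, hz⟩⁆, hgen _ _, by
    rw [map_commutatorElement, map_pow]; rfl⟩

/-- Regularity follows from its case `n = 1`. -/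
theorem isRegularPGroup_of_pRegular (hG : IsPGroup p G) (hR : PRegular p G) :
    IsRegularPGroup p G := by
  refine ⟨hG, fun a b n => ?_⟩
  set K := closure ({a, b} : Set G) with hK
  set D := ⁅K, K⁆
  have ha : a ∈ K := subset_closure (Or.inl rfl)
  have hb : b ∈ K := subset_closure (Or.inr rfl)
  induction n with
  | zero => exact ⟨1, one_mem _, by simp⟩
  | succ n ih =>
    obtain ⟨c, hc, he⟩ := ih
    set A := a ^ p ^ n
    set B := b ^ p ^ n
    have hPK : powerClosure p n D ≤ powerClosure p n K := powerClosure_mono (commutator_le_self K)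
    have hAB : A * B ∈ powerClosure p n K :=
      mul_mem (pow_mem_powerClosure ha) (pow_mem_powerClosure hb)
    have hsucc : powerClosure p 1 (powerClosure p n D) ≤ powerClosure p (n + 1) D :=
      (closure_le _).2 fun _ ⟨y, hy, ey⟩ => by
        obtain ⟨d, hd, rfl⟩ := powerClosure_eq hG hR n D y hy
        rw [ey, pow_one, ← pow_mul, ← pow_succ]
        exact pow_mem_powerClosure hd
    have hsub : ∀ u ∈ powerClosure p n K, ∀ v ∈ powerClosure p n K,
        powerClosure p 1 ⁅closure ({u, v} : Set G), closure ({u, v} : Set G)⁆ ≤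
          powerClosure p (n + 1) D := fun u hu v hv => by
      have hle : closure ({u, v} : Set G) ≤ powerClosure p n K :=
        (closure_le _).2 (by rintro x (rfl | rfl) <;> assumption)
      refine le_trans (powerClosure_mono ((commutator_mono hle ?_).trans
        (commutator_powerClosure_le hG hR n K))) hsucc
      exact hle.trans (powerClosure_le_self K)
    obtain ⟨e₁, he₁, h1⟩ := hR (A * B) c
    obtain ⟨e₂, he₂, h2⟩ := hR A B
    refine ⟨e₂ * c ^ p * e₁, mul_mem (mul_mem (hsub A (pow_mem_powerClosure ha) B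
      (pow_mem_powerClosure hb) he₂) ?_) (hsub _ hAB c (hPK hc) he₁), ?_⟩
    · refine hsucc ?_
      simpa using pow_mem_powerClosure (p := p) (n := 1) hc
    · rw [pow_succ, pow_mul, pow_mul, pow_mul, he, h1, h2]
      simp [A, B, mul_assoc]

/-- A p-group in which `γ_p` is trivial is regular. -/
theorem pRegular_of_lowerCentralSeries_eq_bot
    (hcl : (⊤ : Subgroup G).lowerCentralSeries (p - 1) = ⊥) : PRegular p G := by
  intro a b
  set K := closure ({a, b} : Set G) with hK
  obtain ⟨u, hu, z, hz, e⟩ := hall_petrescu (Fact.out : p.Prime) (powerClosure p 1 (commutator K))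
    (fun x hx => by simpa using pow_mem_powerClosure (p := p) (n := 1) hx)
    (⟨a, subset_closure (Or.inl rfl)⟩ : K) ⟨b, subset_closure (Or.inr rfl)⟩
  have hz1 : z = 1 := by
    have h1 : (z : G) ∈ (⊤ : Subgroup G).lowerCentralSeries (p - 1) := by
      have h2 := mem_map_of_mem K.subtype hz
      rw [top_subtype_lowerCentralSeries] at h2
      have h3 : ∀ n, K.lowerCentralSeries n ≤ (⊤ : Subgroup G).lowerCentralSeries n := by
        intro n
        induction n with
        | zero => exact le_top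
        | succ n ih => exact commutator_mono ih le_top
      exact h3 _ h2
    rw [hcl, mem_bot] at h1
    exact Subtype.ext h1
  refine ⟨(u : G), ?_, ?_⟩
  · have h2 := mem_map_of_mem K.subtype hu
    rwa [map_powerClosure, map_subtype_commutator] at h2
  · rw [hz1, mul_one] at e
    exact congrArg Subtype.val e

end CfsgLib.PLocal
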