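import Mathlib
import Cfsg.Agent.Lib.PGroups.UniqueOrderP
import Cfsg.Agent.Lib.PGroups.Commutator
import Cfsg.Agent.Lib.PGroups.Basic
import Cfsg.Agent.Lib.Base.Transport

/-!
p-groups with a cyclic maximal subgroup.
-/

set_option autoImplicit false
set_option linter.style.haveILetI false

namespace CfsgLib.PLocal

open Subgroup
open scoped commutatorElement

variable {G : Type*} [Group G] {p : ℕ} [Fact p.Prime]

theorem normal_of_index_prime [Finite G] (hG : IsPGroup p G) {C : Subgroup G} (hC : C.index = p) :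
    C.Normal :=
  CfsgLib.PGroups.normal_of_isCoatom hG (CfsgLib.PGroups.isCoatom_of_index_eq_prime hC)

theorem exists_zpowers_eq {C : Subgroup G} (hC : IsCyclic C) : ∃ a, C = zpowers a := by
  obtain ⟨a, ha⟩ := hC.exists_generator
  refine ⟨a, le_antisymm (fun x hx => ?_) (zpowers_le.2 a.2)⟩
  obtain ⟨i, hi⟩ := ha ⟨x, hx⟩
  exact ⟨i, by simpa using congrArg Subtype.val hi⟩

theorem coset_cases [Finite G] {C : Subgroup G} [C.Normal] (hC : C.index = p) {b : G}
    (hb : b ∉ C) (x : G) : ∃ c ∈ C, ∃ j : ℤ, x = c * b ^ j := by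
  have hcard : Nat.card (G ⧸ C) = p := hC
  have hb1 : (QuotientGroup.mk b : G ⧸ C) ≠ 1 := fun h => hb ((QuotientGroup.eq_one_iff b).1 h)
  have hgen := zpowers_eq_top_of_prime_card hcard hb1
  obtain ⟨j, hj⟩ : (QuotientGroup.mk x : G ⧸ C) ∈ zpowers (QuotientGroup.mk b : G ⧸ C) :=
    hgen ▸ mem_top _
  refine ⟨x * (b ^ j)⁻¹, ?_, j, by group⟩
  rw [← QuotientGroup.eq_one_iff, QuotientGroup.mk_mul, QuotientGroup.mk_inv, QuotientGroup.mk_zpow]
  rw [show (QuotientGroup.mk x : G ⧸ C) = (QuotientGroup.mk b : G ⧸ C) ^ j from hj.symm, mul_inv_cancel]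

/-- Odd `p`, a cyclic subgroup of index `p` in a noncyclic group: the solutions of `x ^ p = 1`. -/
theorem cyclicMax_structure [Finite G] (hp : p ≠ 2) (hG : IsPGroup p G) {C : Subgroup G}
    (hC : IsCyclic C) (hCi : C.index = p) (hnc : ¬ IsCyclic G) :
    ∃ a b : G, C = zpowers a ∧ b ∉ C ∧ orderOf b = p ∧ ⁅b, a⁆ ∈ center G ∧ ⁅b, a⁆ ∈ C ∧
      ⁅b, a⁆ ^ p = 1 ∧ ∃ E : Subgroup G, (∀ x, x ∈ E ↔ x ^ p = 1) ∧ IsMulCommutative E ∧
        Nat.card E = p ^ 2 := by
  have hpr : p.Prime := Fact.out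
  haveI := normal_of_index_prime hG hCi
  haveI := hC
  obtain ⟨a, ha⟩ := exists_zpowers_eq hC
  -- the order of `a`
  obtain ⟨k, hk⟩ := IsPGroup.iff_orderOf.1 hG a
  have hk1 : 1 ≤ k := by
    by_contra h0
    have h1 : a = 1 := orderOf_eq_one_iff.1 (by rw [hk, show k = 0 by omega, pow_zero])
    refine hnc (isCyclic_of_prime_card (p := p) ?_)
    rw [← card_mul_index C, ha, h1, Nat.card_zpowers, orderOf_one, one_mul, ← hCi, ha, h1]
  set z := a ^ p ^ (k - 1) with hz
  have hzo : orderOf z = p := by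
    rw [hz, orderOf_pow' a (pow_ne_zero _ hpr.ne_zero), hk,
      Nat.gcd_eq_right (pow_dvd_pow p (Nat.sub_le k 1)), Nat.pow_div (Nat.sub_le k 1) hpr.pos,
      show k - (k - 1) = 1 by omega, pow_one]
  have hzp : z ^ p = 1 := by rw [← hzo]; exact pow_orderOf_eq_one z
  have hzC : z ∈ C := ha ▸ pow_mem (mem_zpowers a) _
  have hzc : z ∈ center G := CfsgLib.PGroups.mem_center_of_pow_eq_one hG hzC hzp
  -- solutions inside `C`
  have hCsol : ∀ c ∈ C, c ^ p = 1 → c ∈ zpowers z := by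
    intro c hc hcp
    rw [ha, mem_zpowers_iff] at hc
    obtain ⟨i, rfl⟩ := hc
    rw [← zpow_natCast, ← zpow_mul, ← orderOf_dvd_iff_zpow_eq_one, hk] at hcp
    obtain ⟨t, ht⟩ : ((p ^ (k - 1) : ℕ) : ℤ) ∣ i := by
      have e : (p ^ k : ℕ) = p ^ (k - 1) * p := by rw [← pow_succ, Nat.sub_add_cancel hk1]
      rw [e, Nat.cast_mul] at hcp
      exact Int.dvd_of_mul_dvd_mul_right (by exact_mod_cast hpr.ne_zero) hcp
    exact ⟨t, by show z ^ t = a ^ i; rw [hz, ← zpow_natCast a, ← zpow_mul, ht]⟩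
  obtain ⟨b, hbp, hbC⟩ : ∃ b : G, b ^ p = 1 ∧ b ∉ C := by
    by_contra hall
    push Not at hall
    rcases CfsgLib.PGroups.isCyclic_or_quaternion_of_unique hG hzp
      (fun y hy => hCsol y (hall y hy) hy) with h | ⟨h2, -⟩
    · exact hnc h
    · exact hp h2
  have hb1 : b ≠ 1 := fun h => hbC (h ▸ one_mem C)
  obtain ⟨r, hr⟩ : ∃ r : ℤ, b * a * b⁻¹ = a ^ r := by
    have h := ‹C.Normal›.conj_mem a (ha ▸ mem_zpowers a) b
    rw [ha, mem_zpowers_iff] at h
    exact h.imp fun r h => h.symm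
  have hcp : ⁅b, a⁆ ^ p = 1 :=
    CfsgLib.PGroups.commutator_pow_eq_one_of_normalizes hp hk hr (by rw [hbp]; exact Commute.one_left a)
  have hcC : ⁅b, a⁆ ∈ C := by
    rw [commutatorElement_def, hr, ha]
    exact mul_mem (zpow_mem (mem_zpowers a) r) (inv_mem (mem_zpowers a))
  have hcz : ⁅b, a⁆ ∈ center G := CfsgLib.PGroups.mem_center_of_pow_eq_one hG hcC hcp
  refine ⟨a, b, ha, hbC, orderOf_eq_prime hbp hb1, hcz, hcC, hcp, zpowers z ⊔ zpowers b, ?_, ?_, ?_⟩
  · have hzb : ∀ x, x ∈ zpowers z ⊔ zpowers b ↔ ∃ i j : ℤ, x = z ^ i * b ^ j := by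
      intro x
      constructor
      · intro hx
        haveI : (zpowers z).Normal := CfsgLib.PGroups.normal_of_le_center (zpowers_le.2 hzc)
        rw [← SetLike.mem_coe, normal_mul] at hx
        obtain ⟨_, ⟨i, rfl⟩, _, ⟨j, rfl⟩, rfl⟩ := hx
        exact ⟨i, j, rfl⟩
      · rintro ⟨i, j, rfl⟩
        exact mul_mem (mem_sup_left (zpow_mem (mem_zpowers z) i))
          (mem_sup_right (zpow_mem (mem_zpowers b) j))
    intro x
    rw [hzb]
    constructor
    · rintro ⟨i, j, rfl⟩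
      have hcom : Commute (z ^ i) (b ^ j) := (mem_center_iff.1 (zpow_mem hzc i) (b ^ j)).symm
      have e : ∀ (x : G) (i : ℤ), (x ^ i) ^ p = (x ^ p) ^ i := fun x i => by
        rw [← zpow_natCast, ← zpow_mul, mul_comm, zpow_mul, zpow_natCast]
      rw [hcom.mul_pow, e, e, hzp, hbp, one_zpow, one_zpow, one_mul]
    · intro hx
      obtain ⟨c, hc, j, rfl⟩ := coset_cases hCi hbC x
      have hcb : ⁅b ^ j, c⁆ ∈ zpowers z := by
        rw [ha, mem_zpowers_iff] at hc
        obtain ⟨i, rfl⟩ := hc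
        have key : ∀ x y : G, ⁅x, y⁆ ∈ zpowers z → Commute ⁅x, y⁆ y ∧ Commute ⁅x, y⁆ x := fun x y h =>
          ⟨(mem_center_iff.1 (zpowers_le.2 hzc h) y).symm, (mem_center_iff.1 (zpowers_le.2 hzc h) x).symm⟩
        haveI : (zpowers z).Normal := CfsgLib.PGroups.normal_of_le_center (zpowers_le.2 hzc)
        rw [← QuotientGroup.eq_one_iff, ← QuotientGroup.mk'_apply, map_commutatorElement,
          commutatorElement_eq_one_iff_mul_comm, map_zpow, map_zpow]
        have h0 : Commute (QuotientGroup.mk' (zpowers z) b) (QuotientGroup.mk' (zpowers z) a) := by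
          refine (commutatorElement_eq_one_iff_mul_comm (g₁ := QuotientGroup.mk' (zpowers z) b)).1 ?_
          rw [← map_commutatorElement, QuotientGroup.mk'_apply, QuotientGroup.eq_one_iff]
          exact hCsol _ hcC hcp
        exact (h0.zpow_zpow j i).eq
      have hcen : ⁅b ^ j, c⁆ ∈ center G := zpowers_le.2 hzc hcb
      have hbj : (b ^ j) ^ p = 1 := by
        rw [← zpow_natCast, ← zpow_mul, mul_comm, zpow_mul, zpow_natCast, hbp, one_zpow]
      have hcj : ⁅b ^ j, c⁆ ^ p = 1 := by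
        obtain ⟨i, hi⟩ := hcb
        rw [← hi]; show (z ^ i) ^ p = 1
        rw [← zpow_natCast, ← zpow_mul, mul_comm, zpow_mul, zpow_natCast, hzp, one_zpow]
      have h2 := CfsgLib.PGroups.mul_pow_of_central (a := c) (b := b ^ j) hcen p
      obtain ⟨d, hd⟩ := hpr.dvd_choose_self two_ne_zero (lt_of_le_of_ne hpr.two_le (Ne.symm hp))
      rw [hx, hd, pow_mul, hcj, one_pow, hbj] at h2
      simp only [mul_one] at h2
      obtain ⟨i, hi⟩ := hCsol c hc h2.symm
      exact ⟨i, j, by rw [show z ^ i = c from hi]⟩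
  · rw [sup_eq_closure, ← closure_eq (zpowers z), ← closure_eq (zpowers b), closure_eq, closure_eq]
    refine isMulCommutative_closure ?_
    rintro u (hu | hu) v (hv | hv)
    · exact (mem_center_iff.1 (zpowers_le.2 hzc hu) v).symm
    · exact (mem_center_iff.1 (zpowers_le.2 hzc hu) v).symm
    · exact mem_center_iff.1 (zpowers_le.2 hzc hv) u
    · obtain ⟨i, rfl⟩ := hu; obtain ⟨j, rfl⟩ := hv
      exact (Commute.zpow_zpow_self b i j).eq
  · haveI : (zpowers z).Normal := CfsgLib.PGroups.normal_of_le_center (zpowers_le.2 hzc)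
    have hbot : zpowers b ⊓ zpowers z = ⊥ := by
      rw [eq_bot_iff]
      intro x hx
      by_contra hne
      have h1 : orderOf x = p := orderOf_eq_prime (by
        obtain ⟨i, rfl⟩ := (mem_inf.1 hx).1
        show (b ^ i) ^ p = 1
        rw [← zpow_natCast, ← zpow_mul, mul_comm, zpow_mul, zpow_natCast, hbp, one_zpow])
        (fun h => hne (mem_bot.2 h))
      have h2 : zpowers x = zpowers b := eq_of_le_of_card_ge (zpowers_le.2 (mem_inf.1 hx).1)
        (by rw [Nat.card_zpowers, Nat.card_zpowers, h1, orderOf_eq_prime hbp hb1])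
      exact hbC (ha ▸ (show zpowers b ≤ zpowers a from h2 ▸ zpowers_le.2
        (ha ▸ (zpowers_le.2 hzC (mem_inf.1 hx).2))) (mem_zpowers b))
    rw [sup_comm, CfsgLib.Base.card_sup_of_disjoint _ _ hbot, Nat.card_zpowers, Nat.card_zpowers,
      orderOf_eq_prime hbp hb1, hzo, sq]

end CfsgLib.PLocal
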