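import Mathlib
import Cfsg.Prelude.Def_PLocal
import Cfsg.Prelude.Def_OddOrderLocal
import Cfsg.Agent.Lib.PLocal.CyclicMax
import Cfsg.Agent.Lib.PLocal.Thompson

/-!
Applications: normal elementary subgroups of rank 2, `Ω₁` of metacyclic groups, and the
classification of p-groups with a cyclic maximal subgroup.
-/

set_option autoImplicit false
set_option linter.style.haveILetI false

namespace CfsgLib.PLocal

open Subgroup Cfsg
open scoped commutatorElement

variable {G : Type*} [Group G] {p : ℕ} [Fact p.Prime]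

theorem isCyclic_mem_zpowers_of_pow_eq_one [Finite G] (hG : IsPGroup p G) [hc : IsCyclic G]
    {z : G} (hz : orderOf z = p) {y : G} (hy : y ^ p = 1) : y ∈ zpowers z := by
  letI := hc.commGroup
  have hle : zpowers z ≤ (powMonoidHom p : G →* G).ker := by
    rw [zpowers_le, MonoidHom.mem_ker, powMonoidHom_apply, ← hz, pow_orderOf_eq_one]
  have hcard : Nat.card (powMonoidHom p : G →* G).ker ≤ Nat.card (zpowers z) := by
    rw [IsCyclic.card_powMonoidHom_ker, Nat.card_zpowers, hz]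
    exact Nat.le_of_dvd (Fact.out : p.Prime).pos (Nat.gcd_dvd_right _ _)
  rw [eq_of_le_of_card_ge hle hcard]
  exact hy

theorem exists_normal_elementary_sq [Finite G] (hp : p ≠ 2) (hG : IsPGroup p G) (S : Subgroup G)
    [S.Normal] (hS : ¬ IsCyclic S) :
    ∃ A : Subgroup G, A ≤ S ∧ A.Normal ∧ IsElementaryAbelian p A ∧ Nat.card A = p ^ 2 := by
  obtain ⟨K, hK⟩ := Set.exists_min_image {K : Subgroup G | K.Normal ∧ K ≤ S ∧ ¬ IsCyclic K}
    (fun K => Nat.card K) (Set.toFinite _) ⟨S, inferInstance, le_rfl, hS⟩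
  obtain ⟨⟨hKn, hKS, hKc⟩, hmin⟩ := hK
  haveI := hKn
  obtain ⟨m, hm⟩ := CfsgLib.PGroups.card_subgroup_eq_pow hG K
  have hm1 : 1 ≤ m := by
    by_contra h0
    haveI : Subsingleton K :=
      (Nat.card_eq_one_iff_unique.1 (by rw [hm, show m = 0 by omega, pow_zero])).1
    exact hKc inferInstance
  obtain ⟨M, hMn, -, hMK, hMc⟩ := CfsgLib.PGroups.exists_normal_card_eq hG (bot_le : ⊥ ≤ K) (k := m - 1)
    (by rw [card_bot]; exact Nat.one_le_pow _ _ (Fact.out : p.Prime).pos)
    (by rw [hm]; exact Nat.pow_le_pow_right (Fact.out : p.Prime).pos (Nat.sub_le m 1))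
  have hMcyc : IsCyclic M := by
    by_contra h
    have h1 := hmin M ⟨hMn, hMK.trans hKS, h⟩
    rw [hm, hMc] at h1
    have := (Nat.pow_le_pow_iff_right (Fact.out : p.Prime).one_lt).1 h1
    omega
  have hidx : (M.subgroupOf K).index = p := by
    have h1 : Nat.card (M.subgroupOf K) * (M.subgroupOf K).index = Nat.card K := card_mul_index _
    rw [Nat.card_congr (subgroupOfEquivOfLe hMK).toEquiv, hMc, hm] at h1
    refine Nat.eq_of_mul_eq_mul_left (pow_pos (Fact.out : p.Prime).pos (m - 1)) ?_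
    rw [h1, ← pow_succ, Nat.sub_add_cancel hm1]
  obtain ⟨-, -, -, -, -, -, -, -, E, hE, hEc, hEcard⟩ := cyclicMax_structure hp (hG.to_subgroup K)
    (isCyclic_of_surjective (subgroupOfEquivOfLe hMK).symm.toMonoidHom
      (subgroupOfEquivOfLe hMK).symm.surjective) hidx hKc
  refine ⟨E.map K.subtype, (map_subtype_le E).trans hKS, ?_,
    isElementaryAbelian_map K.subtype ⟨hEc, fun a ha => (hE a).1 ha⟩, ?_⟩
  · constructor
    rintro _ ⟨x, hx, rfl⟩ g
    refine ⟨⟨g * x * g⁻¹, hKn.conj_mem x x.2 g⟩, (hE _).2 (Subtype.ext ?_), rfl⟩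
    show (g * (x : G) * g⁻¹) ^ p = 1
    rw [conj_pow, show (x : G) ^ p = 1 from congrArg Subtype.val ((hE x).1 hx), mul_one, mul_inv_cancel]
  · rw [← (Nat.card_congr (E.equivMapOfInjective _ K.subtype_injective).toEquiv), hEcard]

theorem omegaOne_metacyclic [Finite G] (hp : p ≠ 2) (hG : IsPGroup p G) (hm : IsMetacyclic G)
    (hnc : ¬ IsCyclic G) :
    IsElementaryAbelian p (omegaOne p (⊤ : Subgroup G)) ∧
      Nat.card ↥(omegaOne p (⊤ : Subgroup G)) = p ^ 2 := by
  obtain ⟨N, hN, hNc, hQc⟩ := hm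
  haveI := hN
  set f := QuotientGroup.mk' N
  haveI : Nontrivial (G ⧸ N) := by
    rw [← not_subsingleton_iff_nontrivial]
    intro h
    have hNt : N = ⊤ := (QuotientGroup.subsingleton_iff).1 h
    exact hnc (isCyclic_of_surjective N.subtype fun x => ⟨⟨x, hNt ▸ mem_top x⟩, rfl⟩)
  obtain ⟨n, hn⟩ := IsPGroup.iff_card.1 (hG.to_quotient N)
  have hn1 : 1 ≤ n := by
    by_contra h0
    have := (Finite.one_lt_card : 1 < Nat.card (G ⧸ N))
    rw [hn, show n = 0 by omega, pow_zero] at this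
    exact lt_irrefl 1 this
  obtain ⟨z, hz⟩ := exists_prime_orderOf_dvd_card' (G := G ⧸ N) p (hn ▸ dvd_pow_self p (by omega))
  set K := (zpowers z).comap f with hKdef
  have hNK : N ≤ K := fun x hx => by
    show f x ∈ zpowers z
    rw [show f x = 1 from (QuotientGroup.eq_one_iff x).2 hx]; exact one_mem _
  have hsol : ∀ x : G, x ^ p = 1 → x ∈ K := fun x hx =>
    isCyclic_mem_zpowers_of_pow_eq_one (hG.to_quotient N) hz (by rw [← map_pow, hx, map_one])
  have hKc : ¬ IsCyclic K := by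
    intro h
    obtain ⟨w, hw⟩ := exists_prime_orderOf_dvd_card' (G := K) p (by
      have h1 : N.relIndex K = p := by
        have e := relIndex_comap (⊥ : Subgroup (G ⧸ N)) f K
        rw [MonoidHom.comap_bot, QuotientGroup.ker_mk', map_comap_eq_self_of_surjective
          (QuotientGroup.mk'_surjective N), relIndex_bot_left, Nat.card_zpowers, hz] at e
        exact e
      exact h1 ▸ relIndex_dvd_card N K)
    refine (CfsgLib.PGroups.isCyclic_or_quaternion_of_unique hG (z := (w : G)) ?_ ?_).elim hnc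
      fun h2 => hp h2.1
    · rw [← hw, ← orderOf_coe w, pow_orderOf_eq_one]
    · intro y hy
      obtain ⟨i, hi⟩ := isCyclic_mem_zpowers_of_pow_eq_one (hG.to_subgroup K) hw
        (y := (⟨y, hsol y hy⟩ : K)) (Subtype.ext hy)
      exact ⟨i, by simpa using congrArg Subtype.val hi⟩
  have hidx : (N.subgroupOf K).index = p := by
    have e := relIndex_comap (⊥ : Subgroup (G ⧸ N)) f K
    rw [MonoidHom.comap_bot, QuotientGroup.ker_mk', map_comap_eq_self_of_surjective
      (QuotientGroup.mk'_surjective N), relIndex_bot_left, Nat.card_zpowers, hz] at e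
    exact e
  obtain ⟨-, -, -, -, -, -, -, -, E, hE, hEc, hEcard⟩ := cyclicMax_structure hp (hG.to_subgroup K)
    (isCyclic_of_surjective (subgroupOfEquivOfLe hNK).symm.toMonoidHom
      (subgroupOfEquivOfLe hNK).symm.surjective) hidx hKc
  have hEq : omegaOne p (⊤ : Subgroup G) = E.map K.subtype := by
    refine le_antisymm ((closure_le _).2 fun x hx => ?_) ?_
    · exact ⟨⟨x, hsol x hx.2⟩, (hE _).2 (Subtype.ext hx.2), rfl⟩
    · rintro _ ⟨x, hx, rfl⟩
      exact subset_closure ⟨mem_top _, congrArg Subtype.val ((hE x).1 hx)⟩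
  rw [hEq]
  exact ⟨isElementaryAbelian_map _ ⟨hEc, fun a ha => (hE a).1 ha⟩,
    by rw [← (Nat.card_congr (E.equivMapOfInjective _ K.subtype_injective).toEquiv), hEcard]⟩

theorem cyclicMax_classification [Finite G] (hp : p ≠ 2) (n : ℕ) (hn : 3 ≤ n)
    (hG : Nat.card G = p ^ n) (C : Subgroup G) (hC : IsCyclic C) (hCi : C.index = p)
    (hna : ∃ x y : G, x * y ≠ y * x) :
    ∃ a b : G, orderOf a = p ^ (n - 1) ∧ orderOf b = p ∧ b ∉ zpowers a ∧
      b * a * b⁻¹ = a ^ (1 + p ^ (n - 2)) := by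
  have hpr : p.Prime := Fact.out
  have hPG : IsPGroup p G := IsPGroup.of_card hG
  have hnc : ¬ IsCyclic G := fun h => by
    obtain ⟨x, y, hxy⟩ := hna
    letI := h.commGroup
    exact hxy (mul_comm x y)
  obtain ⟨a, b, ha, hb, hbo, hcz, hcC, hcp, -⟩ := cyclicMax_structure hp hPG hC hCi hnc
  have hoa : orderOf a = p ^ (n - 1) := by
    have h1 := card_mul_index C
    rw [hCi, hG, ha, Nat.card_zpowers] at h1
    refine Nat.eq_of_mul_eq_mul_right hpr.pos ?_
    rw [h1, ← pow_succ, Nat.sub_add_cancel (by omega : 1 ≤ n)]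
  haveI := normal_of_index_prime hPG hCi
  -- the commutator is nontrivial
  have hne : ⁅b, a⁆ ≠ 1 := by
    intro h
    have hba : Commute b a := (commutatorElement_eq_one_iff_mul_comm (g₁ := b)).1 h
    obtain ⟨x, y, hxy⟩ := hna
    obtain ⟨c, hc, i, rfl⟩ := coset_cases hCi hb x
    obtain ⟨d, hd, j, rfl⟩ := coset_cases hCi hb y
    rw [ha, mem_zpowers_iff] at hc hd
    obtain ⟨u, rfl⟩ := hc
    obtain ⟨v, rfl⟩ := hd
    refine hxy (Commute.eq ?_)
    exact (((Commute.refl a).zpow_zpow u v).mul_right ((hba.symm).zpow_zpow u j)).mul_left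
      (((hba).zpow_zpow i v).mul_right ((Commute.refl b).zpow_zpow i j))
  set z := a ^ p ^ (n - 2) with hz
  have hzo : orderOf z = p := by
    rw [hz, orderOf_pow' a (pow_ne_zero _ hpr.ne_zero), hoa,
      Nat.gcd_eq_right (pow_dvd_pow p (by omega)), Nat.pow_div (by omega) hpr.pos,
      show n - 1 - (n - 2) = 1 by omega, pow_one]
  haveI := hC
  obtain ⟨t, ht⟩ : ⁅b, a⁆ ∈ zpowers z := by
    obtain ⟨i, hi⟩ := isCyclic_mem_zpowers_of_pow_eq_one (hPG.to_subgroup C)
      (z := (⟨z, ha ▸ pow_mem (mem_zpowers a) _⟩ : C)) (by rw [orderOf_mk]; exact hzo)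
      (y := (⟨⁅b, a⁆, hcC⟩ : C)) (Subtype.ext hcp)
    exact ⟨i, by simpa using congrArg Subtype.val hi⟩
  have htp : ¬ (p : ℤ) ∣ t := by
    rintro ⟨s, rfl⟩
    refine hne ?_
    rw [← ht]
    show z ^ ((p : ℤ) * s) = 1
    rw [zpow_mul, zpow_natCast, ← hzo, pow_orderOf_eq_one, one_zpow]
  obtain ⟨u, v, huv⟩ : IsCoprime t (p : ℤ) :=
    ((Nat.prime_iff_prime_int.1 hpr).coprime_iff_not_dvd.2 htp).symm
  obtain ⟨s, hs⟩ := Int.eq_ofNat_of_zero_le (Int.emod_nonneg u (by exact_mod_cast hpr.ne_zero) :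
    0 ≤ u % (p : ℤ))
  have hts : z ^ (t * s) = z := by
    conv_rhs => rw [← zpow_one z]
    rw [zpow_eq_zpow_iff_modEq, hzo]
    calc t * (s : ℤ) = t * (u % p) := by rw [hs]
      _ ≡ t * u [ZMOD p] := Int.ModEq.mul_left _ (Int.mod_modEq u p)
      _ ≡ 1 [ZMOD p] := by
        refine (Int.modEq_iff_dvd).2 ⟨v, ?_⟩
        rw [← huv]; ring
  refine ⟨a, b ^ s, hoa, ?_, ?_, ?_⟩
  · rw [orderOf_pow, hbo]
    have hcop : ¬ p ∣ s := by
      intro hd
      have h1 : z ^ (t * s) = 1 := by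
        obtain ⟨w, rfl⟩ := hd
        push_cast
        rw [mul_left_comm, zpow_mul, zpow_natCast, ← hzo, pow_orderOf_eq_one, one_zpow]
      rw [hts] at h1
      rw [h1, orderOf_one] at hzo
      exact hpr.ne_one hzo.symm
    rw [Nat.Coprime.gcd_eq_one ((hpr.coprime_iff_not_dvd).2 hcop), Nat.div_one]
  · intro hmem
    have hcomm : ⁅b ^ s, a⁆ = 1 := by
      obtain ⟨i, hi⟩ := hmem
      rw [← hi, commutatorElement_eq_one_iff_mul_comm]
      exact ((Commute.refl a).zpow_left i).eq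
    rw [CfsgLib.PGroups.commutator_pow_left_of_central hcz, ← ht] at hcomm
    have : z ^ (t * s) = 1 := by rw [zpow_mul, zpow_natCast]; exact hcomm
    rw [hts] at this
    rw [this, orderOf_one] at hzo
    exact hpr.ne_one hzo.symm
  · have h1 : ⁅b ^ s, a⁆ = z := by
      rw [CfsgLib.PGroups.commutator_pow_left_of_central hcz, ← ht]
      show (z ^ t) ^ s = z
      rw [← zpow_natCast, ← zpow_mul, hts]
    rw [commutatorElement_def] at h1
    rw [add_comm, pow_add, pow_one, ← hz, ← h1, inv_mul_cancel_right]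

end CfsgLib.PLocal
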