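import Cfsg.Agent.Lib.PLocal.OffenderBridge

/-!
Consequences for the Thompson subgroup of a `p`-solvable group.
-/

set_option autoImplicit false
set_option linter.style.haveILetI false
set_option linter.unusedSectionVars false

namespace CfsgLib.PLocal

open Subgroup Cfsg
open scoped commutatorElement

variable {G : Type*} [Group G] [Finite G] {p : ℕ} [Fact p.Prime]

theorem pCore_map_top_toHol {V : Subgroup G} [V.Normal]
    (hO : pCore p (G ⧸ centralizer (V : Set G)) = ⊥) :
    pCore p ↥((⊤ : Subgroup G).map (toHol V)) = ⊥ := by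
  have e : (G ⧸ centralizer (V : Set G)) ≃* ↥((⊤ : Subgroup G).map (toHol V)) :=
    (QuotientGroup.quotientMulEquivOfEq ker_toHol.symm).trans
      ((QuotientGroup.quotientKerEquivRange (toHol V)).trans
        (MulEquiv.subgroupCongr (MonoidHom.range_eq_map (toHol V))))
  rw [← CfsgLib.Base.map_pCore_mulEquiv e, hO, Subgroup.map_bot]

/-- The structure hypotheses for the image of `J(G)`. -/
theorem ffGroup_top {V : Subgroup G} [V.Normal] (hsep : IsPSolvable p G)
    (hV : IsElementaryAbelian p V) (hO : pCore p (G ⧸ centralizer (V : Set G)) = ⊥) :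
    FFGroup p (holBase V) ((thompsonSubgroup p G).map (toHol V)) ∧
      (thompsonSubgroup p G).map (toHol V) = ⨆ B : {B : Subgroup (Hol V) //
        B ≤ (thompsonSubgroup p G).map (toHol V) ∧ IsBestOffenderOn p (holBase V) B},
        (B : Subgroup (Hol V)) := by
  have e : thompsonSubgroupOf p (⊤ : Subgroup G) = thompsonSubgroup p G := by
    rw [thompsonSubgroupOf_eq_sSup, maxEAOf_top]; rfl
  have h := ffGroup_of_normal (K := (⊤ : Subgroup G)) hV le_top
    (isPSolvable_subgroup hsep ⊤) (pCore_map_top_toHol hO)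
  rwa [e] at h

/-- Equality for every elementary abelian subgroup of largest order. -/
theorem isOff_of_maxEA {V A : Subgroup G} [V.Normal] (hV : IsElementaryAbelian p V)
    (hh : FFGroup p (holBase V) ((thompsonSubgroup p G).map (toHol V)))
    (hA : A ∈ maxElementaryAbelianSubgroups p G) :
    Nat.card A * Nat.card ↥(A ⊓ V) = Nat.card ↥(A ⊓ centralizer (V : Set G)) * Nat.card V := by
  have h1 : Nat.card (A.map (toHol V)) * Nat.card ↥(holBase V ⊓
      centralizer ((A.map (toHol V) : Subgroup (Hol V)) : Set (Hol V))) = Nat.card (holBase V) :=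
    hh.isOff (map_mono (le_thompsonSubgroup hA))
      (isBestOffenderOn_map (isBestOffenderOn_of_max hV le_top hA))
  rw [card_fix_holBase, card_holBase,
    inf_centralizer_eq_inf_of_max (S := ⊤) hV le_top (by rwa [maxEAOf_top])] at h1
  rw [card_map_toHol (V := V) A, ← h1]
  ring

theorem commutator_omega_centerThompson_le (hsep : IsPSolvable p G) (V : Subgroup G) [V.Normal]
    (hV : IsElementaryAbelian p V) (hO : pCore p (G ⧸ centralizer (V : Set G)) = ⊥) :
    ⁅omegaOne p (centerThompsonOf p (centralizer (V : Set G))), thompsonSubgroup p G⁆ ≤ V := by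
  obtain ⟨hh, -⟩ := ffGroup_top hsep hV hO
  set C := centralizer (V : Set G) with hC
  set W := omegaOne p (centerThompsonOf p C)
  have hVC : V ≤ C := le_centralizer_self hV
  suffices h : thompsonSubgroup p G ≤
      (centralizer ((W.map (QuotientGroup.mk' V) : Subgroup (G ⧸ V)) : Set (G ⧸ V))).comap
        (QuotientGroup.mk' V) by
    refine commutator_le.2 fun w hw j hj => (QuotientGroup.eq_one_iff _).1 ?_
    have h1 := mem_centralizer_iff.1 (h hj) _ (mem_map_of_mem _ hw)
    rw [← QuotientGroup.mk'_apply, map_commutatorElement, commutatorElement_eq_one_iff_mul_comm]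
    exact h1
  refine sSup_le fun A hA a ha => mem_centralizer_iff.2 ?_
  rintro _ ⟨w, hw, rfl⟩
  rw [← commutatorElement_eq_one_iff_mul_comm, ← map_commutatorElement, QuotientGroup.mk'_apply,
    QuotientGroup.eq_one_iff]
  set A₀ := (A ⊓ C) ⊔ V
  have hA₀e : IsElementaryAbelian p A₀ := isElementaryAbelian_sup
    (isElementaryAbelian_of_le hA.1 inf_le_left) hV inf_le_right
  have hcard : Nat.card A ≤ Nat.card A₀ := by
    have h1 := isOff_of_maxEA hV hh hA
    have h2 := card_sup_mul_card_inf (A ⊓ C) V (le_normalizer_of_normal)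
    rw [inf_assoc, inf_eq_right.2 hVC, ← h1] at h2
    exact (Nat.eq_of_mul_eq_mul_right Nat.card_pos h2).ge
  have hA₀ : A₀ ∈ maxEAOf p C :=
    ⟨sup_le inf_le_right hVC, hA₀e, fun B _ hB => (hA.2 B hB).trans hcard⟩
  have hw' : w ∈ A₀ := by
    refine (closure_le _).2 (fun x hx => ?_) hw
    exact mem_of_max_of_commute hA₀ ((inf_le_left.trans (thompsonSubgroupOf_le p C)) hx.1) hx.2
      fun y hy => mem_centralizer_iff.1 hx.1.2 y (le_thompsonSubgroupOf hA₀ hy)
  obtain ⟨c, hc, v, hv, rfl⟩ :=
    (CfsgLib.Coprime.mem_sup_iff_of_le_normalizer (le_normalizer_of_normal)).1 hw'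
  have hca : c * a = a * c := comm_of_mem hA.1.1 hc.1 ha
  rw [show ⁅c * v, a⁆ = c * ⁅v, a⁆ * c⁻¹ * ⁅c, a⁆ by group,
    (commutatorElement_eq_one_iff_mul_comm).2 hca, mul_one]
  exact (inferInstance : V.Normal).conj_mem _
    (comm_mem_of_mem_normalizer (le_normalizer_of_normal (mem_top a)) hv) c

theorem pCore_quotient_eq_bot {V : Subgroup G} [V.Normal]
    (hV : V ≤ ⨆ S : Sylow p G, V ⊓ centralizer ((S : Subgroup G) : Set G)) :
    pCore p (G ⧸ centralizer (V : Set G)) = ⊥ := by
  haveI : (pCore p (G ⧸ centralizer (V : Set G))).Normal := pCore_normal p _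
  set D := (pCore p (G ⧸ centralizer (V : Set G))).comap (QuotientGroup.mk' (centralizer (V : Set G)))
  haveI : D.Normal := Normal.comap inferInstance _
  obtain ⟨n, hn⟩ := CfsgLib.Base.pCore_eq_pow_card p (G ⧸ centralizer (V : Set G))
  have h1 := eq_centralizer_of_generated hV (le_comap_mk' _ _)
    (k := n) (by rw [← card_map_mk'_eq_relIndex, CfsgLib.Base.map_mk'_comap, hn])
  rw [← CfsgLib.Base.map_mk'_comap (centralizer (V : Set G)) (pCore p _)]
  exact CfsgLib.Base.map_mk'_eq_bot_iff.2 h1.le

theorem failure_structure (hsep : IsPSolvable p G) (V : Subgroup G) [V.Normal]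
    (hV : IsElementaryAbelian p V) (hO : pCore p (G ⧸ centralizer (V : Set G)) = ⊥)
    (hJ : ¬ thompsonSubgroup p G ≤ centralizer (V : Set G)) :
    (p = 2 ∨ p = 3) ∧ ∃ E : Subgroup G, centralizer (V : Set G) ≤ E ∧
      E ≤ thompsonSubgroup p G ⊔ centralizer (V : Set G) ∧
      thompsonSubgroup p G ⊔ centralizer (V : Set G) ≤ normalizer (E : Set G) ∧
      ∃ _hn : ((centralizer (V : Set G)).subgroupOf E).Normal,
        Nonempty ((E ⧸ (centralizer (V : Set G)).subgroupOf E) ≃*
          Matrix.SpecialLinearGroup (Fin 2) (ZMod p)) := by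
  obtain ⟨hh, hS3⟩ := ffGroup_top hsep hV hO
  set C := centralizer (V : Set G) with hC
  set J := thompsonSubgroup p G
  set H := J.map (toHol V) with hH
  obtain ⟨A, hA⟩ : ∃ A, FFMin p (holBase V) H A := by
    by_contra hno; push Not at hno
    apply hJ
    have hb : H ≤ ⊥ := hh.le_of_forall_min hS3 fun B hB => absurd hB (hno B)
    rw [hC, ← ker_toHol, ← Subgroup.map_eq_bot_iff]
    exact le_bot_iff.1 hb
  have hP := hA.isPlane_factor
  set F := factor p H A
  have hCker : C = (toHol V).ker := ker_toHol.symm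
  refine ⟨hP.small, (J ⊔ C) ⊓ F.comap (toHol V), le_inf le_sup_right ?_, inf_le_left, ?_, ?_⟩
  · rw [hCker]
    intro c hc
    show toHol V c ∈ F
    rw [MonoidHom.mem_ker.1 hc]; exact one_mem _
  · refine CfsgLib.Coprime.le_normalizer_inf_inf le_normalizer ?_
    refine (sup_le ?_ ?_).trans (le_normalizer_comap (toHol V))
    · exact map_le_iff_le_comap.1 (hA.le_normalizer_factor_H hS3)
    · rw [hCker]
      intro c hc
      show toHol V c ∈ normalizer (F : Set (Hol V))
      rw [MonoidHom.mem_ker.1 hc]; exact one_mem _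
  · set E := (J ⊔ C) ⊓ F.comap (toHol V)
    set f := (toHol V).comp E.subtype
    have hk : f.ker = C.subgroupOf E := by rw [hCker]; rfl
    have hr : f.range = F := by
      refine le_antisymm ?_ fun z hz => ?_
      · rintro _ ⟨e, rfl⟩; exact e.2.2
      · obtain ⟨j, hj, rfl⟩ := hA.factor_le hz
        exact ⟨⟨j, mem_sup_left hj, hz⟩, rfl⟩
    obtain ⟨e⟩ := hP.equiv
    haveI hn : (C.subgroupOf E).Normal := hk ▸ f.normal_ker
    exact ⟨hn, ⟨(QuotientGroup.quotientMulEquivOfEq hk.symm).trans
      ((QuotientGroup.quotientKerEquivRange f).trans ((MulEquiv.subgroupCongr hr).trans e))⟩⟩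

end CfsgLib.PLocal
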