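import Mathlib
import Cfsg.Prelude.Def_OddOrderLocal
import Cfsg.Agent.Lib.PLocal.RegularTheory

/-!
For `p > 3` a p-group with `|Ω₁| ≤ p²` is regular and metacyclic.
-/

set_option autoImplicit false

namespace CfsgLib.PLocal

open Subgroup Cfsg
open scoped commutatorElement

universe u

variable {p : ℕ} [Fact p.Prime] {G : Type*} [Group G] [Finite G]

/-- In a regular group `|G : ℧₁(G)| = |Ω₁(G)|`. -/
theorem index_powerClosure_one (hG : IsPGroup p G) (hR : PRegular p G) :
    (powerClosure p 1 (⊤ : Subgroup G)).index = Nat.card (omegaPow hG hR 1) := by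
  have hiff : ∀ a b : G, a ^ p = b ^ p ↔ a⁻¹ * b ∈ omegaPow hG hR 1 := fun a b => by
    have h := pow_eq_pow_iff hG hR 1 a b
    rw [pow_one] at h
    refine h.trans ?_
    show _ ↔ (a⁻¹ * b) ^ p ^ 1 = 1
    rw [pow_one]
  let f : G ⧸ omegaPow hG hR 1 → powerClosure p 1 (⊤ : Subgroup G) :=
    Quotient.lift (fun x => ⟨x ^ p, by simpa using pow_mem_powerClosure (p := p) (n := 1) (mem_top x)⟩)
      fun a b h => Subtype.ext ((hiff a b).2 (QuotientGroup.leftRel_apply.1 h))
  have hbij : Function.Bijective f := by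
    refine ⟨fun x y => ?_, fun y => ?_⟩
    · induction x using QuotientGroup.induction_on with
      | _ a =>
        induction y using QuotientGroup.induction_on with
        | _ b => exact fun e => QuotientGroup.eq.2 ((hiff a b).1 (congrArg Subtype.val e))
    · obtain ⟨x, -, e⟩ := powerClosure_eq hG hR 1 ⊤ y y.2
      exact ⟨(x : G ⧸ omegaPow hG hR 1), Subtype.ext (by rw [e, pow_one]; rfl)⟩
  have h1 := Subgroup.card_mul_index (powerClosure p 1 (⊤ : Subgroup G))
  have h2 := Subgroup.card_mul_index (omegaPow hG hR 1)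
  rw [Subgroup.index_eq_card (omegaPow hG hR 1), Nat.card_congr (Equiv.ofBijective f hbij)] at h2
  have hpos : 0 < Nat.card (powerClosure p 1 (⊤ : Subgroup G)) := Nat.card_pos
  exact mul_left_cancel₀ hpos.ne' (h1.trans (h2.symm.trans (mul_comm _ _)))

theorem omegaOne_eq_omegaPow (hG : IsPGroup p G) (hR : PRegular p G) :
    omegaOne p (⊤ : Subgroup G) = omegaPow hG hR 1 :=
  le_antisymm ((closure_le _).2 fun x hx => show x ^ p ^ 1 = 1 by rw [pow_one]; exact hx.2)
    fun x (hx : x ^ p ^ 1 = 1) => subset_closure ⟨mem_top x, by rwa [pow_one] at hx⟩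

theorem card_omegaOne_subgroup_le (H : Subgroup G) :
    Nat.card (omegaOne p (⊤ : Subgroup H)) ≤ Nat.card (omegaOne p (⊤ : Subgroup G)) := by
  rw [← card_map_of_injective (K := omegaOne p (⊤ : Subgroup H)) H.subtype_injective]
  refine Subgroup.card_le_of_le ?_
  rw [omegaOne, MonoidHom.map_closure]
  refine closure_mono ?_
  rintro _ ⟨x, ⟨-, hx⟩, rfl⟩
  exact ⟨mem_top _, by rw [← map_pow, hx, map_one]⟩

/-- Normal sections of order at most `p ^ k` are killed by `k` commutator steps. -/
theorem commutator_top_pow_le (hG : IsPGroup p G) (N : Subgroup G) [N.Normal] :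
    ∀ (k : ℕ) (D : Subgroup G), D.Normal → N ≤ D → Nat.card D ≤ p ^ k * Nat.card N →
      ∀ i, (⊤ : Subgroup G).lowerCentralSeries i ≤ D →
        (⊤ : Subgroup G).lowerCentralSeries (i + k) ≤ N := by
  intro k
  induction k with
  | zero =>
    intro D _ hND hc i hi
    rw [pow_zero, one_mul] at hc
    exact hi.trans (le_of_eq (eq_of_le_of_card_ge hND hc).symm)
  | succ k ih =>
    intro D hD hND hc i hi
    by_cases h : (⊤ : Subgroup G).lowerCentralSeries i ≤ N
    · exact le_trans (Subgroup.lowerCentralSeries_antitone _ (Nat.le_add_right i (k + 1))) h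
    rw [show i + (k + 1) = i + 1 + k by ring]
    set E := ⁅D, (⊤ : Subgroup G)⁆ ⊔ N with hE
    have hED : E ≤ D := sup_le (commutator_le_left _ _) hND
    have hne : E ≠ D := by
      intro heq
      refine h (hi.trans ?_)
      let π := QuotientGroup.mk' N
      have h1 : ⁅D.map π, (⊤ : Subgroup (G ⧸ N))⁆ = D.map π := by
        conv_rhs => rw [← heq, Subgroup.map_sup, QuotientGroup.map_mk'_self, sup_bot_eq,
          Subgroup.map_commutator, map_top_of_surjective π (QuotientGroup.mk'_surjective N)]
      haveI : Group.IsNilpotent (G ⧸ N) := (hG.to_quotient N).isNilpotent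
      obtain ⟨n, hn⟩ := Subgroup.nilpotent_iff_lowerCentralSeries.1 this
      have h2 : ∀ m, D.map π ≤ (⊤ : Subgroup (G ⧸ N)).lowerCentralSeries m := by
        intro m
        induction m with
        | zero => exact le_top
        | succ m ihm => exact h1.symm.le.trans (commutator_mono ihm le_rfl)
      have h3 := h2 n
      rw [hn, le_bot_iff, Subgroup.map_eq_bot_iff, QuotientGroup.ker_mk'] at h3
      exact h3
    refine ih E inferInstance le_sup_right ?_ (i + 1)
      ((commutator_mono hi le_rfl).trans le_sup_left)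
    have hpow : ∀ H : Subgroup G, ∃ n, Nat.card H = p ^ n := fun H =>
      IsPGroup.iff_card.1 (hG.to_subgroup H)
    obtain ⟨e, he⟩ := hpow E
    obtain ⟨d, hd⟩ := hpow D
    obtain ⟨m, hm⟩ := hpow N
    have hlt := natCard_lt_of_lt (lt_of_le_of_ne hED hne)
    rw [he, hd, Nat.pow_lt_pow_iff_right (Fact.out : p.Prime).one_lt] at hlt
    rw [hd, hm, ← pow_add, Nat.pow_le_pow_iff_right (Fact.out : p.Prime).one_lt] at hc
    rw [he, hm, ← pow_add, Nat.pow_le_pow_iff_right (Fact.out : p.Prime).one_lt]
    omega

/-- For `p > 3` a p-group with `|Ω₁| ≤ p²` is regular. -/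
theorem pRegular_of_card_omegaOne_le (hp : 3 < p) (hG : IsPGroup p G)
    (hO : Nat.card (omegaOne p (⊤ : Subgroup G)) ≤ p ^ 2) : PRegular p G := by
  suffices h : ∀ k, ∀ K : Subgroup G, Nat.card K = k → PRegular p K from
    (h _ ⊤ rfl).map (Subgroup.topEquiv : (⊤ : Subgroup G) ≃* G).toMonoidHom
      (MulEquiv.surjective _)
  intro k
  induction k using Nat.strong_induction_on with
  | _ k ih =>
  intro K hK x y
  by_cases hxy : closure ({x, y} : Set K) = ⊤
  case neg =>
    set L := closure ({x, y} : Set K) with hL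
    have hlt : Nat.card (L.map K.subtype) < k := by
      rw [card_map_of_injective K.subtype_injective, ← hK, ← card_top (G := K)]
      exact natCard_lt_of_lt (lt_top_iff_ne_top.2 hxy)
    have hRL : PRegular p L := (ih _ hlt (L.map K.subtype) rfl).of_injective
      (L.equivMapOfInjective K.subtype K.subtype_injective).toMonoidHom (MulEquiv.injective _)
    obtain ⟨c, hc, e⟩ := hRL ⟨x, subset_closure (Or.inl rfl)⟩ ⟨y, subset_closure (Or.inr rfl)⟩
    refine ⟨(c : K), ?_, congrArg Subtype.val e⟩
    have := mem_map_of_mem L.subtype hc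
    rwa [map_powerClosure, Subgroup.map_commutator, MonoidHom.map_closure, Set.image_pair] at this
  case pos =>
    rw [hxy, ← _root_.commutator_def]
    have hKp : IsPGroup p K := hG.to_subgroup K
    set D := _root_.commutator K with hD
    set N := powerClosure p 1 D with hN
    have hNn : N.Normal := powerClosure_normal D
    have hlcs : (⊤ : Subgroup K).lowerCentralSeries (p - 1) ≤ N := by
      rcases subsingleton_or_nontrivial K with hs | hnt
      · intro z _
        rw [Subsingleton.elim z 1]
        exact one_mem _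
      have hDlt : D < ⊤ := by
        refine lt_top_iff_ne_top.2 fun h => ?_
        exact CfsgLib.PGroups.frattini_ne_top (G := K)
          (top_le_iff.1 (h.symm.le.trans (CfsgLib.PGroups.commutator_le_frattini hKp)))
      have hlt : Nat.card (D.map K.subtype) < k := by
        rw [card_map_of_injective K.subtype_injective, ← hK, ← card_top (G := K)]
        exact natCard_lt_of_lt hDlt
      have hRD : PRegular p D := (ih _ hlt (D.map K.subtype) rfl).of_injective
        (D.equivMapOfInjective K.subtype K.subtype_injective).toMonoidHom (MulEquiv.injective _)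
      have hidx := index_powerClosure_one (hKp.to_subgroup D) hRD
      rw [← omegaOne_eq_omegaPow] at hidx
      have hle : (powerClosure p 1 (⊤ : Subgroup D)).index ≤ p ^ 2 :=
        hidx.le.trans ((card_omegaOne_subgroup_le D).trans ((card_omegaOne_subgroup_le K).trans hO))
      have hcard : Nat.card D ≤ p ^ 2 * Nat.card N := by
        rw [← Subgroup.card_mul_index (powerClosure p 1 (⊤ : Subgroup D)), mul_comm]
        refine Nat.mul_le_mul hle (le_of_eq ?_)
        rw [← card_map_of_injective (K := powerClosure p 1 (⊤ : Subgroup D)) D.subtype_injective,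
          map_powerClosure, ← MonoidHom.range_eq_map, range_subtype]
      refine le_trans (Subgroup.lowerCentralSeries_antitone _ (show 1 + 2 ≤ p - 1 by omega))
        (commutator_top_pow_le hKp N 2 D inferInstance (powerClosure_le_self D) hcard 1 ?_)
      exact le_of_eq top_lowerCentralSeries_one
    obtain ⟨u, hu, z, hz, e⟩ := hall_petrescu (Fact.out : p.Prime) N
      (fun d hd => by simpa using pow_mem_powerClosure (p := p) (n := 1) hd) x y
    exact ⟨u * z, mul_mem hu (hlcs hz), e⟩

/-- A regular p-group, `p` odd, in which `℧₁` has index at most `p²` is metacyclic. -/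
theorem isMetacyclic_of_pRegular {G : Type u} [Group G] [Finite G] (hG : IsPGroup p G)
    (hR : PRegular p G) (hidx : (powerClosure p 1 (⊤ : Subgroup G)).index ≤ p ^ 2) :
    IsMetacyclic G := by
  classical
  rcases subsingleton_or_nontrivial G with hs | hnt
  · exact ⟨⊤, inferInstance, inferInstance, isCyclic_of_subsingleton⟩
  set W := powerClosure p 1 (⊤ : Subgroup G) with hW
  have hWn : W.Normal := powerClosure_normal ⊤
  have hWset : ∀ y ∈ W, ∃ d : G, y = d ^ p := fun y hy => by
    obtain ⟨d, -, e⟩ := powerClosure_eq hG hR 1 ⊤ y hy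
    exact ⟨d, by rwa [pow_one] at e⟩
  have hWΦ : W ≤ frattini G := (closure_le _).2 fun _ ⟨x, _, e⟩ => by
    rw [e, pow_one]; exact CfsgLib.PGroups.pow_mem_frattini hG x
  have hp1 := (Fact.out : p.Prime).one_lt
  obtain ⟨w, hw⟩ := IsPGroup.iff_card.1 (hG.to_quotient W)
  rw [← Subgroup.index_eq_card] at hw
  -- `G' ≤ W`
  have hGW : _root_.commutator G ≤ W := by
    rw [commutator_def, commutator_le]
    intro a _ b _
    rw [← QuotientGroup.eq_one_iff, ← QuotientGroup.mk'_apply W, map_commutatorElement,
      commutatorElement_eq_one_iff_mul_comm]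
    have hc : IsMulCommutative (G ⧸ W) := by
      rw [hw, Nat.pow_le_pow_iff_right hp1] at hidx
      interval_cases w
      · have : Subsingleton (G ⧸ W) := (Nat.card_eq_one_iff_unique.1 (by
          rw [← Subgroup.index_eq_card, hw, pow_zero])).1
        exact ⟨⟨fun u v => Subsingleton.elim _ _⟩⟩
      · haveI := isCyclic_of_prime_card (α := G ⧸ W) (p := p) (by
          rw [← Subgroup.index_eq_card, hw, pow_one])
        infer_instance
      · exact IsPGroup.isMulCommutative_of_card_eq_prime_sq (p := p) (by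
          rw [← Subgroup.index_eq_card, hw])
    exact hc.is_comm.comm _ _
  -- two generators
  obtain ⟨a, b, hab⟩ : ∃ a b : G, closure ({a, b} : Set G) = ⊤ := by
    rcases Nat.eq_zero_or_pos w with h0 | hw0
    · exact absurd (top_le_iff.1 (((index_eq_one).1 (by rw [hw, h0, pow_zero])).ge.trans hWΦ))
        (CfsgLib.PGroups.frattini_ne_top (G := G))
    obtain ⟨a, ha⟩ : ∃ a : G, a ∉ W := by
      by_contra hc
      push Not at hc
      rw [(eq_top_iff' W).2 hc, index_top] at hw
      have := Nat.one_lt_pow hw0.ne' hp1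
      omega
    by_cases hA : W ⊔ zpowers a = ⊤
    · refine ⟨a, a, ?_⟩
      rw [Set.insert_eq_of_mem (Set.mem_singleton a), ← zpowers_eq_closure]
      refine frattini_nongenerating (top_le_iff.1 ?_)
      rw [← hA, sup_comm]
      exact sup_le_sup le_rfl hWΦ
    · obtain ⟨b, hb⟩ : ∃ b : G, b ∉ W ⊔ zpowers a := by
        by_contra hc
        push Not at hc
        exact hA ((eq_top_iff' _).2 hc)
      refine ⟨a, b, frattini_nongenerating (top_le_iff.1 ?_)⟩
      set A := W ⊔ zpowers a
      set B := A ⊔ zpowers b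
      have hWA : W < A := left_lt_sup.2 fun h => ha (h (mem_zpowers a))
      have hAB : A < B := left_lt_sup.2 fun h => hb (h (mem_zpowers b))
      have hB : B = ⊤ := by
        by_contra hne
        have hcard : ∀ {H K : Subgroup G}, H < K → p * Nat.card H ≤ Nat.card K := by
          intro H K h
          obtain ⟨m, hm⟩ := IsPGroup.iff_card.1 (hG.to_subgroup H)
          obtain ⟨n, hn⟩ := IsPGroup.iff_card.1 (hG.to_subgroup K)
          have := natCard_lt_of_lt h
          rw [hm, hn, Nat.pow_lt_pow_iff_right hp1] at this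
          rw [hm, hn, ← pow_succ']
          exact Nat.pow_le_pow_right (Fact.out : p.Prime).pos this
        have h3 := hcard (lt_top_iff_ne_top.2 hne)
        have h1 := hcard hWA
        have h2 := hcard hAB
        rw [card_top, ← Subgroup.card_mul_index W] at h3
        have hpos : 0 < Nat.card W := Nat.card_pos
        have : p ^ 3 * Nat.card W ≤ p ^ 2 * Nat.card W := by
          calc p ^ 3 * Nat.card W = p * (p * (p * Nat.card W)) := by ring
            _ ≤ p * (p * Nat.card A) := by gcongr
            _ ≤ p * Nat.card B := by gcongr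
            _ ≤ Nat.card W * W.index := h3
            _ ≤ _ := by rw [mul_comm]; gcongr
        have := Nat.le_of_mul_le_mul_right this hpos
        rw [Nat.pow_le_pow_iff_right hp1] at this
        omega
      rw [← hB]
      refine sup_le (sup_le (hWΦ.trans le_sup_right) ?_) ?_ <;>
        exact (zpowers_le.2 (subset_closure (by simp))).trans le_sup_left
  -- the derived group is cyclic
  set D := _root_.commutator G with hD
  set c := ⁅a, b⁆ with hc
  have hcD : c ∈ D := commutator_mem_commutator (mem_top a) (mem_top b)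
  have hDc : D ≤ zpowers c := by
    set M := powerClosure p 1 D with hM
    have hMn : M.Normal := powerClosure_normal D
    let π := QuotientGroup.mk' M
    have hcen : ∀ u v : G, π (u ^ p) * π v = π v * π (u ^ p) := by
      intro u v
      have h := pow_comm_iff (hG.to_quotient M) (hR.map π (QuotientGroup.mk'_surjective M)) 1 (π u) (π v)
      simp only [pow_one] at h
      rw [map_pow, h, ← map_inv, ← map_inv, ← map_mul, ← map_mul, ← map_mul, ← map_pow,
        QuotientGroup.mk'_apply, QuotientGroup.eq_one_iff]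
      have hd : u⁻¹ * v⁻¹ * u * v ∈ D := by
        rw [show u⁻¹ * v⁻¹ * u * v = ⁅u⁻¹, v⁻¹⁆ by simp [commutatorElement_def]]
        exact commutator_mem_commutator (mem_top _) (mem_top _)
      simpa using pow_mem_powerClosure (p := p) (n := 1) hd
    set S := M ⊔ zpowers c with hS
    have hSn : S.Normal := by
      refine ⟨fun y hy g => ?_⟩
      obtain ⟨d, hd⟩ := hWset c (hGW hcD)
      have h1 : π (g * y * g⁻¹) = π y := by
        obtain ⟨m, hm, z, hz, rfl⟩ := Subgroup.mem_sup_of_normal_left.1 hy
        obtain ⟨i, rfl⟩ := mem_zpowers_iff.1 hz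
        have hm1 : π m = 1 := (QuotientGroup.eq_one_iff m).2 hm
        have hcc : Commute (π g) (π c) := by
          rw [hd]; exact (hcen d g).symm
        rw [map_mul, map_mul, map_inv, map_mul, map_zpow, hm1, one_mul,
          (hcc.zpow_right i).eq, mul_inv_cancel_right]
      have h2 : y⁻¹ * (g * y * g⁻¹) ∈ M := QuotientGroup.eq.1 h1.symm
      rw [← mul_inv_cancel_left y (g * y * g⁻¹)]
      exact mul_mem hy (mem_sup_left h2)
    have hDS : D ≤ S := by
      rw [hD, commutator_def, ← hab]
      refine commutator_closure_pair_le ?_ ?_ (mem_sup_right (mem_zpowers c)) <;>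
      · rw [normalizer_eq_top]; exact mem_top _
    have htop : (zpowers c).subgroupOf D ⊔ frattini D = ⊤ := by
      refine top_le_iff.1 fun d _ => ?_
      obtain ⟨m, hm, z, hz, he⟩ := Subgroup.mem_sup_of_normal_left.1 (hDS d.2)
      obtain ⟨x, hx, e⟩ := powerClosure_eq hG hR 1 D m hm
      rw [pow_one] at e
      have hzD : z ∈ D := (zpowers_le.2 hcD) hz
      have : d = (⟨x, hx⟩ : D) ^ p * ⟨z, hzD⟩ := Subtype.ext (by
        rw [← he, e]; rfl)
      rw [this]
      exact mul_mem (mem_sup_right (CfsgLib.PGroups.pow_mem_frattini (hG.to_subgroup D) _))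
        (mem_sup_left (mem_subgroupOf.2 hz))
    exact subgroupOf_eq_top.1 (frattini_nongenerating htop)
  -- a maximal root of `c`
  obtain ⟨h, hh, hhW⟩ : ∃ h : G, c ∈ zpowers h ∧ h ∉ W := by
    by_cases hc1 : c = 1
    · obtain ⟨h, hh⟩ : ∃ h : G, h ∉ W := by
        by_contra hcon
        push Not at hcon
        exact CfsgLib.PGroups.frattini_ne_top (G := G)
          (top_le_iff.1 (((eq_top_iff' W).2 hcon).ge.trans hWΦ))
      exact ⟨h, by rw [hc1]; exact one_mem _, hh⟩
    haveI : Nonempty {h : G // c ∈ zpowers h} := ⟨⟨c, mem_zpowers c⟩⟩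
    obtain ⟨⟨h, hh⟩, hmax⟩ := Finite.exists_max fun h : {h : G // c ∈ zpowers h} => orderOf h.1
    refine ⟨h, hh, fun hW' => ?_⟩
    obtain ⟨d, rfl⟩ := hWset h hW'
    have hle : orderOf d ≤ orderOf (d ^ p) :=
      hmax ⟨d, zpowers_le.2 (pow_mem (mem_zpowers d) p) hh⟩
    have hd1 : d ≠ 1 := fun e => by
      simp [e] at hh
      exact hc1 hh
    obtain ⟨k, hk⟩ := IsPGroup.iff_orderOf.1 hG d
    rw [orderOf_pow' d (Fact.out : p.Prime).ne_zero, hk] at hle
    rcases k with _ | k
    · rw [pow_zero, orderOf_eq_one_iff] at hk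
      exact hd1 hk
    rw [Nat.gcd_eq_right (dvd_pow_self p (Nat.succ_ne_zero k)), pow_succ,
      Nat.mul_div_cancel _ (Fact.out : p.Prime).pos] at hle
    have hpk : 0 < p ^ k := pow_pos (Fact.out : p.Prime).pos k
    have := lt_mul_of_one_lt_right hpk hp1
    omega
  have hDh : D ≤ zpowers h := hDc.trans (zpowers_le.2 hh)
  haveI hn : (zpowers h).Normal := ⟨fun y hy g => by
    have h1 : g * y * g⁻¹ * y⁻¹ ∈ D := commutator_mem_commutator (mem_top g) (mem_top y)
    rw [show g * y * g⁻¹ = g * y * g⁻¹ * y⁻¹ * y by group]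
    exact mul_mem (hDh h1) hy⟩
  refine ⟨zpowers h, hn, inferInstance, ?_⟩
  set V := zpowers h ⊔ W with hV
  haveI : V.Normal := inferInstance
  have hVi : V.index ∣ p := by
    have hlt : W < V := right_lt_sup.2 fun e => hhW (e (mem_zpowers h))
    obtain ⟨v, hv⟩ := IsPGroup.iff_card.1 (hG.to_quotient V)
    rw [← Subgroup.index_eq_card] at hv
    have h1 : V.index < W.index := index_strictAnti hlt
    rw [hv, hw, Nat.pow_lt_pow_iff_right hp1] at h1
    rw [hw, Nat.pow_le_pow_iff_right hp1] at hidx
    rw [hv]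
    exact (pow_dvd_pow p (show v ≤ 1 by omega)).trans (by rw [pow_one])
  haveI : IsCyclic (G ⧸ V) := by
    rcases (Nat.dvd_prime (Fact.out : p.Prime)).1 hVi with h1 | h1
    · have : Subsingleton (G ⧸ V) := (Nat.card_eq_one_iff_unique.1 h1).1
      exact isCyclic_of_subsingleton
    · exact isCyclic_of_prime_card (p := p) h1
  obtain ⟨q, hq⟩ := IsCyclic.exists_generator (α := G ⧸ V)
  obtain ⟨y, rfl⟩ := QuotientGroup.mk'_surjective V q
  have htop : zpowers h ⊔ zpowers y = ⊤ := by
    refine frattini_nongenerating (top_le_iff.1 fun g _ => ?_)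
    obtain ⟨i, hi⟩ := mem_zpowers_iff.1 (hq (QuotientGroup.mk' V g))
    have h1 : (y ^ i)⁻¹ * g ∈ V := by
      rw [← map_zpow] at hi
      exact QuotientGroup.eq.1 hi
    rw [← mul_inv_cancel_left (y ^ i) g]
    refine mul_mem (mem_sup_left (mem_sup_right (zpow_mem (mem_zpowers y) i))) ?_
    exact (sup_le (le_sup_left.trans le_sup_left) (hWΦ.trans le_sup_right) : V ≤ _) h1
  refine isCyclic_iff_exists_zpowers_eq_top.2 ⟨QuotientGroup.mk' _ y, ?_⟩
  have h2 := congrArg (Subgroup.map (QuotientGroup.mk' (zpowers h))) htop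
  rwa [Subgroup.map_sup, QuotientGroup.map_mk'_self, bot_sup_eq, MonoidHom.map_zpowers,
    map_top_of_surjective _ (QuotientGroup.mk'_surjective _)] at h2

theorem isMetacyclic_of_card_omegaOne_le {G : Type u} [Group G] [Finite G] (hp : 3 < p)
    (hG : IsPGroup p G) (hO : Nat.card (omegaOne p (⊤ : Subgroup G)) ≤ p ^ 2) : IsMetacyclic G := by
  have hR := pRegular_of_card_omegaOne_le hp hG hO
  refine isMetacyclic_of_pRegular hG hR ?_
  rw [index_powerClosure_one hG hR, ← omegaOne_eq_omegaPow]
  exact hO

theorem card_omegaOne_quotient_le (hp : 3 < p) (hG : IsPGroup p G)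
    (hO : Nat.card (omegaOne p (⊤ : Subgroup G)) ≤ p ^ 2) (T : Subgroup G) [T.Normal] :
    Nat.card (omegaOne p (⊤ : Subgroup (G ⧸ T))) ≤ p ^ 2 := by
  have hR := pRegular_of_card_omegaOne_le hp hG hO
  have hπ := QuotientGroup.mk'_surjective T
  have hR' := hR.map (QuotientGroup.mk' T) hπ
  rw [omegaOne_eq_omegaPow (hG.to_quotient T) hR', ← index_powerClosure_one]
  refine le_trans (b := (powerClosure p 1 (⊤ : Subgroup G)).index) ?_
    (le_trans (le_of_eq ?_) hO)
  · rw [show powerClosure p 1 (⊤ : Subgroup (G ⧸ T)) =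
      (powerClosure p 1 (⊤ : Subgroup G)).map (QuotientGroup.mk' T) by
        rw [map_powerClosure, map_top_of_surjective _ hπ]]
    exact Nat.le_of_dvd (Nat.pos_of_ne_zero Subgroup.index_ne_zero_of_finite) (index_map_dvd _ hπ)
  · rw [index_powerClosure_one hG hR, ← omegaOne_eq_omegaPow]

end CfsgLib.PLocal
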