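import Mathlib
import Cfsg.Prelude.Def_PLocal
import Cfsg.Prelude.Def_LocalEven
import Cfsg.Prelude.Def_Transfer
import Cfsg.Agent.Lib.Classical.GL2
import Cfsg.Agent.Lib.PGroups.Basic
import Cfsg.Agent.Lib.Base.Cores

/-!
The affine group `F² ⋊ SL₂(F)` inside `SL₃(F)`.
-/

set_option autoImplicit false
set_option linter.style.haveILetI false

namespace CfsgLib.PLocal.Affine

open Subgroup Cfsg Matrix
open scoped commutatorElement
open CfsgLib.Classical (uSL lSL uSL_coe lSL_coe uSubgroup mem_uSubgroup_iff)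

variable {F : Type*} [Field F]

/-- The affine matrix `(g v; 0 1)`. -/
def mat (v : Fin 2 → F) (g : Matrix.SpecialLinearGroup (Fin 2) F) :
    Matrix.SpecialLinearGroup (Fin 3) F :=
  ⟨!![g.1 0 0, g.1 0 1, v 0; g.1 1 0, g.1 1 1, v 1; 0, 0, 1], by
    have h := g.2
    rw [Matrix.det_fin_two] at h
    rw [Matrix.det_fin_three]
    simp
    linear_combination h⟩

theorem mat_mul (u v : Fin 2 → F) (g h : Matrix.SpecialLinearGroup (Fin 2) F) :
    mat u g * mat v h = mat (u + g.1.mulVec v) (g * h) := by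
  apply Subtype.ext
  rw [Matrix.SpecialLinearGroup.coe_mul]
  ext i j
  fin_cases i <;> fin_cases j <;>
    simp [mat, Matrix.mul_apply, Fin.sum_univ_three, Fin.sum_univ_two, Matrix.mulVec,
      dotProduct] <;> ring

theorem mat_injective {u v : Fin 2 → F} {g h : Matrix.SpecialLinearGroup (Fin 2) F}
    (e : mat u g = mat v h) : u = v ∧ g = h := by
  have h00 := congrArg (fun M : Matrix.SpecialLinearGroup (Fin 3) F => M.1 0 0) e
  have h01 := congrArg (fun M : Matrix.SpecialLinearGroup (Fin 3) F => M.1 0 1) e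
  have h02 := congrArg (fun M : Matrix.SpecialLinearGroup (Fin 3) F => M.1 0 2) e
  have h10 := congrArg (fun M : Matrix.SpecialLinearGroup (Fin 3) F => M.1 1 0) e
  have h11 := congrArg (fun M : Matrix.SpecialLinearGroup (Fin 3) F => M.1 1 1) e
  have h12 := congrArg (fun M : Matrix.SpecialLinearGroup (Fin 3) F => M.1 1 2) e
  simp [mat] at h00 h01 h02 h10 h11 h12
  refine ⟨funext fun i => ?_, Subtype.ext (Matrix.ext fun i j => ?_)⟩
  · fin_cases i <;> simp [h02, h12]
  · fin_cases i <;> fin_cases j <;> simp [h00, h01, h10, h11]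

theorem mat_one : mat (0 : Fin 2 → F) 1 = 1 := by
  apply Subtype.ext
  ext i j
  fin_cases i <;> fin_cases j <;> simp [mat]

/-- The affine matrices as a subgroup. -/
def group (F : Type*) [Field F] : Subgroup (Matrix.SpecialLinearGroup (Fin 3) F) where
  carrier := {M | ∃ v g, mat v g = M}
  one_mem' := ⟨0, 1, mat_one⟩
  mul_mem' := by
    rintro _ _ ⟨u, g, rfl⟩ ⟨v, h, rfl⟩
    exact ⟨u + g.1.mulVec v, g * h, (mat_mul u v g h).symm⟩
  inv_mem' := by
    rintro _ ⟨u, g, rfl⟩
    refine ⟨(g⁻¹).1.mulVec (-u), g⁻¹, eq_inv_of_mul_eq_one_right ?_⟩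
    rw [mat_mul, mul_inv_cancel, Matrix.mulVec_mulVec, ← Matrix.SpecialLinearGroup.coe_mul,
      mul_inv_cancel, Matrix.SpecialLinearGroup.coe_one, Matrix.one_mulVec, add_neg_cancel, mat_one]

theorem mat_mem (v : Fin 2 → F) (g : Matrix.SpecialLinearGroup (Fin 2) F) : mat v g ∈ qdOver F :=
  subset_closure ⟨by simp [mat], by simp [mat], by simp [mat]⟩

theorem qdOver_eq : qdOver F = group F := by
  refine le_antisymm ((closure_le _).2 ?_) ?_
  · rintro M ⟨h0, h1, h2⟩
    have hd := M.2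
    rw [Matrix.det_fin_three, h0, h1, h2] at hd
    refine ⟨![M.1 0 2, M.1 1 2], ⟨!![M.1 0 0, M.1 0 1; M.1 1 0, M.1 1 1], ?_⟩, ?_⟩
    · rw [Matrix.det_fin_two]
      simp
      linear_combination hd
    · apply Subtype.ext
      ext i j
      fin_cases i <;> fin_cases j <;> simp [mat, h0, h1, h2]
  · rintro _ ⟨v, g, rfl⟩
    exact mat_mem v g

/-- An element of the affine group. -/
def elt (v : Fin 2 → F) (g : Matrix.SpecialLinearGroup (Fin 2) F) : ↥(qdOver F) :=
  ⟨mat v g, mat_mem v g⟩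

theorem elt_mul (u v : Fin 2 → F) (g h : Matrix.SpecialLinearGroup (Fin 2) F) :
    elt u g * elt v h = elt (u + g.1.mulVec v) (g * h) :=
  Subtype.ext (mat_mul u v g h)

theorem elt_one : elt (0 : Fin 2 → F) 1 = 1 := Subtype.ext mat_one

theorem exists_elt_eq (x : ↥(qdOver F)) : ∃ v g, elt v g = x := by
  obtain ⟨v, g, e⟩ := (qdOver_eq (F := F) ▸ x.2 : (x : Matrix.SpecialLinearGroup (Fin 3) F) ∈ group F)
  exact ⟨v, g, Subtype.ext e⟩

theorem elt_injective {u v : Fin 2 → F} {g h : Matrix.SpecialLinearGroup (Fin 2) F}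
    (e : elt u g = elt v h) : u = v ∧ g = h :=
  mat_injective (congrArg Subtype.val e)

/-- The affine group as a product of sets. -/
noncomputable def eltEquiv (F : Type*) [Field F] :
    (Fin 2 → F) × Matrix.SpecialLinearGroup (Fin 2) F ≃ ↥(qdOver F) :=
  Equiv.ofBijective (fun x => elt x.1 x.2)
    ⟨fun a b h => Prod.ext (elt_injective h).1 (elt_injective h).2, fun x => by
      obtain ⟨v, g, rfl⟩ := exists_elt_eq x
      exact ⟨(v, g), rfl⟩⟩

/-- The projection on the block. -/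
noncomputable def block : ↥(qdOver F) →* Matrix.SpecialLinearGroup (Fin 2) F :=
  MonoidHom.mk' (fun x => ((eltEquiv F).symm x).2) fun x y => by
    obtain ⟨⟨u, g⟩, rfl⟩ := (eltEquiv F).surjective x
    obtain ⟨⟨v, h⟩, rfl⟩ := (eltEquiv F).surjective y
    have e : eltEquiv F (u, g) * eltEquiv F (v, h) = eltEquiv F (u + g.1.mulVec v, g * h) :=
      elt_mul u v g h
    simp only [e, Equiv.symm_apply_apply]

theorem block_elt (v : Fin 2 → F) (g : Matrix.SpecialLinearGroup (Fin 2) F) : block (elt v g) = g :=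
  congrArg Prod.snd ((eltEquiv F).symm_apply_apply (v, g))

theorem mem_ker_iff {x : ↥(qdOver F)} : x ∈ (block (F := F)).ker ↔ ∃ v, elt v 1 = x := by
  constructor
  · intro hx
    obtain ⟨v, g, rfl⟩ := exists_elt_eq x
    rw [MonoidHom.mem_ker, block_elt] at hx
    exact ⟨v, by rw [hx]⟩
  · rintro ⟨v, rfl⟩
    rw [MonoidHom.mem_ker, block_elt]

theorem elt_add (u v : Fin 2 → F) : elt u 1 * elt v 1 = elt (u + v) 1 := by
  rw [elt_mul, Matrix.SpecialLinearGroup.coe_one, Matrix.one_mulVec, one_mul]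

theorem elt_pow (v : Fin 2 → F) (n : ℕ) : elt v 1 ^ n = elt (n • v) 1 := by
  induction n with
  | zero => rw [pow_zero, zero_smul, elt_one]
  | succ n ih => rw [pow_succ, ih, elt_add, succ_nsmul]

/-- The complement of block diagonal matrices. -/
def lin : Matrix.SpecialLinearGroup (Fin 2) F →* ↥(qdOver F) where
  toFun g := elt 0 g
  map_one' := elt_one
  map_mul' g h := by rw [elt_mul, Matrix.mulVec_zero, add_zero]

theorem lin_conj (g : Matrix.SpecialLinearGroup (Fin 2) F) (v : Fin 2 → F)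
    (h : Matrix.SpecialLinearGroup (Fin 2) F) :
    lin g * elt v h * (lin g)⁻¹ = elt (g.1.mulVec v) (g * h * g⁻¹) := by
  rw [mul_inv_eq_iff_eq_mul]
  show elt 0 g * elt v h = elt _ _ * elt 0 g
  rw [elt_mul, elt_mul, zero_add, Matrix.mulVec_zero, add_zero, inv_mul_cancel_right]

theorem fixed_eq {g : Matrix.SpecialLinearGroup (Fin 2) F} (h : ∀ v, g.1.mulVec v = v) : g = 1 := by
  apply Subtype.ext
  apply Matrix.toLin'.injective
  exact LinearMap.ext fun v => by simp [h v]

/-- A nonzero vector is the first column of a matrix of determinant one. -/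
theorem exists_mulVec_eq {v : Fin 2 → F} (hv : v ≠ 0) :
    ∃ h : Matrix.SpecialLinearGroup (Fin 2) F, h.1.mulVec ![1, 0] = v := by
  by_cases h0 : v 0 = 0
  · have h1 : v 1 ≠ 0 := fun h1 => hv (by funext i; fin_cases i <;> assumption)
    refine ⟨⟨!![0, -(v 1)⁻¹; v 1, 0], by simp [Matrix.det_fin_two_of, inv_mul_cancel₀ h1]⟩, ?_⟩
    funext i
    fin_cases i <;> simp [h0, Matrix.mulVec, dotProduct, Fin.sum_univ_two]
  · refine ⟨⟨!![v 0, 0; v 1, (v 0)⁻¹], by simp [Matrix.det_fin_two_of, mul_inv_cancel₀ h0]⟩, ?_⟩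
    funext i
    fin_cases i <;> simp [Matrix.mulVec, dotProduct, Fin.sum_univ_two]

theorem mem_uSubgroup_of_fix {g : Matrix.SpecialLinearGroup (Fin 2) F}
    (h : g.1.mulVec ![1, 0] = ![1, 0]) : g ∈ uSubgroup F := by
  have h0 := congrFun h 0
  have h1 := congrFun h 1
  simp [Matrix.mulVec, dotProduct, Fin.sum_univ_two] at h0 h1
  have hd := g.2
  rw [Matrix.det_fin_two, h0, h1, one_mul, mul_zero, sub_zero] at hd
  refine mem_uSubgroup_iff.2 ⟨g.1 0 1, Subtype.ext ?_⟩
  rw [uSL_coe]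
  ext i j
  fin_cases i <;> fin_cases j <;> simp [h0, h1, hd]

/-- A `p`-subgroup of `SL₂(F)` fixes a nonzero vector, in characteristic `p`. -/
theorem exists_fixed_vector [Finite F] {p : ℕ} [Fact p.Prime] [CharP F p]
    {P : Subgroup (Matrix.SpecialLinearGroup (Fin 2) F)} (hP : IsPGroup p P) :
    ∃ v : Fin 2 → F, v ≠ 0 ∧ ∀ g ∈ P, g.1.mulVec v = v := by
  letI : MulAction P (Fin 2 → F) :=
    { smul := fun g v => g.1.1.mulVec v
      one_smul := fun v => Matrix.one_mulVec v
      mul_smul := fun g h v => (Matrix.mulVec_mulVec _ _ _).symm }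
  have hdvd : p ∣ Nat.card (Fin 2 → F) := by
    haveI := Fintype.ofFinite F
    rw [Nat.card_fun, Nat.card_fin, Nat.card_eq_fintype_card]
    obtain ⟨⟨n, hn⟩, -, hn'⟩ := FiniteField.card F p
    rw [hn']
    exact dvd_pow (dvd_pow_self p (by simp only [PNat.mk_coe]; omega)) two_ne_zero
  obtain ⟨v, hv, hv0⟩ := hP.exists_fixed_point_of_prime_dvd_card_of_fixed_point (Fin 2 → F) hdvd
    (a := 0) (fun g => Matrix.mulVec_zero _)
  exact ⟨v, hv0.symm, fun g hg => hv ⟨g, hg⟩⟩

theorem exists_conj_le_uSubgroup [Finite F] {p : ℕ} [Fact p.Prime] [CharP F p]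
    {P : Subgroup (Matrix.SpecialLinearGroup (Fin 2) F)} (hP : IsPGroup p P) :
    ∃ h, ∀ g ∈ P, h⁻¹ * g * h ∈ uSubgroup F := by
  obtain ⟨v, hv, hfix⟩ := exists_fixed_vector (p := p) hP
  obtain ⟨h, hh⟩ := exists_mulVec_eq hv
  refine ⟨h, fun g hg => mem_uSubgroup_of_fix ?_⟩
  rw [Matrix.SpecialLinearGroup.coe_mul, Matrix.SpecialLinearGroup.coe_mul, ← Matrix.mulVec_mulVec,
    hh, ← Matrix.mulVec_mulVec, hfix g hg, ← hh, Matrix.mulVec_mulVec,
    ← Matrix.SpecialLinearGroup.coe_mul, inv_mul_cancel, Matrix.SpecialLinearGroup.coe_one,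
    Matrix.one_mulVec]

theorem eq_bot_of_normal_pGroup [Finite F] {p : ℕ} [Fact p.Prime] [CharP F p]
    {N : Subgroup (Matrix.SpecialLinearGroup (Fin 2) F)} [hN : N.Normal] (hp : IsPGroup p N) :
    N = ⊥ := by
  obtain ⟨v, hv, hfix⟩ := exists_fixed_vector (p := p) hp
  refine (eq_bot_iff_forall _).2 fun g hg => fixed_eq fun w => ?_
  by_cases hw : w = 0
  · rw [hw, Matrix.mulVec_zero]
  obtain ⟨a, ha⟩ := exists_mulVec_eq hv
  obtain ⟨b, hb⟩ := exists_mulVec_eq hw
  have h1 := hfix _ (hN.conj_mem g hg (a * b⁻¹))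
  have e : (b * a⁻¹).1.mulVec v = w := by
    rw [← ha, Matrix.mulVec_mulVec, ← Matrix.SpecialLinearGroup.coe_mul, inv_mul_cancel_right, hb]
  have h2 := congrArg (fun x => (b * a⁻¹).1.mulVec x) h1
  simp only [Matrix.mulVec_mulVec, ← Matrix.SpecialLinearGroup.coe_mul] at h2
  rw [show b * a⁻¹ * (a * b⁻¹ * g * (a * b⁻¹)⁻¹) = g * (b * a⁻¹) by group,
    Matrix.SpecialLinearGroup.coe_mul, ← Matrix.mulVec_mulVec, e] at h2
  exact h2

theorem isPGroup_ker {p : ℕ} [CharP F p] : IsPGroup p (block (F := F)).ker := fun x => by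
  obtain ⟨v, hv⟩ := mem_ker_iff.1 x.2
  refine ⟨1, Subtype.ext ?_⟩
  show (x : ↥(qdOver F)) ^ p ^ 1 = 1
  rw [← hv, pow_one, elt_pow, ← elt_one]
  congr 1
  exact funext fun i => by simp [nsmul_eq_mul]

theorem pCore_eq_ker [Finite F] {p : ℕ} [Fact p.Prime] [CharP F p] :
    pCore p ↥(qdOver F) = (block (F := F)).ker := by
  refine le_antisymm ?_ (CfsgLib.Base.le_pCore isPGroup_ker)
  have hs : Function.Surjective (block (F := F)) := fun g => ⟨elt 0 g, block_elt 0 g⟩
  haveI : ((pCore p ↥(qdOver F)).map block).Normal := Subgroup.Normal.map inferInstance _ hs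
  exact (Subgroup.map_eq_bot_iff _).1
    (eq_bot_of_normal_pGroup (p := p) ((CfsgLib.Base.isPGroup_pCore p ↥(qdOver F)).map block))

/-- The translations as an additive group. -/
noncomputable def kerEquiv : Additive ↥(block (F := F)).ker ≃+ (Fin 2 → F) :=
  AddEquiv.symm <| AddEquiv.ofBijective
    ({ toFun := fun v => Additive.ofMul ⟨elt v 1, mem_ker_iff.2 ⟨v, rfl⟩⟩
       map_zero' := congrArg Additive.ofMul (Subtype.ext elt_one)
       map_add' := fun u v => congrArg Additive.ofMul (Subtype.ext (elt_add u v).symm) } :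
      (Fin 2 → F) →+ Additive ↥(block (F := F)).ker)
    ⟨fun u v h => (elt_injective (congrArg (fun x : Additive ↥(block (F := F)).ker =>
      ((Additive.toMul x : ↥(block (F := F)).ker) : ↥(qdOver F))) h)).1, fun x => by
      obtain ⟨v, hv⟩ := mem_ker_iff.1 (Additive.toMul x).2
      exact ⟨v, congrArg Additive.ofMul (Subtype.ext hv)⟩⟩

theorem isNaturalSL2Module_ker :
    IsNaturalSL2Module F (block (F := F)).ker (lin (F := F)).range := by
  refine ⟨fun x _ => (normalizer_eq_top_iff.2 (inferInstance : (block (F := F)).ker.Normal)) ▸ mem_top x,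
    (block (F := F)).comp (lin (F := F)).range.subtype, kerEquiv, fun g => ⟨⟨lin g, g, rfl⟩, block_elt 0 g⟩,
    ?_, ?_⟩
  · ext ⟨_, g, rfl⟩
    rw [MonoidHom.mem_ker, mem_subgroupOf, mem_centralizer_iff]
    show block (elt 0 g) = 1 ↔ _
    rw [block_elt]
    constructor
    · rintro rfl y _
      show y * elt 0 1 = elt 0 1 * y
      rw [elt_one, mul_one, one_mul]
    · intro h
      refine fixed_eq fun v => ?_
      have h1 := h (elt v 1) (mem_ker_iff.2 ⟨v, rfl⟩)
      change elt v 1 * elt 0 g = elt 0 g * elt v 1 at h1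
      rw [elt_mul, elt_mul, Matrix.mulVec_zero, add_zero, zero_add] at h1
      exact (elt_injective h1).1.symm
  · rintro ⟨_, g, rfl⟩ x
    obtain ⟨v, hv⟩ := mem_ker_iff.1 x.2
    have hx : x = ⟨elt v 1, mem_ker_iff.2 ⟨v, rfl⟩⟩ := Subtype.ext hv.symm
    subst hx
    refine ⟨⟨elt (g.1.mulVec v) 1, mem_ker_iff.2 ⟨_, rfl⟩⟩, ?_, ?_⟩
    · show elt (g.1.mulVec v) 1 = lin g * elt v 1 * (lin g)⁻¹
      rw [lin_conj, mul_one, mul_inv_cancel]
    · have e : ∀ w, kerEquiv (Additive.ofMul (⟨elt w 1, mem_ker_iff.2 ⟨w, rfl⟩⟩ : ↥(block (F := F)).ker)) = w :=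
        fun w => (kerEquiv (F := F)).apply_symm_apply w
      rw [e, e]
      show g.1.mulVec v = (block (lin g)).1.mulVec v
      rw [show block (lin g) = g from block_elt 0 g]

/-- The standard Sylow subgroup. -/
noncomputable def sylowZero (F : Type*) [Field F] : Subgroup ↥(qdOver F) :=
  (uSubgroup F).comap block

theorem mem_sylowZero_iff {x : ↥(qdOver F)} : x ∈ sylowZero F ↔ ∃ v t, elt v (uSL t) = x := by
  constructor
  · intro hx
    obtain ⟨v, g, rfl⟩ := exists_elt_eq x
    rw [sylowZero, mem_comap, block_elt] at hx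
    obtain ⟨t, ht⟩ := mem_uSubgroup_iff.1 hx
    exact ⟨v, t, by rw [ht]⟩
  · rintro ⟨v, t, rfl⟩
    rw [sylowZero, mem_comap, block_elt]
    exact mem_uSubgroup_iff.2 ⟨t, rfl⟩

theorem uSL_mul (s t : F) : uSL s * uSL t = uSL (s + t) :=
  (Matrix.SpecialLinearGroup.transvection_add _ _ _).symm

theorem elt_uSL_mul (a b s a' b' t : F) :
    elt ![a, b] (uSL s) * elt ![a', b'] (uSL t) = elt ![a + a' + s * b', b + b'] (uSL (s + t)) := by
  rw [elt_mul, uSL_mul]
  congr 1
  funext i
  fin_cases i <;> simp [uSL_coe] <;> ring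

theorem isPGroup_sylowZero [Finite F] {p : ℕ} [Fact p.Prime] [CharP F p] :
    IsPGroup p (sylowZero F) := by
  refine IsPGroup.comap_of_ker_isPGroup ?_ block isPGroup_ker
  haveI := Fintype.ofFinite F
  obtain ⟨⟨n, hn⟩, -, hn'⟩ := FiniteField.card F p
  exact IsPGroup.of_card (n := n) (by
    rw [CfsgLib.Classical.card_uSubgroup, Nat.card_eq_fintype_card, hn']; rfl)

/-- Every Sylow subgroup is a conjugate of the standard one. -/
theorem exists_map_conj_eq [Finite F] {p : ℕ} [Fact p.Prime] [CharP F p]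
    (S : Sylow p ↥(qdOver F)) :
    ∃ c : ↥(qdOver F), (sylowZero F).map (MulAut.conj c).toMonoidHom = (S : Subgroup ↥(qdOver F)) := by
  obtain ⟨h, hh⟩ := exists_conj_le_uSubgroup (p := p) (S.2.map block)
  refine ⟨lin h, S.3 ((isPGroup_sylowZero (p := p)).map _) fun x hx => ⟨(lin h)⁻¹ * x * lin h, ?_, ?_⟩⟩
  · rw [SetLike.mem_coe, sylowZero, mem_comap, map_mul, map_mul, map_inv,
      show block (lin h) = h from block_elt 0 h]
    exact hh _ (mem_map_of_mem block hx)
  · simp [MulAut.conj_apply, mul_assoc]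

theorem elt_pow_uSL (a b t : F) (n : ℕ) :
    elt ![a, b] (uSL t) ^ n =
      elt ![(n : F) * a + (n.choose 2 : F) * (t * b), (n : F) * b] (uSL ((n : F) * t)) := by
  induction n with
  | zero =>
    rw [pow_zero, ← elt_one]
    congr 1
    · funext i; fin_cases i <;> simp
    · simp [uSL]
  | succ n ih =>
    rw [pow_succ, ih, elt_uSL_mul]
    congr 1
    · funext i
      fin_cases i
      · simp [Nat.choose_succ_succ' n 1]; ring
      · simp; ring
    · congr 1
      push_cast
      ring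

theorem pow_char_sylowZero {p : ℕ} [Fact p.Prime] [CharP F p] (hp : p ≠ 2) {x : ↥(qdOver F)}
    (hx : x ∈ sylowZero F) : x ^ p = 1 := by
  obtain ⟨v, t, rfl⟩ := mem_sylowZero_iff.1 hx
  have e : v = ![v 0, v 1] := by funext i; fin_cases i <;> rfl
  have h2 : (p.choose 2 : F) = 0 := (CharP.cast_eq_zero_iff F p _).2
    ((Fact.out : p.Prime).dvd_choose_self two_ne_zero
      (lt_of_le_of_ne (Fact.out : p.Prime).two_le (Ne.symm hp)))
  rw [e, elt_pow_uSL, h2, CharP.cast_eq_zero, ← elt_one]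
  congr 1
  · funext i; fin_cases i <;> simp
  · simp [uSL]

/-- The centre direction `(a, 0)`. -/
def zHom : Multiplicative F →* ↥(sylowZero F) where
  toFun a := ⟨elt ![a.toAdd, 0] (uSL 0), mem_sylowZero_iff.2 ⟨_, _, rfl⟩⟩
  map_one' := Subtype.ext (by
    show elt _ _ = 1
    rw [← elt_one]
    congr 1
    · funext i; fin_cases i <;> simp
    · simp [uSL])
  map_mul' a b := Subtype.ext (by
    show elt _ _ = elt _ _ * elt _ _
    rw [elt_uSL_mul]
    simp)

theorem zHom_injective : Function.Injective (zHom (F := F)) := fun a b h => by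
  have := congrFun (elt_injective (congrArg Subtype.val h)).1 0
  simpa using this

theorem center_sylowZero : center ↥(sylowZero F) = (zHom (F := F)).range := by
  refine le_antisymm (fun x hx => ?_) ?_
  · obtain ⟨v, t, hv⟩ := mem_sylowZero_iff.1 x.2
    have e : v = ![v 0, v 1] := by funext i; fin_cases i <;> rfl
    rw [e] at hv
    have h1 : ∀ a b s, elt ![a, b] (uSL s) * elt ![v 0, v 1] (uSL t) =
        elt ![v 0, v 1] (uSL t) * elt ![a, b] (uSL s) := fun a b s => by
      have h := congrArg Subtype.val (mem_center_iff.1 hx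
        ⟨elt ![a, b] (uSL s), mem_sylowZero_iff.2 ⟨_, _, rfl⟩⟩)
      rw [hv]
      exact h
    simp only [elt_uSL_mul] at h1
    have ht := congrFun (elt_injective (h1 0 1 0)).1 0
    have hb := congrFun (elt_injective (h1 0 0 1)).1 0
    simp at ht hb
    refine ⟨Multiplicative.ofAdd (v 0), Subtype.ext ?_⟩
    show elt _ _ = (x : ↥(qdOver F))
    rw [← hv, ht, hb]
    rfl
  · rintro _ ⟨a, rfl⟩
    refine mem_center_iff.2 fun y => ?_
    obtain ⟨v, t, hv⟩ := mem_sylowZero_iff.1 y.2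
    have e : v = ![v 0, v 1] := by funext i; fin_cases i <;> rfl
    rw [e] at hv
    apply Subtype.ext
    show (y : ↥(qdOver F)) * elt _ _ = elt _ _ * (y : ↥(qdOver F))
    rw [← hv, elt_uSL_mul, elt_uSL_mul]
    simp [add_comm]

theorem commutator_sylowZero : commutator ↥(sylowZero F) = center ↥(sylowZero F) := by
  refine le_antisymm ?_ ?_
  · rw [commutator_def, commutator_le]
    intro x _ y _
    rw [center_sylowZero]
    obtain ⟨v, t, hv⟩ := mem_sylowZero_iff.1 x.2
    obtain ⟨w, s, hw⟩ := mem_sylowZero_iff.1 y.2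
    have ev : v = ![v 0, v 1] := by funext i; fin_cases i <;> rfl
    have ew : w = ![w 0, w 1] := by funext i; fin_cases i <;> rfl
    rw [ev] at hv
    rw [ew] at hw
    refine ⟨Multiplicative.ofAdd (t * w 1 - s * v 1), Subtype.ext ?_⟩
    show elt _ _ = ((⁅x, y⁆ : ↥(sylowZero F)) : ↥(qdOver F))
    rw [commutatorElement_def]
    push_cast
    rw [eq_mul_inv_iff_mul_eq, eq_mul_inv_iff_mul_eq, ← hv, ← hw, elt_uSL_mul, elt_uSL_mul,
      elt_uSL_mul]
    congr 1
    · funext i; fin_cases i <;> simp <;> ring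
    · congr 1; simp; ring
  · rw [center_sylowZero]
    rintro _ ⟨a, rfl⟩
    have e : zHom a = ⁅(⟨elt ![0, 0] (uSL a.toAdd), mem_sylowZero_iff.2 ⟨_, _, rfl⟩⟩ : ↥(sylowZero F)),
        ⟨elt ![0, 1] (uSL 0), mem_sylowZero_iff.2 ⟨_, _, rfl⟩⟩⁆ := by
      apply Subtype.ext
      show elt _ _ = _
      rw [commutatorElement_def]
      push_cast
      rw [eq_mul_inv_iff_mul_eq, eq_mul_inv_iff_mul_eq, elt_uSL_mul, elt_uSL_mul, elt_uSL_mul]
      simp
    rw [e, commutator_def]
    exact commutator_mem_commutator (mem_top _) (mem_top _)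

theorem frattini_sylowZero [Finite F] {p : ℕ} [Fact p.Prime] [CharP F p] :
    frattini ↥(sylowZero F) = center ↥(sylowZero F) := by
  refine le_antisymm (CfsgLib.PGroups.frattini_le_of_elementary_quotient (p := p)
    commutator_sylowZero.le fun g => ?_) ?_
  · rw [center_sylowZero]
    obtain ⟨v, t, hv⟩ := mem_sylowZero_iff.1 g.2
    have e : v = ![v 0, v 1] := by funext i; fin_cases i <;> rfl
    rw [e] at hv
    refine ⟨Multiplicative.ofAdd ((p.choose 2 : F) * (t * v 1)), Subtype.ext ?_⟩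
    show elt _ _ = (g : ↥(qdOver F)) ^ p
    rw [← hv, elt_pow_uSL]
    simp
  · rw [← commutator_sylowZero]
    exact CfsgLib.PGroups.commutator_le_frattini (isPGroup_sylowZero (p := p))

theorem card_sylowZero : Nat.card (sylowZero F) = Nat.card F ^ 3 := by
  let f : (Fin 2 → F) × F → sylowZero F := fun x =>
    ⟨elt x.1 (uSL x.2), mem_sylowZero_iff.2 ⟨_, _, rfl⟩⟩
  have hf : Function.Bijective f := by
    refine ⟨fun a b h => Prod.ext (elt_injective (congrArg Subtype.val h)).1 ?_, fun x => ?_⟩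
    · have := congrArg (fun g : Matrix.SpecialLinearGroup (Fin 2) F => g.1 0 1)
        (elt_injective (congrArg Subtype.val h)).2
      simpa [uSL_coe] using this
    · obtain ⟨v, t, hv⟩ := mem_sylowZero_iff.1 x.2
      exact ⟨(v, t), Subtype.ext hv⟩
  rw [← Nat.card_congr (Equiv.ofBijective f hf), Nat.card_prod, Nat.card_fun, Nat.card_fin]
  ring

/-- The automorphism exchanging the two large abelian subgroups. -/
def flipFun (x : F × F × F) : F × F × F := (x.2.2 * x.2.1 - x.1, x.2.2, x.2.1)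

theorem exists_flip : ∃ φ : MulAut ↥(sylowZero F), ∀ a b t,
    (φ ⟨elt ![a, b] (uSL t), mem_sylowZero_iff.2 ⟨_, _, rfl⟩⟩ : ↥(qdOver F)) =
      elt ![t * b - a, t] (uSL b) := by
  let tr : F × F × F → ↥(sylowZero F) := fun x =>
    ⟨elt ![x.1, x.2.1] (uSL x.2.2), mem_sylowZero_iff.2 ⟨_, _, rfl⟩⟩
  have htr : Function.Bijective tr := by
    refine ⟨fun a b h => ?_, fun x => ?_⟩
    · obtain ⟨h1, h2⟩ := elt_injective (congrArg Subtype.val h)
      have h10 := congrFun h1 0
      have h11 := congrFun h1 1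
      have h20 := congrArg (fun g : Matrix.SpecialLinearGroup (Fin 2) F => g.1 0 1) h2
      simp [uSL_coe] at h10 h11 h20
      exact Prod.ext h10 (Prod.ext h11 h20)
    · obtain ⟨v, t, hv⟩ := mem_sylowZero_iff.1 x.2
      refine ⟨(v 0, v 1, t), Subtype.ext ?_⟩
      rw [← hv]
      show elt _ _ = _
      congr 1
      funext i; fin_cases i <;> rfl
  let T := Equiv.ofBijective tr htr
  let fl : F × F × F ≃ F × F × F :=
    { toFun := flipFun, invFun := flipFun
      left_inv := fun x => by simp [flipFun]; rw [mul_comm]; simp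
      right_inv := fun x => by simp [flipFun]; rw [mul_comm]; simp }
  let φ := T.symm.trans (fl.trans T)
  have hφ : ∀ x, φ (T x) = T (flipFun x) := fun x => by simp [φ, fl]
  have hmul : ∀ x y, φ (x * y) = φ x * φ y := fun x y => by
    obtain ⟨⟨a, b, t⟩, rfl⟩ := T.surjective x
    obtain ⟨⟨a', b', t'⟩, rfl⟩ := T.surjective y
    have e : T (a, b, t) * T (a', b', t') = T (a + a' + t * b', b + b', t + t') :=
      Subtype.ext (elt_uSL_mul a b t a' b' t')
    rw [e, hφ, hφ, hφ]
    apply Subtype.ext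
    show elt _ _ = elt _ _ * elt _ _
    rw [elt_uSL_mul]
    congr 1
    funext i; fin_cases i <;> simp [flipFun] <;> ring
  exact ⟨MulEquiv.mk' φ hmul, fun a b t => congrArg Subtype.val (hφ (a, b, t))⟩

end CfsgLib.PLocal.Affine
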