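import Mathlib
import Cfsg.Agent.Lib.PLocal.QdOverField
import Cfsg.Agent.Lib.Base.Transport

/-!
Sylow subgroups of `Qd(p)`; `Qd(2) ≅ S₄`.
-/

set_option autoImplicit false
set_option linter.style.haveILetI false

namespace CfsgLib.PLocal.Affine

open Subgroup Cfsg Matrix
open CfsgLib.Classical (uSL lSL uSL_coe lSL_coe uSubgroup mem_uSubgroup_iff triangular_mul_uSL)

variable {F : Type*} [Field F]

theorem mem_normalizer_sylowZero [Finite F] {x : ↥(qdOver F)} (hx : (block x).1 1 0 = 0) :
    x ∈ normalizer (sylowZero F : Set ↥(qdOver F)) := by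
  have key : ∀ y ∈ sylowZero F, x * y * x⁻¹ ∈ sylowZero F := by
    intro y hy
    rw [sylowZero, mem_comap] at hy ⊢
    obtain ⟨t, ht⟩ := mem_uSubgroup_iff.1 hy
    rw [map_mul, map_mul, map_inv, ← ht]
    have h11 : (block x).1 1 1 ≠ 0 := by
      intro h
      have := (block x).2
      rw [Matrix.det_fin_two, hx, h] at this
      simp at this
    refine mem_uSubgroup_iff.2 ⟨(block x).1 0 0 * t / (block x).1 1 1, ?_⟩
    rw [eq_mul_inv_iff_mul_eq]
    exact Subtype.ext (by
      rw [Matrix.SpecialLinearGroup.coe_mul, Matrix.SpecialLinearGroup.coe_mul]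
      exact (triangular_mul_uSL hx h11 t).symm)
  have hle : (sylowZero F).map (MulAut.conj x).toMonoidHom ≤ sylowZero F := by
    rintro _ ⟨y, hy, rfl⟩
    exact key y hy
  exact mem_normalizer_iff_map_conj_eq.2 (eq_of_le_of_card_ge hle
    (by rw [card_map_of_injective (MulAut.conj x).injective]))

theorem eq_top_of_not_triangular {H : Subgroup ↥(qdOver F)} (hS : sylowZero F ≤ H)
    {x : ↥(qdOver F)} (hxH : x ∈ H) (hx : (block x).1 1 0 ≠ 0) : H = ⊤ := by
  have hK : (block (F := F)).ker ≤ H := fun y hy => hS (by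
    rw [sylowZero, mem_comap, MonoidHom.mem_ker.1 hy]
    exact one_mem _)
  suffices h : H.map block = ⊤ by
    rw [eq_top_iff]
    intro y _
    obtain ⟨z, hz, hzy⟩ := (h ▸ mem_top (block y) : block y ∈ H.map block)
    rw [← mul_inv_cancel_left z y]
    exact mul_mem hz (hK (by rw [MonoidHom.mem_ker, map_mul, map_inv, hzy, inv_mul_cancel]))
  have hu : ∀ s, uSL s ∈ H.map block := fun s =>
    ⟨elt 0 (uSL s), hS (mem_sylowZero_iff.2 ⟨_, _, rfl⟩), block_elt _ _⟩
  set g := block x with hg
  set c := g.1 1 0 with hc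
  have hgH : g ∈ H.map block := mem_map_of_mem block hxH
  have hdet : g.1 0 0 * g.1 1 1 - g.1 0 1 * g.1 1 0 = 1 := by
    rw [← Matrix.det_fin_two]; exact g.2
  let w : Matrix.SpecialLinearGroup (Fin 2) F :=
    ⟨!![0, -c⁻¹; c, 0], by simp [Matrix.det_fin_two_of, inv_mul_cancel₀ hx]⟩
  have hw : w ∈ H.map block := by
    have e : w = uSL (-(g.1 0 0 / c)) * g * uSL (-(g.1 1 1 / c)) := by
      apply Subtype.ext
      rw [Matrix.SpecialLinearGroup.coe_mul, Matrix.SpecialLinearGroup.coe_mul, uSL_coe, uSL_coe]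
      show !![0, -c⁻¹; c, 0] = _
      rw [Matrix.eta_fin_two g.1, Matrix.mul_fin_two, Matrix.mul_fin_two, ← hc]
      congr 1
      ext i j
      fin_cases i <;> fin_cases j <;> simp <;> field_simp <;> grind
    rw [e]
    exact mul_mem (mul_mem (hu _) hgH) (hu _)
  have hl : ∀ s, lSL s ∈ H.map block := by
    intro s
    have e : lSL s = w * uSL (-(s / c ^ 2)) * w⁻¹ := by
      rw [eq_mul_inv_iff_mul_eq]
      apply Subtype.ext
      rw [Matrix.SpecialLinearGroup.coe_mul, Matrix.SpecialLinearGroup.coe_mul, uSL_coe, lSL_coe]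
      show _ * !![0, -c⁻¹; c, 0] = !![0, -c⁻¹; c, 0] * _
      ext i j
      fin_cases i <;> fin_cases j <;>
        simp [Matrix.mul_apply, Fin.sum_univ_two] <;> field_simp
    rw [e]
    exact mul_mem (mul_mem hw (hu _)) (inv_mem hw)
  refine CfsgLib.Classical.eq_top_of_transvection_mem _ fun i j hij s => ?_
  fin_cases i <;> fin_cases j
  · exact absurd rfl hij
  · exact hu s
  · exact hl s
  · exact absurd rfl hij

theorem ker_le_of_normal {T : Subgroup ↥(qdOver F)} [hT : T.Normal]
    (hne : T ≠ ⊥) (hle : T ≤ (block (F := F)).ker) : (block (F := F)).ker ≤ T := by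
  obtain ⟨x, hx, hx1⟩ : ∃ x ∈ T, x ≠ 1 := by
    by_contra h
    push Not at h
    exact hne ((eq_bot_iff_forall _).2 h)
  obtain ⟨v, rfl⟩ := mem_ker_iff.1 (hle hx)
  have hv : v ≠ 0 := fun h => hx1 (by rw [h, elt_one])
  intro y hy
  obtain ⟨u, rfl⟩ := mem_ker_iff.1 hy
  by_cases hu : u = 0
  · rw [hu, elt_one]; exact one_mem _
  obtain ⟨a, ha⟩ := exists_mulVec_eq hv
  obtain ⟨b, hb⟩ := exists_mulVec_eq hu
  have h := hT.conj_mem _ hx (lin (b * a⁻¹))
  rw [lin_conj, mul_one, mul_inv_cancel, ← ha, Matrix.mulVec_mulVec,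
    ← Matrix.SpecialLinearGroup.coe_mul, inv_mul_cancel_right, hb] at h
  exact h

/-- A nontrivial characteristic subgroup of the standard Sylow group has the same normalizer. -/
theorem normalizer_characteristic_sylowZero [Finite F] {p : ℕ} [Fact p.Prime] [CharP F p]
    (T : Subgroup ↥(sylowZero F)) [hTc : T.Characteristic] (hT : T ≠ ⊥) :
    normalizer (T.map (sylowZero F).subtype : Set ↥(qdOver F)) =
        normalizer (sylowZero F : Set ↥(qdOver F)) ∧
      normalizer (sylowZero F : Set ↥(qdOver F)) ≠ ⊤ := by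
  obtain ⟨φ, hφ⟩ := exists_flip (F := F)
  have hno : ∀ (U : Subgroup ↥(sylowZero F)) [U.Characteristic], U ≠ ⊥ →
      ¬ (U.map (sylowZero F).subtype).Normal := by
    intro U hU hne hn
    have hle : U.map (sylowZero F).subtype ≤ (block (F := F)).ker := by
      rw [← pCore_eq_ker (p := p)]
      exact CfsgLib.Base.le_pCore (((isPGroup_sylowZero (p := p)).to_subgroup U).map _)
    have hge := ker_le_of_normal (T := U.map (sylowZero F).subtype) (by
      rwa [Ne, map_eq_bot_iff_of_injective _ (sylowZero F).subtype_injective]) hle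
    obtain ⟨y, hy, hye⟩ := hge (mem_ker_iff.2 ⟨![0, 1], rfl⟩)
    have h1 : φ y ∈ U := by
      have := characteristic_iff_map_eq.1 hU φ
      exact this ▸ mem_map_of_mem φ.toMonoidHom hy
    have h2 := hle (mem_map_of_mem (sylowZero F).subtype h1)
    have e : y = ⟨elt ![0, 1] (uSL 0), mem_sylowZero_iff.2 ⟨_, _, rfl⟩⟩ := Subtype.ext (by
      refine hye.trans ?_
      congr 1
      simp [uSL])
    rw [MonoidHom.mem_ker, e] at h2
    change block ((φ _ : ↥(sylowZero F)) : ↥(qdOver F)) = 1 at h2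
    rw [hφ, block_elt] at h2
    have h3 := congrArg (fun g : Matrix.SpecialLinearGroup (Fin 2) F => g.1 0 1) h2
    simp [uSL_coe] at h3
  refine ⟨le_antisymm (fun x hx => mem_normalizer_sylowZero ?_)
    (CfsgLib.Base.normalizer_le_normalizer_map_subtype _ _), fun h => ?_⟩
  · by_contra hne
    have hS : sylowZero F ≤ normalizer (T.map (sylowZero F).subtype : Set ↥(qdOver F)) :=
      le_normalizer.trans (CfsgLib.Base.normalizer_le_normalizer_map_subtype _ _)
    exact hno T hT (normalizer_eq_top_iff.1 (eq_top_of_not_triangular hS hx hne))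
  · haveI : (⊤ : Subgroup ↥(sylowZero F)).Characteristic := inferInstance
    refine hno ⊤ ?_ ?_
    · intro hb
      have h1 : (1 : ℕ) = Nat.card F ^ 3 := by
        rw [← card_sylowZero, ← card_top (G := ↥(sylowZero F)), hb, card_bot]
      have h2 := (Finite.one_lt_card (α := F))
      nlinarith [pow_le_pow_left₀ (Nat.zero_le _) h2 3]
    · rw [← MonoidHom.range_eq_map, range_subtype]
      exact normalizer_eq_top_iff.1 h

/-- The statement for an arbitrary Sylow subgroup. -/
theorem normalizer_characteristic_sylow [Finite F] {p : ℕ} [Fact p.Prime] [CharP F p]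
    (S : Sylow p ↥(qdOver F)) (T : Subgroup ↥(S : Subgroup ↥(qdOver F))) (hT : T ≠ ⊥)
    (hTc : T.Characteristic) :
    normalizer (T.map (S : Subgroup ↥(qdOver F)).subtype : Set ↥(qdOver F)) =
        normalizer ((S : Subgroup ↥(qdOver F)) : Set ↥(qdOver F)) ∧
      normalizer ((S : Subgroup ↥(qdOver F)) : Set ↥(qdOver F)) ≠ ⊤ := by
  obtain ⟨c, hc⟩ := exists_map_conj_eq S
  let ψ : ↥(sylowZero F) ≃* ↥(S : Subgroup ↥(qdOver F)) :=
    ((sylowZero F).equivMapOfInjective _ (MulAut.conj c).injective).trans (MulEquiv.subgroupCongr hc)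
  haveI := hTc
  let T₀ : Subgroup ↥(sylowZero F) := T.map ψ.symm.toMonoidHom
  haveI : T₀.Characteristic := by
    refine characteristic_iff_map_eq.2 fun α => ?_
    have h := characteristic_iff_map_eq.1 hTc ((ψ.symm.trans α).trans ψ)
    calc T₀.map α.toMonoidHom
        = (T.map ((ψ.symm.trans α).trans ψ).toMonoidHom).map ψ.symm.toMonoidHom := by
          rw [Subgroup.map_map, Subgroup.map_map]
          congr 1
          ext x
          simp
      _ = T₀ := by rw [h]
  have hT₀ : T₀ ≠ ⊥ := by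
    rwa [Ne, map_eq_bot_iff_of_injective _ ψ.symm.injective]
  obtain ⟨h1, h2⟩ := normalizer_characteristic_sylowZero (p := p) T₀ hT₀
  have eT : (T₀.map (sylowZero F).subtype).map (MulAut.conj c).toMonoidHom =
      T.map (S : Subgroup ↥(qdOver F)).subtype := by
    rw [Subgroup.map_map, Subgroup.map_map]
    congr 1
    refine MonoidHom.ext fun x => ?_
    show MulAut.conj c ((ψ.symm x : ↥(sylowZero F)) : ↥(qdOver F)) = (x : ↥(qdOver F))
    conv_rhs => rw [← ψ.apply_symm_apply x]
    rfl
  have eS := hc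
  rw [← eT, ← eS, ← map_equiv_normalizer_eq, ← map_equiv_normalizer_eq, h1]
  refine ⟨rfl, fun h => h2 ?_⟩
  rw [← comap_map_eq_self_of_injective (f := (MulAut.conj c).toMonoidHom) (MulAut.conj c).injective
    (normalizer (sylowZero F : Set ↥(qdOver F)))]
  exact (congrArg (Subgroup.comap (MulAut.conj c).toMonoidHom) h).trans (comap_top _)

theorem extraspecial_of_equiv {E E' : Type*} [Group E] [Group E'] {p : ℕ} (e : E ≃* E')
    (h : IsExtraspecial p E) : IsExtraspecial p E' := by
  obtain ⟨⟨hp, hf, hc⟩, hz⟩ := h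
  have hcz : (center E).map e.toMonoidHom = center E' := by
    ext y
    simp only [Subgroup.mem_map, mem_center_iff]
    constructor
    · rintro ⟨x, hx, rfl⟩ z
      obtain ⟨w, rfl⟩ := e.surjective z
      simp [← map_mul, hx w]
    · intro hy
      exact ⟨e.symm y, fun w => e.injective (by simp [hy (e w)]), by simp⟩
  have hcc : (commutator E).map e.toMonoidHom = commutator E' := by
    rw [commutator_def, map_commutator, Subgroup.map_top_of_surjective _ e.surjective, commutator_def]
  refine ⟨⟨hp.of_equiv e, ?_, by rw [← hcc, hc, hcz]⟩, ?_⟩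
  · rw [← hcz, ← hf]
    ext y
    obtain ⟨x, rfl⟩ := e.surjective y
    rw [show e x = e.toMonoidHom x from rfl, mem_map_iff_mem e.injective,
      CfsgLib.PGroups.mem_frattini_iff, CfsgLib.PGroups.mem_frattini_iff]
    constructor
    · intro h M hM
      exact h (M.map e.toMonoidHom) ((e.mapSubgroup.isCoatom_iff M).2 hM) |> (mem_map_iff_mem e.injective).1
    · intro h M hM
      have hM' : IsCoatom (M.comap e.toMonoidHom) := by
        refine (e.mapSubgroup.isCoatom_iff _).1 ?_
        show IsCoatom ((M.comap e.toMonoidHom).map e.toMonoidHom)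
        rwa [map_comap_eq_self_of_surjective e.surjective]
      exact h _ hM'
  · rw [← hcz, card_map_of_injective e.injective, hz]

theorem sylow_qd_extraspecial {p : ℕ} [Fact p.Prime] (hp : p ≠ 2) (P : Sylow p ↥(qdOver (ZMod p))) :
    IsExtraspecial p ↥P ∧ Nat.card P = p ^ 3 ∧ Monoid.exponent ↥P = p := by
  obtain ⟨c, hc⟩ := exists_map_conj_eq P
  let ψ : ↥(sylowZero (ZMod p)) ≃* ↥(P : Subgroup ↥(qdOver (ZMod p))) :=
    ((sylowZero (ZMod p)).equivMapOfInjective _ (MulAut.conj c).injective).trans (MulEquiv.subgroupCongr hc)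
  have hcard : Nat.card ↥(sylowZero (ZMod p)) = p ^ 3 := by rw [card_sylowZero, Nat.card_zmod]
  have hpow : ∀ x : ↥(P : Subgroup ↥(qdOver (ZMod p))), x ^ p = 1 := fun x => by
    obtain ⟨y, rfl⟩ := ψ.surjective x
    rw [← map_pow, show y ^ p = 1 from Subtype.ext (pow_char_sylowZero hp y.2), map_one]
  have hP : Nat.card ↥(P : Subgroup ↥(qdOver (ZMod p))) = p ^ 3 := by
    rw [← Nat.card_congr ψ.toEquiv, hcard]
  refine ⟨extraspecial_of_equiv ψ ⟨⟨isPGroup_sylowZero (p := p), frattini_sylowZero (p := p),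
    commutator_sylowZero⟩, ?_⟩, hP, ?_⟩
  · rw [center_sylowZero, ← Nat.card_congr (MonoidHom.ofInjective zHom_injective).toEquiv,
      Nat.card_congr Multiplicative.toAdd, Nat.card_zmod]
  · rcases (Nat.dvd_prime (Fact.out : p.Prime)).1 (Monoid.exponent_dvd_of_forall_pow_eq_one hpow) with h | h
    · haveI := Monoid.exp_eq_one_iff.1 h
      rw [Nat.card_unique] at hP
      exact absurd hP.symm (Nat.one_lt_pow (by norm_num) (Fact.out : p.Prime).one_lt).ne'
    · exact h

theorem qd_two_equiv : Nonempty (↥(qdOver (ZMod 2)) ≃* Equiv.Perm (Fin 4)) := by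
  haveI : Fact (Nat.Prime 2) := ⟨Nat.prime_two⟩
  let act : ↥(qdOver (ZMod 2)) → (Fin 2 → ZMod 2) → (Fin 2 → ZMod 2) := fun x w =>
    ((eltEquiv (ZMod 2)).symm x).1 + ((eltEquiv (ZMod 2)).symm x).2.1.mulVec w
  have hact : ∀ u g w, act (elt u g) w = u + g.1.mulVec w := fun u g w => by
    have e : (eltEquiv (ZMod 2)).symm (elt u g) = (u, g) := (eltEquiv (ZMod 2)).symm_apply_apply (u, g)
    simp only [act, e]
  letI : MulAction ↥(qdOver (ZMod 2)) (Fin 2 → ZMod 2) :=
    { smul := act
      one_smul := fun w => by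
        show act 1 w = w
        rw [← elt_one, hact, Matrix.SpecialLinearGroup.coe_one, Matrix.one_mulVec, zero_add]
      mul_smul := fun x y w => by
        obtain ⟨u, g, rfl⟩ := exists_elt_eq x
        obtain ⟨v, h, rfl⟩ := exists_elt_eq y
        show act _ w = act _ (act _ w)
        rw [elt_mul, hact, hact, hact, Matrix.mulVec_add, Matrix.SpecialLinearGroup.coe_mul,
          ← Matrix.mulVec_mulVec, add_assoc] }
  let f := MulAction.toPermHom ↥(qdOver (ZMod 2)) (Fin 2 → ZMod 2)
  have hf : Function.Injective f := by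
    refine (injective_iff_map_eq_one f).2 fun x hx => ?_
    obtain ⟨u, g, rfl⟩ := exists_elt_eq x
    have h : ∀ w, u + g.1.mulVec w = w := fun w => (hact u g w).symm.trans
      (congrArg (fun σ : Equiv.Perm _ => σ w) hx)
    have hu : u = 0 := by simpa using h 0
    rw [hu, fixed_eq (g := g) fun w => by simpa [hu] using h w, elt_one]
  have hcard : Nat.card ↥(qdOver (ZMod 2)) = Nat.card (Equiv.Perm (Fin 2 → ZMod 2)) := by
    rw [← Nat.card_congr (eltEquiv (ZMod 2)), Nat.card_prod, Nat.card_perm, Nat.card_fun,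
      Nat.card_fin, CfsgLib.Classical.card_SL_two, Nat.card_zmod]
    rfl
  exact ⟨(MulEquiv.ofBijective f ((Nat.bijective_iff_injective_and_card f).2 ⟨hf, hcard⟩)).trans
    (Equiv.permCongrHom (Fintype.equivFinOfCardEq (by simp) : (Fin 2 → ZMod 2) ≃ Fin 4))⟩

end CfsgLib.PLocal.Affine
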