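import Mathlib
import Cfsg.Agent.Lib.Base.Wielandt
import Cfsg.Agent.Lib.PLocal.Quadratic

/-!
The join of subnormal subgroups is subnormal; `[V,E₁,E₂] = 1` gives `[E₁,E₂] ≤ O_p`.
-/

set_option autoImplicit false
set_option linter.style.haveILetI false

namespace CfsgLib.PLocal

open Subgroup CfsgLib.Base
open scoped commutatorElement

variable {G : Type*} [Group G] [Finite G]

theorem isSubnormalIn_join {A B K : Subgroup G} (hA : IsSubnormalIn A K) (hB : IsSubnormalIn B K) :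
    IsSubnormalIn (A ⊔ B) K := by
  induction hn : Nat.card K using Nat.strong_induction_on generalizing A B K with
  | _ n ih =>
  subst hn
  rcases hA.2.lt_normal with h1 | ⟨N, hN, hle, hlt⟩
  · have hAK : A = K := le_antisymm hA.1 (subgroupOf_eq_top.1 h1)
    subst hAK
    rw [sup_eq_left.2 hB.1]
    exact ⟨le_rfl, by simp⟩
  set L := N.map K.subtype with hLdef
  have hLK : L ≤ K := map_subtype_le _
  have hNL : L.subgroupOf K = N := comap_map_eq_self_of_injective K.subtype_injective N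
  have hKL : K ≤ normalizer (L : Set G) := by
    rw [← normal_subgroupOf_iff_le_normalizer hLK, hNL]
    exact hN
  have hAL : A ≤ L := by
    rw [← map_subgroupOf_eq_of_le hA.1]
    exact map_mono hle
  have hcard : Nat.card L < Nat.card K := by
    refine lt_of_le_of_ne (card_le_of_le hLK) fun h => hlt.ne ?_
    rw [← hNL, Subgroup.eq_of_le_of_card_ge hLK h.ge, subgroupOf_self]
  have hLsn : IsSubnormalIn L K := ⟨hLK, by rw [hNL]; exact hN.isSubnormal⟩
  classical
  haveI : Fintype B := Fintype.ofFinite _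
  have hone : ∀ b : B, IsSubnormalIn (A.map (MulAut.conj (b : G)).toMonoidHom) L := by
    intro b
    have h := hA.map (MulAut.conj (b : G)).toMonoidHom
    rw [show K.map (MulAut.conj (b : G)).toMonoidHom = K from
      mem_normalizer_iff_map_conj_eq.1 (le_normalizer (hB.1 b.2))] at h
    refine h.inf ?_ hLK
    rw [← show L.map (MulAut.conj (b : G)).toMonoidHom = L from
      mem_normalizer_iff_map_conj_eq.1 (hKL (hB.1 b.2))]
    exact map_mono hAL
  have hbot : IsSubnormalIn (⊥ : Subgroup G) L :=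
    ⟨bot_le, by rw [bot_subgroupOf]; exact Subgroup.IsSubnormal.bot⟩
  have hfam : ∀ T : Finset B,
      IsSubnormalIn (T.sup fun b => A.map (MulAut.conj (b : G)).toMonoidHom) L := by
    intro T
    induction T using Finset.induction with
    | empty => exact hbot
    | @insert b T _ ihT =>
      rw [Finset.sup_insert]
      exact ih _ hcard (hone b) ihT rfl
  set A' : Subgroup G := ⨆ b : B, A.map (MulAut.conj (b : G)).toMonoidHom with hA'
  have hA'sn : IsSubnormalIn A' K := by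
    have h := (hfam Finset.univ).trans hLsn
    rwa [Finset.sup_univ_eq_iSup] at h
  have hAA' : A ≤ A' := le_iSup_of_le 1 (fun a ha => ⟨a, ha, by simp⟩)
  have hBA' : B ≤ normalizer (A' : Set G) := by
    intro b hb
    rw [mem_normalizer_iff_map_conj_eq]
    refine Subgroup.eq_of_le_of_card_ge ?_ (CfsgLib.Base.card_map_conj b A').ge
    show A'.map (MulAut.conj b).toMonoidHom ≤ A'
    rw [hA', Subgroup.map_iSup]
    refine iSup_le fun c => le_iSup_of_le (⟨b, hb⟩ * c) (le_of_eq ?_)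
    rw [Subgroup.map_map]; congr 1; ext x; simp [mul_assoc]
  have e : A' ⊔ B = A ⊔ B := by
    refine le_antisymm (sup_le (iSup_le fun b => ?_) le_sup_right) (sup_le_sup_right hAA' B)
    rintro _ ⟨a, ha, rfl⟩
    exact mul_mem (mul_mem (mem_sup_right b.2) (mem_sup_left ha)) (inv_mem (mem_sup_right b.2))
  have := isSubnormalIn_sup hA'sn hB hBA'
  rwa [e] at this

theorem isSubnormal_join {A B : Subgroup G} (hA : A.IsSubnormal) (hB : B.IsSubnormal) :
    (A ⊔ B).IsSubnormal :=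
  isSubnormalIn_top_iff.1
    (isSubnormalIn_join (isSubnormalIn_top_iff.2 hA) (isSubnormalIn_top_iff.2 hB))

open Cfsg in
/-- KS: `[E₁,E₂] ≤ O_p(H)` when `[V,E₁,E₂] = 1`. -/
theorem commutator_le_pCore_of_subnormal {p : ℕ} [Fact p.Prime] {V H E₁ E₂ : Subgroup G}
    (hV : IsElementaryAbelian p V) (hHV : H ≤ normalizer (V : Set G))
    (hf : H ⊓ centralizer (V : Set G) = ⊥) (hs₁ : IsSubnormalIn E₁ H) (hs₂ : IsSubnormalIn E₂ H)
    (hc : ⁅⁅V, E₁⁆, E₂⁆ = ⊥) : ⁅E₁, E₂⁆ ≤ (pCore p H).map H.subtype := by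
  set D := E₁ ⊔ E₂ with hD
  have hDH : IsSubnormalIn D H := isSubnormalIn_join hs₁ hs₂
  have hE₁V := hs₁.1.trans hHV
  set W := ⁅V, E₁⁆ with hW
  have hWV : W ≤ V := commutator_le_of_le_normalizer hE₁V
  -- `W` is invariant under `D`
  have hDW : D ≤ normalizer (W : Set G) := by
    refine sup_le (fun e he => ?_)
      ((le_centralizer_iff.1 (commutator_eq_bot_iff_le_centralizer.1 hc)).trans (centralizer_le_normalizer _))
    rw [mem_normalizer_iff_map_conj_eq, hW, map_commutator,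
      mem_normalizer_iff_map_conj_eq.1 (hE₁V he),
      mem_normalizer_iff_map_conj_eq.1 (le_normalizer he)]
  have hDV : D ≤ normalizer (V : Set G) := hDH.1.trans hHV
  -- the two kernels
  set K₂ := D ⊓ centralizer (W : Set G) with hK₂
  have hE₂K : E₂ ≤ K₂ :=
    le_inf le_sup_right (le_centralizer_iff.1 (commutator_eq_bot_iff_le_centralizer.1 hc))
  let K₁ : Subgroup G :=
    { carrier := {g | g ∈ D ∧ ∀ v ∈ V, ⁅v, g⁆ ∈ W}
      one_mem' := ⟨one_mem _, fun v _ => by simp⟩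
      mul_mem' := fun {a b} ha hb => ⟨mul_mem ha.1 hb.1, fun v hv => by
        rw [comm_mul_right]
        exact mul_mem (ha.2 v hv) ((mem_normalizer_iff.1 (hDW ha.1) _).1 (hb.2 v hv))⟩
      inv_mem' := fun {a} ha => ⟨inv_mem ha.1, fun v hv => by
        have e : ⁅v, a⁻¹⁆ = a⁻¹ * ⁅v, a⁆⁻¹ * a := by group
        rw [e]
        have := (mem_normalizer_iff.1 (hDW (inv_mem ha.1)) ⁅v, a⁆⁻¹).1 (inv_mem (ha.2 v hv))
        simpa using this⟩ }
  have hE₁K : E₁ ≤ K₁ := fun e he => ⟨mem_sup_left he, fun v hv => commutator_mem_commutator hv he⟩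
  set X := K₁ ⊓ K₂ with hX
  have hDX : D ≤ normalizer (X : Set G) := by
    intro d hd
    rw [mem_normalizer_iff_map_conj_eq]
    refine Subgroup.eq_of_le_of_card_ge ?_ (CfsgLib.Base.card_map_conj d X).ge
    show X.map (MulAut.conj d).toMonoidHom ≤ X
    rintro _ ⟨x, hx, rfl⟩
    obtain ⟨⟨hxD, hx1⟩, -, hx2⟩ := hx
    show d * x * d⁻¹ ∈ X
    have hdx : d * x * d⁻¹ ∈ D := mul_mem (mul_mem hd hxD) (inv_mem hd)
    refine ⟨⟨hdx, fun v hv => ?_⟩, hdx, mem_centralizer_iff.2 fun w hw => ?_⟩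
    · have hv' : d⁻¹ * v * d ∈ V := conj_mem_of_mem_normalizer' (hDV hd) hv
      have e : ⁅v, d * x * d⁻¹⁆ = d * ⁅d⁻¹ * v * d, x⁆ * d⁻¹ := by group
      rw [e]
      exact conj_mem_of_mem_normalizer (hDW hd) (hx1 _ hv')
    · have hw' : d⁻¹ * w * d ∈ W := conj_mem_of_mem_normalizer' (hDW hd) hw
      have h3 := mem_centralizer_iff.1 hx2 _ hw'
      calc w * (d * x * d⁻¹) = d * ((d⁻¹ * w * d) * x) * d⁻¹ := by group
        _ = d * (x * (d⁻¹ * w * d)) * d⁻¹ := by rw [h3]
        _ = _ := by group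
  have hXq : ⁅⁅V, X⁆, X⁆ = ⊥ := by
    rw [commutator_eq_bot_iff_le_centralizer]
    have h1 : ⁅V, X⁆ ≤ W := commutator_le.2 fun v hv x hx => hx.1.2 v hv
    refine h1.trans ?_
    rw [le_centralizer_iff]
    exact inf_le_right.trans inf_le_right
  have hXD : X ≤ D := inf_le_right.trans inf_le_left
  have hXp : IsPGroup p X := fun x => ⟨1, Subtype.ext (by
    have h1 := pow_mem_centralizer_of_quadratic hV (hXD.trans hDV) hXq x.2
    have h2 : (x : G) ^ p ∈ (⊥ : Subgroup G) := hf ▸ mem_inf.2 ⟨pow_mem (hDH.1 (hXD x.2)) p, h1⟩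
    simpa using mem_bot.1 h2)⟩
  have hcomm : ⁅E₁, E₂⁆ ≤ X := by
    refine commutator_le.2 fun a ha b hb => ?_
    have hbD : b ∈ D := mem_sup_right hb
    have haD : a ∈ D := mem_sup_left ha
    have habD : ⁅a, b⁆ ∈ D := by
      show a * b * a⁻¹ * b⁻¹ ∈ D
      exact mul_mem (mul_mem (mul_mem haD hbD) (inv_mem haD)) (inv_mem hbD)
    refine ⟨?_, habD, ?_⟩
    · -- `b a⁻¹ b⁻¹ ∈ K₁` as `K₁` is normalised by `D`
      have e : ⁅a, b⁆ = a * (b * a⁻¹ * b⁻¹) := by group
      rw [e]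
      refine mul_mem (hE₁K ha) ⟨mul_mem (mul_mem hbD (inv_mem haD)) (inv_mem hbD), fun v hv => ?_⟩
      have hv' : b⁻¹ * v * b ∈ V := conj_mem_of_mem_normalizer' (hDV hbD) hv
      have e2 : ⁅v, b * a⁻¹ * b⁻¹⁆ = b * ⁅b⁻¹ * v * b, a⁻¹⁆ * b⁻¹ := by group
      rw [e2]
      exact conj_mem_of_mem_normalizer (hDW hbD) ((inv_mem (hE₁K ha) : a⁻¹ ∈ K₁).2 _ hv')
    · have e : ⁅a, b⁆ = (a * b * a⁻¹) * b⁻¹ := by group
      rw [e]
      have hb2 := (mem_inf.1 (hE₂K hb)).2
      refine (centralizer (W : Set G)).mul_mem (mem_centralizer_iff.2 fun w hw => ?_) ((centralizer (W : Set G)).inv_mem hb2)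
      have hw' : a⁻¹ * w * a ∈ W := conj_mem_of_mem_normalizer' (hDW haD) hw
      calc w * (a * b * a⁻¹) = a * ((a⁻¹ * w * a) * b) * a⁻¹ := by group
        _ = a * (b * (a⁻¹ * w * a)) * a⁻¹ := by rw [mem_centralizer_iff.1 hb2 _ hw']
        _ = _ := by group
  refine hcomm.trans ?_
  have hXsub : (X.subgroupOf H).IsSubnormal := by
    have h : IsSubnormalIn X H := by
      refine IsSubnormalIn.trans ⟨hXD, ?_⟩ hDH
      exact (normal_subgroupOf_of_le_normalizer hDX).isSubnormal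
    exact h.2
  calc X = (X.subgroupOf H).map H.subtype := (map_subgroupOf_eq_of_le (hXD.trans hDH.1)).symm
    _ ≤ _ := map_mono (le_pCore_of_isSubnormal hXsub
      (hXp.of_equiv (subgroupOfEquivOfLe (hXD.trans hDH.1)).symm))

end CfsgLib.PLocal
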