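import Cfsg.Agent.Lib.PLocal.RegularMetacyclic
import Cfsg.Agent.Lib.PGroups.Generation
import Cfsg.Agent.Lib.PGroups.Omega

/-!
# Huppert: for odd `p`, a p-group with `|G : ℧₁(G)| ≤ p²` is metacyclic
-/

set_option autoImplicit false
set_option linter.style.haveILetI false
set_option linter.unusedSectionVars false

namespace CfsgLib.PLocal

open Cfsg Subgroup
open scoped commutatorElement

universe u

variable {p : ℕ} [Fact p.Prime]

theorem commutator_le_powerClosure {G : Type u} [Group G] [Finite G] (hG : IsPGroup p G)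
    (hidx : (powerClosure p 1 (⊤ : Subgroup G)).index ≤ p ^ 2) :
    _root_.commutator G ≤ powerClosure p 1 (⊤ : Subgroup G) := by
  haveI := powerClosure_normal (p := p) (n := 1) (⊤ : Subgroup G)
  set W := powerClosure p 1 (⊤ : Subgroup G)
  obtain ⟨w, hw⟩ := IsPGroup.iff_card.1 (hG.to_quotient W)
  rw [← Subgroup.index_eq_card] at hw
  rw [hw, Nat.pow_le_pow_iff_right (Fact.out : p.Prime).one_lt] at hidx
  haveI hc : IsMulCommutative (G ⧸ W) := by
    interval_cases w
    · have : Subsingleton (G ⧸ W) := (Nat.card_eq_one_iff_unique.1 (by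
        rw [← Subgroup.index_eq_card, hw, pow_zero])).1
      exact ⟨⟨fun u v => Subsingleton.elim _ _⟩⟩
    · haveI := isCyclic_of_prime_card (α := G ⧸ W) (p := p) (by
        rw [← Subgroup.index_eq_card, hw, pow_one])
      infer_instance
    · exact IsPGroup.isMulCommutative_of_card_eq_prime_sq (p := p) (by
        rw [← Subgroup.index_eq_card, hw])
  exact (Subgroup.Normal.quotient_commutative_iff_commutator_le).1 hc

/-- In a group with `G' ≤ ℧₁(G)` the derived group is central modulo its p-th powers. -/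
theorem commutator_commutator_le {G : Type u} [Group G] [Finite G] (hp : p ≠ 2) (hG : IsPGroup p G)
    (hD : _root_.commutator G ≤ powerClosure p 1 (⊤ : Subgroup G)) :
    ⁅_root_.commutator G, (⊤ : Subgroup G)⁆ ≤ powerClosure p 1 (_root_.commutator G) := by
  haveI := powerClosure_normal (p := p) (n := 1) (_root_.commutator G)
  set N := powerClosure p 1 (_root_.commutator G) with hN
  set L := ⁅_root_.commutator G, (⊤ : Subgroup G)⁆ with hL
  by_contra hLN
  have hne : L.map (QuotientGroup.mk' N) ≠ ⊥ := fun h => hLN (by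
    rwa [Subgroup.map_eq_bot_iff, QuotientGroup.ker_mk'] at h)
  haveI : (L.map (QuotientGroup.mk' N)).Normal :=
    Subgroup.Normal.map inferInstance _ (QuotientGroup.mk'_surjective N)
  have hlt := CfsgLib.PGroups.commutator_top_lt (hG.to_quotient N) hne
  refine hlt.not_ge ?_
  -- work modulo `N ⊔ [L, G]`
  set M := N ⊔ ⁅L, (⊤ : Subgroup G)⁆ with hM
  haveI : M.Normal := inferInstance
  set π := QuotientGroup.mk' M with hπ
  have hDp : ∀ u ∈ _root_.commutator G, π u ^ p = 1 := fun u hu => by
    rw [← map_pow, hπ, QuotientGroup.mk'_apply, QuotientGroup.eq_one_iff]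
    exact mem_sup_left (by simpa using pow_mem_powerClosure (p := p) (n := 1) hu)
  have hLc : ∀ t ∈ L, ∀ g : G, Commute (π t) (π g) := fun t ht g => by
    rw [← commutatorElement_eq_one_iff_commute, ← map_commutatorElement, hπ, QuotientGroup.mk'_apply,
      QuotientGroup.eq_one_iff]
    exact mem_sup_right (commutator_mem_commutator ht (mem_top g))
  have hW : ∀ x g : G, Commute (π (x ^ p)) (π g) := by
    intro x g
    set u := ⁅g, x⁆ with hu
    have huD : u ∈ _root_.commutator G := by
      rw [_root_.commutator_def]; exact commutator_mem_commutator (mem_top g) (mem_top x)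
    have htL : ⁅x, u⁆ ∈ L := by
      rw [← commutatorElement_inv]; exact inv_mem (commutator_mem_commutator huD (mem_top x))
    have htD : ⁅x, u⁆ ∈ _root_.commutator G := by
      rw [_root_.commutator_def]; exact commutator_mem_commutator (mem_top _) (mem_top _)
    have h1 : (π u * π x) ^ p = π u ^ p * π x ^ p * ⁅π x, π u⁆ ^ p.choose 2 := by
      refine CfsgLib.PGroups.mul_pow_of_commute ?_ ?_ p <;>
        (rw [← map_commutatorElement]; exact hLc _ htL _)
    obtain ⟨m, hm⟩ : p ∣ p.choose 2 := (Fact.out : p.Prime).dvd_choose_self two_ne_zero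
      (lt_of_le_of_ne (Fact.out : p.Prime).two_le (Ne.symm hp))
    rw [hDp u huD, one_mul, hm, ← map_commutatorElement, pow_mul, hDp _ htD, one_pow, mul_one,
      ← map_mul, show u * x = g * x * g⁻¹ by rw [hu, commutatorElement_def]; group,
      ← map_pow, ← map_pow, conj_pow, map_mul, map_mul, map_inv] at h1
    exact ((mul_inv_eq_iff_eq_mul.1 h1).symm : π (x ^ p) * π g = π g * π (x ^ p))
  have hWc : powerClosure p 1 (⊤ : Subgroup G) ≤ (center (G ⧸ M)).comap π := by
    refine (closure_le _).2 ?_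
    rintro _ ⟨x, -, rfl⟩
    rw [pow_one]
    exact mem_center_iff.2 fun q => by
      obtain ⟨g, rfl⟩ := QuotientGroup.mk'_surjective M q
      exact (hW x g).symm.eq
  have hLM : L ≤ M := by
    rw [hL, commutator_le]
    intro d hd g _
    rw [← QuotientGroup.eq_one_iff, ← QuotientGroup.mk'_apply, map_commutatorElement,
      commutatorElement_eq_one_iff_mul_comm]
    exact (mem_center_iff.1 (hWc (hD hd)) _).symm
  calc L.map (QuotientGroup.mk' N) ≤ M.map (QuotientGroup.mk' N) := map_mono hLM
    _ = ⁅L.map (QuotientGroup.mk' N), (⊤ : Subgroup (G ⧸ N))⁆ := by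
        rw [hM, Subgroup.map_sup, QuotientGroup.map_mk'_self, bot_sup_eq, Subgroup.map_commutator,
          map_top_of_surjective _ (QuotientGroup.mk'_surjective N)]

theorem isCyclic_commutator {G : Type u} [Group G] [Finite G] (hp : p ≠ 2) (hG : IsPGroup p G)
    (hidx : (powerClosure p 1 (⊤ : Subgroup G)).index ≤ p ^ 2) :
    IsCyclic (_root_.commutator G) := by
  classical
  have hD := commutator_le_powerClosure hG hidx
  obtain ⟨S, hS, hScard⟩ := CfsgLib.PGroups.exists_finset_closure_eq_top (p := p) hG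
  have hWΦ : powerClosure p 1 (⊤ : Subgroup G) ≤ frattini G := (closure_le _).2 fun _ ⟨x, _, e⟩ => by
    rw [e, pow_one]; exact CfsgLib.PGroups.pow_mem_frattini hG x
  have h2 : S.card ≤ 2 := (Nat.pow_le_pow_iff_right (Fact.out : p.Prime).one_lt).1
    ((hScard.trans (Nat.le_of_dvd (Nat.pos_of_ne_zero index_ne_zero_of_finite) (index_dvd_of_le hWΦ))).trans hidx)
  obtain ⟨a, b, hab⟩ : ∃ a b : G, (S : Set G) ⊆ {a, b} := by
    rcases (show S.card = 0 ∨ S.card = 1 ∨ S.card = 2 by omega) with h | h | h
    · exact ⟨1, 1, by simp [Finset.card_eq_zero.1 h]⟩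
    · obtain ⟨a, rfl⟩ := Finset.card_eq_one.1 h
      exact ⟨a, a, by simp⟩
    · obtain ⟨a, b, -, rfl⟩ := Finset.card_eq_two.1 h
      exact ⟨a, b, by simp⟩
  have htop : closure ({a, b} : Set G) = ⊤ := top_le_iff.1 (hS ▸ closure_mono hab)
  set D := _root_.commutator G with hDdef
  set c := ⁅a, b⁆ with hc
  have hcD : c ∈ D := by rw [hDdef, _root_.commutator_def]; exact commutator_mem_commutator (mem_top a) (mem_top b)
  haveI := powerClosure_normal (p := p) (n := 1) D
  set M := powerClosure p 1 D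
  have hSn : (M ⊔ zpowers c).Normal := by
    refine ⟨fun y hy g => ?_⟩
    rw [show g * y * g⁻¹ = ⁅g, y⁆ * y by rw [commutatorElement_def]; group]
    refine mul_mem (mem_sup_left (commutator_commutator_le hp hG hD ?_)) hy
    rw [← commutatorElement_inv]
    exact inv_mem (commutator_mem_commutator ((sup_le (powerClosure_le_self D) (zpowers_le.2 hcD)) hy) (mem_top g))
  have hDS : D ≤ M ⊔ zpowers c := by
    rw [hDdef, _root_.commutator_def, ← htop]
    refine commutator_closure_pair_le ?_ ?_ (mem_sup_right (mem_zpowers c)) <;>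
    · rw [normalizer_eq_top]; exact mem_top _
  have hD2 : (zpowers c).subgroupOf D ⊔ frattini D = ⊤ := by
    refine top_le_iff.1 fun d _ => ?_
    obtain ⟨m, hm, z, hz, he⟩ := Subgroup.mem_sup_of_normal_left.1 (hDS d.2)
    have hmΦ : (⟨m, powerClosure_le_self D hm⟩ : D) ∈ frattini D := by
      have h1 : M ≤ (frattini D).map D.subtype := (closure_le _).2 fun _ ⟨x, hx, e⟩ => by
        rw [e, pow_one]
        exact ⟨(⟨x, hx⟩ : D) ^ p, CfsgLib.PGroups.pow_mem_frattini (hG.to_subgroup D) _, rfl⟩
      obtain ⟨w, hw, e⟩ := h1 hm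
      rwa [show (⟨m, powerClosure_le_self D hm⟩ : D) = w from Subtype.ext e.symm]
    rw [show d = ⟨m, powerClosure_le_self D hm⟩ * ⟨z, zpowers_le.2 hcD hz⟩ from Subtype.ext he.symm]
    exact mul_mem (mem_sup_right hmΦ) (mem_sup_left (mem_subgroupOf.2 hz))
  have h3 := frattini_nongenerating hD2
  have h4 : D ≤ zpowers c := subgroupOf_eq_top.1 h3
  exact isCyclic_of_injective (Subgroup.inclusion h4) (Subgroup.inclusion_injective h4)

/-- **Huppert.** For odd `p`, `|G : ℧₁(G)| ≤ p²` implies that `G` is metacyclic. -/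
theorem isMetacyclic_of_index_powerClosure {G : Type u} [Group G] [Finite G] (hp : p ≠ 2)
    (hG : IsPGroup p G) (hidx : (powerClosure p 1 (⊤ : Subgroup G)).index ≤ p ^ 2) :
    IsMetacyclic G := by
  refine isMetacyclic_of_pRegular hG (fun a b => ?_) hidx
  haveI hcyc := isCyclic_commutator hp hG hidx
  have hD := commutator_commutator_le hp hG (commutator_le_powerClosure hG hidx)
  set H := closure ({a, b} : Set G) with hH
  obtain ⟨u, hu, z, hz, e⟩ := hall_petrescu (Fact.out : p.Prime) (powerClosure p 1 (_root_.commutator H))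
    (fun x hx => by simpa using pow_mem_powerClosure (p := p) (n := 1) hx)
    (⟨a, subset_closure (Or.inl rfl)⟩ : H) ⟨b, subset_closure (Or.inr rfl)⟩
  have hmap : (powerClosure p 1 (_root_.commutator H)).map H.subtype = powerClosure p 1 ⁅H, H⁆ := by
    rw [map_powerClosure, map_subtype_commutator]
  have hz' : (z : G) ∈ powerClosure p 1 ⁅H, H⁆ := by
    have h2 : z ∈ (⊤ : Subgroup H).lowerCentralSeries 2 :=
      Subgroup.lowerCentralSeries_antitone _
        (by have := lt_of_le_of_ne (Fact.out : p.Prime).two_le (Ne.symm hp); omega) hz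
    have h3 := mem_map_of_mem H.subtype h2
    rw [Subgroup.lowerCentralSeries_succ, top_lowerCentralSeries_one, Subgroup.map_commutator,
      map_subtype_commutator, ← MonoidHom.range_eq_map, range_subtype] at h3
    refine (commutator_le.2 ?_ : ⁅⁅H, H⁆, H⁆ ≤ powerClosure p 1 ⁅H, H⁆) h3
    intro d hd h _
    set D := _root_.commutator G with hDdef
    have hHD : ⁅H, H⁆ ≤ D := by
      rw [hDdef, _root_.commutator_def]; exact commutator_mono le_top le_top
    obtain ⟨⟨c, hcD⟩, hc⟩ := IsCyclic.exists_generator (α := D)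
    obtain ⟨i, hi⟩ := mem_zpowers_iff.1 (hc ⟨d, hHD hd⟩)
    have hdi : c ^ i = d := congrArg Subtype.val hi
    have hN : powerClosure p 1 D ≤ zpowers (c ^ p) := by
      refine (closure_le _).2 ?_
      rintro _ ⟨x, hx, rfl⟩
      obtain ⟨k, hk⟩ := mem_zpowers_iff.1 (hc ⟨x, hx⟩)
      have hk' : c ^ k = x := congrArg Subtype.val hk
      exact mem_zpowers_iff.2 ⟨k, by rw [pow_one, ← hk', ← zpow_natCast, ← zpow_natCast, ← zpow_mul, ← zpow_mul, mul_comm]⟩
    obtain ⟨j, hj⟩ := mem_zpowers_iff.1 (hN (hD (commutator_mem_commutator hcD (mem_top h))))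
    -- `h c h⁻¹` is a power of `c`
    have h5 : h * c * h⁻¹ = c ^ (1 - (p : ℤ) * j) := by
      have h6 : c * h * c⁻¹ * h⁻¹ = c ^ ((p : ℤ) * j) := by
        rw [← commutatorElement_def, ← hj, zpow_mul, zpow_natCast]
      rw [show (1:ℤ) - (p:ℤ)*j = -((p:ℤ)*j) + 1 by ring, zpow_add, zpow_one, zpow_neg, ← h6]; group
    have h7 : ⁅d, h⁆ = (d ^ p) ^ j := by
      rw [← hdi, commutatorElement_def, show c ^ i * h * (c ^ i)⁻¹ * h⁻¹ = c ^ i * (h * c ^ i * h⁻¹)⁻¹ by group,
        ← conj_zpow, h5, ← zpow_mul, ← zpow_natCast (c ^ i), ← zpow_mul, ← zpow_mul, ← zpow_neg, ← zpow_add]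
      congr 1; ring
    rw [h7]
    exact zpow_mem (by simpa using pow_mem_powerClosure (p := p) (n := 1) hd) _
  refine ⟨(u : G) * (z : G), mul_mem (hmap ▸ mem_map_of_mem H.subtype hu) hz', ?_⟩
  exact congrArg Subtype.val e

end CfsgLib.PLocal
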