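import Mathlib
import Cfsg.Prelude.Def_PLocal
import Cfsg.Agent.Lib.PLocal.SubnormalJoin
import Cfsg.Agent.Lib.PLocal.Constrained
import Cfsg.Agent.Lib.PLocal.Replacement
import Cfsg.Agent.Lib.PLocal.Thompson
import Cfsg.Agent.Lib.Coprime.Action

/-!
Two subnormal subgroups acting irreducibly on incomparable commutator modules commute.
-/

set_option autoImplicit false
set_option linter.style.haveILetI false

namespace CfsgLib.PLocal

open Subgroup Cfsg CfsgLib.Base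
open scoped commutatorElement

variable {G : Type*} [Group G] {p : ℕ}

theorem map_conj_eq_of_mem {H : Subgroup G} {g : G} (hg : g ∈ normalizer (H : Set G)) :
    H.map (MulAut.conj g).toMonoidHom = H :=
  mem_normalizer_iff_map_conj_eq.1 hg

theorem mem_of_map_conj_eq {H : Subgroup G} {g : G} (h : H.map (MulAut.conj g).toMonoidHom = H) :
    g ∈ normalizer (H : Set G) :=
  mem_normalizer_iff_map_conj_eq.2 h

/-- Elements normalising `X` and acting trivially on `V / X`. -/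
def trivQuot (V X : Subgroup G) : Subgroup G where
  carrier := {g | g ∈ normalizer (X : Set G) ∧ ∀ v ∈ V, ⁅v, g⁆ ∈ X}
  one_mem' := ⟨one_mem _, fun v _ => by simp⟩
  mul_mem' := fun {a b} ha hb => ⟨mul_mem ha.1 hb.1, fun v hv => by
    rw [comm_mul_right]
    exact mul_mem (ha.2 v hv) (conj_mem_of_mem_normalizer ha.1 (hb.2 v hv))⟩
  inv_mem' := fun {a} ha => ⟨inv_mem ha.1, fun v hv => by
    have e : ⁅v, a⁻¹⁆ = a⁻¹ * ⁅v, a⁆⁻¹ * a := by group
    rw [e]
    exact conj_mem_of_mem_normalizer' ha.1 (inv_mem (ha.2 v hv))⟩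

theorem mem_trivQuot {V X : Subgroup G} {g : G} :
    g ∈ trivQuot V X ↔ g ∈ normalizer (X : Set G) ∧ ∀ v ∈ V, ⁅v, g⁆ ∈ X := Iff.rfl

theorem commutator_le_of_le_trivQuot {V X A : Subgroup G} (h : A ≤ trivQuot V X) : ⁅V, A⁆ ≤ X :=
  commutator_le.2 fun v hv a ha => (h ha).2 v hv

theorem le_trivQuot {V X A : Subgroup G} (h : A ≤ normalizer (X : Set G)) (h' : ⁅V, A⁆ ≤ X) :
    A ≤ trivQuot V X := fun a ha => ⟨h ha, fun _ hv => h' (commutator_mem_commutator hv ha)⟩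

theorem le_normalizer_self_commutator {V A : Subgroup G} :
    A ≤ normalizer ((⁅V, A⁆ : Subgroup G) : Set G) := normalizer_commutator_ge_right V A

theorem map_conj_commutator {V A : Subgroup G} {g : G} (hg : g ∈ normalizer (V : Set G)) :
    (⁅V, A⁆).map (MulAut.conj g).toMonoidHom = ⁅V, A.map (MulAut.conj g).toMonoidHom⁆ := by
  rw [map_commutator, map_conj_eq_of_mem hg]

/-- Irreducibility on `[V,A]`. -/
def IrrOn (V A : Subgroup G) : Prop :=
  ∀ U : Subgroup G, U ≤ ⁅V, A⁆ → A ≤ normalizer (U : Set G) → U = ⊥ ∨ U = ⁅V, A⁆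

theorem IrrOn.conj {V A : Subgroup G} (h : IrrOn V A) {g : G} (hg : g ∈ normalizer (V : Set G)) :
    IrrOn V (A.map (MulAut.conj g).toMonoidHom) := by
  intro U hU hUn
  rw [← map_conj_commutator hg] at hU ⊢
  set c := MulAut.conj g with hc
  have e : (U.map c.symm.toMonoidHom).map c.toMonoidHom = U := by
    rw [Subgroup.map_map]
    convert Subgroup.map_id U using 2
    ext x; simp
  have e' : ((A.map c.toMonoidHom).map c.symm.toMonoidHom) = A := by
    rw [Subgroup.map_map]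
    convert Subgroup.map_id A using 2
    ext x; simp
  have h1 : U.map c.symm.toMonoidHom ≤ ⁅V, A⁆ := by
    rw [← map_le_map_iff_of_injective (f := c.toMonoidHom) c.injective, e]; exact hU
  have h2 : A ≤ normalizer ((U.map c.symm.toMonoidHom : Subgroup G) : Set G) := by
    rw [← e']
    exact (map_mono hUn).trans (le_normalizer_map _)
  rcases h _ h1 h2 with h3 | h3
  · left; rw [← e, h3, Subgroup.map_bot]
  · right; rw [← e, h3]

theorem eq_bot_of_subnormal_pgroup [Finite G] [Fact p.Prime] {E K : Subgroup G}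
    (hOp : pCore p E = ⊥) (hK : IsSubnormalIn K E) (hp : IsPGroup p K) : K = ⊥ := by
  have h := le_pCore_of_isSubnormal hK.2 (hp.of_equiv (subgroupOfEquivOfLe hK.1).symm)
  rw [hOp, le_bot_iff] at h
  rw [← map_subgroupOf_eq_of_le hK.1, h, Subgroup.map_bot]

variable [Finite G] [Fact p.Prime]

/-- The case in which `E₁` normalises `[V,E₂]`. -/
theorem two_subnormal_of_normalizes {V E E₁ E₂ : Subgroup G} (hV : IsElementaryAbelian p V)
    (hEV : E ≤ normalizer (V : Set G)) (hf : E ⊓ centralizer (V : Set G) = ⊥)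
    (hs₁ : IsSubnormalIn E₁ E) (hs₂ : IsSubnormalIn E₂ E) (hOp : pCore p E = ⊥)
    (hirr₁ : IrrOn V E₁) (h12 : ¬ ⁅V, E₁⁆ ≤ ⁅V, E₂⁆)
    (hn : E₁ ≤ normalizer ((⁅V, E₂⁆ : Subgroup G) : Set G)) :
    ⁅E₁, E₂⁆ = ⊥ ∧ ⁅V, E₁⁆ ⊓ ⁅V, E₂⁆ = ⊥ ∧ ⁅⁅V, E₁⁆, E₂⁆ = ⊥ ∧ ⁅⁅V, E₂⁆, E₁⁆ = ⊥ := by
  have hdisj : ⁅V, E₁⁆ ⊓ ⁅V, E₂⁆ = ⊥ :=
    (hirr₁ _ inf_le_left
      (CfsgLib.Coprime.le_normalizer_inf_inf le_normalizer_self_commutator hn)).resolve_right
      fun e => h12 (e ▸ inf_le_right)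
  have hX₂ : ⁅V, E₂⁆ ≤ V := commutator_le_of_le_normalizer (hs₂.1.trans hEV)
  have h21 : ⁅⁅V, E₂⁆, E₁⁆ = ⊥ := eq_bot_iff.2 (hdisj ▸
    le_inf (commutator_mono hX₂ le_rfl) (commutator_le_of_le_normalizer hn))
  have hc : ⁅E₁, E₂⁆ = ⊥ := by
    rw [commutator_comm, eq_bot_iff]
    have := commutator_le_pCore_of_subnormal hV hEV hf hs₂ hs₁ h21
    rwa [hOp, Subgroup.map_bot] at this
  refine ⟨hc, hdisj, eq_bot_iff.2 (hdisj ▸ le_inf ?_ ?_), h21⟩
  · refine commutator_le_of_le_normalizer fun e he => ?_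
    refine mem_of_map_conj_eq ?_
    rw [map_conj_commutator (hs₂.1.trans hEV he)]
    have : e ∈ normalizer (E₁ : Set G) :=
      centralizer_le_normalizer _ ((le_centralizer_iff.1 (commutator_eq_bot_iff_le_centralizer.1 hc)) he)
    rw [map_conj_eq_of_mem this]
  · exact commutator_mono (commutator_le_of_le_normalizer (hs₁.1.trans hEV)) le_rfl

/-- Two subnormal subgroups with incomparable irreducible commutator modules. -/
theorem two_subnormal {V : Subgroup G} (hV : IsElementaryAbelian p V) :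
    ∀ (E E₁ E₂ : Subgroup G), E ≤ normalizer (V : Set G) → E ⊓ centralizer (V : Set G) = ⊥ →
      IsSubnormalIn E₁ E → IsSubnormalIn E₂ E → pCore p E = ⊥ → IrrOn V E₁ → IrrOn V E₂ →
      ¬ ⁅V, E₁⁆ ≤ ⁅V, E₂⁆ → ¬ ⁅V, E₂⁆ ≤ ⁅V, E₁⁆ → 2 < Nat.card E₁ → 2 < Nat.card E₂ →
      ⁅E₁, E₂⁆ = ⊥ ∧ ⁅V, E₁⁆ ⊓ ⁅V, E₂⁆ = ⊥ ∧ ⁅⁅V, E₁⁆, E₂⁆ = ⊥ ∧ ⁅⁅V, E₂⁆, E₁⁆ = ⊥ := by
  intro E
  induction E using WellFoundedLT.induction with
  | _ E ih =>
  intro E₁ E₂ hEV hf hs₁ hs₂ hOp hirr₁ hirr₂ h12 h21 hc₁ hc₂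
  by_cases hn₁ : E₁ ≤ normalizer ((⁅V, E₂⁆ : Subgroup G) : Set G)
  · exact two_subnormal_of_normalizes hV hEV hf hs₁ hs₂ hOp hirr₁ h12 hn₁
  by_cases hn₂ : E₂ ≤ normalizer ((⁅V, E₁⁆ : Subgroup G) : Set G)
  · obtain ⟨a, b, c, d⟩ := two_subnormal_of_normalizes hV hEV hf hs₂ hs₁ hOp hirr₂ h21 hn₂
    exact ⟨by rw [commutator_comm]; exact a, by rw [inf_comm]; exact b, d, c⟩
  exfalso
  -- a moved conjugate of one commutes with it, so the modules have the same order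
  have step : ∀ (A B : Subgroup G), IsSubnormalIn A E → B ≤ E → IrrOn V A → 2 < Nat.card A →
      ¬ ⁅V, B⁆ ≤ ⁅V, A⁆ → ∀ a ∈ E, ∀ b ∈ E,
      (⁅V, A⁆).map (MulAut.conj a).toMonoidHom ≠ (⁅V, A⁆).map (MulAut.conj b).toMonoidHom →
      (⁅V, A⁆).map (MulAut.conj a).toMonoidHom ⊓ (⁅V, A⁆).map (MulAut.conj b).toMonoidHom = ⊥ ∧
      ⁅(⁅V, A⁆).map (MulAut.conj a).toMonoidHom, A.map (MulAut.conj b).toMonoidHom⁆ = ⊥ := by
    intro A B hA hBE hirr hcard hBA a ha b hb hne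
    rcases hA.2.lt_normal with h1 | ⟨N, hN, hle, hlt⟩
    · exact absurd (commutator_mono (le_refl V) (hBE.trans (subgroupOf_eq_top.1 h1))) hBA
    set L := N.map E.subtype with hL
    have hLE : L ≤ E := map_subtype_le _
    have hNL : L.subgroupOf E = N := comap_map_eq_self_of_injective E.subtype_injective N
    have hEL : E ≤ normalizer (L : Set G) := by
      rw [← normal_subgroupOf_iff_le_normalizer hLE, hNL]; exact hN
    have hAL : A ≤ L := by rw [← map_subgroupOf_eq_of_le hA.1]; exact map_mono hle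
    have hLlt : L < E := lt_of_le_of_ne hLE fun e => hlt.ne (by rw [← hNL, e, subgroupOf_self])
    have hconj : ∀ e ∈ E, IsSubnormalIn (A.map (MulAut.conj e).toMonoidHom) E ∧
        A.map (MulAut.conj e).toMonoidHom ≤ L := by
      intro e he
      refine ⟨?_, ?_⟩
      · have h := hA.map (MulAut.conj e).toMonoidHom
        rwa [map_conj_eq_of_mem (le_normalizer he)] at h
      · exact (map_mono hAL).trans (map_conj_eq_of_mem (hEL he)).le
    set Aa := A.map (MulAut.conj a).toMonoidHom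
    set Ab := A.map (MulAut.conj b).toMonoidHom
    have hF : IsSubnormalIn (Aa ⊔ Ab) E := isSubnormalIn_join (hconj a ha).1 (hconj b hb).1
    have hFlt : Aa ⊔ Ab < E := lt_of_le_of_lt (sup_le (hconj a ha).2 (hconj b hb).2) hLlt
    have hFp : pCore p ↥(Aa ⊔ Ab) = ⊥ := by
      have h := eq_bot_of_subnormal_pgroup hOp (K := (pCore p ↥(Aa ⊔ Ab)).map (Aa ⊔ Ab).subtype) ?_
        ((isPGroup_pCore p _).map _)
      · exact (map_eq_bot_iff_of_injective _ (Aa ⊔ Ab).subtype_injective).1 h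
      refine IsSubnormalIn.trans ⟨map_subtype_le _, ?_⟩ hF
      rw [subgroupOf, comap_map_eq_self_of_injective (Aa ⊔ Ab).subtype_injective]
      exact (pCore_normal p _).isSubnormal
    have eA : ⁅V, Aa⁆ = (⁅V, A⁆).map (MulAut.conj a).toMonoidHom := (map_conj_commutator (hEV ha)).symm
    have eB : ⁅V, Ab⁆ = (⁅V, A⁆).map (MulAut.conj b).toMonoidHom := (map_conj_commutator (hEV hb)).symm
    rw [← eA, ← eB] at hne ⊢
    have hcc : Nat.card ↥(⁅V, Aa⁆) = Nat.card ↥(⁅V, Ab⁆) := by rw [eA, eB, card_map_conj, card_map_conj]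
    obtain ⟨-, r1, r2, -⟩ := ih _ hFlt Aa Ab (hF.1.trans hEV)
      (eq_bot_iff.2 ((inf_le_inf_right _ hF.1).trans hf.le))
      ((hconj a ha).1.inf le_sup_left hF.1) ((hconj b hb).1.inf le_sup_right hF.1) hFp
      (hirr.conj (hEV ha)) (hirr.conj (hEV hb))
      (fun h => hne (Subgroup.eq_of_le_of_card_ge h hcc.ge))
      (fun h => hne (Subgroup.eq_of_le_of_card_ge h hcc.le).symm)
      (by rw [show Nat.card Aa = Nat.card A from card_map_conj a A]; exact hcard)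
      (by rw [show Nat.card Ab = Nat.card A from card_map_conj b A]; exact hcard)
    exact ⟨r1, r2⟩
  have hX : ∀ A : Subgroup G, A ≤ E → ⁅V, A⁆ ≤ V := fun A hA =>
    commutator_le_of_le_normalizer (hA.trans hEV)
  have dims : ∀ (A B : Subgroup G), IsSubnormalIn A E → IsSubnormalIn B E → IrrOn V A →
      2 < Nat.card A → ¬ ⁅V, B⁆ ≤ ⁅V, A⁆ → ∀ g ∈ B, g ∉ normalizer ((⁅V, A⁆ : Subgroup G) : Set G) →
      ⁅V, A⁆ ⊔ (⁅V, A⁆).map (MulAut.conj g).toMonoidHom ≤ ⁅V, A⁆ ⊔ ⁅V, B⁆ ∧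
      Nat.card ↥(⁅V, A⁆ ⊔ (⁅V, A⁆).map (MulAut.conj g).toMonoidHom)
        = Nat.card ↥(⁅V, A⁆) * Nat.card ↥(⁅V, A⁆) := by
    intro A B hA hB hirr hcard hBA g hg hgn
    set Y := (⁅V, A⁆).map (MulAut.conj g).toMonoidHom with hY
    have hone : (⁅V, A⁆).map (MulAut.conj (1 : G)).toMonoidHom = ⁅V, A⁆ := by
      convert Subgroup.map_id (⁅V, A⁆) using 2
      ext x; simp
    obtain ⟨hd, -⟩ := step A B hA hB.1 hirr hcard hBA 1 (one_mem _) g (hB.1 hg) (by
      rw [hone]; exact fun e => hgn (mem_of_map_conj_eq e.symm))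
    rw [hone] at hd
    have hYV : Y ≤ V := by
      rw [hY, map_conj_commutator (hEV (hB.1 hg))]
      refine hX _ ?_
      rintro _ ⟨x, hx, rfl⟩
      exact mul_mem (mul_mem (hB.1 hg) (hA.1 hx)) (inv_mem (hB.1 hg))
    refine ⟨sup_le le_sup_left ?_, ?_⟩
    · rintro _ ⟨x, hx, rfl⟩
      show g * x * g⁻¹ ∈ _
      have e : g * x * g⁻¹ = ⁅x, g⁆⁻¹ * x := by group
      rw [e]
      exact mul_mem (inv_mem (mem_sup_right (commutator_mem_commutator (hX A hA.1 hx) hg)))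
        (mem_sup_left hx)
    · have h := card_sup_mul_card_inf_of_le hV.1 (hX A hA.1) hYV
      rw [hd, card_bot, mul_one, hY, card_map_conj] at h
      exact h
  obtain ⟨g, hg, hgn⟩ := SetLike.not_le_iff_exists.1 hn₂
  obtain ⟨k, hk, hkn⟩ := SetLike.not_le_iff_exists.1 hn₁
  obtain ⟨hW1, hcW1⟩ := dims E₁ E₂ hs₁ hs₂ hirr₁ hc₁ h21 g hg hgn
  obtain ⟨hW2, hcW2⟩ := dims E₂ E₁ hs₂ hs₁ hirr₂ hc₂ h12 k hk hkn
  set X₁ := ⁅V, E₁⁆ with hX₁d
  set X₂ := ⁅V, E₂⁆ with hX₂d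
  set Y := X₁.map (MulAut.conj g).toMonoidHom with hYd
  set W := X₁ ⊔ X₂ with hWd
  have hcW := card_sup_mul_card_inf_of_le hV.1 (hX _ hs₁.1) (hX _ hs₂.1)
  have hle1 := card_le_of_le hW1
  have hle2 := card_le_of_le hW2
  rw [hcW1] at hle1
  rw [hcW2, sup_comm] at hle2
  have h12pos : 0 < Nat.card ↥(X₁ ⊓ X₂) := Nat.card_pos
  have e1 : Nat.card ↥W * Nat.card ↥(X₁ ⊓ X₂) = Nat.card X₁ * Nat.card X₂ := hcW
  have heq : Nat.card X₂ = Nat.card X₁ ∧ Nat.card ↥(X₁ ⊓ X₂) = 1 := by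
    have a1 : Nat.card X₁ * Nat.card X₁ * Nat.card ↥(X₁ ⊓ X₂) ≤ Nat.card X₁ * Nat.card X₂ :=
      e1 ▸ Nat.mul_le_mul_right _ hle1
    have a2 : Nat.card X₂ * Nat.card X₂ * Nat.card ↥(X₁ ⊓ X₂) ≤ Nat.card X₁ * Nat.card X₂ :=
      e1 ▸ Nat.mul_le_mul_right _ hle2
    rw [mul_assoc] at a1
    have b1 := Nat.le_of_mul_le_mul_left a1 Nat.card_pos
    have b2 : Nat.card X₂ * Nat.card ↥(X₁ ⊓ X₂) ≤ Nat.card X₁ := by
      rw [mul_assoc, mul_comm (Nat.card X₁) (Nat.card X₂)] at a2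
      exact Nat.le_of_mul_le_mul_left a2 Nat.card_pos
    have c1 : Nat.card X₁ ≤ Nat.card X₂ := le_trans (Nat.le_mul_of_pos_right _ h12pos) b1
    have c2 : Nat.card X₂ ≤ Nat.card X₁ := le_trans (Nat.le_mul_of_pos_right _ h12pos) b2
    have c3 : Nat.card X₂ = Nat.card X₁ := le_antisymm c2 c1
    refine ⟨c3, le_antisymm ?_ h12pos⟩
    rw [c3] at b1
    exact Nat.le_of_mul_le_mul_left (by rw [mul_one]; exact b1) Nat.card_pos
  have hd : X₁ ⊓ X₂ = ⊥ := Subgroup.eq_bot_of_card_eq _ heq.2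
  have hWY : X₁ ⊔ Y = W := by
    refine Subgroup.eq_of_le_of_card_ge hW1 ?_
    rw [hcW1]
    rw [heq.2, mul_one, heq.1] at e1
    exact e1.le
  have hone : X₁.map (MulAut.conj (1 : G)).toMonoidHom = X₁ := by
    convert Subgroup.map_id X₁ using 2
    ext x; simp
  have hEone : E₁.map (MulAut.conj (1 : G)).toMonoidHom = E₁ := by
    convert Subgroup.map_id E₁ using 2
    ext x; simp
  have hne : X₁.map (MulAut.conj (1 : G)).toMonoidHom ≠ Y := by
    rw [hone]; exact fun e => hgn (mem_of_map_conj_eq e.symm)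
  have hgE := hs₂.1 hg
  obtain ⟨hXYd, hXYc⟩ := step E₁ E₂ hs₁ hs₂.1 hirr₁ hc₁ h21 1 (one_mem _) g hgE hne
  obtain ⟨-, hYXc⟩ := step E₁ E₂ hs₁ hs₂.1 hirr₁ hc₁ h21 g hgE 1 (one_mem _) hne.symm
  rw [hone] at hXYc
  rw [hEone] at hYXc
  rw [hone] at hXYd
  -- no fixed points
  have hfix : X₁ ⊓ centralizer (E₁ : Set G) = ⊥ := by
    refine (hirr₁ _ inf_le_left (CfsgLib.Coprime.le_normalizer_inf_inf le_normalizer_self_commutator
      (CfsgLib.Coprime.le_normalizer_centralizer le_normalizer))).resolve_right fun e => ?_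
    have hc : E₁ ≤ centralizer (X₁ : Set G) := le_centralizer_iff.1 ((e.symm.le).trans inf_le_right)
    have hq : ⁅⁅V, E₁⁆, E₁⁆ = ⊥ := commutator_eq_bot_iff_le_centralizer.2 (le_centralizer_iff.1 hc)
    have hp1 : IsPGroup p E₁ := fun x => ⟨1, Subtype.ext (by
      have h1 := pow_mem_centralizer_of_quadratic hV (hs₁.1.trans hEV) hq x.2
      simpa using mem_bot.1 (hf ▸ mem_inf.2 ⟨pow_mem (hs₁.1 x.2) p, h1⟩))⟩
    have := eq_bot_of_subnormal_pgroup hOp hs₁ hp1
    rw [this, card_bot] at hc₁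
    omega
  have hfixY : Y ⊓ centralizer ((E₁.map (MulAut.conj g).toMonoidHom : Subgroup G) : Set G) = ⊥ := by
    rw [eq_bot_iff]
    rintro _ ⟨⟨y, hy, rfl⟩, hyc⟩
    have : y ∈ X₁ ⊓ centralizer (E₁ : Set G) := ⟨hy, mem_centralizer_iff.2 fun x hx =>
      (MulAut.conj g).injective (by
        rw [map_mul, map_mul]
        exact mem_centralizer_iff.1 hyc _ (mem_map_of_mem _ hx))⟩
    rw [hfix, mem_bot] at this
    simp [this]
  -- there are exactly two conjugates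
  have orbit : ∀ e ∈ E, X₁.map (MulAut.conj e).toMonoidHom ≤ W →
      X₁.map (MulAut.conj e).toMonoidHom = X₁ ∨ X₁.map (MulAut.conj e).toMonoidHom = Y := by
    intro e he heW
    by_contra hno
    push Not at hno
    obtain ⟨-, h1⟩ := step E₁ E₂ hs₁ hs₂.1 hirr₁ hc₁ h21 e he 1 (one_mem _) (by rw [hone]; exact hno.1)
    obtain ⟨-, h2⟩ := step E₁ E₂ hs₁ hs₂.1 hirr₁ hc₁ h21 e he g hgE hno.2
    rw [hEone] at h1
    have hYV : Y ≤ V := (le_sup_right.trans hWY.le).trans (sup_le (hX _ hs₁.1) (hX _ hs₂.1))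
    have hzero : X₁.map (MulAut.conj e).toMonoidHom = ⊥ := by
      rw [eq_bot_iff]
      intro z hz
      obtain ⟨x, hx, y, hy, rfl⟩ := (CfsgLib.Coprime.mem_sup_iff_of_le_normalizer
        ((hX _ hs₁.1).trans (le_normalizer_of_abelian hV.1 hYV))).1 (hWY.symm ▸ heW hz)
      have c1 : x ∈ centralizer (E₁ : Set G) := by
        have := mul_mem (commutator_eq_bot_iff_le_centralizer.1 h1 hz)
          (inv_mem (commutator_eq_bot_iff_le_centralizer.1 hYXc hy))
        rwa [mul_inv_cancel_right] at this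
      have hx1 : x = 1 := mem_bot.1 (hfix ▸ mem_inf.2 ⟨hx, c1⟩)
      subst hx1
      rw [one_mul] at hz ⊢
      exact hfixY ▸ mem_inf.2 ⟨hy, commutator_eq_bot_iff_le_centralizer.1 h2 hz⟩
    have := card_map_conj e X₁
    rw [hzero, card_bot] at this
    exact h12 (by rw [Subgroup.eq_bot_of_card_eq _ this.symm]; exact bot_le)
  have hE₂W : E₂ ≤ normalizer (W : Set G) := by
    intro e he
    refine mem_of_map_conj_eq ?_
    refine Subgroup.eq_of_le_of_card_ge ?_ (card_map_conj e W).ge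
    rw [hWd, Subgroup.map_sup, sup_le_iff]
    refine ⟨?_, (map_conj_eq_of_mem (le_normalizer_self_commutator he)).le.trans le_sup_right⟩
    rintro _ ⟨x, hx, rfl⟩
    show e * x * e⁻¹ ∈ _
    have e' : e * x * e⁻¹ = ⁅x, e⁆⁻¹ * x := by group
    rw [e']
    exact mul_mem (inv_mem (mem_sup_right (commutator_mem_commutator (hX _ hs₁.1 hx) he)))
      (mem_sup_left hx)
  -- the kernel on `W` is trivial
  have hker : E₂ ⊓ normalizer (X₁ : Set G) = ⊥ := by
    have hK : E₂ ⊓ centralizer (W : Set G) = ⊥ := by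
      refine eq_bot_of_subnormal_pgroup hOp (IsSubnormalIn.trans ⟨inf_le_left, ?_⟩ hs₂) ?_
      · refine (normal_subgroupOf_of_le_normalizer ?_).isSubnormal
        exact CfsgLib.Coprime.le_normalizer_inf_inf le_normalizer
          (CfsgLib.Coprime.le_normalizer_centralizer hE₂W)
      intro x
      refine ⟨1, Subtype.ext ?_⟩
      have hq : ∀ v ∈ V, (x : G) * ⁅v, (x : G)⁆ = ⁅v, (x : G)⁆ * x := fun v hv =>
        (mem_centralizer_iff.1 x.2.2 _ (mem_sup_right (commutator_mem_commutator hv x.2.1))).symm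
      have h1 : (x : G) ^ p ∈ centralizer (V : Set G) := mem_centralizer_iff.2 fun v hv => by
        rw [← commutatorElement_eq_one_iff_mul_comm, comm_pow_of_commute (hq v hv)]
        exact hV.2 _ (comm_mem_of_mem_normalizer (hEV (hs₂.1 x.2.1)) hv)
      simpa using mem_bot.1 (hf ▸ mem_inf.2 ⟨pow_mem (hs₂.1 x.2.1) p, h1⟩)
    rw [eq_bot_iff, ← hK]
    refine le_inf inf_le_left fun e he => ?_
    have hfixX : ∀ x ∈ X₁, e * x = x * e := fun x hx => by
      rw [← commutatorElement_eq_one_iff_mul_comm, ← mem_bot (G := G), ← hd]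
      have h1 : e * x * e⁻¹ ∈ X₁ := conj_mem_of_mem_normalizer he.2 hx
      refine ⟨?_, ?_⟩
      · have e' : ⁅e, x⁆ = (e * x * e⁻¹) * x⁻¹ := by group
        rw [e']; exact X₁.mul_mem h1 (X₁.inv_mem hx)
      · rw [← commutatorElement_inv]
        exact X₂.inv_mem (commutator_mem_commutator (hX _ hs₁.1 hx) he.1)
    have hYe : Y.map (MulAut.conj e).toMonoidHom = Y := by
      have hmap : Y.map (MulAut.conj e).toMonoidHom = X₁.map (MulAut.conj (e * g)).toMonoidHom := by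
        rw [hYd, Subgroup.map_map]; congr 1; ext x; simp [mul_assoc]
      have hle : X₁.map (MulAut.conj (e * g)).toMonoidHom ≤ W := by
        rw [← hmap]
        exact (map_mono (le_sup_right.trans hWY.le)).trans
          (map_conj_eq_of_mem (hE₂W he.1)).le
      rcases orbit _ (mul_mem (hs₂.1 he.1) hgE) hle with h | h
      · exfalso
        apply hne
        rw [hone]
        refine Subgroup.map_injective (f := (MulAut.conj e).toMonoidHom) (MulAut.conj e).injective ?_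
        rw [hmap, h]
        exact map_conj_eq_of_mem he.2
      · rw [hmap, h]
    have hYX2 : Y ⊓ X₂ = ⊥ := by
      have hgX : X₂.map (MulAut.conj g).toMonoidHom = X₂ :=
        map_conj_eq_of_mem (le_normalizer_self_commutator hg)
      rw [hYd, ← hgX, ← Subgroup.map_inf _ _ _ (MulAut.conj g).injective, hd, Subgroup.map_bot]
    have hfixYe : ∀ y ∈ Y, e * y = y * e := fun y hy => by
      rw [← commutatorElement_eq_one_iff_mul_comm, ← mem_bot (G := G), ← hYX2]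
      have hyV : y ∈ V := (sup_le (hX _ hs₁.1) (hX _ hs₂.1)) (hWY.le (mem_sup_right hy))
      refine ⟨?_, ?_⟩
      · have h1 : e * y * e⁻¹ ∈ Y := hYe ▸ mem_map_of_mem _ hy
        have e' : ⁅e, y⁆ = (e * y * e⁻¹) * y⁻¹ := by group
        rw [e']; exact Y.mul_mem h1 (Y.inv_mem hy)
      · rw [← commutatorElement_inv]
        exact X₂.inv_mem (commutator_mem_commutator hyV he.1)
    rw [← hWY, Subgroup.sup_eq_closure, centralizer_closure, mem_centralizer_iff]
    rintro w (hw | hw)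
    · exact (hfixX w hw).symm
    · exact (hfixYe w hw).symm
  -- so `E₂` has order two
  have hsub : (E₂ : Set G) ⊆ {1, g} := by
    intro e he
    have hle : X₁.map (MulAut.conj e).toMonoidHom ≤ W :=
      (map_mono le_sup_left).trans (map_conj_eq_of_mem (hE₂W he)).le
    rcases orbit e (hs₂.1 he) hle with h | h
    · exact Or.inl (mem_bot.1 (hker ▸ mem_inf.2 ⟨he, mem_of_map_conj_eq h⟩))
    · refine Or.inr ?_
      have hh : g⁻¹ * e ∈ E₂ ⊓ normalizer (X₁ : Set G) := by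
        refine ⟨E₂.mul_mem (E₂.inv_mem hg) he, mem_of_map_conj_eq ?_⟩
        refine Subgroup.map_injective (f := (MulAut.conj g).toMonoidHom) (MulAut.conj g).injective ?_
        rw [Subgroup.map_map, show X₁.map (MulAut.conj g).toMonoidHom = Y from rfl, ← h]
        congr 1; ext x; simp [mul_assoc]
      rw [hker, mem_bot, inv_mul_eq_one] at hh
      exact hh.symm
  have h3 : Nat.card E₂ ≤ 2 := by
    rw [← SetLike.coe_sort_coe, Nat.card_coe_set_eq]
    refine (Set.ncard_le_ncard hsub (Set.toFinite _)).trans ?_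
    exact (Set.ncard_insert_le _ _).trans (by simp)
  omega

end CfsgLib.PLocal
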