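import Cfsg.Agent.Lib.PLocal.OffenderFactor

/-!
The structure theorem for failure of factorisation: `H` is the direct product of its factors.
-/

set_option autoImplicit false
set_option linter.style.haveILetI false
set_option linter.unusedSectionVars false

namespace CfsgLib.PLocal

open Subgroup Cfsg
open scoped commutatorElement

variable {G : Type*} [Group G] [Finite G] {p : ℕ} [Fact p.Prime] {V H A B : Subgroup G}

theorem FFMin.of_minimal (hh : FFGroup p V H) (hAH : A ≤ H) (hA : IsBestOffenderOn p V A)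
    (hc : Nat.card A = p) : FFMin p V H A :=
  ⟨hh, hAH, IsTransvectionGroup.of_isOff (hAH.trans hh.le_norm) hc (hh.isOff hAH hA)⟩

theorem FFMin.centralizer_core_le (h : FFMin p V H A) :
    V ⊓ centralizer (factorCore p H A : Set G) ≤ centralizer (factor p H A : Set G) := by
  have hP := h.isPlane_factor
  obtain ⟨-, -, hcard, -⟩ := h.factorCore_irr
  intro v hv
  obtain ⟨y, hy, c, hc, rfl⟩ := (CfsgLib.Coprime.mem_sup_iff_of_le_normalizer
    (hP.le.trans (le_normalizer_of_abelian h.grp.elem.1 inf_le_left))).1 (hP.sup_fix.symm.le hv.1)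
  have hy1 : y ∈ ⁅V, factor p H A⁆ ⊓ centralizer (factorCore p H A : Set G) := by
    refine ⟨hy, ?_⟩
    have h1 := (centralizer (factorCore p H A : Set G)).mul_mem hv.2
      ((centralizer (factorCore p H A : Set G)).inv_mem (centralizer_le (show factorCore p H A ≤ factor p H A from le_sup_left) hc.2))
    rwa [mul_inv_cancel_right] at h1
  rcases hP.irr _ inf_le_left (CfsgLib.Coprime.le_normalizer_inf_inf le_normalizer_self_commutator
    (CfsgLib.Coprime.le_normalizer_centralizer
      (sup_le le_normalizer h.le_normalizer_factorCore.1))) with e | e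
  · rw [e, mem_bot] at hy1
    rw [hy1, one_mul]
    exact hc.2
  · exfalso
    have hbot : factorCore p H A ≤ ⊥ :=
      hP.faithful ▸ le_inf le_sup_left (le_centralizer_iff.1 (e.symm.le.trans inf_le_right))
    rw [le_bot_iff.1 hbot, card_bot] at hcard
    omega

/-- Two factors are equal or they are independent. -/
theorem FFMin.dichotomy (hA : FFMin p V H A) (hB : FFMin p V H B) :
    factor p H B = factor p H A ∨
      (⁅V, factor p H A⁆ ⊓ ⁅V, factor p H B⁆ = ⊥ ∧ ⁅factor p H A, factor p H B⁆ = ⊥ ∧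
        ⁅V, factor p H B⁆ ≤ centralizer (factor p H A : Set G) ∧
        ⁅V, factor p H A⁆ ≤ centralizer (factor p H B : Set G)) := by
  have hPA := hA.isPlane_factor
  have hPB := hB.isPlane_factor
  by_cases heq : ⁅V, factor p H B⁆ = ⁅V, factor p H A⁆
  · left
    have hconj : ∀ y ∈ coreIn p H, B.map (MulAut.conj y).toMonoidHom ≤ factor p H A := by
      intro y hy
      rintro _ ⟨b, hb, rfl⟩
      show y * b * y⁻¹ ∈ _
      have hyH : y ∈ H := map_subtype_le _ hy
      have hm : y * b * y⁻¹ ∈ factor p H B := hB.map_conj_le_factor hy (mem_map_of_mem _ hb)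
      refine hA.mem_of_pow hPA hA.factor_le hA.plane_invariant
        (mul_mem (mul_mem hyH (hB.le hb)) (inv_mem hyH)) ?_ ?_
      · rw [← heq]
        exact le_trivQuot le_normalizer_self_commutator le_rfl hm
      · rw [conj_pow, hB.elem.2 b hb]; group
    refine Subgroup.eq_of_le_of_card_ge (sup_le (commutator_le.2 fun y hy b hb => ?_) ?_) ?_
    · rw [show ⁅y, b⁆ = (y * b * y⁻¹) * b⁻¹ by group]
      refine mul_mem (hconj y hy (mem_map_of_mem _ hb)) (inv_mem ?_)
      have := hconj 1 (one_mem _) (mem_map_of_mem _ hb)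
      simpa using this
    · intro b hb
      have := hconj 1 (one_mem _) (mem_map_of_mem _ hb)
      simpa using this
    · rcases hPA.card_eq_or with ⟨h1, h2⟩ | ⟨h1, h2⟩ <;>
        rcases hPB.card_eq_or with ⟨h3, h4⟩ | ⟨h3, h4⟩ <;> omega
  right
  obtain ⟨hVA, hirA, hcA, -⟩ := hA.factorCore_irr
  obtain ⟨hVB, hirB, hcB, -⟩ := hB.factorCore_irr
  set R := factorCore p H A
  set R' := factorCore p H B
  have hEQ : R ⊔ R' ≤ coreIn p H := sup_le hA.factorCore_le hB.factorCore_le
  have hOp : pCore p ↥(R ⊔ R') = ⊥ := by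
    have h1 := CfsgLib.Base.inf_eq_bot_of_isPGroup_of_coprime (CfsgLib.Base.isPGroup_pCore p ↥(R ⊔ R'))
      (show (Nat.card (⊤ : Subgroup ↥(R ⊔ R'))).Coprime p by
        rw [card_top]; exact hA.grp.data.coprime.coprime_dvd_left (card_dvd_of_le hEQ))
    rwa [inf_top_eq] at h1
  have hn : ∀ {C : Subgroup G}, FFMin p V H C → factorCore p H C ≤ R ⊔ R' →
      CfsgLib.Base.IsSubnormalIn (factorCore p H C) (R ⊔ R') := fun {C} hC hle =>
    ⟨hle, (normal_subgroupOf_of_le_normalizer (hEQ.trans hC.le_normalizer_factorCore.2)).isSubnormal⟩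
  have hcards : Nat.card ↥(⁅V, R⁆) = Nat.card ↥(⁅V, R'⁆) := by
    rw [hVA, hVB, hPA.card_eq, hPB.card_eq]
  have hne : ⁅V, R⁆ ≠ ⁅V, R'⁆ := fun e => heq (by rw [← hVB, ← hVA, e])
  obtain ⟨-, hd, h1, h2⟩ := two_subnormal hA.grp.elem (R ⊔ R') R R'
    ((hEQ.trans (map_subtype_le _)).trans hA.grp.le_norm)
    (eq_bot_iff.2 ((inf_le_inf_right _ (hEQ.trans (map_subtype_le _))).trans hA.grp.faithful.le))
    (hn hA le_sup_left) (hn hB le_sup_right) hOp hirA hirB
    (fun hle => hne (Subgroup.eq_of_le_of_card_ge hle hcards.ge))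
    (fun hle => hne (Subgroup.eq_of_le_of_card_ge hle hcards.le).symm) hcA hcB
  rw [hVA] at hd h1
  rw [hVB] at hd h2
  have hB' : ⁅V, factor p H B⁆ ≤ centralizer (factor p H A : Set G) :=
    (le_inf hPB.le (commutator_eq_bot_iff_le_centralizer.1 h2)).trans hA.centralizer_core_le
  have hA' : ⁅V, factor p H A⁆ ≤ centralizer (factor p H B : Set G) :=
    (le_inf hPA.le (commutator_eq_bot_iff_le_centralizer.1 h1)).trans hB.centralizer_core_le
  refine ⟨hd, eq_bot_iff.2 (hA.grp.faithful ▸ le_inf ?_ ?_), hB', hA'⟩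
  · exact (commutator_mono hA.factor_le hB.factor_le).trans (commutator_le.2 fun x hx y hy =>
      show x * y * x⁻¹ * y⁻¹ ∈ H from mul_mem (mul_mem (mul_mem hx hy) (inv_mem hx)) (inv_mem hy))
  · refine commutator_eq_bot_iff_le_centralizer.1 ?_
    exact commutator_commutator_eq_bot_of_rotate
      (by rw [commutator_comm (factor p H B) V]; exact commutator_eq_bot_iff_le_centralizer.2 hB')
      (commutator_eq_bot_iff_le_centralizer.2 hA')

/-- The subgroups covering all minimal offenders cover `H`. -/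
theorem FFGroup.le_of_forall_min (hh : FFGroup p V H)
    (hS3 : H = ⨆ A : {A : Subgroup G // A ≤ H ∧ IsBestOffenderOn p V A}, (A : Subgroup G))
    {M : Subgroup G} (hM : ∀ B, FFMin p V H B → B ≤ M) : H ≤ M := by
  refine hS3.le.trans (iSup_le fun C => ?_)
  obtain ⟨k, F, hF, -, hsup⟩ := hh.decomposition C.2.1 C.2.2
  rw [← hsup]
  refine iSup_le fun i => hM _ ?_
  obtain ⟨hc, hle, ho⟩ := hF i
  exact ⟨hh, hle.trans C.2.1, IsTransvectionGroup.of_isOff ((hle.trans C.2.1).trans hh.le_norm) hc ho⟩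

variable (hS3 : H = ⨆ A : {A : Subgroup G // A ≤ H ∧ IsBestOffenderOn p V A}, (A : Subgroup G))

include hS3

theorem FFMin.le_normalizer_factor_H (hA : FFMin p V H A) :
    H ≤ normalizer (factor p H A : Set G) := by
  refine hA.grp.le_of_forall_min hS3 fun B hB => ?_
  rcases hA.dichotomy hB with e | ⟨-, hc, -⟩
  · rw [← e]; exact (le_sup_right : B ≤ factor p H B).trans le_normalizer
  · exact ((le_sup_right : B ≤ factor p H B).trans
      (le_centralizer_iff.1 (commutator_eq_bot_iff_le_centralizer.1 hc))).trans (centralizer_le_normalizer _)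

theorem FFMin.splitting (hA : FFMin p V H A) :
    ⁅factor p H A, H ⊓ centralizer ((⁅V, factor p H A⁆ : Subgroup G) : Set G)⁆ = ⊥ ∧
    factor p H A ⊓ (H ⊓ centralizer ((⁅V, factor p H A⁆ : Subgroup G) : Set G)) = ⊥ ∧
    factor p H A ⊔ (H ⊓ centralizer ((⁅V, factor p H A⁆ : Subgroup G) : Set G)) = H ∧
    ⁅V, H ⊓ centralizer ((⁅V, factor p H A⁆ : Subgroup G) : Set G)⁆
      ≤ V ⊓ centralizer (factor p H A : Set G) := by
  have hP := hA.isPlane_factor
  have hHE := hA.le_normalizer_factor_H hS3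
  set E := factor p H A
  set P := ⁅V, E⁆
  set K := H ⊓ centralizer (P : Set G)
  have hEH : E ≤ H := hA.factor_le
  have hint : E ⊓ K = ⊥ := eq_bot_iff.2 (hP.faithful ▸ inf_le_inf_left _ inf_le_right)
  have hHP : H ≤ normalizer (P : Set G) := fun g hg => mem_of_map_conj_eq (by
    rw [map_conj_commutator (hA.grp.le_norm hg), map_conj_eq_of_mem (hHE hg)])
  have hHK : H ≤ normalizer (K : Set G) :=
    CfsgLib.Coprime.le_normalizer_inf_inf le_normalizer (CfsgLib.Coprime.le_normalizer_centralizer hHP)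
  have hcomm : ⁅E, K⁆ = ⊥ := by
    refine eq_bot_iff.2 (hint ▸ le_inf ?_ ?_)
    · exact CfsgLib.Coprime.commutator_le_of_le_normalizer (inf_le_left.trans hHE)
    · rw [commutator_comm]
      exact CfsgLib.Coprime.commutator_le_of_le_normalizer (hEH.trans hHK)
  refine ⟨hcomm, hint, le_antisymm (sup_le hEH inf_le_left) (hA.grp.le_of_forall_min hS3 fun B hB => ?_), ?_⟩
  · rcases hA.dichotomy hB with e | ⟨-, -, -, hc⟩
    · exact ((le_sup_right : B ≤ factor p H B).trans e.le).trans le_sup_left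
    · exact (le_inf hB.le ((le_sup_right : B ≤ factor p H B).trans (le_centralizer_iff.1 hc))).trans le_sup_right
  · refine commutator_le.2 fun v hv k hk => ?_
    obtain ⟨y, hy, c, hc, rfl⟩ := (CfsgLib.Coprime.mem_sup_iff_of_le_normalizer
      (hP.le.trans (le_normalizer_of_abelian hA.grp.elem.1 inf_le_left))).1 (hP.sup_fix.symm.le hv)
    have hkV := hA.grp.le_norm hk.1
    rw [comm_mul_left_of_abelian hA.grp.elem.1 hkV (hP.le hy) hc.1,
      (commutatorElement_eq_one_iff_mul_comm).2 (mem_centralizer_iff.1 hk.2 y hy), one_mul]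
    refine ⟨comm_mem_of_mem_normalizer hkV hc.1, ?_⟩
    have hkE : k ∈ normalizer (centralizer (E : Set G) : Set G) :=
      CfsgLib.Coprime.le_normalizer_centralizer hHE hk.1
    rw [show ⁅c, k⁆ = c * (k * c⁻¹ * k⁻¹) by group]
    exact mul_mem hc.2 (conj_mem_of_mem_normalizer hkE (inv_mem hc.2))

omit hS3

/-- The factors, indexed by a type. -/
theorem structure_theorem (hh : FFGroup p V H)
    (hS3 : H = ⨆ A : {A : Subgroup G // A ≤ H ∧ IsBestOffenderOn p V A}, (A : Subgroup G))
    (S : Set (Subgroup G)) (hS : ∀ E, E ∈ S ↔ ∃ A, FFMin p V H A ∧ E = factor p H A) :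
    iSupIndep (fun E : S => (E : Subgroup G)) ∧ (⨆ E : S, (E : Subgroup G)) = H ∧
    iSupIndep (fun o : Option S => o.elim (V ⊓ centralizer (H : Set G)) fun E => ⁅V, (E : Subgroup G)⁆) ∧
    (V ⊓ centralizer (H : Set G)) ⊔ (⨆ E : S, ⁅V, (E : Subgroup G)⁆) = V := by
  classical
  have hmem : ∀ E : S, ∃ A, FFMin p V H A ∧ (E : Subgroup G) = factor p H A := fun E => (hS E).1 E.2
  have hsupH : (⨆ E : S, (E : Subgroup G)) = H := by
    refine le_antisymm (iSup_le fun E => ?_) (hh.le_of_forall_min hS3 fun B hB => ?_)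
    · obtain ⟨A, hA, e⟩ := hmem E; rw [e]; exact hA.factor_le
    · exact le_iSup_of_le ⟨factor p H B, (hS _).2 ⟨B, hB, rfl⟩⟩ le_sup_right
  have hdist : ∀ E F : S, E ≠ F → (E : Subgroup G) ≤ centralizer ((⁅V, (F : Subgroup G)⁆ : Subgroup G) : Set G) := by
    intro E F hEF
    obtain ⟨A, hA, eA⟩ := hmem E
    obtain ⟨B, hB, eB⟩ := hmem F
    rcases hA.dichotomy hB with e | ⟨-, -, h, -⟩
    · exact absurd (Subtype.ext (by rw [eA, eB, e])) hEF
    · rw [eA, eB]; exact le_centralizer_iff.1 h
  have hfaith : ∀ E : S, (E : Subgroup G) ⊓ centralizer ((⁅V, (E : Subgroup G)⁆ : Subgroup G) : Set G) = ⊥ := by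
    intro E; obtain ⟨A, hA, e⟩ := hmem E; rw [e]; exact hA.isPlane_factor.faithful
  have hfix : ∀ E : S, ⁅V, (E : Subgroup G)⁆ ⊓ centralizer ((E : Subgroup G) : Set G) = ⊥ := by
    intro E; obtain ⟨A, hA, e⟩ := hmem E; rw [e]
    exact eq_bot_iff.2 (hA.isPlane_factor.inf_fix ▸
      le_inf inf_le_left (le_inf (inf_le_left.trans hA.isPlane_factor.le) inf_le_right))
  have hle : ∀ E : S, ⁅V, (E : Subgroup G)⁆ ≤ V := by
    intro E; obtain ⟨A, hA, e⟩ := hmem E; rw [e]; exact hA.isPlane_factor.le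
  have hdec : ∀ E : S, ∀ v ∈ V, ∃ y ∈ ⁅V, (E : Subgroup G)⁆, ∃ c ∈ V,
      c ∈ centralizer ((E : Subgroup G) : Set G) ∧ v = y * c := by
    intro E v hv
    obtain ⟨A, hA, e⟩ := hmem E
    rw [e]
    obtain ⟨y, hy, c, hc, rfl⟩ := (CfsgLib.Coprime.mem_sup_iff_of_le_normalizer
      (hA.isPlane_factor.le.trans (le_normalizer_of_abelian hh.elem.1 inf_le_left))).1
      (hA.isPlane_factor.sup_fix.symm.le hv)
    exact ⟨y, hy, c, hc.1, hc.2, rfl⟩
  haveI : Fintype S := Fintype.ofFinite _
  refine ⟨?_, hsupH, ?_, ?_⟩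
  · rw [iSupIndep_def]
    intro E
    rw [disjoint_iff, eq_bot_iff, ← hfaith E]
    exact inf_le_inf_left _ (iSup₂_le fun F hF => hdist F E hF)
  · rw [iSupIndep_def]
    intro o
    rw [disjoint_iff, eq_bot_iff]
    cases o with
    | some E =>
      show ⁅V, (E : Subgroup G)⁆ ⊓ _ ≤ ⊥
      rw [← hfix E]
      refine inf_le_inf_left _ (iSup₂_le fun o ho => ?_)
      cases o with
      | none => exact inf_le_right.trans (centralizer_le (hsupH ▸ le_iSup (fun F : S => (F : Subgroup G)) E))
      | some F => exact le_centralizer_iff.1 (hdist E F fun e => ho (by rw [e]))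
    | none =>
      show (V ⊓ centralizer (H : Set G)) ⊓ _ ≤ ⊥
      have key : ∀ T : Finset S, ∀ x ∈ T.sup (fun E : S => ⁅V, (E : Subgroup G)⁆),
          (∀ E ∈ T, x ∈ centralizer ((E : Subgroup G) : Set G)) → x = 1 := by
        intro T
        induction T using Finset.induction with
        | empty => intro x hx _; simpa using hx
        | @insert E T hET ih =>
          intro x hx hxc
          rw [Finset.sup_insert] at hx
          have hTc : T.sup (fun E : S => ⁅V, (E : Subgroup G)⁆) ≤ centralizer ((E : Subgroup G) : Set G) :=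
            Finset.sup_le fun F hF => le_centralizer_iff.1 (hdist E F fun e => hET (e ▸ hF))
          obtain ⟨y, hy, z, hz, rfl⟩ := (CfsgLib.Coprime.mem_sup_iff_of_le_normalizer
            ((hle E).trans (le_normalizer_of_abelian hh.elem.1 (Finset.sup_le fun F _ => hle F)))).1 hx
          have hy' : y ∈ centralizer ((E : Subgroup G) : Set G) := by
            have := (centralizer ((E : Subgroup G) : Set G)).mul_mem (hxc E (Finset.mem_insert_self E T))
              ((centralizer ((E : Subgroup G) : Set G)).inv_mem (hTc hz))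
            rwa [mul_inv_cancel_right] at this
          have hy1 : y = 1 := mem_bot.1 (hfix E ▸ mem_inf.2 ⟨hy, hy'⟩)
          subst hy1
          rw [one_mul] at hxc ⊢
          exact ih z hz fun F hF => hxc F (Finset.mem_insert_of_mem hF)
      refine fun x hx => mem_bot.2 (key Finset.univ x ?_ fun E _ =>
        centralizer_le (hsupH ▸ le_iSup (fun F : S => (F : Subgroup G)) E) hx.1.2)
      have hle' : ∀ o : Option S, o ≠ none →
          o.elim (V ⊓ centralizer (H : Set G)) (fun E => ⁅V, (E : Subgroup G)⁆) ≤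
            (Finset.univ : Finset S).sup fun E => ⁅V, (E : Subgroup G)⁆ := by
        intro o ho
        cases o with
        | none => exact absurd rfl ho
        | some F => exact Finset.le_sup (f := fun E : S => ⁅V, (E : Subgroup G)⁆) (Finset.mem_univ F)
      have h2 : (⨆ o : Option S, ⨆ (_ : o ≠ none),
          o.elim (V ⊓ centralizer (H : Set G)) (fun E => ⁅V, (E : Subgroup G)⁆)) ≤ _ := iSup₂_le hle'
      exact h2 hx.2
  · refine le_antisymm (sup_le inf_le_left (iSup_le hle)) fun v hv => ?_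
    have key : ∀ T : Finset S, ∀ v ∈ V, ∃ y ∈ T.sup (fun E : S => ⁅V, (E : Subgroup G)⁆), ∃ c ∈ V,
        (∀ E ∈ T, c ∈ centralizer ((E : Subgroup G) : Set G)) ∧ v = y * c := by
      intro T
      induction T using Finset.induction with
      | empty => exact fun v hv => ⟨1, one_mem _, v, hv, by simp, (one_mul v).symm⟩
      | @insert E T hET ih =>
        intro v hv
        obtain ⟨y, hy, c, hc, hcT, rfl⟩ := ih v hv
        obtain ⟨q, hq, d, hd, hdE, rfl⟩ := hdec E c hc
        refine ⟨y * q, ?_, d, hd, ?_, by rw [mul_assoc]⟩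
        · rw [Finset.sup_insert]
          exact mul_mem (mem_sup_right hy) (mem_sup_left hq)
        · intro F hF
          rcases Finset.mem_insert.1 hF with rfl | hF'
          · exact hdE
          · have hqF : q ∈ centralizer ((F : Subgroup G) : Set G) :=
              le_centralizer_iff.1 (hdist F E fun e => hET (e ▸ hF')) hq
            have := (centralizer ((F : Subgroup G) : Set G)).mul_mem
              ((centralizer ((F : Subgroup G) : Set G)).inv_mem hqF) (hcT F hF')
            rwa [inv_mul_cancel_left] at this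
    obtain ⟨y, hy, c, hc, hcT, rfl⟩ := key Finset.univ v hv
    have h2 : (Finset.univ : Finset S).sup (fun E => ⁅V, (E : Subgroup G)⁆) ≤
        ⨆ E : S, ⁅V, (E : Subgroup G)⁆ :=
      Finset.sup_le fun F _ => le_iSup (fun E : S => ⁅V, (E : Subgroup G)⁆) F
    refine mul_mem (mem_sup_right (h2 hy))
      (mem_sup_left ⟨hc, mem_centralizer_iff.2 fun g hg => ?_⟩)
    have hH : H ≤ centralizer ({c} : Set G) := hsupH ▸ iSup_le fun E e he =>
      mem_centralizer_singleton_iff.2 (mem_centralizer_iff.1 (hcT E (Finset.mem_univ E)) e he)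
    exact mem_centralizer_singleton_iff.1 (hH hg)

end CfsgLib.PLocal
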