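import Mathlib
import Cfsg.Agent.Lib.KInf.QdFailure
import Cfsg.Agent.Lib.PLocal.QdSection
import Cfsg.Agent.Lib.Base.Transport

/-!
A `Qd(p)` section appears in the normalizer of a p-centric subgroup.
-/

set_option autoImplicit false
set_option linter.style.haveILetI false

namespace CfsgLib.PLocal

open Subgroup Cfsg Matrix

variable {p : ℕ} [Fact p.Prime] {G : Type*} [Group G]

theorem InvHom.of_injective {H L L' : Type*} [Group H] [Group L] [Group L'] (f : L →* L')
    (hf : Function.Injective f) (h : InvHom H L) : InvHom H L' := by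
  obtain ⟨K, F, hF⟩ := h
  exact ⟨K.map f, F.comp (K.equivMapOfInjective f hf).symm.toMonoidHom,
    hF.comp (MulEquiv.surjective _)⟩

theorem InvHom.mono {H : Type*} [Group H] {A B : Subgroup G} (hAB : A ≤ B) (h : InvHom H A) :
    InvHom H B :=
  h.of_injective (Subgroup.inclusion hAB) (Subgroup.inclusion_injective hAB)

theorem mem_normalizer_of_conj_mem [Finite G] {H : Subgroup G} {k : G}
    (h : ∀ x ∈ H, k * x * k⁻¹ ∈ H) : k ∈ normalizer (H : Set G) :=
  mem_normalizer_iff_map_conj_eq.2 (eq_of_le_of_card_ge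
    (by rintro _ ⟨x, hx, rfl⟩; exact h x hx)
    (card_map_of_injective (MulAut.conj k).injective).ge)

variable (p) in
/-- A normal subgroup of `Qd(p)` of order prime to `p` is trivial. -/
theorem qd_normal_coprime_eq_bot (M : Subgroup ↥(qd p)) [hM : M.Normal]
    (hc : (Nat.card M).Coprime p) : M = ⊥ := by
  have h : ∀ M' : Subgroup ↥(qdOver (ZMod p)), M'.Normal → (Nat.card M').Coprime p → M' = ⊥ := by
    intro M' hM' hc'
    set V := (Affine.block (F := ZMod p)).ker
    have hVp : IsPGroup p V := Affine.isPGroup_ker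
    have hd : V ⊓ M' = ⊥ := CfsgLib.Base.inf_eq_bot_of_isPGroup_of_coprime hVp hc'
    have hle : M' ≤ V := by
      intro m hm
      refine CfsgLib.KInf.qd_selfCentralizing (mem_centralizer_iff.2 fun a ha => ?_)
      have h1 : a * m * a⁻¹ * m⁻¹ ∈ V ⊓ M' := by
        refine mem_inf.2 ⟨?_, M'.mul_mem (hM'.conj_mem m hm a) (M'.inv_mem hm)⟩
        rw [mul_assoc, mul_assoc, ← mul_assoc m]
        exact V.mul_mem ha ((inferInstance : V.Normal).conj_mem _ (V.inv_mem ha) m)
      rw [hd, mem_bot, mul_inv_eq_one, mul_inv_eq_iff_eq_mul] at h1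
      exact h1
    rw [← hd, inf_eq_right.2 hle]
  exact h M hM hc

/-- Dividing out a normal subgroup of order prime to `p` keeps a `Qd(p)` section. -/
theorem invHom_qd_quotient [Finite G] (O : Subgroup G) [O.Normal] (hO : (Nat.card O).Coprime p)
    (h : InvHom ↥(qd p) G) : InvHom ↥(qd p) (G ⧸ O) := by
  obtain ⟨K, F, hF⟩ := h
  let π : K →* G ⧸ O := (QuotientGroup.mk' O).comp K.subtype
  have hker : π.ker ≤ F.ker := by
    haveI : (π.ker.map F).Normal := Subgroup.Normal.map inferInstance F hF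
    have h1 : π.ker.map F = ⊥ := by
      refine qd_normal_coprime_eq_bot p _ (Nat.Coprime.coprime_dvd_left ?_ hO)
      refine (Subgroup.card_map_dvd π.ker F).trans ?_
      rw [← Subgroup.card_map_of_injective (K := π.ker) K.subtype_injective]
      refine Subgroup.card_dvd_of_le ?_
      rintro _ ⟨x, hx, rfl⟩
      exact (QuotientGroup.eq_one_iff (x : G)).1 hx
    rwa [Subgroup.map_eq_bot_iff] at h1
  refine ⟨π.range, (QuotientGroup.lift π.ker F hker).comp
    (QuotientGroup.quotientKerEquivRange π).symm.toMonoidHom, ?_⟩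
  rw [MonoidHom.coe_comp]
  exact (QuotientGroup.lift_surjective_of_surjective _ _ hF _).comp (MulEquiv.surjective _)

/-- A `Qd(p)` section in normal form: a p-subgroup with a natural plane as a factor. -/
theorem exists_plane_of_invHom [Finite G] (h : InvHom ↥(qd p) G) :
    ∃ (U : Subgroup G) (f : U → Fin 2 → ZMod p), IsPGroup p U ∧ Function.Surjective f ∧
      (∀ x y, f (x * y) = f x + f y) ∧
      ∀ g : Matrix.SpecialLinearGroup (Fin 2) (ZMod p), ∃ (k : G) (hk : k ∈ normalizer (U : Set G)),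
        ∀ x : U, f ⟨k * x * k⁻¹, (mem_normalizer_iff.1 hk x).1 x.2⟩ = g.1.mulVec (f x) := by
  obtain ⟨K, F, hF⟩ := h
  let F' : K →* ↥(qdOver (ZMod p)) := F
  have hF' : Function.Surjective F' := hF
  set V := (Affine.block (F := ZMod p)).ker with hV
  set K₁ := V.comap F' with hK₁
  have hK₁n : K₁.Normal := (inferInstance : V.Normal).comap F'
  obtain ⟨T⟩ := (inferInstance : Nonempty (Sylow p K₁))
  -- the restriction of `F` to `K₁`
  let F₁ : K₁ →* V := (F'.comp K₁.subtype).codRestrict V fun x => x.2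
  have hF₁ : Function.Surjective F₁ := by
    rintro ⟨v, hv⟩
    obtain ⟨x, rfl⟩ := hF' v
    exact ⟨⟨x, hv⟩, rfl⟩
  have hVtop : (T : Subgroup K₁).map F₁ = ⊤ := by
    have hVp : IsPGroup p V := Affine.isPGroup_ker
    have htop : IsPGroup p (⊤ : Subgroup V) := hVp.to_subgroup ⊤
    have := (T.mapSurjective hF₁).3 htop le_top
    rw [Sylow.coe_mapSurjective] at this
    exact this.symm
  let j : K₁ →* G := K.subtype.comp K₁.subtype
  have hj : Function.Injective j := K.subtype_injective.comp K₁.subtype_injective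
  let U : Subgroup G := (T : Subgroup K₁).map j
  let e : (T : Subgroup K₁) ≃* U := (T : Subgroup K₁).equivMapOfInjective j hj
  have hex : ∀ x : U, ∃ v : Fin 2 → ZMod p, Affine.elt v 1 = F' ((e.symm x : K₁) : K) := fun x =>
    Affine.mem_ker_iff.1 ((e.symm x : K₁)).2
  choose f hf using hex
  refine ⟨U, f, T.2.map j, fun v => ?_, fun x y => ?_, fun g => ?_⟩
  · obtain ⟨t, ht, htv⟩ := (hVtop ▸ mem_top (⟨Affine.elt v 1, Affine.mem_ker_iff.2 ⟨v, rfl⟩⟩ : V) :
      _ ∈ (T : Subgroup K₁).map F₁)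
    refine ⟨e ⟨t, ht⟩, (Affine.elt_injective (g := 1) (h := 1) ((hf _).trans ?_)).1⟩
    rw [e.symm_apply_apply]
    exact congrArg Subtype.val htv
  · refine (Affine.elt_injective (g := 1) (h := 1) ((hf _).trans ?_)).1
    rw [← Affine.elt_add, hf, hf]
    simp
  · obtain ⟨x, hx⟩ := hF' (Affine.elt 0 g)
    have hfr := Sylow.normalizer_sup_eq_top (N := K₁) T
    obtain ⟨k, hk, z, hz, hkz⟩ := Subgroup.mem_sup_of_normal_right.1 (hfr ▸ mem_top x :
      x ∈ normalizer (((T : Subgroup K₁).map K₁.subtype : Subgroup K) : Set K) ⊔ K₁)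
    have hkF : ∃ w, F' k = Affine.elt w g := by
      obtain ⟨v, hv⟩ := Affine.mem_ker_iff.1 hz
      refine ⟨0 + g.1.mulVec (-v), ?_⟩
      rw [← hkz, map_mul, ← hv] at hx
      have h1 : Affine.elt v (1 : Matrix.SpecialLinearGroup (Fin 2) (ZMod p)) * Affine.elt (-v) 1 = 1 := by
        rw [Affine.elt_add, add_neg_cancel, Affine.elt_one]
      calc F' k = F' k * (Affine.elt v 1 * Affine.elt (-v) 1) := by rw [h1, mul_one]
        _ = Affine.elt 0 g * Affine.elt (-v) 1 := by rw [← mul_assoc, hx]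
        _ = _ := by rw [Affine.elt_mul, mul_one]
    have hU : ((T : Subgroup K₁).map K₁.subtype).map K.subtype = U := by rw [Subgroup.map_map]
    have hkU : (k : G) ∈ normalizer (U : Set G) := hU ▸
      Subgroup.le_normalizer_map K.subtype (mem_map_of_mem K.subtype hk)
    refine ⟨k, hkU, fun y => ?_⟩
    obtain ⟨w, hw⟩ := hkF
    refine (Affine.elt_injective (g := 1) (h := 1) ((hf _).trans ?_)).1
    set y' : U := ⟨(k : G) * y * (k : G)⁻¹, (mem_normalizer_iff.1 hkU y).1 y.2⟩ with hy'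
    have he : ∀ u : U, j (e.symm u : K₁) = u := fun u =>
      congrArg Subtype.val (e.apply_symm_apply u)
    have h2 : ((e.symm y' : K₁) : K) = k * ((e.symm y : K₁) : K) * k⁻¹ := by
      apply K.subtype_injective
      rw [map_mul, map_mul, map_inv]
      exact (he y').trans (by
        show (k : G) * (y : G) * (k : G)⁻¹ = (k : G) * j (e.symm y : K₁) * (k : G)⁻¹
        rw [he])
    rw [h2, map_mul, map_mul, map_inv, hw, ← hf y, mul_inv_eq_iff_eq_mul, Affine.elt_mul, Affine.elt_mul]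
    rw [Matrix.SpecialLinearGroup.coe_one, Matrix.one_mulVec, one_mul, mul_one, add_comm]

/-- A `Qd(p)` section appears in the normalizer of a p-centric subgroup. -/
theorem exists_centric_invHom_qd [Finite G] (hp : p ≠ 2) (h : InvHom ↥(qd p) G) :
    ∃ D : Subgroup G, IsPGroup p D ∧
      (∀ X : Subgroup G, IsPGroup p X → X ≤ centralizer (D : Set G) → X ≤ D) ∧
      InvHom ↥(qd p) ↥(normalizer (D : Set G)) := by
  classical
  obtain ⟨U, f, hUp, hfs, hfadd, hfg⟩ := exists_plane_of_invHom h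
  set C := U ⊔ centralizer (U : Set G) with hC
  set N := normalizer (U : Set G) with hN
  have hCN : C ≤ N := sup_le le_normalizer (centralizer_le_normalizer _)
  have hconjC : ∀ k ∈ N, ∀ c ∈ C, k * c * k⁻¹ ∈ C := by
    intro k hk c hc
    have hz : (centralizer (U : Set G)).map (MulAut.conj k).toMonoidHom ≤ centralizer (U : Set G) := by
      rintro _ ⟨z, hz, rfl⟩
      refine mem_centralizer_iff.2 fun u hu => ?_
      have h1 := mem_centralizer_iff.1 hz (k⁻¹ * u * k) ((mem_normalizer_iff''.1 hk u).1 hu)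
      show u * (k * z * k⁻¹) = k * z * k⁻¹ * u
      calc u * (k * z * k⁻¹) = k * (k⁻¹ * u * k * z) * k⁻¹ := by group
        _ = k * (z * (k⁻¹ * u * k)) * k⁻¹ := by rw [h1]
        _ = _ := by group
    have hu : U.map (MulAut.conj k).toMonoidHom ≤ U := by
      rintro _ ⟨u, hu, rfl⟩
      exact (mem_normalizer_iff.1 hk u).1 hu
    have := mem_map_of_mem (MulAut.conj k).toMonoidHom hc
    rw [hC, Subgroup.map_sup] at this
    exact (sup_le (hu.trans le_sup_left) (hz.trans le_sup_right)) this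
  -- `C` acts trivially on the plane
  let Fix : Subgroup G :=
    { carrier := {c | ∃ hc : c ∈ N, ∀ x : U, f ⟨c * x * c⁻¹, (mem_normalizer_iff.1 hc x).1 x.2⟩ = f x}
      one_mem' := ⟨one_mem _, fun x => by congr 1; ext; simp⟩
      mul_mem' := by
        rintro a b ⟨ha, ha'⟩ ⟨hb, hb'⟩
        refine ⟨mul_mem ha hb, fun x => ?_⟩
        rw [← hb' x, ← ha' ⟨b * x * b⁻¹, (mem_normalizer_iff.1 hb x).1 x.2⟩]
        congr 1
        ext
        simp [mul_assoc]
      inv_mem' := by
        rintro a ⟨ha, ha'⟩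
        refine ⟨inv_mem ha, fun x => ?_⟩
        rw [← ha' ⟨a⁻¹ * x * a⁻¹⁻¹, (mem_normalizer_iff.1 (inv_mem ha) x).1 x.2⟩]
        congr 1
        ext
        simp [mul_assoc] }
  have hCfix : C ≤ Fix := by
    refine sup_le (fun u hu => ⟨le_normalizer hu, fun x => ?_⟩) fun z hz =>
      ⟨centralizer_le_normalizer _ hz, fun x => ?_⟩
    · have : (⟨u * x * u⁻¹, (mem_normalizer_iff.1 (le_normalizer hu) x).1 x.2⟩ : U) =
          ⟨u, hu⟩ * x * ⟨u, hu⟩⁻¹ := rfl
      rw [this]
      have h1 := hfadd (⟨u, hu⟩ * x * ⟨u, hu⟩⁻¹) ⟨u, hu⟩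
      rw [inv_mul_cancel_right, hfadd, add_comm] at h1
      exact (add_right_cancel h1).symm
    · congr 1
      ext
      show z * x * z⁻¹ = (x : G)
      rw [← mem_centralizer_iff.1 hz x x.2, mul_inv_cancel_right]
  -- the Sylow subgroup of `C`
  obtain ⟨S, hS⟩ := (hUp.comap_of_injective C.subtype C.subtype_injective).exists_le_sylow
  set D : Subgroup G := (S : Subgroup C).map C.subtype with hD
  have hUD : U ≤ D := fun u hu => ⟨⟨u, mem_sup_left hu⟩, hS (show u ∈ U from hu), rfl⟩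
  have hDC : D ≤ C := map_subtype_le _
  have hDp : IsPGroup p D := S.2.map _
  refine ⟨D, hDp, fun X hX hXc => ?_, ?_⟩
  · have hXC : X ≤ C := fun x hx => mem_sup_right
      (mem_centralizer_iff.2 fun u hu => mem_centralizer_iff.1 (hXc hx) u (hUD hu))
    have hsup : IsPGroup p ↥(D ⊔ X) :=
      hDp.to_sup_of_normal_left' hX (hXc.trans (centralizer_le_normalizer _))
    have hle : D ⊔ X ≤ C := sup_le hDC hXC
    have hSle : (S : Subgroup C) ≤ (D ⊔ X).subgroupOf C := fun s hs =>
      mem_sup_left (mem_map_of_mem C.subtype hs)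
    have := S.3 (hsup.comap_of_injective C.subtype C.subtype_injective) hSle
    intro x hx
    exact ⟨⟨x, hXC hx⟩, this.le (mem_sup_right hx), rfl⟩
  -- the normalizer of `D` induces all of `SL₂(p)` on the plane
  have hfg' : ∀ g : Matrix.SpecialLinearGroup (Fin 2) (ZMod p), ∃ (k : G) (hk : k ∈ N),
      k ∈ normalizer (D : Set G) ∧
      ∀ x : U, f ⟨k * x * k⁻¹, (mem_normalizer_iff.1 hk x).1 x.2⟩ = g.1.mulVec (f x) := by
    intro g
    obtain ⟨k, hk, hkg⟩ := hfg g
    let α : C →* C := ((MulAut.conj k).toMonoidHom.comp C.subtype).codRestrict C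
      fun c => hconjC k hk c c.2
    have hα : Function.Injective α := fun a b e =>
      C.subtype_injective ((MulAut.conj k).injective (congrArg Subtype.val e))
    have hαs : Function.Surjective α := Finite.surjective_of_injective hα
    obtain ⟨c, hc⟩ := MulAction.exists_smul_eq C (S.mapSurjective hαs) S
    obtain ⟨hcN, hcf⟩ := hCfix c.2
    have hck : (c : G) * k ∈ N := mul_mem hcN hk
    refine ⟨c * k, hck, ?_, fun x => ?_⟩
    · refine mem_normalizer_of_conj_mem fun y hy => ?_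
      obtain ⟨s, hs, rfl⟩ := hy
      refine ⟨c * α s * c⁻¹, ?_, ?_⟩
      · have h1 := congrArg (fun T : Sylow p C => (T : Subgroup C)) hc
        simp only [Sylow.coe_subgroup_smul, Sylow.coe_mapSurjective] at h1
        rw [← h1]
        exact Subgroup.smul_mem_pointwise_smul (α s) (MulAut.conj c) _ (mem_map_of_mem α hs)
      · show (c : G) * (k * s * k⁻¹) * (c : G)⁻¹ = (c : G) * k * s * ((c : G) * k)⁻¹
        group
    · rw [← hkg x, ← hcf ⟨k * x * k⁻¹, (mem_normalizer_iff.1 hk x).1 x.2⟩]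
      congr 1
      ext
      show (c : G) * k * x * ((c : G) * k)⁻¹ = (c : G) * (k * x * k⁻¹) * (c : G)⁻¹
      group
  -- the kernel of the plane
  have hf1 : f 1 = 0 := by
    have h := hfadd 1 1
    rw [mul_one, left_eq_add] at h
    exact h
  have hfinv : ∀ x, f x⁻¹ = -f x := fun x => by
    have h := hfadd x⁻¹ x
    rw [inv_mul_cancel, hf1] at h
    exact eq_neg_of_add_eq_zero_left h.symm
  let R : Subgroup G :=
    { carrier := {x | ∃ hx : x ∈ U, f ⟨x, hx⟩ = 0}
      one_mem' := ⟨one_mem _, hf1⟩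
      mul_mem' := by
        rintro a b ⟨ha, ha'⟩ ⟨hb, hb'⟩
        exact ⟨mul_mem ha hb, (hfadd ⟨a, ha⟩ ⟨b, hb⟩).trans (by rw [ha', hb', add_zero])⟩
      inv_mem' := by
        rintro a ⟨ha, ha'⟩
        exact ⟨inv_mem ha, (hfinv ⟨a, ha⟩).trans (by rw [ha', neg_zero])⟩ }
  set M := normalizer (D : Set G) ⊓ normalizer (R : Set G) with hM
  haveI hRn : (R.subgroupOf M).Normal :=
    ⟨fun x hx m => (mem_normalizer_iff.1 (mem_inf.1 m.2).2 x).1 hx⟩
  have hUR : U ≤ normalizer (R : Set G) := by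
    intro u hu
    refine mem_normalizer_of_conj_mem fun x hx => ?_
    obtain ⟨hxU, hx'⟩ := hx
    refine ⟨U.mul_mem (U.mul_mem hu hxU) (U.inv_mem hu), ?_⟩
    exact (hfadd (⟨u, hu⟩ * ⟨x, hxU⟩) ⟨u, hu⟩⁻¹).trans (by
      rw [hfadd, hx', hfinv, add_zero, add_neg_cancel])
  have hUM : U ≤ M := le_inf (hUD.trans le_normalizer) hUR
  have hsi : ∀ v, f (Function.surjInv hfs v) = v := Function.surjInv_eq hfs
  have hmem : ∀ a b : U, f a = f b → (a : G)⁻¹ * b ∈ R := fun a b e =>
    ⟨U.mul_mem (U.inv_mem a.2) b.2, (hfadd a⁻¹ b).trans (by rw [hfinv, e, neg_add_cancel])⟩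
  let s : (Fin 2 → ZMod p) → U := fun v => Function.surjInv hfs v
  let ψ : (Fin 2 → ZMod p) → M ⧸ R.subgroupOf M := fun v =>
    QuotientGroup.mk' (R.subgroupOf M) ⟨(s v : G), hUM (s v).2⟩
  refine InvHom.mono (inf_le_left : M ≤ normalizer (D : Set G))
    ((invHom_qd_of_plane hp ψ ?_ ?_ ?_).of_surjective _ (QuotientGroup.mk'_surjective _))
  · intro u v e
    obtain ⟨hx, h0⟩ := QuotientGroup.eq.1 e
    have h1 : f (Function.surjInv hfs u)⁻¹ + f (Function.surjInv hfs v) = 0 := (hfadd _ _).symm.trans h0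
    rwa [hfinv, hsi, hsi, neg_add_eq_zero] at h1
  · intro u v
    show QuotientGroup.mk' _ _ = _
    rw [← map_mul]
    exact QuotientGroup.eq.2 (hmem (Function.surjInv hfs (u + v))
      (Function.surjInv hfs u * Function.surjInv hfs v) (by rw [hfadd, hsi, hsi, hsi]))
  · intro g
    obtain ⟨k, hk, hkD, hkg⟩ := hfg' g
    have hkR : k ∈ normalizer (R : Set G) := by
      refine mem_normalizer_of_conj_mem fun x hx => ?_
      obtain ⟨hxU, hx'⟩ := hx
      exact ⟨(mem_normalizer_iff.1 hk x).1 hxU, (hkg ⟨x, hxU⟩).trans (by rw [hx', Matrix.mulVec_zero])⟩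
    refine ⟨QuotientGroup.mk' _ ⟨k, mem_inf.2 ⟨hkD, hkR⟩⟩, fun v => ?_⟩
    rw [← map_inv, ← map_mul, ← map_mul]
    refine QuotientGroup.eq.2 (hmem ⟨k * (s v : G) * k⁻¹, (mem_normalizer_iff.1 hk _).1 (s v).2⟩
      (s (g.1.mulVec v)) ?_)
    show f _ = f (Function.surjInv hfs _)
    rw [hsi, hkg (s v)]
    exact congrArg _ (hsi v)

end CfsgLib.PLocal
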