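import Mathlib
import Cfsg.Prelude.Def_PLocal
import Cfsg.Agent.Lib.Coprime.Action2

/-!
A hyperplane of an elementary abelian group whose centralizer in a coprime group is not centralized.
-/

set_option autoImplicit false

namespace CfsgLib.PLocal

open scoped commutatorElement

variable {G : Type*} [Group G] [Finite G] {p : ℕ} [Fact p.Prime]

/-- If an elementary abelian `A` acts coprimely and nontrivially on `K`, then for some subgroup `B`
of index `p` in `A` it acts nontrivially on `C_K(B)`. -/
theorem exists_hyperplane_witness {A K : Subgroup G} [IsMulCommutative A]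
    (hexp : ∀ a ∈ A, a ^ p = 1) (hAK : A ≤ Subgroup.normalizer (K : Set G))
    (hcop : (Nat.card A).Coprime (Nat.card K)) (hne : ¬ A ≤ Subgroup.centralizer (K : Set G)) :
    ∃ (B : Subgroup G) (a c : G), B ≤ A ∧ a ∈ A ∧ a ∉ B ∧ B ⊔ Subgroup.zpowers a = A ∧
      Nat.card A = Nat.card B * p ∧
      c ∈ K ⊓ Subgroup.centralizer (B : Set G) ∧ a * c ≠ c * a := by
  classical
  by_contra h
  push Not at h
  refine hne ?_
  rw [Subgroup.le_centralizer_iff]
  refine CfsgLib.Coprime.le_of_cyclic_quotient hAK hcop fun B hB ⟨a, ha, he⟩ => ?_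
  by_cases haB : a ∈ B
  · have : B = A := by rw [← he, sup_eq_left.2 (Subgroup.zpowers_le.2 haB)]
    exact this ▸ inf_le_right
  · intro c hc
    have hp : p.Prime := Fact.out
    have ha1 : a ≠ 1 := fun h1 => haB (h1 ▸ B.one_mem)
    have ho : orderOf a = p := orderOf_eq_prime (hexp a ha) ha1
    have hcard : Nat.card A = Nat.card B * p := by
      have hd : Subgroup.zpowers a ⊓ B = ⊥ := by
        haveI : Fact (Nat.card (Subgroup.zpowers a)).Prime := ⟨by rw [Nat.card_zpowers, ho]; exact hp⟩
        rcases (B.subgroupOf (Subgroup.zpowers a)).eq_bot_or_eq_top_of_prime_card with hb | ht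
        · rw [inf_comm]
          exact disjoint_iff.1 (Subgroup.subgroupOf_eq_bot.1 hb)
        · exact absurd (Subgroup.subgroupOf_eq_top.1 ht (Subgroup.mem_zpowers a)) haB
      have hn : Subgroup.zpowers a ≤ Subgroup.normalizer (B : Set G) :=
        Subgroup.zpowers_le.2 (Subgroup.mem_normalizer_fintype fun b hb => by
          rw [show a * b = b * a from congrArg Subtype.val (mul_comm' (⟨a, ha⟩ : A) ⟨b, hB hb⟩),
            mul_inv_cancel_right]
          exact hb)
      rw [← he, sup_comm, CfsgLib.Coprime.card_sup_of_inf_eq_bot hn hd, Nat.card_zpowers, ho,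
        mul_comm]
    have hcc : c ∈ Subgroup.centralizer {a} :=
      Subgroup.mem_centralizer_singleton_iff.2 (h B a c hB ha haB he hcard hc).symm
    rw [Subgroup.mem_centralizer_iff]
    intro x hx
    have hle : A ≤ Subgroup.centralizer {c} := by
      rw [← he]
      exact sup_le (fun b hb => Subgroup.mem_centralizer_singleton_iff.2
        (Subgroup.mem_centralizer_iff.1 hc.2 b hb))
        (Subgroup.zpowers_le.2 (Subgroup.mem_centralizer_singleton_iff.2
          (Subgroup.mem_centralizer_singleton_iff.1 hcc).symm))
    exact Subgroup.mem_centralizer_singleton_iff.1 (hle hx)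

end CfsgLib.PLocal
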