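import Mathlib
import Cfsg.Agent.Lib.PLocal.CyclicMax

/-!
2-groups with a cyclic maximal subgroup.
-/

set_option autoImplicit false
set_option linter.style.haveILetI false

namespace CfsgLib.PLocal

open Subgroup

/-- The square roots of `1` modulo `2 ^ (m + 2)`. -/
theorem sq_eq_one_mod_two_pow (m : ℕ) (r : ℤ) (h : (2 : ℤ) ^ (m + 2) ∣ r * r - 1) :
    (2 : ℤ) ^ (m + 1) ∣ r - 1 ∨ (2 : ℤ) ^ (m + 1) ∣ r + 1 := by
  obtain ⟨s, rfl⟩ : Odd r := by
    rcases Int.even_or_odd r with ⟨t, rfl⟩ | ho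
    · exfalso
      have h2 : (2 : ℤ) ∣ (t + t) * (t + t) - 1 := (dvd_pow_self 2 (by omega)).trans h
      have h3 : (2 : ℤ) ∣ (t + t) * (t + t) := ⟨t * (t + t), by ring⟩
      have h4 := dvd_sub h3 h2
      norm_num at h4
    · exact ho
  have h' : (2 : ℤ) ^ m ∣ s * (s + 1) := by
    rw [show (2 * s + 1) * (2 * s + 1) - 1 = 4 * (s * (s + 1)) by ring, pow_add,
      mul_comm ((2 : ℤ) ^ m)] at h
    exact Int.dvd_of_mul_dvd_mul_left (by norm_num : (4 : ℤ) ≠ 0) (by simpa using h)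
  rcases Int.even_or_odd s with hs | hs
  · left
    have hcop : IsCoprime ((2 : ℤ) ^ m) (s + 1) := by
      refine IsCoprime.pow_left ?_
      obtain ⟨t, rfl⟩ := hs
      exact ⟨-t, 1, by ring⟩
    obtain ⟨w, hw⟩ := hcop.dvd_of_dvd_mul_right h'
    exact ⟨w, by rw [hw, pow_succ]; ring⟩
  · right
    have hcop : IsCoprime ((2 : ℤ) ^ m) s := by
      refine IsCoprime.pow_left ?_
      obtain ⟨t, rfl⟩ := hs
      exact ⟨-t, 1, by ring⟩
    obtain ⟨w, hw⟩ := hcop.dvd_of_dvd_mul_left h'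
    exact ⟨w, by rw [show (2 * s + 1 + 1 : ℤ) = 2 * (s + 1) by ring, hw, pow_succ]; ring⟩

variable {G : Type*} [Group G]

theorem cyclicMax_classification_two [Finite G] (n : ℕ) (hn : 3 ≤ n) (hG : Nat.card G = 2 ^ n)
    (C : Subgroup G) (hC : IsCyclic C) (hCi : C.index = 2) (hna : ∃ x y : G, x * y ≠ y * x) :
    ∃ a b : G, orderOf a = 2 ^ (n - 1) ∧ b ∉ zpowers a ∧
      ((b ^ 2 = 1 ∧ b * a * b⁻¹ = a⁻¹) ∨ (b ^ 2 = a ^ (2 ^ (n - 2)) ∧ b * a * b⁻¹ = a⁻¹) ∨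
        (4 ≤ n ∧ b ^ 2 = 1 ∧ b * a * b⁻¹ = a ^ (1 + 2 ^ (n - 2))) ∨
        (4 ≤ n ∧ b ^ 2 = 1 ∧ b * a * b⁻¹ = a ^ (2 ^ (n - 2) - 1))) := by
  obtain ⟨m, rfl⟩ : ∃ m, n = m + 3 := ⟨n - 3, by omega⟩
  haveI : Fact (Nat.Prime 2) := ⟨Nat.prime_two⟩
  haveI := normal_of_index_prime (p := 2) (IsPGroup.of_card hG) hCi
  obtain ⟨a, rfl⟩ := exists_zpowers_eq hC
  have hoa : orderOf a = 2 ^ (m + 2) := by
    have h1 := card_mul_index (zpowers a)
    rw [hCi, hG, Nat.card_zpowers] at h1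
    refine Nat.eq_of_mul_eq_mul_right (by norm_num : (0:ℕ) < 2) ?_
    rw [h1, ← pow_succ]
  have hM : ((2 ^ (m + 2) : ℕ) : ℤ) = 2 * 2 ^ (m + 1) := by push_cast; ring
  set h : ℤ := 2 ^ (m + 1) with hhdef
  have hmod : ∀ i j : ℤ, a ^ i = a ^ j ↔ (2 * h : ℤ) ∣ j - i := by
    intro i j
    rw [zpow_eq_zpow_iff_modEq, hoa, Int.modEq_iff_dvd, hM]
  obtain ⟨g, hg⟩ : ∃ g : G, g ∉ zpowers a := by
    by_contra hall
    push Not at hall
    rw [(Subgroup.eq_top_iff' _).2 hall, index_top] at hCi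
    exact absurd hCi (by norm_num)
  obtain ⟨r, hr⟩ : ∃ r : ℤ, g * a * g⁻¹ = a ^ r := by
    have hh := ‹(zpowers a).Normal›.conj_mem a (mem_zpowers a) g
    rw [mem_zpowers_iff] at hh
    exact hh.imp fun r h => h.symm
  obtain ⟨i, hi⟩ : g ^ 2 ∈ zpowers a := by
    have h1 := Subgroup.pow_index_mem (zpowers a) g
    rwa [hCi] at h1
  have hi' : a ^ i = g ^ 2 := hi
  have hrr : (2 * h : ℤ) ∣ r * r - 1 := by
    have h1 : g ^ 2 * a * (g ^ 2)⁻¹ = a ^ (r * r) := by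
      rw [zpow_mul, ← hr, conj_zpow, ← hr, sq]; group
    rw [← hi', ((Commute.refl a).zpow_left i).eq, mul_inv_cancel_right] at h1
    exact (hmod 1 (r * r)).1 (by rw [zpow_one]; exact h1)
  have hfix : (2 * h : ℤ) ∣ i * r - i := by
    refine (hmod i (i * r)).1 ?_
    rw [mul_comm, zpow_mul, ← hr, conj_zpow, hi']
    group
  have hne : ¬ (2 * h : ℤ) ∣ r - 1 := by
    intro hd
    have hga : g * a = a * g := by
      rw [← mul_inv_eq_iff_eq_mul, hr]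
      exact ((hmod 1 r).2 hd).symm.trans (zpow_one a)
    obtain ⟨x, y, hxy⟩ := hna
    obtain ⟨c, hc, u, rfl⟩ := coset_cases hCi hg x
    obtain ⟨d, hd', v, rfl⟩ := coset_cases hCi hg y
    obtain ⟨s, rfl⟩ := hc
    obtain ⟨t, rfl⟩ := hd'
    refine hxy (Commute.eq ?_)
    have hc' : Commute g a := hga
    exact (((Commute.refl a).zpow_zpow s t).mul_right ((hc'.symm).zpow_zpow s v)).mul_left
      ((hc'.zpow_zpow u t).mul_right ((Commute.refl g).zpow_zpow u v))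
  have hsq : ∀ j : ℤ, (g * a ^ j) ^ 2 = a ^ (r * j + i + j) := by
    intro j
    rw [zpow_add, zpow_add, zpow_mul, ← hr, conj_zpow, hi', sq, sq]
    group
  have hnotmem : ∀ j : ℤ, g * a ^ j ∉ zpowers a := fun j hj =>
    hg ((mul_mem_cancel_right (zpow_mem (mem_zpowers a) j)).1 hj)
  have hconj : ∀ j : ℤ, g * a ^ j * a * (g * a ^ j)⁻¹ = a ^ r := by
    intro j
    rw [← hr]
    group
  have hnat : a ^ (2 ^ (m + 1) : ℕ) = a ^ h := by rw [← zpow_natCast]; push_cast; rfl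
  have hh0 : h ≠ 0 := pow_ne_zero _ two_ne_zero
  by_cases hinv : (2 * h : ℤ) ∣ r + 1
  · -- dihedral and quaternion
    have hc1 : g * a * g⁻¹ = a⁻¹ := by
      rw [hr, ← zpow_neg_one, hmod, show -1 - r = -(r + 1) by ring]
      exact hinv.neg_right
    obtain ⟨s, rfl⟩ : h ∣ i := by
      have h1 : (2 * h : ℤ) ∣ 2 * i := by
        have := dvd_sub (hinv.mul_left i) hfix
        rwa [show i * (r + 1) - (i * r - i) = 2 * i by ring] at this
      exact Int.dvd_of_mul_dvd_mul_left two_ne_zero h1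
    refine ⟨a, g, hoa, hg, ?_⟩
    rcases Int.even_or_odd s with ⟨w, rfl⟩ | ⟨w, rfl⟩
    · refine Or.inl ⟨?_, hc1⟩
      rw [← hi', ← zpow_zero a, hmod]
      exact ⟨-w, by ring⟩
    · refine Or.inr (Or.inl ⟨?_, hc1⟩)
      show g ^ 2 = a ^ 2 ^ (m + 1)
      rw [← hi', hnat, hmod]
      exact ⟨-w, by ring⟩
  have hodd' : ∀ q : ℤ, Odd q → ∃ w, q = 2 * w + 1 := fun q hq => hq
  rcases sq_eq_one_mod_two_pow m r (by rw [show (2 : ℤ) ^ (m + 2) = 2 * h by rw [hhdef]; ring]; exact hrr)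
    with ⟨q, hq⟩ | ⟨q, hq⟩
  · -- modular
    rw [← hhdef] at hq
    obtain ⟨w, rfl⟩ : ∃ w, q = 2 * w + 1 := by
      rcases Int.even_or_odd q with ⟨t, rfl⟩ | ho
      · exact absurd ⟨t, by rw [hq]; ring⟩ hne
      · exact hodd' q ho
    obtain ⟨l, hl⟩ : ∃ l : ℕ, m = l + 1 := by
      refine Nat.exists_eq_succ_of_ne_zero fun h0 => hinv ⟨w + 1, ?_⟩
      subst h0
      rw [show r + 1 = r - 1 + 2 by ring, hq, hhdef]; norm_num; ring
    obtain ⟨k, hk⟩ : ∃ k : ℤ, h = 4 * k := ⟨2 ^ l, by rw [hhdef, hl, pow_succ, pow_succ]; ring⟩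
    obtain ⟨i', rfl⟩ : (2 : ℤ) ∣ i := by
      rw [show i * r - i = i * (r - 1) by ring, hq, ← mul_assoc, mul_comm i, mul_assoc,
        mul_comm 2 h] at hfix
      have h1 := Int.dvd_of_mul_dvd_mul_left hh0 hfix
      have h2 := dvd_sub h1 (dvd_mul_right (2:ℤ) (i * w))
      rwa [show i * (2 * w + 1) - 2 * (i * w) = i by ring] at h2
    set j := -i' * (1 - 2 * k) with hj
    refine ⟨a, g * a ^ j, hoa, hnotmem j, Or.inr (Or.inr (Or.inl ⟨by omega, ?_, ?_⟩))⟩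
    · rw [hsq, ← zpow_zero a, hmod]
      have hr' : r = 1 + h * (2 * w + 1) := by rw [← hq]; ring
      rw [hr', hj, hk]
      exact ⟨w * i' * (1 - 2 * k) - k * i', by ring⟩
    · show _ = a ^ (1 + 2 ^ (m + 1))
      rw [hconj, pow_add, pow_one, hnat]
      nth_rewrite 2 [← zpow_one a]
      rw [← zpow_add, hmod, show 1 + h - r = h - (r - 1) by ring, hq]
      exact ⟨-w, by ring⟩
  · -- semidihedral
    rw [← hhdef] at hq
    obtain ⟨w, rfl⟩ : ∃ w, q = 2 * w + 1 := by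
      rcases Int.even_or_odd q with ⟨t, rfl⟩ | ho
      · exact absurd ⟨t, by rw [hq]; ring⟩ hinv
      · exact hodd' q ho
    obtain ⟨l, hl⟩ : ∃ l : ℕ, m = l + 1 := by
      refine Nat.exists_eq_succ_of_ne_zero fun h0 => hne ⟨w, ?_⟩
      subst h0
      rw [show r - 1 = r + 1 - 2 by ring, hq, hhdef]; norm_num; ring
    obtain ⟨k, hk⟩ : ∃ k : ℤ, h = 4 * k := ⟨2 ^ l, by rw [hhdef, hl, pow_succ, pow_succ]; ring⟩
    obtain ⟨s, rfl⟩ : h ∣ i := by
      have hr' : r = h * (2 * w + 1) - 1 := by rw [← hq]; ring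
      have h1 : (2 * h : ℤ) ∣ 2 * (i * (2 * k * (2 * w + 1) - 1)) := by
        rw [hr'] at hfix
        rwa [show i * (h * (2 * w + 1) - 1) - i = 2 * (i * (2 * k * (2 * w + 1) - 1)) by
          rw [hk]; ring] at hfix
      refine IsCoprime.dvd_of_dvd_mul_right ?_ (Int.dvd_of_mul_dvd_mul_left two_ne_zero h1)
      rw [hhdef]
      refine IsCoprime.pow_left ⟨k * (2 * w + 1), -1, by ring⟩
    refine ⟨a, g * a ^ s, hoa, hnotmem s, Or.inr (Or.inr (Or.inr ⟨by omega, ?_, ?_⟩))⟩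
    · rw [hsq, ← zpow_zero a, hmod]
      have hr' : r = h * (2 * w + 1) - 1 := by rw [← hq]; ring
      rw [hr']
      exact ⟨-(s * (w + 1)), by ring⟩
    · show _ = a ^ (2 ^ (m + 1) - 1)
      rw [hconj, ← zpow_natCast, hmod, Nat.cast_sub (Nat.one_le_two_pow)]
      push_cast
      rw [← hhdef, show h - 1 - r = h - (r + 1) by ring, hq]
      exact ⟨-w, by ring⟩

end CfsgLib.PLocal
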