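import Cfsg.Agent.Lib.PLocal.OffenderStructure
import Cfsg.Agent.Lib.PLocal.Offender
import Cfsg.Agent.Lib.PLocal.Frattini
import Cfsg.Agent.Lib.FgsC.HallHigmanB

/-!
From a normal elementary abelian subgroup to the faithful situation inside `V ⋊ Aut(V)`.
-/

set_option autoImplicit false
set_option linter.style.haveILetI false
set_option linter.unusedSectionVars false

namespace CfsgLib.PLocal

open Subgroup Cfsg
open scoped commutatorElement

universe u

variable {G : Type u} [Group G]

/-- The holomorph of a subgroup. -/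
abbrev Hol (V : Subgroup G) : Type u := ↥V ⋊[MonoidHom.id (MulAut ↥V)] MulAut ↥V

/-- The action of the ambient group on `V`, inside the holomorph. -/
def toHol (V : Subgroup G) [V.Normal] : G →* Hol V :=
  (SemidirectProduct.inr).comp (MulAut.conjNormal (H := V))

/-- The image of `V` in its holomorph. -/
abbrev holBase (V : Subgroup G) : Subgroup (Hol V) :=
  (SemidirectProduct.inl : ↥V →* Hol V).range

variable {V : Subgroup G} [V.Normal]

theorem toHol_conj (g : G) (v : V) :
    toHol V g * SemidirectProduct.inl v * (toHol V g)⁻¹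
      = SemidirectProduct.inl (⟨g * v * g⁻¹, (inferInstance : V.Normal).conj_mem v v.2 g⟩ : V) := by
  show SemidirectProduct.inr (MulAut.conjNormal g) * SemidirectProduct.inl v *
      (SemidirectProduct.inr (MulAut.conjNormal g))⁻¹ = _
  rw [← map_inv, ← SemidirectProduct.inl_aut]
  rfl

theorem inl_commutator (g : G) (v : V) :
    ⁅(SemidirectProduct.inl v : Hol V), toHol V g⁆
      = SemidirectProduct.inl (⟨⁅(v : G), g⁆, comm_mem_of_mem_normalizer
          (le_normalizer_of_normal (mem_top g)) v.2⟩ : V) := by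
  have h1 := toHol_conj g v⁻¹
  rw [map_inv] at h1
  calc ⁅(SemidirectProduct.inl v : Hol V), toHol V g⁆
      = SemidirectProduct.inl v * (toHol V g * (SemidirectProduct.inl v)⁻¹ * (toHol V g)⁻¹) := by group
    _ = _ := by
      rw [h1, ← map_mul]
      congr 1
      ext
      show (v : G) * (g * (v : G)⁻¹ * g⁻¹) = ⁅(v : G), g⁆
      group

theorem inl_comm_iff (g : G) (v : V) :
    toHol V g * SemidirectProduct.inl v = SemidirectProduct.inl v * toHol V g ↔
      g * v = v * g := by
  rw [eq_comm, ← commutatorElement_eq_one_iff_mul_comm, inl_commutator,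
    ← map_one (SemidirectProduct.inl (φ := MonoidHom.id (MulAut ↥V))),
    SemidirectProduct.inl_injective.eq_iff, eq_comm (a := g * (v : G))]
  rw [Subtype.ext_iff]
  show ⁅(v : G), g⁆ = 1 ↔ _
  exact commutatorElement_eq_one_iff_mul_comm

theorem ker_toHol : (toHol V).ker = centralizer (V : Set G) := by
  ext g
  rw [MonoidHom.mem_ker, mem_centralizer_iff]
  constructor
  · intro h v hv
    exact ((inl_comm_iff g ⟨v, hv⟩).1 (by rw [h, one_mul, mul_one])).symm
  · intro h
    show SemidirectProduct.inr (MulAut.conjNormal g) = 1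
    rw [← map_one (SemidirectProduct.inr (φ := MonoidHom.id (MulAut ↥V))),
      SemidirectProduct.inr_injective.eq_iff]
    refine MulEquiv.ext fun v => Subtype.ext ?_
    rw [MulAut.conjNormal_apply, ← h v v.2, mul_inv_cancel_right]
    rfl

theorem range_inf_centralizer : (toHol V).range ⊓ centralizer (holBase V : Set (Hol V)) = ⊥ := by
  rw [eq_bot_iff]
  rintro _ ⟨⟨g, rfl⟩, h⟩
  rw [mem_bot, ← MonoidHom.mem_ker, ker_toHol, mem_centralizer_iff]
  intro v hv
  exact ((inl_comm_iff g ⟨v, hv⟩).1 (mem_centralizer_iff.1 h _ ⟨⟨v, hv⟩, rfl⟩).symm).symm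

theorem range_le_normalizer : (toHol V).range ≤ normalizer (holBase V : Set (Hol V)) := by
  rintro _ ⟨g, rfl⟩
  refine mem_normalizer_iff.2 fun x => ⟨?_, ?_⟩
  · rintro ⟨v, rfl⟩
    exact ⟨_, (toHol_conj g v).symm⟩
  · rintro ⟨v, hv⟩
    refine ⟨⟨g⁻¹ * v * g, by simpa using (inferInstance : V.Normal).conj_mem v v.2 g⁻¹⟩, ?_⟩
    have h2 := toHol_conj g⁻¹ v
    rw [hv, map_inv] at h2
    rw [show x = (toHol V g)⁻¹ * (toHol V g * x * (toHol V g)⁻¹) * (toHol V g)⁻¹⁻¹ by group, h2]
    congr 1
    ext
    simp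

theorem commutator_holBase (A : Subgroup G) :
    ⁅holBase V, A.map (toHol V)⁆
      = (⁅V, A⁆.subgroupOf V).map (SemidirectProduct.inl : ↥V →* Hol V) := by
  refine le_antisymm (commutator_le.2 ?_) ?_
  · rintro _ ⟨v, rfl⟩ _ ⟨a, ha, rfl⟩
    exact ⟨⟨⁅(v : G), a⁆, comm_mem_of_mem_normalizer (le_normalizer_of_normal (mem_top a)) v.2⟩,
      commutator_mem_commutator v.2 ha, (inl_commutator a v).symm⟩
  · set X := (⁅holBase V, A.map (toHol V)⁆).comap (SemidirectProduct.inl : ↥V →* Hol V)
    rw [map_le_iff_le_comap]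
    suffices h : ⁅V, A⁆ ≤ X.map V.subtype by
      intro z hz
      obtain ⟨y, hy, hyz⟩ := h hz
      rwa [← Subtype.ext hyz]
    refine commutator_le.2 fun v hv a ha =>
      ⟨⟨⁅v, a⁆, comm_mem_of_mem_normalizer (le_normalizer_of_normal (mem_top a)) hv⟩, ?_, rfl⟩
    show SemidirectProduct.inl _ ∈ ⁅holBase V, A.map (toHol V)⁆
    rw [← inl_commutator a ⟨v, hv⟩]
    exact commutator_mem_commutator ⟨_, rfl⟩ (mem_map_of_mem _ ha)

theorem holBase_inf_centralizer (A : Subgroup G) :
    holBase V ⊓ centralizer ((A.map (toHol V) : Subgroup (Hol V)) : Set (Hol V))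
      = ((V ⊓ centralizer (A : Set G)).subgroupOf V).map (SemidirectProduct.inl : ↥V →* Hol V) := by
  ext x
  constructor
  · rintro ⟨⟨v, rfl⟩, hx⟩
    exact ⟨v, ⟨v.2, mem_centralizer_iff.2 fun a ha =>
      (inl_comm_iff a v).1 (mem_centralizer_iff.1 hx _ (mem_map_of_mem _ ha))⟩, rfl⟩
  · rintro ⟨v, hv, rfl⟩
    refine ⟨⟨v, rfl⟩, mem_centralizer_iff.2 ?_⟩
    rintro _ ⟨a, ha, rfl⟩
    exact (inl_comm_iff a v).2 (mem_centralizer_iff.1 hv.2 a ha)

variable [Finite G] {p : ℕ} [Fact p.Prime]

instance : Finite (Hol V) := by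
  haveI : Finite (MulAut ↥V) := Finite.of_injective _ DFunLike.coe_injective
  exact Finite.of_equiv (↥V × MulAut ↥V) SemidirectProduct.equivProd.symm

theorem card_holBase : Nat.card (holBase V) = Nat.card V :=
  Nat.card_congr (MonoidHom.ofInjective SemidirectProduct.inl_injective).symm.toEquiv

theorem card_fix_holBase (A : Subgroup G) :
    Nat.card ↥(holBase V ⊓ centralizer ((A.map (toHol V) : Subgroup (Hol V)) : Set (Hol V)))
      = Nat.card ↥(V ⊓ centralizer (A : Set G)) := by
  rw [holBase_inf_centralizer, card_map_of_injective SemidirectProduct.inl_injective]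
  exact Nat.card_congr (subgroupOfEquivOfLe inf_le_left).toEquiv

theorem card_map_toHol (A : Subgroup G) :
    Nat.card A = Nat.card (A.map (toHol V)) * Nat.card ↥(A ⊓ centralizer (V : Set G)) := by
  let f := (toHol V).comp A.subtype
  have h1 := f.ker.card_mul_index
  rw [index_ker, show f.range = A.map (toHol V) from by rw [MonoidHom.range_comp, range_subtype],
    show f.ker = (A ⊓ centralizer (V : Set G)).subgroupOf A from by
      rw [inf_subgroupOf_left, ← ker_toHol]; rfl] at h1
  rw [← h1, mul_comm]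
  congr 1
  exact Nat.card_congr (subgroupOfEquivOfLe inf_le_left).toEquiv

theorem isElementaryAbelian_holBase (hV : IsElementaryAbelian p V) :
    IsElementaryAbelian p (holBase V) := by
  refine ⟨⟨⟨?_⟩⟩, ?_⟩
  · rintro ⟨_, v, rfl⟩ ⟨_, w, rfl⟩
    refine Subtype.ext ?_
    show SemidirectProduct.inl v * SemidirectProduct.inl w = SemidirectProduct.inl w * SemidirectProduct.inl v
    rw [← map_mul, ← map_mul, show v * w = w * v from Subtype.ext (comm_of_mem hV.1 v.2 w.2)]
  · rintro _ ⟨v, rfl⟩
    rw [← map_pow, show v ^ p = 1 from Subtype.ext (hV.2 v v.2), map_one]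

theorem isBestOffenderOn_map {A : Subgroup G} (h : IsBestOffenderOn p V A) :
    IsBestOffenderOn p (holBase V) (A.map (toHol V)) := by
  refine ⟨fun B hB => ?_, ?_, ?_⟩
  · set B₀ := A ⊓ B.comap (toHol V) with hB₀
    have e : B₀.map (toHol V) = B := by
      refine le_antisymm ((map_mono inf_le_right).trans (map_comap_le _ _)) fun b hb => ?_
      obtain ⟨a, ha, rfl⟩ := hB hb
      exact ⟨a, ⟨ha, hb⟩, rfl⟩
    have e' : B₀ ⊓ centralizer (V : Set G) = A ⊓ centralizer (V : Set G) := by
      refine le_antisymm (inf_le_inf_right _ inf_le_left) (le_inf (fun x hx => ⟨hx.1, ?_⟩) inf_le_right)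
      show toHol V x ∈ B
      rw [← ker_toHol] at hx
      rw [MonoidHom.mem_ker.1 hx.2]; exact one_mem _
    have h1 := h.1 B₀ inf_le_left
    rw [card_map_toHol (V := V) A, card_map_toHol (V := V) B₀, e, e'] at h1
    rw [← e, card_fix_holBase, card_fix_holBase, e]
    refine Nat.le_of_mul_le_mul_right ?_ (Nat.card_pos (α := ↥(A ⊓ centralizer (V : Set G))))
    calc _ = _ := by ring
      _ ≤ _ := h1
      _ = _ := by ring
  · rw [← map_commutator]
    rintro _ ⟨a, ha, rfl⟩
    rw [MonoidHom.mem_ker.1 (ker_toHol (V := V) ▸ h.2.1 ha)]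
    exact one_mem _
  · rintro _ ⟨a, ha, rfl⟩
    rw [← map_pow, MonoidHom.mem_ker.1 (ker_toHol (V := V) ▸ h.2.2 a ha)]
    exact one_mem _

/-- `O_p` of the image is trivial when `V` is generated by centres of Sylow subgroups of `K`. -/
theorem pCore_map_toHol_eq_bot {K : Subgroup G} (hVK : V ≤ K)
    (hgen : V.subgroupOf K ≤
      ⨆ S : Sylow p K, V.subgroupOf K ⊓ centralizer ((S : Subgroup K) : Set K)) :
    pCore p ↥(K.map (toHol V)) = ⊥ := by
  set f := (toHol V).comp K.subtype with hf
  have hr : f.range = K.map (toHol V) := by rw [hf, MonoidHom.range_comp, range_subtype]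
  rw [← hr]
  have hker : f.ker = centralizer ((V.subgroupOf K : Subgroup K) : Set K) := by
    ext k
    rw [MonoidHom.mem_ker]
    show toHol V k = 1 ↔ _
    rw [← MonoidHom.mem_ker, ker_toHol, mem_centralizer_iff, mem_centralizer_iff]
    exact ⟨fun h v hv => Subtype.ext (h v hv), fun h v hv => congrArg Subtype.val (h ⟨v, hVK hv⟩ hv)⟩
  haveI : (pCore p f.range).Normal := pCore_normal p _
  set D := (pCore p f.range).comap f.rangeRestrict with hD
  haveI : D.Normal := Normal.comap inferInstance _
  have hle : centralizer ((V.subgroupOf K : Subgroup K) : Set K) ≤ D := by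
    rw [← hker]
    intro k hk
    show f.rangeRestrict k ∈ pCore p f.range
    rw [show f.rangeRestrict k = 1 from Subtype.ext hk]; exact one_mem _
  obtain ⟨n, hn⟩ := CfsgLib.Base.pCore_eq_pow_card p f.range
  have hidx : (centralizer ((V.subgroupOf K : Subgroup K) : Set K)).relIndex D = p ^ n := by
    rw [← hn, ← hker, show f.ker = f.rangeRestrict.ker from (MonoidHom.ker_rangeRestrict f).symm, hD]
    rw [← MonoidHom.comap_bot, relIndex_comap, map_comap_eq_self_of_surjective f.rangeRestrict_surjective,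
      relIndex_bot_left]
  have h1 := eq_centralizer_of_generated hgen hle hidx
  rw [← map_comap_eq_self_of_surjective f.rangeRestrict_surjective (pCore p f.range), ← hD, h1,
    ← hker, show f.ker = f.rangeRestrict.ker from (MonoidHom.ker_rangeRestrict f).symm]
  exact (Subgroup.map_eq_bot_iff _).2 le_rfl

/-- The hypotheses of the structure theorem for the image of `J(K)`. -/
theorem ffGroup_of_normal {K : Subgroup G} [K.Normal] (hV : IsElementaryAbelian p V) (hVK : V ≤ K)
    (hsep : IsPSolvable p K) (hO : pCore p ↥(K.map (toHol V)) = ⊥) :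
    FFGroup p (holBase V) ((thompsonSubgroupOf p K).map (toHol V)) ∧
      (thompsonSubgroupOf p K).map (toHol V) = ⨆ B : {B : Subgroup (Hol V) //
        B ≤ (thompsonSubgroupOf p K).map (toHol V) ∧ IsBestOffenderOn p (holBase V) B},
        (B : Subgroup (Hol V)) := by
  set J := thompsonSubgroupOf p K with hJ
  have hJK : J ≤ K := thompsonSubgroupOf_le p K
  haveI := thompsonSubgroup_characteristic p ↥K
  haveI hJn : J.Normal := CfsgLib.Base.normal_map_subtype (thompsonSubgroup p ↥K)
  set H := J.map (toHol V) with hH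
  set L := K.map (toHol V) with hL
  refine ⟨⟨isElementaryAbelian_holBase hV, (map_le_range _ _).trans range_le_normalizer,
    eq_bot_iff.2 ((inf_le_inf_right _ (map_le_range _ _)).trans range_inf_centralizer.le), ?_⟩, ?_⟩
  · have hJsep : IsPSolvable p H := isPSolvable_map _ (isPSolvable_of_le hJK hsep)
    refine CfsgLib.FgsC.HallHigmanB.centralizer_pPrimeCore_le hJsep ?_
    have hHL : H ≤ L := map_mono hJK
    have hn : L ≤ normalizer (H : Set (Hol V)) := by
      refine (map_le_range _ _).trans ?_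
      rw [MonoidHom.range_eq_map]
      refine (map_mono (le_normalizer_of_normal (H := J))).trans (le_normalizer_map _)
    haveI : (H.subgroupOf L).Normal := normal_subgroupOf_of_le_normalizer hn
    have h1 := CfsgLib.Base.map_pCore_le_of_isSubnormal (p := p)
      (Normal.isSubnormal (inferInstance : (H.subgroupOf L).Normal))
    rw [hO, le_bot_iff, map_eq_bot_iff_of_injective _ (H.subgroupOf L).subtype_injective] at h1
    rw [← CfsgLib.Base.map_pCore_mulEquiv (subgroupOfEquivOfLe hHL), h1, Subgroup.map_bot]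
  · refine le_antisymm ?_ (iSup_le fun B => B.2.1)
    have e : H = ⨆ A : maxEAOf p K, (A : Subgroup G).map (toHol V) := by
      rw [hH, hJ, thompsonSubgroupOf_eq_sSup, sSup_eq_iSup', Subgroup.map_iSup]
    refine e.le.trans (iSup_le fun A => ?_)
    exact le_iSup (fun B : {B : Subgroup (Hol V) // B ≤ H ∧ IsBestOffenderOn p (holBase V) B} =>
      (B : Subgroup (Hol V))) ⟨A.1.map (toHol V), map_mono (le_thompsonSubgroupOf A.2),
        isBestOffenderOn_map (isBestOffenderOn_of_maxEAOf hV hVK A.2)⟩

end CfsgLib.PLocal
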