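import Mathlib
import Cfsg.Agent.Lib.PLocal.OffenderBridge
import Cfsg.Agent.Lib.PLocal.OffenderStructure
import Cfsg.Agent.Lib.PLocal.Replacement

/-!
A maximiser of the offender measure that is an abelian `2`-group inside a core-free `2`-constrained
group of odd core is elementary abelian: by replacement a subgroup of it is quadratic, and the
planes of that subgroup are invariant.
-/

set_option autoImplicit false
set_option linter.style.haveILetI false
set_option linter.unusedSectionVars false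

namespace CfsgLib.PLocal

open Subgroup Cfsg
open scoped commutatorElement

variable {G : Type*} [Group G] [Finite G]

theorem sq_eq_one_of_quadratic {V L A : Subgroup G} (hh : FFGroup 2 V L) (hAL : A ≤ L)
    (hq : ∀ v ∈ V, ∀ a ∈ A, a * ⁅v, a⁆ = ⁅v, a⁆ * a) : ∀ a ∈ A, a ^ 2 = 1 := by
  intro a ha
  have haV := hh.le_norm (hAL ha)
  refine mem_bot.1 (hh.faithful ▸ mem_inf.2 ⟨pow_mem (hAL ha) 2, mem_centralizer_iff.2 fun v hv => ?_⟩)
  have hz : ⁅v, a⁆ ∈ V := comm_mem_of_mem_normalizer haV hv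
  have h1 : a * ⁅v, a⁆ * a⁻¹ = ⁅v, a⁆ := by rw [hq v hv a ha, mul_inv_cancel_right]
  have h2 : ⁅v, a ^ 2⁆ = 1 := by
    rw [pow_two, comm_mul_right, h1, ← pow_two, hh.elem.2 _ hz]
  exact commutatorElement_eq_one_iff_mul_comm.1 h2

/-- The plane of a minimal offender is invariant under everything commuting with it. -/
theorem FFMin.plane_conj_invariant {p : ℕ} [Fact p.Prime] {V L B : Subgroup G} (h : FFMin p V L B)
    {a : G} (ha : a ∈ L) (hc : ∀ b ∈ B, a * b = b * a) :
    a ∈ normalizer ((⁅V, factor p L B⁆ : Subgroup G) : Set G) := by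
  obtain ⟨x, hx, hxB⟩ := h.exists_moved
  have hax : a * x * a⁻¹ ∈ coreIn p L :=
    (mem_normalizer_iff.1 (h.grp.le_normalizer_core ha) x).1 hx
  have haxB : a * x * a⁻¹ ∉ centralizer (B : Set G) := fun hm => hxB <| by
    have haB : a ∈ centralizer (B : Set G) := mem_centralizer_iff.2 fun b hb => (hc b hb).symm
    have := mul_mem (mul_mem (inv_mem haB) hm) haB
    simpa [mul_assoc] using this
  refine mem_of_map_conj_eq ?_
  rw [(h.factor_eq hx hxB).1]
  have hB : B.map (MulAut.conj a).toMonoidHom = B := by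
    ext y
    constructor
    · rintro ⟨b, hb, rfl⟩
      show a * b * a⁻¹ ∈ B
      rwa [hc b hb, mul_inv_cancel_right]
    · exact fun hy => ⟨y, hy, show a * y * a⁻¹ = y by rw [hc y hy, mul_inv_cancel_right]⟩
  have hV : V.map (MulAut.conj a).toMonoidHom = V := map_conj_eq_of_mem (h.grp.le_norm ha)
  have hBx : (B.map (MulAut.conj x).toMonoidHom).map (MulAut.conj a).toMonoidHom
      = B.map (MulAut.conj (a * x * a⁻¹)).toMonoidHom := by
    conv_rhs => rw [← hB]
    rw [Subgroup.map_map, Subgroup.map_map]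
    congr 1
    ext y
    simp [mul_assoc]
  rw [Subgroup.map_commutator, Subgroup.map_sup, hV, hB, hBx]
  exact (h.plane_eq hx hxB hax haxB).symm

/-- On the plane, everything commuting with the offender acts quadratically, into the fixed line. -/
theorem FFMin.comm_plane_fixed {V L A B : Subgroup G} (h : FFMin 2 V L B) (hAL : A ≤ L)
    (hAB : ∀ a ∈ A, ∀ b ∈ B, a * b = b * a) {q a : G}
    (hq : q ∈ ⁅V, factor 2 L B⁆) (ha : a ∈ A) : ⁅q, a⁆ ∈ centralizer (A : Set G) := by
  have hP := h.isPlane_factor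
  set P := ⁅V, factor 2 L B⁆ with hPdef
  set S := P ⊓ centralizer (B : Set G) with hS
  have hne : S ≠ P := fun e => h.ne_bot (eq_bot_iff.2 (hP.faithful ▸
    le_inf le_sup_right (le_centralizer_iff.1 (e.symm.le.trans inf_le_right))))
  have hV := h.grp.elem.1
  set C := V ⊓ centralizer (B : Set G) with hC
  have hPC : P ⊓ C = S := by
    rw [hS, hC, ← inf_assoc, inf_eq_left.2 hP.le]
  have h1 := card_sup_mul_card_inf_of_le hV hP.le (inf_le_left : C ≤ V)
  rw [hPC, hP.card_eq] at h1
  have h2 := h.trans.card_fix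
  have h3 : Nat.card ↥(P ⊔ C) ≤ Nat.card V := card_le_of_le (sup_le hP.le inf_le_left)
  have hCpos : 0 < Nat.card C := Nat.card_pos
  have h4 : 2 ≤ Nat.card S := by
    rw [← hC] at h2
    rw [← h2] at h3
    have h5 : 2 ^ 2 * Nat.card C ≤ 2 * Nat.card C * Nat.card S := h1 ▸ Nat.mul_le_mul_right _ h3
    refine Nat.le_of_mul_le_mul_left ?_ (Nat.mul_pos two_pos hCpos)
    calc 2 * Nat.card C * 2 = 2 ^ 2 * Nat.card C := by ring
      _ ≤ _ := h5
  have h6 : Nat.card S < 2 ^ 2 := by
    rw [← hP.card_eq]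
    exact lt_of_le_of_ne (card_le_of_le inf_le_left) fun e =>
      hne (Subgroup.eq_of_le_of_card_ge inf_le_left e.ge)
  have h7 : Nat.card S = 2 := by
    have hd := card_dvd_of_le (inf_le_left : S ≤ P)
    rw [hP.card_eq] at hd
    obtain ⟨k, hk, e⟩ := (Nat.dvd_prime_pow Nat.prime_two).1 hd
    interval_cases k <;> simp_all
  have hAP : ∀ a ∈ A, a ∈ normalizer (P : Set G) := fun a ha =>
    h.plane_conj_invariant (hAL ha) (hAB a ha)
  have hAS : ∀ a ∈ A, ∀ z ∈ S, a * z * a⁻¹ ∈ S := fun a ha z hz =>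
    ⟨conj_mem_of_mem_normalizer (hAP a ha) hz.1, by
      have haB : a ∈ centralizer (B : Set G) :=
        mem_centralizer_iff.2 fun b hb => (hAB a ha b hb).symm
      exact Subgroup.mul_mem _ (Subgroup.mul_mem _ haB (mem_inf.1 hz).2) (Subgroup.inv_mem _ haB)⟩
  have hfix : ∀ a ∈ A, ∀ z ∈ S, a * z = z * a := by
    intro a ha z hz
    by_cases hz1 : z = 1
    · subst hz1; simp
    obtain ⟨u, v, huv, huniv⟩ := Nat.card_eq_two_iff.1 h7
    have key : ∀ y : S, (y : G) ≠ 1 → y = ⟨z, hz⟩ := by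
      intro y hy
      have h1' := huniv ▸ Set.mem_univ (1 : S)
      have h2' := huniv ▸ Set.mem_univ y
      have h3' := huniv ▸ Set.mem_univ (⟨z, hz⟩ : S)
      simp only [Set.mem_insert_iff, Set.mem_singleton_iff] at h1' h2' h3'
      have hy' : y ≠ 1 := fun e => hy (congrArg Subtype.val e)
      have hz' : (⟨z, hz⟩ : S) ≠ 1 := fun e => hz1 (congrArg Subtype.val e)
      rcases h1' with h1' | h1' <;> rcases h2' with h2' | h2' <;> rcases h3' with h3' | h3' <;>
        simp_all
    have := congrArg Subtype.val (key ⟨_, hAS a ha z hz⟩ fun e => hz1 <| by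
      simpa [mul_inv_eq_one] using e)
    exact mul_inv_eq_iff_eq_mul.1 this
  suffices hm : ⁅q, a⁆ ∈ S from mem_centralizer_iff.2 fun b hb => hfix b hb _ hm
  by_cases hqS : q ∈ S
  · rw [(commutatorElement_eq_one_iff_mul_comm (g₁ := q) (g₂ := a)).2 (hfix a ha q hqS).symm]
    exact one_mem _
  have hidx : (S.subgroupOf P).index = 2 := by
    have h8 := (S.subgroupOf P).card_mul_index
    rw [Nat.card_congr (subgroupOfEquivOfLe (inf_le_left : S ≤ P)).toEquiv, h7, hP.card_eq] at h8
    omega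
  have hq' : a * q⁻¹ * a⁻¹ ∈ P := conj_mem_of_mem_normalizer (hAP a ha) (inv_mem hq)
  have hm := (Subgroup.mul_mem_iff_of_index_two (H := S.subgroupOf P) hidx
    (a := ⟨q, hq⟩) (b := ⟨_, hq'⟩)).2 (iff_of_false (by simpa [mem_subgroupOf] using hqS) (fun hm => hqS ?_))
  · rw [mem_subgroupOf] at hm
    rw [show ⁅q, a⁆ = q * (a * q⁻¹ * a⁻¹) by group]
    exact hm
  · rw [mem_subgroupOf] at hm
    have := inv_mem (hAS a⁻¹ (inv_mem ha) _ hm)
    simpa [mul_assoc] using this

/-- An abelian maximiser of the measure is quadratic, hence elementary. -/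
theorem sq_eq_one_of_max {V L A : Subgroup G} (hh : FFGroup 2 V L) (hAL : A ≤ L)
    (hA : IsMulCommutative A) (hAp : IsPGroup 2 A)
    (hmax : ∀ B, B ≤ A → offMeasure V B ≤ offMeasure V A) : ∀ a ∈ A, a ^ 2 = 1 := by
  have hV := hh.elem.1
  have hVp := isPGroup_of_isElementaryAbelian (p := 2) hh.elem
  have hAV : A ≤ normalizer (V : Set G) := hAL.trans hh.le_norm
  have hab : ⁅A, A⁆ ≤ centralizer (V : Set G) := by
    rw [commutator_eq_bot_iff_le_centralizer.2 fun x hx => mem_centralizer_iff.2 fun y hy =>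
      comm_of_mem hA hy hx]
    exact bot_le
  obtain ⟨hm, hfix⟩ := replacement hV hAV hab hmax (U := V) le_rfl
  set A' := A ⊓ centralizer ((⁅V, A⁆ : Subgroup G) : Set G) with hA'
  set C := V ⊓ centralizer (A : Set G) with hC
  set C' := V ⊓ centralizer (A' : Set G) with hC'
  have hA'L : A' ≤ L := inf_le_left.trans hAL
  have hA'q : ∀ a ∈ A', a ^ 2 = 1 := sq_eq_one_of_quadratic hh hA'L fun v hv a ha =>
    (mem_centralizer_iff.1 ha.2 _ (commutator_mem_commutator hv ha.1)).symm
  have hoff : IsBestOffenderOn 2 V A' := by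
    refine ⟨fun B hB => ?_, ?_, fun a ha => by rw [hA'q a ha]; exact one_mem _⟩
    · show offMeasure V B ≤ offMeasure V A'
      rw [hm]; exact hmax B (hB.trans inf_le_left)
    · exact (commutator_mono inf_le_left inf_le_left).trans hab
  obtain ⟨k, B, hB, -, hsup⟩ := hh.decomposition hA'L hoff
  have hBA : ∀ i, B i ≤ A := fun i => (hB i).2.1.trans inf_le_left
  have hmin : ∀ i, FFMin 2 V L (B i) := fun i => ⟨hh, (hBA i).trans hAL,
    IsTransvectionGroup.of_isOff ((hBA i).trans hAV) (hB i).1 (hB i).2.2⟩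
  set P := fun i => ⁅V, factor 2 L (B i)⁆ with hPdef
  -- `V` is generated by `C'` and the planes
  have hdec : ∀ T : Finset (Fin k), ∀ v ∈ V, ∃ c ∈ V, ∃ y ∈ ⨆ i, P i,
      (∀ i ∈ T, c ∈ centralizer (B i : Set G)) ∧ v = c * y := by
    intro T
    induction T using Finset.induction with
    | empty => exact fun v hv => ⟨v, hv, 1, one_mem _, by simp, (mul_one v).symm⟩
    | @insert j T _ ih =>
      intro v hv
      obtain ⟨c, hcV, y, hy, hcT, rfl⟩ := ih v hv
      have hP := (hmin j).isPlane_factor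
      obtain ⟨q, hq, d, hd, rfl⟩ := (CfsgLib.Coprime.mem_sup_iff_of_le_normalizer
        (hP.le.trans (le_normalizer_of_abelian hV inf_le_left))).1 (hP.sup_fix.symm.le hcV)
      refine ⟨d, hd.1, q * y, mul_mem (mem_iSup_of_mem j hq) hy, fun i hi => ?_, ?_⟩
      · have hj : d ∈ centralizer (B j : Set G) := centralizer_le (SetLike.coe_subset_coe.2 le_sup_right) (mem_inf.1 hd).2
        rcases Finset.mem_insert.1 hi with rfl | hi'
        · exact hj
        rcases (hmin i).dichotomy (hmin j) with e | ⟨-, -, hc, -⟩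
        · exact centralizer_le (SetLike.coe_subset_coe.2 (e.symm ▸ le_sup_right : B i ≤ factor 2 L (B j))) (mem_inf.1 hd).2
        · have hqi : q ∈ centralizer (B i : Set G) :=
            centralizer_le (SetLike.coe_subset_coe.2 le_sup_right) (hc hq)
          have := mul_mem (inv_mem hqi) (hcT i hi')
          rwa [inv_mul_cancel_left] at this
      · rw [comm_of_mem hV (hP.le hq) hd.1, mul_assoc]
  set W := ⁅C', A⁆ with hW
  have hAC' : A ≤ normalizer (C' : Set G) := by
    have key : ∀ a ∈ A, ∀ c ∈ C', a * c * a⁻¹ ∈ C' := fun a ha c hc =>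
      ⟨conj_mem_of_mem_normalizer (hAV ha) (mem_inf.1 hc).1, by
        have haB : a ∈ centralizer (A' : Set G) :=
          mem_centralizer_iff.2 fun b hb => comm_of_mem hA (mem_inf.1 hb).1 ha
        exact Subgroup.mul_mem _ (Subgroup.mul_mem _ haB (mem_inf.1 hc).2) (Subgroup.inv_mem _ haB)⟩
    intro a ha
    refine mem_normalizer_iff.2 fun x => ⟨key a ha x, fun hx => ?_⟩
    simpa [mul_assoc] using key a⁻¹ (inv_mem ha) _ hx
  have hWC' : W ≤ C' := commutator_le_of_le_normalizer hAC'
  have hWV : W ≤ V := hWC'.trans inf_le_left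
  have hC'le : C' ≤ W ⊔ C := by
    refine hfix.trans_le (sup_le (commutator_le.2 fun v hv a ha => ?_) le_sup_right)
    set K := (W ⊔ C).comap (commHom hV (hAV ha)) with hK
    suffices V ≤ K.map V.subtype by
      obtain ⟨⟨w, hw⟩, hwK, rfl⟩ := this hv
      exact hwK
    intro x hx
    obtain ⟨c, hcV, y, hy, hcT, rfl⟩ := hdec Finset.univ x hx
    have hcC' : c ∈ C' := ⟨hcV, le_centralizer_iff.1 (hsup ▸ iSup_le fun i =>
      le_centralizer_iff.1 ((Subgroup.zpowers_le).2 (hcT i (Finset.mem_univ i))))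
      (mem_zpowers c)⟩
    refine mul_mem ⟨⟨c, hcV⟩, mem_sup_left (commutator_mem_commutator hcC' ha), rfl⟩ ?_
    refine (iSup_le fun i => ?_ : (⨆ i, P i) ≤ K.map V.subtype) hy
    intro q hq
    exact ⟨⟨q, (hmin i).isPlane_factor.le hq⟩, mem_sup_right
      ⟨comm_mem_of_mem_normalizer (hAV ha) ((hmin i).isPlane_factor.le hq),
        (hmin i).comm_plane_fixed hAL (fun a ha b hb => comm_of_mem hA ha (hBA i hb)) hq ha⟩, rfl⟩
  have hWA : A ≤ normalizer (W : Set G) := normalizer_commutator_ge_right _ _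
  have hW1 : W = ⊥ := eq_bot_of_le_commutator hV hVp hAV hab
    (fun a ha => by
      obtain ⟨n, hn⟩ := hAp ⟨a, ha⟩
      exact ⟨n, by rw [show a ^ 2 ^ n = 1 from congrArg Subtype.val hn]; exact one_mem _⟩)
    hWV hWA <| commutator_le.2 fun c hc a ha => by
      obtain ⟨w, hw, d, hd, rfl⟩ := (CfsgLib.Coprime.mem_sup_iff_of_le_normalizer
        (hWV.trans (le_normalizer_of_abelian hV inf_le_left))).1 (hC'le hc)
      rw [comm_mul_left_of_abelian hV (hAV ha) (hWV hw) hd.1,
        (commutatorElement_eq_one_iff_mul_comm (g₁ := d) (g₂ := a)).2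
          (mem_centralizer_iff.1 hd.2 a ha).symm, mul_one]
      exact commutator_mem_commutator hw ha
  rw [hW1, bot_sup_eq] at hC'le
  exact sq_eq_one_of_quadratic hh hAL fun v hv a ha =>
    mem_centralizer_iff.1 (hC'le (hfix.ge (mem_sup_left (commutator_mem_commutator hv ha)))).2 a ha

end CfsgLib.PLocal
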