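import Mathlib
import Cfsg.Agent.Lib.PLocal.AbelianOffender
import Cfsg.Agent.Lib.PLocal.OffenderGlobal
import Cfsg.Agent.Lib.LocalEven.JAbel
import Cfsg.Agent.Lib.Transfer.ThompsonComplement
import Cfsg.Agent.Lib.Base.MinimalNormal

/-!
Failure of factorization for the abelian subgroups of largest order of a solvable group.
-/

set_option autoImplicit false
set_option linter.style.haveILetI false
set_option linter.unusedSectionVars false

namespace CfsgLib.PLocal

open Subgroup Cfsg
open scoped commutatorElement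

/-- `SL₂(2) ≅ S₃`, from the action on the three nonzero vectors. -/
theorem slTwoTwo_equiv_perm :
    Nonempty (Matrix.SpecialLinearGroup (Fin 2) (ZMod 2) ≃* Equiv.Perm (Fin 3)) := by
  let vecs : Fin 3 → Fin 2 → ZMod 2 := ![![1, 0], ![0, 1], ![1, 1]]
  let f : Matrix.SpecialLinearGroup (Fin 2) (ZMod 2) → Fin 3 → Fin 3 := fun g i =>
    let w := (g : Matrix (Fin 2) (Fin 2) (ZMod 2)).mulVec (vecs i)
    if w 1 = 0 then 0 else if w 0 = 0 then 1 else 2
  have h1 : ∀ g i, f g⁻¹ (f g i) = i := by decide
  have h2 : ∀ g i, f g (f g⁻¹ i) = i := by decide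
  have h3 : ∀ g h i, f (g * h) i = f g (f h i) := by decide
  let φ : Matrix.SpecialLinearGroup (Fin 2) (ZMod 2) →* Equiv.Perm (Fin 3) :=
    MonoidHom.mk' (fun g => ⟨f g, f g⁻¹, h1 g, h2 g⟩) fun g h => Equiv.ext (h3 g h)
  have hinj : Function.Injective φ := by
    have : ∀ g h, (∀ i, f g i = f h i) → g = h := by decide
    exact fun g h e => this g h fun i => congrFun (congrArg DFunLike.coe e) i
  have hc : Fintype.card (Matrix.SpecialLinearGroup (Fin 2) (ZMod 2))
      = Fintype.card (Equiv.Perm (Fin 3)) := by decide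
  exact ⟨MulEquiv.ofBijective φ ((Fintype.bijective_iff_injective_and_card _).2 ⟨hinj, hc⟩)⟩

variable {X : Type*} [Group X] [Finite X]

/-- The image of a normal subgroup has trivial `O₂` when the whole image has. -/
theorem ffGroup_map_normal [Group.IsSolvable X] {V : Subgroup X} [V.Normal]
    (hV : IsElementaryAbelian 2 V) (hO : pCore 2 (X ⧸ centralizer (V : Set X)) = ⊥)
    (Y : Subgroup X) [Y.Normal] : FFGroup 2 (holBase V) (Y.map (toHol V)) := by
  haveI : Fact (Nat.Prime 2) := ⟨Nat.prime_two⟩
  refine ⟨isElementaryAbelian_holBase hV, (map_le_range _ _).trans range_le_normalizer,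
    eq_bot_iff.2 ((inf_le_inf_right _ (map_le_range _ _)).trans range_inf_centralizer.le), ?_⟩
  set H := Y.map (toHol V) with hH
  have hYsep : IsPSolvable 2 H :=
    isPSolvable_map _ (isPSolvable_subgroup isPSolvable_of_isSolvable Y)
  refine CfsgLib.FgsC.HallHigmanB.centralizer_pPrimeCore_le hYsep ?_
  set L := (⊤ : Subgroup X).map (toHol V) with hL
  have hHL : H ≤ L := map_mono le_top
  have hn : L ≤ normalizer (H : Set (Hol V)) :=
    (map_mono (le_normalizer_of_normal (H := Y))).trans (le_normalizer_map _)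
  haveI : (H.subgroupOf L).Normal := normal_subgroupOf_of_le_normalizer hn
  have h1 := CfsgLib.Base.map_pCore_le_of_isSubnormal (p := 2)
    (Normal.isSubnormal (inferInstance : (H.subgroupOf L).Normal))
  rw [pCore_map_top_toHol hO, le_bot_iff,
    map_eq_bot_iff_of_injective _ (H.subgroupOf L).subtype_injective] at h1
  rw [← CfsgLib.Base.map_pCore_mulEquiv (subgroupOfEquivOfLe hHL), h1, Subgroup.map_bot]

/-- The images of abelian subgroups of largest order are best offenders. -/
theorem isBestOffenderOn_maxAb [Group.IsSolvable X] {V : Subgroup X} [V.Normal]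
    (hV : IsElementaryAbelian 2 V) (hO : pCore 2 (X ⧸ centralizer (V : Set X)) = ⊥)
    {R A : Subgroup X} (hRp : IsPGroup 2 R) (hVR : V ≤ R) (hA : A ∈ LocalEven.maxAb R) :
    IsBestOffenderOn 2 (holBase V) (A.map (toHol V)) := by
  haveI : Fact (Nat.Prime 2) := ⟨Nat.prime_two⟩
  obtain ⟨hAR, hc, -⟩ := LocalEven.mem_maxAb.1 hA
  have hmax : ∀ B, B ≤ A.map (toHol V) →
      offMeasure (holBase V) B ≤ offMeasure (holBase V) (A.map (toHol V)) := by
    intro B hB
    set B₀ := A ⊓ B.comap (toHol V) with hB₀
    have e : B₀.map (toHol V) = B := by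
      refine le_antisymm ((map_mono inf_le_right).trans (map_comap_le _ _)) fun b hb => ?_
      obtain ⟨a, ha, rfl⟩ := hB hb
      exact ⟨a, ⟨ha, hb⟩, rfl⟩
    have e' : B₀ ⊓ centralizer (V : Set X) = A ⊓ centralizer (V : Set X) := by
      refine le_antisymm (inf_le_inf_right _ inf_le_left)
        (le_inf (fun x hx => ⟨hx.1, ?_⟩) inf_le_right)
      show toHol V x ∈ B
      rw [← ker_toHol] at hx
      rw [MonoidHom.mem_ker.1 hx.2]; exact one_mem _
    have h1 := LocalEven.card_offender hA hV.1 hVR (inf_le_left : B₀ ≤ A)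
    rw [card_map_toHol (V := V) A, card_map_toHol (V := V) B₀, e, e'] at h1
    unfold offMeasure
    rw [← e, card_fix_holBase, card_fix_holBase, e]
    refine Nat.le_of_mul_le_mul_right ?_ (Nat.card_pos (α := ↥(A ⊓ centralizer (V : Set X))))
    calc _ = _ := by ring
      _ ≤ _ := h1
      _ = _ := by ring
  have hab : IsMulCommutative (A.map (toHol V)) := ⟨⟨by
    rintro ⟨_, a, ha, rfl⟩ ⟨_, b, hb, rfl⟩
    refine Subtype.ext ?_
    show toHol V a * toHol V b = toHol V b * toHol V a
    rw [← map_mul, ← map_mul, comm_of_mem hc ha hb]⟩⟩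
  have hsq := sq_eq_one_of_max (L := (⊤ : Subgroup X).map (toHol V))
    (ffGroup_map_normal hV hO ⊤) (map_mono le_top) hab
    ((isPGroup_of_le' hRp hAR).map _) hmax
  refine ⟨fun B hB => hmax B hB, ?_, fun a ha => by rw [hsq a ha]; exact one_mem _⟩
  exact commutator_le.2 fun x hx y hy => by
    rw [commutatorElement_eq_one_iff_mul_comm.2 (comm_of_mem hab hx hy)]
    exact one_mem _
where
  isPGroup_of_le' {G : Type _} [Group G] {A B : Subgroup G} (hB : IsPGroup 2 B) (h : A ≤ B) :
      IsPGroup 2 A := hB.to_le h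

/-- The image of the normal closure of `J` is a direct product of copies of `S₃`. -/
theorem map_normalClosure_jAb_equiv [Group.IsSolvable X] {V : Subgroup X} [V.Normal]
    (hV : IsElementaryAbelian 2 V) (hO : pCore 2 (X ⧸ centralizer (V : Set X)) = ⊥)
    (T : Sylow 2 X) (hVT : V ≤ (T : Subgroup X)) :
    ∃ n : ℕ, Nonempty (↥((normalClosure (LocalEven.jAb (T : Subgroup X) : Set X)).map (toHol V))
      ≃* (Fin n → Equiv.Perm (Fin 3))) := by
  classical
  haveI : Fact (Nat.Prime 2) := ⟨Nat.prime_two⟩
  set J := LocalEven.jAb (T : Subgroup X)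
  set Y := normalClosure (J : Set X)
  set H := Y.map (toHol V)
  have hh : FFGroup 2 (holBase V) H := ffGroup_map_normal hV hO Y
  have hS3 : H = ⨆ B : {B : Subgroup (Hol V) // B ≤ H ∧ IsBestOffenderOn 2 (holBase V) B},
      (B : Subgroup (Hol V)) := by
    refine le_antisymm ?_ (iSup_le fun B => B.2.1)
    rw [map_le_iff_le_comap]
    refine (closure_le _).2 fun x hx => ?_
    obtain ⟨j, hj, hjx⟩ := Group.mem_conjugatesOfSet_iff.1 hx
    obtain ⟨g, rfl⟩ := isConj_iff.1 hjx
    suffices hJ : J.map (MulAut.conj g).toMonoidHom ≤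
        (⨆ B : {B : Subgroup (Hol V) // B ≤ H ∧ IsBestOffenderOn 2 (holBase V) B},
          (B : Subgroup (Hol V))).comap (toHol V) from hJ ⟨j, hj, rfl⟩
    rw [map_le_iff_le_comap]
    refine sSup_le fun A hA => ?_
    rw [← map_le_iff_le_comap, ← map_le_iff_le_comap]
    obtain ⟨hAT, hc, hmax⟩ := LocalEven.mem_maxAb.1 hA
    set c := (MulAut.conj g).toMonoidHom with hcdef
    have hAg : A.map c ∈ LocalEven.maxAb ((T : Subgroup X).map c) := by
      refine LocalEven.mem_maxAb.2 ⟨map_mono hAT, map_isMulCommutative A c, fun B hB hBc => ?_⟩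
      have h1 := hmax (B.map (MulAut.conj g⁻¹).toMonoidHom) ?_ (map_isMulCommutative B _)
      · rw [CfsgLib.Base.card_map_conj] at h1
        rw [hcdef, CfsgLib.Base.card_map_conj]
        exact h1
      · rintro _ ⟨b, hb, rfl⟩
        obtain ⟨t, ht, rfl⟩ := hB hb
        have e : MulAut.conj g⁻¹ (MulAut.conj g t) = t := by simp [mul_assoc]
        exact (show MulAut.conj g⁻¹ (MulAut.conj g t) ∈ (T : Subgroup X) from e.symm ▸ ht)
    have hle : A.map c ≤ Y := by
      rintro _ ⟨a, ha, rfl⟩
      exact (normalClosure_normal (s := (J : Set X))).conj_mem a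
        (subset_normalClosure (LocalEven.le_jAb hA ha)) g
    have hVc : V ≤ (T : Subgroup X).map c := fun v hv =>
      ⟨g⁻¹ * v * g, hVT (by simpa using (inferInstance : V.Normal).conj_mem v hv g⁻¹), by
        simp [hcdef, mul_assoc]⟩
    exact le_iSup_of_le (ι := {B : Subgroup (Hol V) // B ≤ H ∧ IsBestOffenderOn 2 (holBase V) B})
      ⟨_, map_mono hle, isBestOffenderOn_maxAb hV hO (T.2.map c) hVc hAg⟩ le_rfl
  let S : Set (Subgroup (Hol V)) := {E | ∃ A, FFMin 2 (holBase V) H A ∧ E = factor 2 H A}
  obtain ⟨hind, hsup, -, -⟩ := structure_theorem hh hS3 S fun E => Iff.rfl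
  have hcomm : Pairwise fun E F : S => ∀ x y : Hol V,
      x ∈ (E : Subgroup (Hol V)) → y ∈ (F : Subgroup (Hol V)) → Commute x y := by
    intro E F hEF x y hx hy
    obtain ⟨A, hA, eA⟩ := E.2
    obtain ⟨B, hB, eB⟩ := F.2
    rcases hA.dichotomy hB with e | ⟨-, h, -, -⟩
    · exact absurd (Subtype.ext (by rw [eA, eB, e])) hEF
    · rw [eA] at hx; rw [eB] at hy
      exact commutatorElement_eq_one_iff_mul_comm.1
        (mem_bot.1 (h ▸ commutator_mem_commutator hx hy))
  haveI : Fintype S := Fintype.ofFinite _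
  let φ := noncommPiCoprod (H := fun E : S => (E : Subgroup (Hol V))) hcomm
  have hφ : Function.Injective φ := injective_noncommPiCoprod_of_iSupIndep hind
  have hr : φ.range = H := by rw [← hsup]; exact noncommPiCoprod_range
  obtain ⟨s⟩ := slTwoTwo_equiv_perm
  have he : ∀ E : S, Nonempty (↥(E : Subgroup (Hol V)) ≃* Equiv.Perm (Fin 3)) := fun E => by
    obtain ⟨A, hA, eA⟩ := E.2
    obtain ⟨e⟩ := hA.isPlane_factor.equiv
    exact ⟨(MulEquiv.subgroupCongr eA).trans (e.trans s)⟩
  refine ⟨Fintype.card S, ⟨((MulEquiv.subgroupCongr hr.symm).trans (MonoidHom.ofInjective hφ).symm).trans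
    ((MulEquiv.piCongrRight fun E => (he E).some).trans
      { toEquiv := Equiv.arrowCongr (Fintype.equivFin S) (Equiv.refl _)
        map_mul' := fun _ _ => rfl })⟩⟩

/-- Thompson factorization with abelian subgroups of largest order in a solvable group with
`F(X)` a `2`-group. -/
theorem abelian_failure [Group.IsSolvable X]
    (hF : fittingSubgroup X = pCore 2 X) (T : Sylow 2 X) :
    ((centralizer (((T : Subgroup X) ⊓ centralizer ((T : Subgroup X) : Set X) : Subgroup X) :
        Set X)).normalCore
        ⊔ normalClosure (thompsonSubgroupAOf (T : Subgroup X) : Set X)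
        ⊔ normalizer (thompsonSubgroupAOf (T : Subgroup X) : Set X) = ⊤) ∧
    (normalClosure (thompsonSubgroupAOf (T : Subgroup X) : Set X)
        ≤ (centralizer (((T : Subgroup X) ⊓ centralizer ((T : Subgroup X) : Set X) : Subgroup X) :
          Set X)).normalCore
      ∨ ∃ n : ℕ, 1 ≤ n ∧
        Nonempty (↥(normalClosure (thompsonSubgroupAOf (T : Subgroup X) : Set X)) ⧸
            ((centralizer (((T : Subgroup X) ⊓ centralizer ((T : Subgroup X) : Set X) : Subgroup X) :
              Set X)).normalCore).subgroupOf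
              (normalClosure (thompsonSubgroupAOf (T : Subgroup X) : Set X))
          ≃* (Fin n → Equiv.Perm (Fin 3)))) := by
  haveI : Fact (Nat.Prime 2) := ⟨Nat.prime_two⟩
  simp only [LocalEven.thompsonSubgroupAOf_eq_jAb]
  set J := LocalEven.jAb (T : Subgroup X) with hJ
  set Y := normalClosure (J : Set X) with hY
  constructor
  · -- Frattini
    rw [eq_top_iff]
    have hJY : J ≤ (T : Subgroup X) ⊓ Y :=
      le_inf (LocalEven.jAb_le _) fun x hx => subset_normalClosure hx
    have hN : normalizer (((T : Subgroup X) ⊓ Y : Subgroup X) : Set X) ≤ normalizer (J : Set X) := by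
      have e : LocalEven.jAb ((T : Subgroup X) ⊓ Y) = J := by
        obtain ⟨A, hA⟩ := LocalEven.maxAb_nonempty (T : Subgroup X)
        have hiff := fun {B : Subgroup X} => LocalEven.mem_maxAb_iff_of_le (B := B)
          (inf_le_left : (T : Subgroup X) ⊓ Y ≤ T) hA ((LocalEven.le_jAb hA).trans hJY)
        exact le_antisymm (sSup_le fun B hB => LocalEven.le_jAb (hiff.1 hB).1)
          (sSup_le fun B hB => LocalEven.le_jAb (hiff.2 ⟨hB, (LocalEven.le_jAb hB).trans hJY⟩))
      exact e ▸ LocalEven.normalizer_le_normalizer_jAb _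
    intro g _
    obtain ⟨d, hd, m, hm, rfl⟩ := exists_mul_normalizer T Y g
    exact mul_mem (mem_sup_left (mem_sup_right hd)) (mem_sup_right (hN hm))
  · -- the centre and its normal closure
    set Z := (T : Subgroup X) ⊓ centralizer ((T : Subgroup X) : Set X) with hZ
    set U := normalClosure (Z : Set X) with hU
    have hCO : centralizer (pCore 2 X : Set X) ≤ pCore 2 X := by
      rw [← hF]; exact CfsgLib.Base.centralizer_fittingSubgroup_le
    have hOT : pCore 2 X ≤ (T : Subgroup X) := CfsgLib.Base.pCore_le_sylow T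
    haveI := pCore_normal 2 X
    haveI : (centralizer (pCore 2 X : Set X)).Normal := inferInstance
    have hUle : U ≤ pCore 2 X ⊓ centralizer (pCore 2 X : Set X) := by
      refine normalClosure_le_normal (N := pCore 2 X ⊓ centralizer (pCore 2 X : Set X))
        fun z hz => ?_
      have hzc : z ∈ centralizer (pCore 2 X : Set X) :=
        centralizer_le (SetLike.coe_subset_coe.2 hOT) (mem_inf.1 hz).2
      exact ⟨hCO hzc, hzc⟩
    have hUp : IsPGroup 2 U := (CfsgLib.Base.isPGroup_pCore 2 X).to_le (hUle.trans inf_le_left)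
    have hUc : U ≤ centralizer (U : Set X) := fun u hu =>
      centralizer_le (SetLike.coe_subset_coe.2 (hUle.trans inf_le_left)) (mem_inf.1 (hUle hu)).2
    have hcore : (centralizer (Z : Set X)).normalCore = centralizer (U : Set X) := by
      refine le_antisymm (le_centralizer_iff.1 ?_) ?_
      · haveI := normalCore_normal (centralizer (Z : Set X))
        refine normalClosure_le_normal fun z hz => mem_centralizer_iff.2 fun c hc => ?_
        exact ((mem_centralizer_iff.1 (normalCore_le _ hc)) z hz).symm
      · exact normal_le_normalCore.2 (centralizer_le fun z hz => subset_normalClosure hz)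
    have hgen : U ≤ ⨆ S : Sylow 2 X, U ⊓ centralizer ((S : Subgroup X) : Set X) := by
      refine (closure_le _).2 fun x hx => ?_
      obtain ⟨z, hz, hzx⟩ := Group.mem_conjugatesOfSet_iff.1 hx
      obtain ⟨g, rfl⟩ := isConj_iff.1 hzx
      refine mem_iSup_of_mem (g • T) ⟨?_, mem_centralizer_iff.2 ?_⟩
      · exact (normalClosure_normal (s := (Z : Set X))).conj_mem z (subset_normalClosure hz) g
      · intro t ht
        rw [Sylow.coe_subgroup_smul, Subgroup.pointwise_smul_def] at ht
        obtain ⟨s, hs, rfl⟩ := ht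
        have := mem_centralizer_iff.1 (mem_inf.1 hz).2 s hs
        show g * s * g⁻¹ * (g * z * g⁻¹) = g * z * g⁻¹ * (g * s * g⁻¹)
        rw [show g * s * g⁻¹ * (g * z * g⁻¹) = g * (s * z) * g⁻¹ by group, this]
        group
    have hO' := pCore_quotient_eq_bot (p := 2) hgen
    set V := omegaOne 2 U with hVdef
    haveI : V.Normal := CfsgLib.Transfer.omegaOne_normal normalClosure_normal
    have hV : IsElementaryAbelian 2 V := isElementaryAbelian_omegaOne hUc
    have hCV : centralizer (V : Set X) = centralizer (U : Set X) := by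
      refine le_antisymm ?_ (centralizer_le (SetLike.coe_subset_coe.2 (omegaOne_le 2 U)))
      have hp : IsPGroup 2 ((centralizer (V : Set X)).map
          (QuotientGroup.mk' (centralizer (U : Set X)))) := by
        rintro ⟨_, c, hc, rfl⟩
        refine ⟨(orderOf c).factorization 2, Subtype.ext ?_⟩
        show (QuotientGroup.mk' (centralizer (U : Set X)) c) ^ 2 ^ _ = 1
        rw [← map_pow, QuotientGroup.mk'_apply, QuotientGroup.eq_one_iff]
        refine CfsgLib.Transfer.mem_centralizer_of_omegaOne normalClosure_normal hUp hUc ?_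
          (pow_mem hc _)
        rw [orderOf_pow' _ (pow_ne_zero _ two_ne_zero),
          Nat.gcd_eq_right (Nat.ordProj_dvd (orderOf c) 2)]
        exact (Nat.coprime_ordCompl Nat.prime_two (orderOf_pos c).ne').symm
      haveI : ((centralizer (V : Set X)).map
          (QuotientGroup.mk' (centralizer (U : Set X)))).Normal :=
        Normal.map inferInstance _ (QuotientGroup.mk'_surjective _)
      have h1 := CfsgLib.Base.le_pCore hp
      rw [hO', le_bot_iff, Subgroup.map_eq_bot_iff, QuotientGroup.ker_mk'] at h1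
      exact h1
    have hO : pCore 2 (X ⧸ centralizer (V : Set X)) = ⊥ := by
      have key : ∀ (N : Subgroup X) [N.Normal], centralizer (U : Set X) = N →
          pCore 2 (X ⧸ N) = ⊥ := by
        intro N _ e
        subst e
        exact hO'
      exact key _ hCV.symm
    by_cases hle : Y ≤ centralizer (U : Set X)
    · exact Or.inl (hle.trans hcore.ge)
    right
    have hVT : V ≤ (T : Subgroup X) :=
      (omegaOne_le 2 U).trans (hUle.trans (inf_le_left.trans hOT))
    obtain ⟨n, ⟨e⟩⟩ := map_normalClosure_jAb_equiv hV hO T hVT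
    set f := (toHol V).comp Y.subtype with hf
    have hk : f.ker = ((centralizer (Z : Set X)).normalCore).subgroupOf Y := by
      rw [show ((centralizer (Z : Set X)).normalCore).subgroupOf Y =
        (centralizer (U : Set X)).subgroupOf Y from congrArg (fun K => K.subgroupOf Y) hcore,
        ← hCV, ← ker_toHol]
      rfl
    have hr : f.range = Y.map (toHol V) := by rw [hf, MonoidHom.range_comp, range_subtype]
    have key : ∀ Y' : Subgroup X, Y' = Y → Nonempty
        (↥Y' ⧸ ((centralizer (Z : Set X)).normalCore).subgroupOf Y' ≃*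
          (Fin n → Equiv.Perm (Fin 3))) := by
      intro Y' hY'
      subst hY'
      exact ⟨((QuotientGroup.quotientMulEquivOfEq hk.symm).trans
        ((QuotientGroup.quotientKerEquivRange f).trans (MulEquiv.subgroupCongr hr))).trans e⟩
    refine ⟨n, ?_, key _ (by rw [LocalEven.thompsonSubgroupAOf_eq_jAb])⟩
    by_contra hn0
    obtain rfl : n = 0 := by omega
    haveI : Subsingleton ↥(Y.map (toHol V)) := e.toEquiv.subsingleton
    refine hle ?_
    rw [← hCV, ← ker_toHol, ← Subgroup.map_eq_bot_iff]
    exact (eq_bot_iff_forall _).2 fun x hx => congrArg Subtype.val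
      (Subsingleton.elim (⟨x, hx⟩ : ↥(Y.map (toHol V))) 1)

end CfsgLib.PLocal
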