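import Mathlib
import Cfsg.Prelude.Def_DStar
import Cfsg.Agent.Lib.PLocal.ZJ
import Cfsg.Agent.Lib.PLocal.StableNormal

/-!
The subgroup `D*`: its members commute, and the `D*`-theorem.
-/

set_option autoImplicit false
set_option linter.style.haveILetI false

namespace CfsgLib.PLocal

open Subgroup Cfsg CfsgLib.Base
open scoped commutatorElement

universe u

variable {G : Type u} [Group G] {H : Type*} [Group H]

/-- `⟨A, x⟩` has class at most two. -/
def ClassTwoWith (A : Subgroup G) (x : G) : Prop :=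
  ⁅⁅A ⊔ zpowers x, A ⊔ zpowers x⁆, A ⊔ zpowers x⁆ = ⊥

theorem ClassTwoWith.mono {A B : Subgroup G} {x : G} (h : ClassTwoWith B x) (hAB : A ≤ B) :
    ClassTwoWith A x := by
  have h1 : A ⊔ zpowers x ≤ B ⊔ zpowers x := sup_le_sup_right hAB _
  exact le_bot_iff.1 ((commutator_mono (commutator_mono h1 h1) h1).trans h.le)

theorem classTwoWith_map_iff {f : G →* H} (hf : Function.Injective f) {A : Subgroup G} {x : G} :
    ClassTwoWith (A.map f) (f x) ↔ ClassTwoWith A x := by
  rw [ClassTwoWith, ClassTwoWith, ← MonoidHom.map_zpowers, ← Subgroup.map_sup, ← map_commutator,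
    ← map_commutator, map_eq_bot_iff_of_injective _ hf]

theorem isMulCommutative_map {f : G →* H} {A : Subgroup G} (h : IsMulCommutative A) :
    IsMulCommutative (A.map f) := by
  refine ⟨⟨?_⟩⟩
  rintro ⟨_, a, ha, rfl⟩ ⟨_, b, hb, rfl⟩
  exact Subtype.ext (by simpa using congrArg f (comm_of_mem h ha hb))

theorem map_mem_dStarFamily {S T : Type*} [Group S] [Group T] (φ : S ≃* T) {A : Subgroup S}
    (hA : A ∈ dStarFamily S) : A.map φ.toMonoidHom ∈ dStarFamily T := by
  refine ⟨isMulCommutative_map hA.1, fun y hy a ha => ?_⟩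
  obtain ⟨b, hb, rfl⟩ := ha
  obtain ⟨x, rfl⟩ := φ.surjective y
  have h := hA.2 x ((classTwoWith_map_iff φ.injective).1 hy) b hb
  simpa using congrArg φ h

theorem subgroupOf_mem_dStarFamily {A M : Subgroup G} (hA : A ∈ dStarFamily G) (hM : A ≤ M) :
    A.subgroupOf M ∈ dStarFamily M := by
  refine ⟨⟨⟨fun a b => Subtype.ext (Subtype.ext (comm_of_mem hA.1 a.2 b.2))⟩⟩, fun x hx a ha => ?_⟩
  have h : ClassTwoWith ((A.subgroupOf M).map M.subtype) (x : G) :=
    (classTwoWith_map_iff M.subtype_injective).2 hx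
  rw [map_subgroupOf_eq_of_le hM] at h
  exact Subtype.ext (hA.2 x h a ha)

theorem isMulCommutative_of_le_centralizer {A : Subgroup G} (h : A ≤ centralizer (A : Set G)) :
    IsMulCommutative A :=
  ⟨⟨fun a b => Subtype.ext ((mem_centralizer_iff.1 (h b.2)) a a.2)⟩⟩

/-- The normal closure of a member with commuting conjugates. -/
theorem normalClosure_mem_dStarFamily {A : Subgroup G} (hA : A ∈ dStarFamily G)
    (hcomm : IsMulCommutative (normalClosure (A : Set G))) :
    normalClosure (A : Set G) ∈ dStarFamily G := by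
  refine ⟨hcomm, fun x hx => ?_⟩
  have hle : normalClosure (A : Set G) ≤ centralizer ({x} : Set G) := by
    refine (closure_le _).2 fun y hy => ?_
    obtain ⟨a, ha, hconj⟩ := Group.mem_conjugatesOfSet_iff.1 hy
    obtain ⟨g, rfl⟩ := isConj_iff.1 hconj
    have hle : A.map (MulAut.conj g).toMonoidHom ≤ normalClosure (A : Set G) := by
      rintro _ ⟨b, hb, rfl⟩
      exact normalClosure_normal.conj_mem b (subset_normalClosure hb) g
    have h := (map_mem_dStarFamily (MulAut.conj g) hA).2 x (ClassTwoWith.mono hx hle) _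
      (mem_map_of_mem _ ha)
    exact mem_centralizer_singleton_iff.2 h
  exact fun a ha => mem_centralizer_singleton_iff.1 (hle ha)

/-- Two normal members commute. -/
theorem commute_of_normal_members {N M : Subgroup G} [N.Normal] [M.Normal]
    (hN : N ∈ dStarFamily G) (hM : IsMulCommutative M) : M ≤ centralizer (N : Set G) := by
  intro b hb
  refine mem_centralizer_iff.2 fun a ha => hN.2 b ?_ a ha
  set K := N ⊔ zpowers b
  have hK : K ≤ N ⊔ M := sup_le_sup_left (zpowers_le_of_mem hb) _
  refine le_bot_iff.1 ((commutator_mono (commutator_mono hK hK) hK).trans ?_)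
  rw [le_bot_iff, commutator_eq_bot_iff_le_centralizer]
  have h1 : ⁅N ⊔ M, N ⊔ M⁆ ≤ N ⊓ M := by
    rw [← map_mk'_eq_bot_iff (N := N ⊓ M), map_commutator, commutator_eq_bot_iff_le_centralizer,
      Subgroup.map_sup]
    set π := QuotientGroup.mk' (N ⊓ M)
    have hc : ∀ (A B : Subgroup G), ⁅A, B⁆ ≤ N ⊓ M → A.map π ≤ centralizer (B.map π : Set (G ⧸ N ⊓ M)) :=
      fun A B h => commutator_eq_bot_iff_le_centralizer.1 (by
        rw [← map_commutator]; exact (map_mk'_eq_bot_iff).2 h)
    have hNN : ⁅N, N⁆ ≤ N ⊓ M := (commutator_eq_bot_iff_le_centralizer.2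
      fun x hx => mem_centralizer_iff.2 fun y hy => comm_of_mem hN.1 hy hx).le.trans bot_le
    have hMM : ⁅M, M⁆ ≤ N ⊓ M := (commutator_eq_bot_iff_le_centralizer.2
      fun x hx => mem_centralizer_iff.2 fun y hy => comm_of_mem hM hy hx).le.trans bot_le
    have hNM : ⁅N, M⁆ ≤ N ⊓ M := commutator_le_inf N M
    rw [Subgroup.sup_eq_closure (N.map π), centralizer_closure]
    refine closure_le_centralizer ?_ ?_
    · intro x hx
      exact mem_centralizer_iff.2 fun y hy => hy.elim
        (fun h => mem_centralizer_iff.1 (hc N N hNN hx) y h)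
        (fun h => mem_centralizer_iff.1 (hc N M hNM hx) y h)
    · intro x hx
      exact mem_centralizer_iff.2 fun y hy => hy.elim
        (fun h => mem_centralizer_iff.1 (hc M N (commutator_comm N M ▸ hNM) hx) y h)
        (fun h => mem_centralizer_iff.1 (hc M M hMM hx) y h)
  refine h1.trans fun x hx => mem_centralizer_iff.2 ?_
  suffices h : N ⊔ M ≤ centralizer ({x} : Set G) from fun y hy =>
    mem_centralizer_singleton_iff.1 (h hy)
  exact sup_le (fun y hy => mem_centralizer_singleton_iff.2 (comm_of_mem hN.1 hy hx.1))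
    (fun y hy => mem_centralizer_singleton_iff.2 (comm_of_mem hM hy hx.2))
where
  closure_le_centralizer {G' : Type u} [Group G'] {A B : Subgroup G'} {C : Set G'}
      (hA : A ≤ centralizer C) (hB : B ≤ centralizer C) :
      closure ((A : Set G') ∪ B) ≤ centralizer C :=
    (closure_le _).2 (Set.union_subset hA hB)

/-- Members of the family commute. -/
theorem members_commute {p : ℕ} [Fact p.Prime] : ∀ (n : ℕ) (S : Type u) [Group S] [Finite S],
    Nat.card S = n → IsPGroup p S → ∀ A ∈ dStarFamily S, ∀ B ∈ dStarFamily S,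
      B ≤ centralizer (A : Set S) := by
  intro n
  induction n using Nat.strong_induction_on with
  | _ n ih =>
  intro S _ _ hn hS A hA B hB
  have key : ∀ C ∈ dStarFamily S, ∀ D ∈ dStarFamily S, ∀ M : Subgroup S, M ≠ ⊤ → C ≤ M → D ≤ M →
      D ≤ centralizer (C : Set S) := by
    intro C hC D hD M hM hCM hDM d hd
    have h := ih _ (hn ▸ lt_of_le_of_ne M.card_le_card_group fun e => hM (M.card_eq_iff_eq_top.1 e))
      M rfl (hS.to_subgroup M) _ (subgroupOf_mem_dStarFamily hC hCM) _
      (subgroupOf_mem_dStarFamily hD hDM) (x := ⟨d, hDM hd⟩) hd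
    exact mem_centralizer_iff.2 fun c hc =>
      congrArg Subtype.val (mem_centralizer_iff.1 h ⟨c, hCM hc⟩ hc)
  have hcl : ∀ C ∈ dStarFamily S, normalClosure (C : Set S) ∈ dStarFamily S := by
    intro C hC
    refine normalClosure_mem_dStarFamily hC ?_
    by_cases htop : normalClosure (C : Set S) = ⊤
    · have hC' : C = ⊤ := by
        by_contra hne
        obtain ⟨M, hM, hCM⟩ := (eq_top_or_exists_le_coatom C).resolve_left hne
        haveI : Group.IsNilpotent S := hS.isNilpotent
        haveI : M.Normal := NormalizerCondition.normal_of_coatom M Group.normalizerCondition_of_isNilpotent hM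
        exact hM.1 (top_le_iff.1 (htop ▸ normalClosure_le_normal (N := M) hCM))
      rw [htop]
      exact hC' ▸ hC.1
    · refine isMulCommutative_of_le_centralizer ((closure_le _).2 fun x hx => ?_)
      obtain ⟨a, ha, hconj⟩ := Group.mem_conjugatesOfSet_iff.1 hx
      obtain ⟨g, rfl⟩ := isConj_iff.1 hconj
      have hle : ∀ g : S, C.map (MulAut.conj g).toMonoidHom ≤ normalClosure (C : Set S) := by
        rintro g _ ⟨b, hb, rfl⟩
        exact normalClosure_normal.conj_mem b (subset_normalClosure hb) g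
      change g * a * g⁻¹ ∈ centralizer _
      rw [mem_centralizer_iff]
      intro y hy
      suffices h : normalClosure (C : Set S) ≤ centralizer ({g * a * g⁻¹} : Set S) from
        mem_centralizer_singleton_iff.1 (h hy)
      refine (closure_le _).2 fun z hz => ?_
      obtain ⟨c, hc, hconj'⟩ := Group.mem_conjugatesOfSet_iff.1 hz
      obtain ⟨k, rfl⟩ := isConj_iff.1 hconj'
      have h := key _ (map_mem_dStarFamily (MulAut.conj g) hC) _
        (map_mem_dStarFamily (MulAut.conj k) hC) _ htop (hle g) (hle k)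
        (mem_map_of_mem _ hc)
      exact mem_centralizer_singleton_iff.2 (mem_centralizer_iff.1 h _ (mem_map_of_mem _ ha)).symm
  have h := commute_of_normal_members (hcl A hA) (hcl B hB).1
  exact fun b hb => centralizer_le subset_normalClosure (h (subset_normalClosure hb))

/-- `D*(S)` is a member of its family. -/
theorem dStar_mem_dStarFamily {p : ℕ} [Fact p.Prime] {S : Type u} [Group S] [Finite S]
    (hS : IsPGroup p S) : dStar S ∈ dStarFamily S := by
  refine ⟨isMulCommutative_of_le_centralizer (sSup_le fun B hB b hb => ?_), fun x hx => ?_⟩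
  · refine mem_centralizer_iff.2 fun y hy => ?_
    suffices h : dStar S ≤ centralizer ({b} : Set S) from
      mem_centralizer_singleton_iff.1 (h hy)
    refine sSup_le fun A hA a ha => mem_centralizer_singleton_iff.2 ?_
    exact mem_centralizer_iff.1 (members_commute _ S rfl hS A hA B hB hb) a ha
  · have h : dStar S ≤ centralizer ({x} : Set S) := sSup_le fun A hA a ha =>
      mem_centralizer_singleton_iff.2 (hA.2 x (ClassTwoWith.mono hx (le_sSup hA)) a ha)
    exact fun a ha => mem_centralizer_singleton_iff.1 (h ha)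

theorem dStar_characteristic {S : Type u} [Group S] : (dStar S).Characteristic := by
  refine characteristic_iff_le_map.2 fun φ => sSup_le fun A hA => ?_
  have h := map_mem_dStarFamily φ.symm hA
  intro a ha
  exact ⟨φ.symm a, le_sSup h ⟨a, ha, rfl⟩, by simp⟩

theorem le_normalizer_dStarOf (P : Subgroup G) : normalizer (P : Set G) ≤
    normalizer (dStarOf P : Set G) := by
  haveI := dStar_characteristic (S := P)
  exact CfsgLib.Base.normalizer_le_normalizer_map_subtype P (dStar P)

/-- The class of `⟨A, x⟩` from the commutators `[x, a]`. -/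
theorem classTwoWith_of_commute {A : Subgroup G} (hA : IsMulCommutative A) {x : G}
    (hx : x ∈ normalizer (A : Set G)) (h : ∀ a ∈ A, x * ⁅x, a⁆ = ⁅x, a⁆ * x) :
    ClassTwoWith A x := by
  set K := A ⊔ zpowers x with hKdef
  have hAK : A ≤ K := le_sup_left
  have hxK : x ∈ K := mem_sup_right (mem_zpowers x)
  let A' := A.subgroupOf K
  let x' : K := ⟨x, hxK⟩
  have htop : A' ⊔ zpowers x' = ⊤ := by
    apply map_injective K.subtype_injective
    rw [Subgroup.map_sup, map_subgroupOf_eq_of_le hAK, MonoidHom.map_zpowers, ← MonoidHom.range_eq_map,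
      range_subtype]
    rfl
  have hz : ∀ a ∈ A', ⁅x', a⁆ ∈ center K := by
    intro a ha
    have hm : ⁅x, (a : G)⁆ ∈ A := mul_mem ((mem_normalizer_iff.1 hx _).1 ha) (inv_mem ha)
    have hle : K ≤ centralizer ({⁅x, (a : G)⁆} : Set G) :=
      sup_le (fun b hb => mem_centralizer_singleton_iff.2 (comm_of_mem hA hb hm))
        (zpowers_le_of_mem (mem_centralizer_singleton_iff.2 (h a ha)))
    exact mem_center_iff.2 fun k => Subtype.ext (mem_centralizer_singleton_iff.1 (hle k.2))
  have h2 : ⁅(⊤ : Subgroup K), (⊤ : Subgroup K)⁆ ≤ center K := by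
    rw [← map_mk'_eq_bot_iff (N := center K), map_commutator, commutator_eq_bot_iff_le_centralizer,
      ← htop, Subgroup.map_sup, MonoidHom.map_zpowers]
    set π := QuotientGroup.mk' (center K)
    have hxa : ∀ a ∈ A', π x' * π a = π a * π x' := fun a ha => by
      rw [← commutatorElement_eq_one_iff_mul_comm, ← map_commutatorElement]
      exact (QuotientGroup.eq_one_iff _).2 (hz a ha)
    refine sup_le ?_ (zpowers_le_of_mem ?_)
    · rintro _ ⟨a, ha, rfl⟩
      refine mem_centralizer_iff.2 fun y hy => mem_centralizer_singleton_iff.1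
        ((sup_le ?_ (zpowers_le_of_mem ?_) : A'.map π ⊔ zpowers (π x') ≤ centralizer ({π a} : Set _)) hy)
      · rintro _ ⟨b, hb, rfl⟩
        refine mem_centralizer_singleton_iff.2 ?_
        rw [← map_mul, ← map_mul]
        exact congrArg π (Subtype.ext (comm_of_mem hA hb ha))
      · exact mem_centralizer_singleton_iff.2 (hxa a ha)
    · refine mem_centralizer_iff.2 fun y hy => mem_centralizer_singleton_iff.1
        ((sup_le ?_ (zpowers_le_of_mem ?_) : A'.map π ⊔ zpowers (π x') ≤ centralizer ({π x'} : Set _)) hy)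
      · rintro _ ⟨b, hb, rfl⟩
        exact mem_centralizer_singleton_iff.2 (hxa b hb).symm
      · exact mem_centralizer_singleton_iff.2 rfl
  have h3 : ⁅⁅(⊤ : Subgroup K), (⊤ : Subgroup K)⁆, (⊤ : Subgroup K)⁆ = ⊥ :=
    commutator_eq_bot_iff_le_centralizer.2 (h2.trans (by rw [← centralizer_univ, coe_top]))
  have h4 := congrArg (Subgroup.map K.subtype) h3
  rwa [map_commutator, map_commutator, ← MonoidHom.range_eq_map, range_subtype, Subgroup.map_bot] at h4

/-- The `D*`-theorem. -/
theorem dStarOf_normal [Finite G] {p : ℕ} [Fact p.Prime]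
    (hc : centralizer (pCore p G : Set G) ≤ pCore p G) (hst : QuadStable p G) (S : Sylow p G) :
    (dStarOf (S : Subgroup G)).Normal := by
  set D := dStarOf (S : Subgroup G) with hDdef
  set Q := pCore p G with hQdef
  have hDS : D ≤ (S : Subgroup G) := map_subtype_le _
  have hmem := dStar_mem_dStarFamily (p := p) S.2
  have hDc : IsMulCommutative D := isMulCommutative_map hmem.1
  have hSD : (S : Subgroup G) ≤ normalizer (D : Set G) :=
    le_normalizer.trans (le_normalizer_dStarOf _)
  have hDQ : D ≤ Q := by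
    refine (quadratic_le hst (isPGroup_pCore p G) (S.2.to_le hDS) hDc
      ((pCore_le_sylow S).trans hSD)).trans ?_
    haveI : ((pCore p (G ⧸ centralizer (pCore p G : Set G))).comap (QuotientGroup.mk' _)).Normal :=
      (pCore_normal p _).comap _
    refine le_pCore ((isPGroup_pCore p _).comap_of_ker_isPGroup _ ?_)
    rw [QuotientGroup.ker_mk']
    exact (isPGroup_pCore p G).to_le hc
  set V := normalClosure (D : Set G) with hVdef
  have hVQ : V ≤ Q := normalClosure_le_normal hDQ
  have hQS : Q ≤ (S : Subgroup G) := pCore_le_sylow S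
  -- `D` is a member for `Q`
  have hDQmem : D.subgroupOf Q ∈ dStarFamily Q := by
    refine ⟨⟨⟨fun a b => Subtype.ext (Subtype.ext (comm_of_mem hDc a.2 b.2))⟩⟩, fun x hx a ha => ?_⟩
    have hx2 : ClassTwoWith ((D.subgroupOf Q).map Q.subtype) (x : G) :=
      (classTwoWith_map_iff Q.subtype_injective).2 hx
    rw [map_subgroupOf_eq_of_le hDQ] at hx2
    obtain ⟨a₀, ha₀, hae⟩ := (ha : (a : G) ∈ D)
    have h := hmem.2 ⟨x, hQS x.2⟩ ((classTwoWith_map_iff (S : Subgroup G).subtype_injective).1 hx2) a₀ ha₀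
    have h' := congrArg Subtype.val h
    simp only [Subgroup.coe_mul] at h'
    refine Subtype.ext ?_
    have hae' : (a₀ : G) = (a : G) := hae
    rw [Subgroup.coe_mul, Subgroup.coe_mul, ← hae']
    exact h'
  have hVc : IsMulCommutative V := by
    refine isMulCommutative_of_le_centralizer ((closure_le _).2 fun x hx => ?_)
    obtain ⟨a, ha, hconj⟩ := Group.mem_conjugatesOfSet_iff.1 hx
    obtain ⟨g, rfl⟩ := isConj_iff.1 hconj
    rw [SetLike.mem_coe, mem_centralizer_iff]
    intro y hy
    suffices h : V ≤ centralizer ({g * a * g⁻¹} : Set G) from mem_centralizer_singleton_iff.1 (h hy)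
    refine (closure_le _).2 fun z hz => ?_
    obtain ⟨c, hc', hconj'⟩ := Group.mem_conjugatesOfSet_iff.1 hz
    obtain ⟨k, rfl⟩ := isConj_iff.1 hconj'
    have hm : ∀ g : G, ((D.subgroupOf Q).map (MulAut.conjNormal (H := Q) g).toMonoidHom) ∈ dStarFamily Q :=
      fun g => map_mem_dStarFamily _ hDQmem
    have h := members_commute _ Q rfl (isPGroup_pCore p G) _ (hm g) _ (hm k)
      (mem_map_of_mem _ (show (⟨c, hDQ hc'⟩ : Q) ∈ D.subgroupOf Q from hc'))
    have h1 := congrArg Subtype.val (mem_centralizer_iff.1 h _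
      (mem_map_of_mem _ (show (⟨a, hDQ ha⟩ : Q) ∈ D.subgroupOf Q from ha)))
    simp only [Subgroup.coe_mul, MulEquiv.coe_toMonoidHom, MulAut.conjNormal_apply] at h1
    exact mem_centralizer_singleton_iff.2 h1.symm
  -- elements acting quadratically on `V`
  let P : G → Prop := fun g => ∀ v ∈ V, g * ⁅g, v⁆ = ⁅g, v⁆ * g
  set C := centralizer (V : Set G) with hCdef
  haveI : C.Normal := inferInstance
  have hact : ∀ c ∈ C, ∀ s : G, P (c * s) → P s := by
    intro c hc s hP v hv
    have hv' : ⁅s, v⁆ ∈ V := mul_mem ((inferInstance : V.Normal).conj_mem v hv s) (inv_mem hv)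
    have e1 : ⁅c * s, v⁆ = ⁅s, v⁆ := by
      have h1 := mem_centralizer_iff.1 hc _ ((inferInstance : V.Normal).conj_mem v hv s)
      calc ⁅c * s, v⁆ = c * (s * v * s⁻¹) * c⁻¹ * v⁻¹ := by group
        _ = (s * v * s⁻¹) * c * c⁻¹ * v⁻¹ := by rw [h1]
        _ = _ := by group
    have h := hP v hv
    rw [e1, ← mul_assoc ⁅s, v⁆ c s, mem_centralizer_iff.1 hc _ hv', mul_assoc, mul_assoc] at h
    exact mul_left_cancel h
  have hconjP : ∀ g k : G, P g → P (k * g * k⁻¹) := by
    intro g k hP v hv
    have h := congrArg (fun z => k * z * k⁻¹) (hP (k⁻¹ * v * k) (by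
      simpa using (inferInstance : V.Normal).conj_mem v hv k⁻¹))
    simp only [commutatorElement_def] at h ⊢
    calc _ = k * (g * (g * (k⁻¹ * v * k) * g⁻¹ * (k⁻¹ * v * k)⁻¹)) * k⁻¹ := by group
      _ = _ := h
      _ = _ := by group
  have hconjpg : ∀ g k : G, IsPGroup p (zpowers g) → IsPGroup p (zpowers (k * g * k⁻¹)) := by
    intro g k hgp
    have e : zpowers (k * g * k⁻¹) = (zpowers g).map (MulAut.conj k).toMonoidHom := by
      rw [MonoidHom.map_zpowers]; rfl
    rw [e]
    exact hgp.map _
  have hcentD : ∀ g : G, IsPGroup p (zpowers g) → P g → g ∈ centralizer (D : Set G) := by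
    intro g hgp hP
    set K := (pCore p (G ⧸ C)).comap (QuotientGroup.mk' C)
    haveI : K.Normal := (pCore_normal p (G ⧸ C)).comap _
    have hgK : g ∈ K := by
      refine hst V (IsPGroup.to_le (isPGroup_pCore p G) hVQ) g hgp ?_
      rw [quadratic_iff]
      intro v hv
      rw [← commutatorElement_inv g v]
      exact ((Commute.inv_right (hP v hv)) : Commute g ⁅g, v⁆⁻¹).eq
    obtain ⟨k, hk⟩ := pCore_eq_pow_card p (G ⧸ C)
    have hK : C ⊔ ((S : Subgroup G) ⊓ K) = K := eq_sup_sylow_inf S (le_comap_mk' C _) (k := k)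
      (by rw [← card_map_mk'_eq_relIndex, CfsgLib.Base.map_mk'_comap, hk])
    rw [← hK] at hgK
    obtain ⟨c, hc', s, hs, rfl⟩ := mem_sup_of_normal_left.1 hgK
    refine mul_mem (centralizer_le subset_normalClosure hc') (mem_centralizer_iff.2 fun a ha => ?_)
    have hcl := classTwoWith_of_commute hDc (hSD hs.1)
      fun d hd => hact c hc' s hP d (subset_normalClosure hd)
    obtain ⟨a₀, ha₀, rfl⟩ := ha
    exact congrArg Subtype.val (hmem.2 ⟨s, hs.1⟩
      ((classTwoWith_map_iff (S : Subgroup G).subtype_injective).1 hcl) a₀ ha₀)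
  have hcentV : ∀ g : G, IsPGroup p (zpowers g) → P g → g ∈ C := by
    intro g hgp hP
    rw [hCdef, mem_centralizer_iff]
    suffices h : V ≤ centralizer ({g} : Set G) from fun y hy => mem_centralizer_singleton_iff.1 (h hy)
    refine (closure_le _).2 fun z hz => ?_
    obtain ⟨a, ha, hconj⟩ := Group.mem_conjugatesOfSet_iff.1 hz
    obtain ⟨k, rfl⟩ := isConj_iff.1 hconj
    have h := mem_centralizer_iff.1 (hcentD _ (hconjpg g k⁻¹ hgp) (hconjP g k⁻¹ hP)) a ha
    refine mem_centralizer_singleton_iff.2 ?_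
    calc k * a * k⁻¹ * g = k * (a * (k⁻¹ * g * k⁻¹⁻¹)) * k⁻¹ := by group
      _ = k * ((k⁻¹ * g * k⁻¹⁻¹) * a) * k⁻¹ := by rw [h]
      _ = _ := by group
  have hVS : V ≤ (S : Subgroup G) := hVQ.trans hQS
  have hVD : V ≤ D := by
    have hVm : V.subgroupOf (S : Subgroup G) ∈ dStarFamily (S : Subgroup G) := by
      refine ⟨⟨⟨fun a b => Subtype.ext (Subtype.ext (comm_of_mem hVc a.2 b.2))⟩⟩, fun x hx a ha => ?_⟩
      have hx2 : ClassTwoWith ((V.subgroupOf (S : Subgroup G)).map (S : Subgroup G).subtype) (x : G) :=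
        (classTwoWith_map_iff (S : Subgroup G).subtype_injective).2 hx
      rw [map_subgroupOf_eq_of_le hVS] at hx2
      refine Subtype.ext (mem_centralizer_iff.1 (hcentV x (IsPGroup.to_le S.2 (zpowers_le_of_mem x.2)) fun v hv => ?_) a ha)
      have h1 : ⁅(x : G), v⁆ ∈ ⁅V ⊔ zpowers (x : G), V ⊔ zpowers (x : G)⁆ :=
        commutator_mem_commutator (mem_sup_right (mem_zpowers _)) (mem_sup_left hv)
      exact mem_centralizer_iff.1 (commutator_eq_bot_iff_le_centralizer.1 hx2 h1) x
        (mem_sup_right (mem_zpowers _))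
    intro v hv
    exact ⟨⟨v, hVS hv⟩, le_sSup hVm hv, rfl⟩
  have e : D = V := le_antisymm subset_normalClosure hVD
  rw [e]
  exact normalClosure_normal

end CfsgLib.PLocal
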