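import Cfsg.Agent.Lib.PLocal.PLength
import Cfsg.Agent.Lib.OddOrder.PLengthOne
import Cfsg.Agent.Lib.Base.MinimalNormal

/-!
# The derived length of a solvable group is bounded by the Sylow derived lengths and the p-lengths
-/

set_option autoImplicit false
set_option linter.style.haveILetI false

namespace CfsgLib.PLocal

open Subgroup Cfsg CfsgLib.Base

universe u

variable {p : ℕ}

theorem map_upperPSeries_le {G H : Type u} [Group G] [Group H] [Finite G] (f : G →* H)
    (hf : Function.Surjective f) (n : ℕ) :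
    (upperPSeries p G n).1.map f ≤ (upperPSeries p H n).1 := by
  induction n with
  | zero => rw [upperPSeries_zero, Subgroup.map_bot]; exact bot_le
  | succ n ih =>
    set M := (upperPSeries p G n).1
    set M' := (upperPSeries p H n).1
    let g : G ⧸ M →* H ⧸ M' :=
      QuotientGroup.map M M' f (fun x hx => ih (mem_map_of_mem f hx))
    have hg : Function.Surjective g := fun y => by
      obtain ⟨h, rfl⟩ := QuotientGroup.mk'_surjective M' y
      obtain ⟨x, rfl⟩ := hf h
      exact ⟨QuotientGroup.mk' M x, rfl⟩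
    rcases Nat.even_or_odd' n with ⟨k, rfl | rfl⟩
    · rw [upperPSeries_odd, upperPSeries_odd]
      rintro _ ⟨x, hx, rfl⟩
      exact map_pPrimeCore_le g hg ⟨QuotientGroup.mk' M x, hx, rfl⟩
    · rw [show 2 * k + 1 + 1 = 2 * k + 2 by ring, upperPSeries_even, upperPSeries_even]
      rintro _ ⟨x, hx, rfl⟩
      exact map_pCore_le g hg ⟨QuotientGroup.mk' M x, hx, rfl⟩

theorem pLengthLE_of_surjective {G H : Type u} [Group G] [Group H] [Finite G] (f : G →* H)
    (hf : Function.Surjective f) {k : ℕ} (h : PLengthLE p k G) : PLengthLE p k H := by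
  refine eq_top_iff.2 ?_
  have h' : (upperPSeries p G (2 * k + 1)).1 = ⊤ := h
  exact (Subgroup.map_top_of_surjective f hf).ge.trans (h' ▸ map_upperPSeries_le f hf _)

theorem derivedSeries_le_bot_of_surjective {A B : Type u} [Group A] [Group B] (f : A →* B)
    (hf : Function.Surjective f) {k : ℕ} (h : derivedSeries A k = ⊥) : derivedSeries B k = ⊥ := by
  rw [← map_derivedSeries_eq hf, h, Subgroup.map_bot]

/-- **Hall–Higman.** The derived length is at most the sum of `dᵢ * lᵢ`. -/
theorem derivedSeries_eq_bot_of_bounds {r : ℕ} (q : Fin r → ℕ) [hq : ∀ i, Fact (q i).Prime] :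
    ∀ (N : ℕ) {G : Type u} [Group G] [Finite G], Nat.card G ≤ N → Group.IsSolvable G →
      (∀ s : ℕ, s.Prime → s ∣ Nat.card G → ∃ i, q i = s) → Function.Injective q →
      ∀ d l : Fin r → ℕ, (∀ i, ∀ P : Sylow (q i) G, derivedSeries ↥(P : Subgroup G) (d i) = ⊥) →
        (∀ i, PLengthLE (q i) (l i) G) → derivedSeries G (Finset.univ.sum fun i => d i * l i) = ⊥ := by
  intro N
  induction N with
  | zero => intro G _ _ h; exact absurd h (by have := Nat.card_pos (α := G); omega)
  | succ N ih =>
  intro G _ _ hN hG hcover hinj d l hd hl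
  haveI := hG
  rcases subsingleton_or_nontrivial G with hs | hs
  · exact Subsingleton.elim _ _
  -- induction in a quotient
  have hquot : ∀ (K : Subgroup G) [K.Normal], K ≠ ⊥ → ∀ l' : Fin r → ℕ,
      (∀ i, PLengthLE (q i) (l' i) (G ⧸ K)) →
      derivedSeries G (Finset.univ.sum fun i => d i * l' i) ≤ K := by
    intro K _ hK l' hl'
    have hlt : Nat.card (G ⧸ K) ≤ N := by
      have h1 := K.card_eq_card_quotient_mul_card_subgroup
      have h2 : 1 < Nat.card K := (Subgroup.one_lt_card_iff_ne_bot K).2 hK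
      have h3 : 0 < Nat.card (G ⧸ K) := Nat.card_pos
      nlinarith
    haveI : Group.IsSolvable (G ⧸ K) := inferInstance
    have h := ih hlt inferInstance (fun s hs hdvd => hcover s hs
      (hdvd.trans (Subgroup.card_quotient_dvd_card K))) hinj d l' (fun i Q => by
        obtain ⟨P⟩ : Nonempty (Sylow (q i) G) := inferInstance
        obtain ⟨g, hg⟩ := MulAction.exists_smul_eq (G ⧸ K) (P.mapSurjective (QuotientGroup.mk'_surjective K)) Q
        obtain ⟨g, rfl⟩ := QuotientGroup.mk'_surjective K g
        have h1 : derivedSeries ↥((P.mapSurjective (QuotientGroup.mk'_surjective K) : Sylow (q i) (G ⧸ K)) : Subgroup (G ⧸ K)) (d i) = ⊥ := by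
          rw [Sylow.coe_mapSurjective]
          exact derivedSeries_le_bot_of_surjective _ ((QuotientGroup.mk' K).subgroupMap_surjective _) (hd i P)
        rw [← hg]
        let e := Subgroup.equivMapOfInjective
          ((P.mapSurjective (QuotientGroup.mk'_surjective K) : Sylow (q i) (G ⧸ K)) : Subgroup (G ⧸ K))
          (MulAut.conj (QuotientGroup.mk' K g)).toMonoidHom
          (MulAut.conj (QuotientGroup.mk' K g)).injective
        exact derivedSeries_le_bot_of_surjective e.toMonoidHom e.surjective h1) hl'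
    rw [← QuotientGroup.ker_mk' K, ← Subgroup.map_eq_bot_iff,
      map_derivedSeries_eq (QuotientGroup.mk'_surjective K), h]
  obtain ⟨p, hp, hpne⟩ := exists_prime_pCore_ne_bot (G := G)
  haveI := Fact.mk hp
  have hpG : p ∣ Nat.card G := by
    obtain ⟨m, hm⟩ := pCore_eq_pow_card p G
    have h1 : 1 < Nat.card (pCore p G) := (Subgroup.one_lt_card_iff_ne_bot _).2 hpne
    refine dvd_trans ?_ (Subgroup.card_subgroup_dvd_card (pCore p G))
    rw [hm] at h1 ⊢
    exact dvd_pow_self p (fun h => by rw [h, pow_zero] at h1; omega)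
  obtain ⟨i, rfl⟩ := hcover p hp hpG
  have hlq : ∀ (K : Subgroup G) [K.Normal], ∀ j, PLengthLE (q j) (l j) (G ⧸ K) := fun K _ j =>
    pLengthLE_of_surjective _ (QuotientGroup.mk'_surjective K) (hl j)
  by_cases hother : ∃ s : ℕ, s.Prime ∧ s ≠ q i ∧ pCore s G ≠ ⊥
  · obtain ⟨s, hs', hsne, hsc⟩ := hother
    haveI := Fact.mk hs'
    have h1 := hquot _ hpne l (hlq _)
    have h2 := hquot _ hsc l (hlq _)
    refine le_bot_iff.1 ((le_inf h1 h2).trans (le_of_eq ?_))
    rw [← Subgroup.card_eq_one]
    obtain ⟨a, ha⟩ := pCore_eq_pow_card (q i) G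
    obtain ⟨b, hb⟩ := pCore_eq_pow_card s G
    exact Nat.eq_one_of_dvd_coprimes (((Nat.coprime_primes hp hs').2 (Ne.symm hsne)).pow a b)
      (ha ▸ Subgroup.card_dvd_of_le inf_le_left) (hb ▸ Subgroup.card_dvd_of_le inf_le_right)
  push Not at hother
  have hO : pPrimeCore (q i) G = ⊥ := by
    by_contra hne
    set K := pPrimeCore (q i) G with hK
    haveI : Nontrivial K := (Subgroup.nontrivial_iff_ne_bot K).2 hne
    obtain ⟨s, hs', hsc⟩ := exists_prime_pCore_ne_bot (G := K)
    haveI := Fact.mk hs'
    have hsne : s ≠ q i := by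
      rintro rfl
      obtain ⟨a, ha⟩ := pCore_eq_pow_card (q i) K
      have h1 : 1 < Nat.card (pCore (q i) K) := (Subgroup.one_lt_card_iff_ne_bot _).2 hsc
      refine (not_dvd_card_pPrimeCore (q i) G) (dvd_trans ?_ (Subgroup.card_subgroup_dvd_card (pCore (q i) K)))
      rw [ha] at h1 ⊢
      exact dvd_pow_self (q i) (fun h => by rw [h, pow_zero] at h1; omega)
    refine hsc ((Subgroup.map_eq_bot_iff_of_injective _ K.subtype_injective).1 (le_bot_iff.1 ?_))
    rw [← hother s hs' hsne, map_pCore_eq_inf K]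
    exact inf_le_left
  set U := (upperPSeries (q i) G 2).1 with hU
  have hU1 : (upperPSeries (q i) G 1).1 = ⊥ := by rw [CfsgLib.OddOrder.upperPSeries_one_eq, hO]
  have hUp : IsPGroup (q i) U := by
    obtain ⟨m, hm⟩ := pCore_eq_pow_card (q i) (G ⧸ (upperPSeries (q i) G (2 * 0 + 1)).1)
    refine IsPGroup.of_card (n := m) ?_
    rw [hU, show (2 : ℕ) = 2 * 0 + 2 from rfl, upperPSeries_even, card_comap_mk', hm,
      show (upperPSeries (q i) G (2 * 0 + 1)).1 = ⊥ from hU1, Subgroup.card_bot, one_mul]
  have hl0 : l i ≠ 0 := by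
    intro h0
    have h1 := hl i
    rw [h0] at h1
    have h2 : (upperPSeries (q i) G 1).1 = ⊤ := h1
    rw [hU1] at h2
    exact bot_ne_top h2
  have hUne : U ≠ ⊥ := fun h => hpne (le_bot_iff.1 (by
    rw [← h, hU, show (2 : ℕ) = 2 * 0 + 2 from rfl, upperPSeries_even, ← Subgroup.map_le_iff_le_comap]
    exact map_pCore_le _ (QuotientGroup.mk'_surjective _)))
  have hlU : PLengthLE (q i) (l i - 1) (G ⧸ U) := by
    have h1 : (upperPSeries (q i) G (2 * (l i) + 1)).1 = ⊤ := hl i
    rw [show 2 * (l i) + 1 = (2 * (l i - 1) + 1) + 2 by omega, ← comap_upperPSeries] at h1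
    exact Subgroup.comap_injective (QuotientGroup.mk'_surjective _) (h1.trans (Subgroup.comap_top _).symm)
  have h1 := hquot U hUne (Function.update l i (l i - 1)) (fun j => by
    rcases eq_or_ne j i with rfl | hj
    · rw [Function.update_self]; exact hlU
    · rw [Function.update_of_ne hj]; exact hlq U j)
  have hUd : derivedSeries U (d i) = ⊥ := by
    obtain ⟨P, hP⟩ := hUp.exists_le_sylow
    rw [eq_bot_iff]
    intro x hx
    have h2 := map_derivedSeries_le_derivedSeries (Subgroup.inclusion hP) (d i) (mem_map_of_mem _ hx)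
    rw [hd i P, mem_bot] at h2
    exact mem_bot.2 (Subgroup.inclusion_injective hP (h2.trans (map_one _).symm))
  set n' := Finset.univ.sum fun j => d j * Function.update l i (l i - 1) j with hn'
  have hadd : ∀ k, derivedSeries G (n' + k) ≤ (derivedSeries U k).map U.subtype := by
    intro k
    induction k with
    | zero => rw [add_zero, derivedSeries_zero, ← MonoidHom.range_eq_map, Subgroup.range_subtype]; exact h1
    | succ k ihk =>
      rw [← add_assoc, derivedSeries_succ, derivedSeries_succ, Subgroup.map_commutator]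
      exact Subgroup.commutator_mono ihk ihk
  have hsum : (Finset.univ.sum fun j => d j * l j) = n' + d i := by
    rw [hn', ← Finset.add_sum_erase _ _ (Finset.mem_univ i), ← Finset.add_sum_erase _ _ (Finset.mem_univ i),
      Function.update_self]
    have : ∀ j ∈ Finset.univ.erase i, d j * Function.update l i (l i - 1) j = d j * l j := fun j hj => by
      rw [Function.update_of_ne (Finset.ne_of_mem_erase hj)]
    rw [Finset.sum_congr rfl this]
    obtain ⟨m, hm⟩ := Nat.exists_eq_succ_of_ne_zero hl0
    rw [hm]; simp only [Nat.succ_sub_one, Nat.succ_eq_add_one]; ring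
  rw [hsum]
  exact le_bot_iff.1 ((hadd (d i)).trans (by rw [hUd, Subgroup.map_bot]))

end CfsgLib.PLocal
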