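import Mathlib
import Cfsg.Prelude.Def_Solvable
import Cfsg.Agent.Lib.CharsMore.Frobenius
import Cfsg.Agent.Lib.PLocal.Quadratic

/-!
A Frobenius group acting on an abelian group with `C(K) = 1` has `C(H) ≠ 1`.
-/

set_option autoImplicit false
set_option linter.style.haveILetI false

namespace CfsgLib.PLocal

open Subgroup Cfsg
open scoped Pointwise IsMulCommutative

variable {G : Type*} [Group G]

theorem inf_centralizer_complement_ne_bot [Finite G] (V F : Subgroup G) (hVab : IsMulCommutative V)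
    (hV1 : V ≠ ⊥) (hFV : F ≤ normalizer (V : Set G)) (H : Subgroup F)
    (hH : IsFrobeniusComplement H) (hcop : (Nat.card V).Coprime (Nat.card (frobeniusKernel H)))
    (hCK : V ⊓ centralizer (Subtype.val '' frobeniusKernel H : Set G) = ⊥) :
    V ⊓ centralizer ((H.map F.subtype : Subgroup G) : Set G) ≠ ⊥ := by
  classical
  intro hCH
  obtain ⟨K, hKset, hKn, hcompl⟩ :=
    CfsgLib.CharsMore.exists_frobenius_kernel_of_complement H hH
  haveI : Fintype K := Fintype.ofFinite _
  haveI : Fintype H := Fintype.ofFinite _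
  -- the action of `F` on the abelian group `V`
  let act : F → V →* V := fun f =>
    { toFun := fun v => ⟨(f : G) * v * (f : G)⁻¹, conj_mem_of_mem_normalizer (hFV f.2) v.2⟩
      map_one' := by ext; simp
      map_mul' := fun a b => by ext; simp [mul_assoc] }
  have act_mul : ∀ f g : F, ∀ v : V, act (f * g) v = act f (act g v) := fun f g v => by
    ext; simp [act, mul_assoc]
  -- the norm of `H` vanishes
  have hNH : ∀ v : V, ∏ h : H, act h v = 1 := by
    intro v
    set w := ∏ h : H, act h v with hw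
    have hfix : ∀ h : H, act h w = w := by
      intro h
      rw [hw, map_prod]
      refine Fintype.prod_equiv (Equiv.mulLeft h) _ _ fun x => ?_
      rw [Equiv.coe_mulLeft, Subgroup.coe_mul, act_mul]
    have h2 : (w : G) ∈ V ⊓ centralizer ((H.map F.subtype : Subgroup G) : Set G) := by
      refine mem_inf.2 ⟨w.2, mem_centralizer_iff.2 ?_⟩
      rintro _ ⟨f, hf, rfl⟩
      have h3 : (f : G) * w * (f : G)⁻¹ = w := congrArg Subtype.val (hfix ⟨f, hf⟩)
      calc (f : G) * w = (f : G) * w * (f : G)⁻¹ * f := by group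
        _ = w * f := by rw [h3]
    rw [hCH, Subgroup.mem_bot] at h2
    exact Subtype.ext h2
  have hNK : ∀ v : V, ∏ k : K, act k v = 1 := by
    intro v
    set w := ∏ k : K, act k v with hw
    have hfix : ∀ k : K, act k w = w := by
      intro k
      rw [hw, map_prod]
      refine Fintype.prod_equiv (Equiv.mulLeft k) _ _ fun x => ?_
      rw [Equiv.coe_mulLeft, Subgroup.coe_mul, act_mul]
    have h2 : (w : G) ∈ V ⊓ centralizer (Subtype.val '' frobeniusKernel H : Set G) := by
      refine mem_inf.2 ⟨w.2, mem_centralizer_iff.2 ?_⟩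
      rintro _ ⟨f, hf, rfl⟩
      rw [← hKset] at hf
      have h3 : (f : G) * w * (f : G)⁻¹ = w := congrArg Subtype.val (hfix ⟨f, hf⟩)
      calc (f : G) * w = (f : G) * w * (f : G)⁻¹ * f := by group
        _ = w * f := by rw [h3]
    rw [hCK, Subgroup.mem_bot] at h2
    exact Subtype.ext h2
  -- fixed-point-freeness
  have hfree : ∀ h : H, h ≠ 1 → ∀ k : K, (k : F) * h * (k : F)⁻¹ = h → k = 1 := by
    intro h hh k hk
    have hkH : (k : F) ∈ H := by
      by_contra hn
      have hm : (h : F) ∈ H ⊓ MulAut.conj (k : F) • H := by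
        refine mem_inf.2 ⟨h.2, ?_⟩
        rw [Subgroup.mem_pointwise_smul_iff_inv_smul_mem]
        have e : (k : F)⁻¹ * h * k = h := by
          calc (k : F)⁻¹ * h * k = (k : F)⁻¹ * ((k : F) * h * (k : F)⁻¹) * k := by rw [hk]
            _ = h := by group
        simpa [MulAut.smul_def, e] using h.2
      rw [hH.2.2 _ hn, Subgroup.mem_bot] at hm
      exact hh (Subtype.ext hm)
    exact Subtype.ext (mem_bot.1 (hcompl.disjoint.eq_bot ▸ mem_inf.2 ⟨k.2, hkH⟩))
  have hreindex : ∀ h : H, h ≠ 1 → ∀ v : V,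
      ∏ k : K, act ((k : F) * h) v = ∏ k : K, act ((k : F) * h * (k : F)⁻¹) v := by
    intro h hh v
    let σ : K → K := fun k => ⟨(k : F) * ((h : F) * (k : F)⁻¹ * (h : F)⁻¹),
      mul_mem k.2 (hKn.conj_mem _ (inv_mem k.2) h)⟩
    have hσ : Function.Injective σ := by
      intro a b hab
      have hab' : (a : F) * ((h : F) * (a : F)⁻¹ * (h : F)⁻¹) = (b : F) * ((h : F) * (b : F)⁻¹ * (h : F)⁻¹) :=
        congrArg Subtype.val hab
      have e : ((b⁻¹ * a : K) : F) * h * ((b⁻¹ * a : K) : F)⁻¹ = h := by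
        simp only [Subgroup.coe_mul, InvMemClass.coe_inv]
        calc (b : F)⁻¹ * a * h * ((b : F)⁻¹ * a)⁻¹
            = (b : F)⁻¹ * ((a : F) * ((h : F) * (a : F)⁻¹ * (h : F)⁻¹)) * h * b := by group
          _ = (b : F)⁻¹ * ((b : F) * ((h : F) * (b : F)⁻¹ * (h : F)⁻¹)) * h * b := by rw [hab']
          _ = h := by group
      exact (inv_mul_eq_one.1 (hfree h hh _ e)).symm
    refine (Fintype.prod_equiv (Equiv.ofBijective σ (Finite.injective_iff_bijective.1 hσ)) _ _
      fun k => ?_).symm
    show act _ v = act ((σ k : F) * h) v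
    congr 1
    simp only [σ]
    congr 1
    group
  have hcard : Nat.card (frobeniusKernel H) = Fintype.card K := by
    rw [← hKset, ← Nat.card_eq_fintype_card]
    rfl
  refine hV1 (eq_bot_iff.2 fun x hx => ?_)
  set v : V := ⟨x, hx⟩ with hv
  have h1 : ∏ k : K, ∏ h : H, act ((k : F) * h) v = 1 := by
    refine Finset.prod_eq_one fun k _ => ?_
    rw [Finset.prod_congr rfl (fun (h : H) _ => act_mul (k : F) (h : F) v), ← map_prod, hNH, map_one]
  have h2 : ∏ h ∈ Finset.univ.erase (1 : H), ∏ k : K, act ((k : F) * h * (k : F)⁻¹) v = 1 := by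
    rw [Finset.prod_congr rfl (fun h hh => (hreindex h (Finset.ne_of_mem_erase hh) v).symm)]
    rw [Finset.prod_comm] at h1
    rw [← Finset.mul_prod_erase _ _ (Finset.mem_univ (1 : H))] at h1
    simpa [hNK] using h1
  rw [Finset.prod_comm] at h2
  have h3 : ∀ k : K, ∏ h ∈ Finset.univ.erase (1 : H), act ((k : F) * h * (k : F)⁻¹) v = v⁻¹ := by
    intro k
    have h4 : ∏ h : H, act ((k : F) * h * (k : F)⁻¹) v = 1 := by
      rw [Finset.prod_congr rfl (fun (h : H) _ => act_mul ((k : F) * (h : F)) (k : F)⁻¹ v),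
        Finset.prod_congr rfl (fun (h : H) _ => act_mul (k : F) (h : F) _), ← map_prod, hNH, map_one]
    rw [← Finset.mul_prod_erase _ _ (Finset.mem_univ (1 : H))] at h4
    have e : act ((k : F) * ((1 : H) : F) * (k : F)⁻¹) v = v := by ext; simp [act]
    rw [e] at h4
    exact eq_inv_of_mul_eq_one_right h4
  rw [Finset.prod_congr rfl (fun k _ => h3 k), Finset.prod_const, inv_pow, inv_eq_one,
    Finset.card_univ, ← hcard] at h2
  rw [mem_bot]
  have h5 : orderOf v ∣ Nat.card (frobeniusKernel H) := orderOf_dvd_of_pow_eq_one h2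
  have h6 : orderOf v ∣ Nat.card V := orderOf_dvd_natCard v
  have h7 := orderOf_eq_one_iff.1 (Nat.eq_one_of_dvd_coprimes hcop h6 h5)
  exact congrArg Subtype.val h7

end CfsgLib.PLocal
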