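import Mathlib
import Cfsg.Agent.Lib.Base.Wielandt
import Cfsg.Agent.Lib.PLocal.SubnormalJoin

/-!
A variant of Wielandt's zipper lemma: a subgroup with full normal closure either generates the group
by the proper overgroups it generates normally, or lies in exactly one maximal subgroup.
-/

set_option autoImplicit false
set_option linter.style.haveILetI false

namespace CfsgLib.PLocal.ZipperVariant

open CfsgLib.Base

variable {G : Type*} [Group G]

/-- Conjugation of subgroups. -/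
def cj (g : G) (H : Subgroup G) : Subgroup G := H.map (MulAut.conj g).toMonoidHom

theorem mem_cj {g x : G} {H : Subgroup G} : x ∈ cj g H ↔ g⁻¹ * x * g ∈ H := by
  unfold cj
  rw [mem_map_conj]

theorem cj_cj (g h : G) (H : Subgroup G) : cj g (cj h H) = cj (g * h) H := by
  ext x
  simp only [mem_cj, mul_inv_rev]
  rw [show h⁻¹ * (g⁻¹ * x * g) * h = h⁻¹ * g⁻¹ * x * (g * h) by group]

theorem cj_one (H : Subgroup G) : cj (1 : G) H = H := by ext x; simp [mem_cj]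

theorem cj_inv_cj (g : G) (H : Subgroup G) : cj g⁻¹ (cj g H) = H := by
  rw [cj_cj, inv_mul_cancel, cj_one]

theorem cj_cj_inv (g : G) (H : Subgroup G) : cj g (cj g⁻¹ H) = H := by
  rw [cj_cj, mul_inv_cancel, cj_one]

theorem cj_mono (g : G) {H K : Subgroup G} (h : H ≤ K) : cj g H ≤ cj g K := Subgroup.map_mono h

theorem cj_le_iff (g : G) {H K : Subgroup G} : cj g H ≤ K ↔ H ≤ cj g⁻¹ K :=
  ⟨fun h => by simpa [cj_inv_cj] using cj_mono g⁻¹ h, fun h => by
    simpa [cj_cj_inv] using cj_mono g h⟩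

theorem card_cj (g : G) (H : Subgroup G) : Nat.card (cj g H) = Nat.card H := card_map_conj g H

theorem mem_normalizer_iff_cj {g : G} {H : Subgroup G} :
    g ∈ Subgroup.normalizer (H : Set G) ↔ cj g H = H := map_conj_eq_self_iff.symm

theorem cj_self {g : G} {H : Subgroup G} (h : g ∈ H) : cj g H = H :=
  mem_normalizer_iff_cj.1 (Subgroup.le_normalizer h)

theorem cj_inf (g : G) (H K : Subgroup G) : cj g (H ⊓ K) = cj g H ⊓ cj g K :=
  Subgroup.map_inf H K _ (MulAut.conj g).injective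

theorem cj_normalizer {g : G} {H K : Subgroup G} (h : H ≤ Subgroup.normalizer (K : Set G)) :
    cj g H ≤ Subgroup.normalizer ((cj g K : Subgroup G) : Set G) := by
  rintro x hx
  rw [mem_cj] at hx
  have := mem_normalizer_iff_cj.1 (h hx)
  rw [mem_normalizer_iff_cj, cj_cj]
  conv_rhs => rw [← this]
  rw [cj_cj]
  congr 1
  group

theorem isCoatom_cj (g : G) {M : Subgroup G} (h : IsCoatom M) : IsCoatom (cj g M) := by
  refine ⟨fun ht => h.1 ?_, fun K hK => ?_⟩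
  · rw [← cj_inv_cj g M, ht]
    ext x; simp [mem_cj]
  · have h1 : cj g⁻¹ K = ⊤ := h.2 _ (lt_of_le_of_ne
      (by simpa [cj_inv_cj] using cj_mono g⁻¹ hK.le)
      fun e => hK.ne (by rw [e, cj_cj_inv]))
    rw [← cj_cj_inv g K, h1]
    ext x; simp [mem_cj]

theorem sn_cj (g : G) {A B : Subgroup G} (h : IsSubnormalIn A B) : IsSubnormalIn (cj g A) (cj g B) :=
  h.map (MulAut.conj g).toMonoidHom

/-- `H` is the normal closure of `A` in `H`. -/
def Gen (A H : Subgroup G) : Prop :=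
  A ≤ H ∧ ∀ L : Subgroup G, A ≤ L → L ≤ H → H ≤ Subgroup.normalizer (L : Set G) → L = H

theorem gen_iff {A H : Subgroup G} :
    Gen A H ↔ A ≤ H ∧ Subgroup.normalClosure ((A.subgroupOf H : Subgroup ↥H) : Set ↥H) = ⊤ := by
  constructor
  · rintro ⟨hle, h⟩
    refine ⟨hle, ?_⟩
    set N := Subgroup.normalClosure ((A.subgroupOf H : Subgroup ↥H) : Set ↥H) with hN
    have h1 : N.map H.subtype = H := h _ (fun a ha => ⟨⟨a, hle ha⟩, Subgroup.subset_normalClosure ha, rfl⟩)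
      (Subgroup.map_subtype_le _) ((Subgroup.normal_subgroupOf_iff_le_normalizer (Subgroup.map_subtype_le _)).1
        (by rw [Subgroup.subgroupOf, Subgroup.comap_map_eq_self_of_injective H.subtype_injective]; infer_instance))
    refine Subgroup.map_injective H.subtype_injective ?_
    rw [h1, ← MonoidHom.range_eq_map, Subgroup.range_subtype]
  · rintro ⟨hle, h⟩
    refine ⟨hle, fun L hAL hLH hn => le_antisymm hLH (Subgroup.subgroupOf_eq_top.1 ?_)⟩
    haveI := (Subgroup.normal_subgroupOf_iff_le_normalizer hLH).2 hn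
    exact top_le_iff.1 (h ▸ Subgroup.normalClosure_le_normal fun x hx => hAL hx)

theorem gen_self (A : Subgroup G) : Gen A A := ⟨le_rfl, fun _ h1 h2 _ => le_antisymm h2 h1⟩

theorem Gen.trans {A B C : Subgroup G} (h : Gen A B) (h' : Gen B C) : Gen A C := by
  refine ⟨h.1.trans h'.1, fun L hAL hLC hn => h'.2 L ?_ hLC hn⟩
  have h2 : L ⊓ B = B := h.2 _ (le_inf hAL h.1) inf_le_right
    ((le_inf (h'.1.trans hn) Subgroup.le_normalizer).trans Subgroup.inf_normalizer_le_normalizer_inf)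
  exact inf_eq_right.1 h2

theorem Gen.cj {A H : Subgroup G} (h : Gen A H) (g : G) :
    Gen (ZipperVariant.cj g A) (ZipperVariant.cj g H) := by
  refine ⟨cj_mono g h.1, fun L hAL hLH hn => ?_⟩
  have h1 := h.2 (ZipperVariant.cj g⁻¹ L) ((cj_le_iff g).1 hAL)
    (by simpa [cj_inv_cj] using cj_mono g⁻¹ hLH) (by simpa [cj_inv_cj] using cj_normalizer (g := g⁻¹) hn)
  rw [← h1, cj_cj_inv]

theorem Gen.eq_of_sn {A H : Subgroup G} (h : Gen A H) (hs : IsSubnormalIn A H) : A = H := by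
  rcases hs.2.lt_normal with h1 | ⟨N, hN, hle, hlt⟩
  · exact le_antisymm hs.1 (Subgroup.subgroupOf_eq_top.1 h1)
  · exfalso
    haveI := hN
    exact hlt.not_ge ((gen_iff.1 h).2 ▸ Subgroup.normalClosure_le_normal hle)

variable [Finite G]

theorem exists_gen (A K : Subgroup G) (hAK : A ≤ K) :
    ∃ H : Subgroup G, Gen A H ∧ IsSubnormalIn H K := by
  induction hn : Nat.card K using Nat.strong_induction_on generalizing K with
  | _ n ih =>
  subst hn
  by_cases h : Gen A K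
  · exact ⟨K, h, le_rfl, by simp⟩
  simp only [Gen, hAK, true_and, not_forall] at h
  obtain ⟨L, hAL, hLK, hn, hne⟩ := h
  obtain ⟨H, h1, h2⟩ := ih (Nat.card L) (lt_of_le_of_ne (Subgroup.card_le_of_le hLK)
    fun e => hne (Subgroup.eq_of_le_of_card_ge hLK e.ge)) L hAL rfl
  exact ⟨H, h1, h2.trans ⟨hLK, (Subgroup.normal_subgroupOf_of_le_normalizer hn).isSubnormal⟩⟩

theorem climb {W M D : Subgroup G} (hW : IsSubnormalIn W M) (hWD : W ≤ D) (hMD : ¬ M ≤ D) :
    ∃ x ∈ M, x ∉ D ∧ cj x W ≤ D := by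
  have key : ∀ K : Subgroup M, K.IsSubnormal → W.subgroupOf M ≤ K → K.map M.subtype ≤ D →
      ∃ x ∈ M, x ∉ D ∧ cj x W ≤ D := by
    intro K hK
    induction hK with
    | top =>
      intro _ h
      rw [← MonoidHom.range_eq_map, Subgroup.range_subtype] at h
      exact absurd h hMD
    | step K₁ K₂ hle _ hn ih =>
      intro hWK hKD
      by_cases h2 : K₂.map M.subtype ≤ D
      · exact ih (hWK.trans hle) h2
      obtain ⟨_, ⟨x, hx, rfl⟩, hxD⟩ := SetLike.not_le_iff_exists.1 h2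
      refine ⟨(x : G), x.2, hxD, ?_⟩
      rintro _ ⟨w, hw, rfl⟩
      have hxn := (Subgroup.normal_subgroupOf_iff_le_normalizer hle).1 hn hx
      exact hKD ⟨x * ⟨w, hW.1 hw⟩ * x⁻¹,
        (Subgroup.mem_normalizer_iff.1 hxn ⟨w, hW.1 hw⟩).1 (hWK hw), rfl⟩
  exact key _ hW.2 le_rfl (by rw [Subgroup.map_subgroupOf_eq_of_le hW.1]; exact hWD)

theorem sn_sSup {S : Set (Subgroup G)} {K : Subgroup G} (h : ∀ C ∈ S, IsSubnormalIn C K) :
    IsSubnormalIn (sSup S) K := by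
  induction S, S.toFinite using Set.Finite.induction_on with
  | empty => exact ⟨by simp, by rw [sSup_empty, Subgroup.bot_subgroupOf]; exact Subgroup.IsSubnormal.bot⟩
  | @insert C S _ _ ih =>
    rw [sSup_insert]
    exact CfsgLib.PLocal.isSubnormalIn_join (h C (Set.mem_insert _ _))
      (ih fun D hD => h D (Set.mem_insert_of_mem _ hD))

theorem main (A : Subgroup G) : Subgroup.normalClosure (A : Set G) = ⊤ → A ≠ ⊤ →
    sSup {H : Subgroup G | H ≠ ⊤ ∧ Gen A H} ≠ ⊤ → ∃! M : Subgroup G, IsCoatom M ∧ A ≤ M := by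
  classical
  induction A using WellFoundedGT.induction with
  | ind A ih =>
  intro hA hAt hY
  obtain ⟨M, hM, hAM⟩ := (IsCoatomic.eq_top_or_exists_le_coatom A).resolve_left hAt
  suffices huniq : ∀ M N : Subgroup G, IsCoatom M → A ≤ M → IsCoatom N → A ≤ N → M = N from
    ⟨M, ⟨hM, hAM⟩, fun N hN => huniq N M hN.1 hN.2 hM hAM⟩
  clear hM hAM M
  set Y := sSup {H : Subgroup G | H ≠ ⊤ ∧ Gen A H} with hYdef
  have hnot_sn : ¬ A.IsSubnormal := fun h => by
    rcases h.lt_normal with h1 | ⟨N, hN, hle, hlt⟩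
    · exact hAt h1
    · haveI := hN
      exact hlt.not_ge (hA ▸ Subgroup.normalClosure_le_normal hle)
  have hfam : ∀ H : Subgroup G, Gen A H → H ≠ ⊤ → H ≤ Y := fun H h h' => le_sSup ⟨h', h⟩
  have hAY : A ≤ Y := hfam A (gen_self A) hAt
  have hYgen : Gen A Y := ⟨hAY, fun L hAL hLY hn => le_antisymm hLY (sSup_le fun H hH => by
    have h2 : L ⊓ H = H := hH.2.2 _ (le_inf hAL hH.2.1) inf_le_right
      ((le_inf ((hfam H hH.2 hH.1).trans hn) Subgroup.le_normalizer).trans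
        Subgroup.inf_normalizer_le_normalizer_inf)
    exact inf_eq_right.1 h2)⟩
  by_cases hYA : Y = A
  · intro M N hM hAM hN hAN
    refine eq_of_isCoatom_of_not_isSubnormal A (fun K hAK hK => ?_) hnot_sn hM hAM hN hAN
    obtain ⟨H, hH, hHK⟩ := exists_gen A K hAK
    have hHA : H = A := le_antisymm
      (hYA ▸ hfam H hH fun e => hK (top_le_iff.1 (e ▸ hHK.1))) hH.1
    exact hHA ▸ hHK
  -- enlarging `A`
  have hbig : ∀ T : Subgroup G, A < T → T ≠ ⊤ → sSup {H : Subgroup G | H ≠ ⊤ ∧ Gen T H} ≠ ⊤ →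
      ∀ M N : Subgroup G, IsCoatom M → T ≤ M → IsCoatom N → T ≤ N → M = N := by
    intro T hAT hT hYT M N hM hTM hN hTN
    obtain ⟨P, -, hP⟩ := ih T hAT
      (top_le_iff.1 (hA ▸ Subgroup.normalClosure_mono hAT.le)) hT hYT
    exact (hP M ⟨hM, hTM⟩).trans (hP N ⟨hN, hTN⟩).symm
  obtain ⟨M₀, hM₀, hYM⟩ := (IsCoatomic.eq_top_or_exists_le_coatom Y).resolve_left hY
  have hAM₀ : A ≤ M₀ := hAY.trans hYM
  have hgenM : ∀ H : Subgroup G, Gen A H → H ≠ ⊤ → H ≠ A → ∀ N, IsCoatom N → H ≤ N → N = M₀ := by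
    intro H hH hHt hHA N hN hHN
    refine hbig H (lt_of_le_of_ne hH.1 (Ne.symm hHA)) hHt ?_ N M₀ hN hHN hM₀ ((hfam H hH hHt).trans hYM)
    exact fun e => hY (top_le_iff.1 (e ▸ sSup_le fun K hK => hfam K (hH.trans hK.2) hK.1))
  have hsn : ∀ H : Subgroup G, A ≤ H → H ≠ ⊤ → ¬ H ≤ M₀ → IsSubnormalIn A H := by
    intro H hAH hH hHM
    obtain ⟨N, hN, hHN⟩ := (IsCoatomic.eq_top_or_exists_le_coatom H).resolve_left hH
    obtain ⟨K, hK, hKN⟩ := exists_gen A N (hAH.trans hHN)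
    by_cases hKA : K = A
    · exact (hKA ▸ hKN).inf hAH hHN
    · exact absurd (hgenM K hK (fun e => hN.1 (top_le_iff.1 (e ▸ hKN.1))) hKA N hN hKN.1 ▸ hHN) hHM
  have hNA : Subgroup.normalizer (A : Set G) ≤ M₀ := by
    intro n hn
    have hNY : Subgroup.normalizer (Y : Set G) ≤ M₀ := by
      have hNt : Subgroup.normalizer (Y : Set G) ≠ ⊤ := fun h => by
        haveI := Subgroup.normalizer_eq_top_iff.1 h
        exact hY (top_le_iff.1 (hA ▸ Subgroup.normalClosure_le_normal hAY))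
      obtain ⟨N, hN, hle⟩ := (IsCoatomic.eq_top_or_exists_le_coatom _).resolve_left hNt
      exact hgenM Y hYgen hY hYA N hN (Subgroup.le_normalizer.trans hle) ▸ hle
    refine hNY (mem_normalizer_iff_cj.2 (Subgroup.eq_of_le_of_card_ge
      (hfam _ ?_ ?_) (card_cj n Y).ge))
    · have := hYgen.cj n
      rwa [mem_normalizer_iff_cj.1 hn] at this
    · intro e
      exact hY (Subgroup.eq_top_of_card_eq _ (by rw [← card_cj n Y, e, Subgroup.card_top]))
  have hnle : ∀ {N : Subgroup G}, IsCoatom N → N ≠ M₀ → ¬ N ≤ M₀ := fun hN hne h =>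
    hne ((lt_or_eq_of_le h).resolve_left fun hlt => hM₀.1 (hN.2 _ hlt))
  -- a conjugate of `A` in `M₀ ⊓ N`
  have hL : ∀ N : Subgroup G, IsCoatom N → N ≠ M₀ → A ≤ N → ∀ g : G, cj g A ≤ M₀ ⊓ N →
      A ≤ cj g M₀ ∧ (cj g M₀ = M₀ → cj g A = A) := by
    intro N hN hne hAN g hg
    have key : (¬ A ≤ cj g M₀ ∨ cj g M₀ = M₀) → cj g A = A := by
      intro hcase
      by_contra hCA
      have hlt : A < A ⊔ cj g A := left_lt_sup.2 fun h =>
        hCA (Subgroup.eq_of_le_of_card_ge h (card_cj g A).ge)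
      have hTle : A ⊔ cj g A ≤ M₀ ⊓ N := sup_le (le_inf hAM₀ hAN) hg
      refine hne (hbig _ hlt (fun e => hM₀.1 (top_le_iff.1 (e ▸ hTle.trans inf_le_left))) ?_
        N M₀ hN (hTle.trans inf_le_right) hM₀ (hTle.trans inf_le_left))
      refine fun e => hM₀.1 (top_le_iff.1 (e ▸ sSup_le fun H hH => ?_))
      by_contra hHM
      have h1 := hsn H (le_sup_left.trans hH.2.1) hH.1 hHM
      have h2 : IsSubnormalIn (cj g A) H := by
        have := sn_cj g (hsn (cj g⁻¹ H) ((cj_le_iff g).1 (le_sup_right.trans hH.2.1))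
          (fun e => hH.1 (Subgroup.eq_top_of_card_eq _ (by rw [← card_cj g⁻¹ H, e, Subgroup.card_top])))
          (fun hle => by
            have h3 : H ≤ cj g M₀ := by simpa [cj_cj_inv] using cj_mono g hle
            rcases hcase with h4 | h4
            · exact h4 ((le_sup_left.trans hH.2.1).trans h3)
            · exact hHM (h4 ▸ h3)))
        rwa [cj_cj_inv] at this
      exact hHM (hH.2.eq_of_sn (CfsgLib.PLocal.isSubnormalIn_join h1 h2) ▸ hTle.trans inf_le_left)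
    refine ⟨by_contra fun h => h ?_, fun h => key (Or.inr h)⟩
    have := key (Or.inl h)
    rw [← this]
    exact cj_mono g hAM₀
  -- conjugates subnormal in `M₀`
  have hgood : ∀ g : G, cj g A ≤ M₀ → cj g M₀ ≠ M₀ → IsSubnormalIn (cj g A) M₀ := by
    intro g hg hne
    have h := sn_cj g (hsn (cj g⁻¹ M₀) ((cj_le_iff g).1 hg)
      (isCoatom_cj _ hM₀).1 (hnle (isCoatom_cj _ hM₀) fun e => hne (by rw [← e, cj_cj_inv, e])))
    rwa [cj_cj_inv] at h
  suffices hall : ∀ N : Subgroup G, IsCoatom N → A ≤ N → N = M₀ from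
    fun M N hM hAM hN hAN => (hall M hM hAM).trans (hall N hN hAN).symm
  by_contra hex
  simp only [not_forall] at hex
  obtain ⟨N₁, hN₁, hAN₁, hne₁⟩ := hex
  obtain ⟨N, ⟨hN, hAN, hne⟩, hmax⟩ := Set.exists_max_image
    {N : Subgroup G | IsCoatom N ∧ A ≤ N ∧ N ≠ M₀} (fun N => Nat.card (M₀ ⊓ N : Subgroup G))
    (Set.toFinite _) ⟨N₁, hN₁, hAN₁, hne₁⟩
  let S : Subgroup G → Set (Subgroup G) := fun D => {C | ∃ k : G, C = cj k A ∧ C ≤ D}
  have hWle : ∀ D : Subgroup G, sSup (S D) ≤ D := fun D => sSup_le fun C ⟨k, _, h⟩ => h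
  have hWeq : ∀ (D : Subgroup G) (x : G), (∀ C ∈ S D, cj x C ≤ D) → cj x (sSup (S D)) = sSup (S D) := by
    intro D x h
    refine Subgroup.eq_of_le_of_card_ge ((cj_le_iff x).2 (sSup_le fun C hC => (cj_le_iff x).1 ?_))
      (card_cj x _).ge
    obtain ⟨k, rfl, hk⟩ := hC
    exact le_sSup ⟨x * k, cj_cj x k A, h _ ⟨k, rfl, hk⟩⟩
  -- the main step
  have hkey : ∀ N : Subgroup G, IsCoatom N → A ≤ N → N ≠ M₀ →
      (∀ P : Subgroup G, IsCoatom P → A ≤ P → P ≠ M₀ →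
        Nat.card (M₀ ⊓ P : Subgroup G) ≤ Nat.card (M₀ ⊓ N : Subgroup G)) →
      ∃ x ∈ M₀, x ∉ M₀ ⊓ N ∧ cj x (sSup (S (M₀ ⊓ N))) = sSup (S (M₀ ⊓ N)) := by
    intro N hN hAN hne hmax
    set D := M₀ ⊓ N with hD
    have hMD : ¬ M₀ ≤ D := fun h =>
      hne ((lt_or_eq_of_le (h.trans inf_le_right)).resolve_left fun hlt => hN.1 (hM₀.2 _ hlt)).symm
    have hND : ¬ N ≤ D := fun h => hnle hN hne (h.trans inf_le_left)
    have hAD : A ≤ D := le_inf hAM₀ hAN
    -- some conjugate in `D` is subnormal in `M₀`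
    obtain ⟨g, hg, hgne⟩ : ∃ g : G, cj g A ≤ D ∧ cj g M₀ ≠ M₀ := by
      by_contra hno
      simp only [not_exists, not_and, not_not] at hno
      obtain ⟨x, hxN, hxD, hx⟩ := climb (hsn N hAN hN.1 (hnle hN hne)) hAD hND
      exact hxD ⟨hNA (mem_normalizer_iff_cj.2 ((hL N hN hne hAN x hx).2 (hno x hx))), hxN⟩
    let S₀ : Set (Subgroup G) := {C | ∃ k : G, C = cj k A ∧ C ≤ D ∧ cj k M₀ ≠ M₀}
    have hS₀ : IsSubnormalIn (sSup S₀) M₀ := sn_sSup fun C ⟨k, hC, hle, hk⟩ =>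
      hC ▸ hgood k ((hC ▸ hle).trans inf_le_left) hk
    obtain ⟨x₁, hx₁M, hx₁D, hx₁⟩ := climb hS₀ (sSup_le fun C ⟨k, _, h, _⟩ => h) hMD
    have hx₁A : cj x₁ A = A := by
      have hC : cj (x₁ * g) A ≤ D := by
        rw [← cj_cj]
        exact (cj_mono x₁ (le_sSup (show cj g A ∈ S₀ from ⟨g, rfl, hg, hgne⟩))).trans hx₁
      have hne' : cj (x₁ * g) M₀ ≠ M₀ := fun e => hgne (by
        rw [← cj_cj] at e
        rw [← cj_inv_cj x₁ (cj g M₀), e, cj_self (inv_mem hx₁M)])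
      have h1 : A ≤ cj (x₁ * g) M₀ := (hL N hN hne hAN _ hC).1
      refine (hL _ (isCoatom_cj _ hM₀) hne' h1 x₁ (le_inf ((cj_mono x₁ hAM₀).trans (cj_self hx₁M).le) ?_)).2
        (cj_self hx₁M)
      rw [← cj_cj]
      exact cj_mono x₁ (hL N hN hne hAN g hg).1
    set E := M₀ ⊓ Subgroup.normalizer (A : Set G) with hE
    have hDE : D ≤ E := fun d hd => ⟨hd.1, mem_normalizer_iff_cj.2 ((hL N hN hne hAN d
      ((cj_mono d hAD).trans (cj_self hd).le)).2 (cj_self hd.1))⟩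
    have hW : IsSubnormalIn (sSup (S D)) E := sn_sSup fun C ⟨k, hC, hle⟩ => by
      subst hC
      by_cases hk : cj k M₀ = M₀
      · rw [(hL N hN hne hAN k hle).2 hk]
        exact ⟨hAD.trans hDE, (Subgroup.normal_subgroupOf_of_le_normalizer inf_le_right).isSubnormal⟩
      · exact (hgood k (hle.trans inf_le_left) hk).inf (hle.trans hDE) inf_le_left
    obtain ⟨x, hxE, hxD, hx⟩ := climb hW (hWle D) fun h => hx₁D (h ⟨hx₁M, mem_normalizer_iff_cj.2 hx₁A⟩)
    exact ⟨x, hxE.1, hxD, hWeq D x fun C hC => (cj_mono x (le_sSup hC)).trans hx⟩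
  have hD0 : A ≤ M₀ ⊓ N := le_inf hAM₀ hAN
  set W := sSup (S (M₀ ⊓ N)) with hWdef
  have hAW : A ≤ W := le_sSup ⟨1, (cj_one A).symm, hD0⟩
  have hDW : M₀ ⊓ N ≤ Subgroup.normalizer (W : Set G) := fun d hd =>
    mem_normalizer_iff_cj.2 (hWeq _ d fun C hC => (cj_mono d (by obtain ⟨k, -, h⟩ := hC; exact h)).trans
      (cj_self hd).le)
  have hNW : Subgroup.normalizer (W : Set G) ≤ M₀ := by
    have hNt : Subgroup.normalizer (W : Set G) ≠ ⊤ := fun h => by
      haveI := Subgroup.normalizer_eq_top_iff.1 h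
      exact hM₀.1 (top_le_iff.1 ((hA ▸ Subgroup.normalClosure_le_normal hAW : ⊤ ≤ W).trans
        ((hWle _).trans inf_le_left)))
    obtain ⟨P, hP, hle⟩ := (IsCoatomic.eq_top_or_exists_le_coatom _).resolve_left hNt
    by_cases hPM : P = M₀
    · exact hPM ▸ hle
    exfalso
    obtain ⟨x, hxM, hxD, hx⟩ := hkey N hN hAN hne fun P h1 h2 h3 => hmax P ⟨h1, h2, h3⟩
    have hlt : M₀ ⊓ N < M₀ ⊓ P := lt_of_le_of_ne (le_inf inf_le_left (hDW.trans hle))
      fun e => hxD (e.symm ▸ (⟨hxM, hle (mem_normalizer_iff_cj.2 hx)⟩ : x ∈ M₀ ⊓ P))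
    exact hlt.ne (Subgroup.eq_of_le_of_card_ge hlt.le (hmax P ⟨hP, hD0.trans (hDW.trans hle), hPM⟩))
  have hfin : ∀ y ∈ N, cj y W = W → y ∈ M₀ ⊓ N := fun y hy h =>
    ⟨hNW (mem_normalizer_iff_cj.2 h), hy⟩
  by_cases hpair : ∃ g : G, cj g A ≤ M₀ ⊓ N ∧ cj g M₀ = N
  · obtain ⟨g, hg, hgN⟩ := hpair
    have hne2 : cj g⁻¹ M₀ ≠ M₀ := fun e => hne (by
      rw [← hgN]; conv_lhs => rw [← e]
      rw [cj_cj_inv])
    have hD2 : cj g (M₀ ⊓ cj g⁻¹ M₀) = M₀ ⊓ N := by rw [cj_inf, cj_cj_inv, hgN, inf_comm]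
    obtain ⟨x, hxM, hxD, hx⟩ := hkey (cj g⁻¹ M₀) (isCoatom_cj _ hM₀)
      ((cj_le_iff g).1 (hg.trans inf_le_left)) hne2
      (fun P h1 h2 h3 => (hmax P ⟨h1, h2, h3⟩).trans (le_of_eq (by rw [← hD2, card_cj])))
    have hWW : cj g (sSup (S (M₀ ⊓ cj g⁻¹ M₀))) = W := by
      refine le_antisymm ((cj_le_iff g).2 (sSup_le fun C hC => (cj_le_iff g).1 ?_))
        (sSup_le fun C hC => ?_)
      · obtain ⟨k, rfl, hk⟩ := hC
        exact le_sSup ⟨g * k, cj_cj g k A, hD2 ▸ cj_mono g hk⟩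
      · obtain ⟨k, rfl, hk⟩ := hC
        rw [← cj_cj_inv g (cj k A)]
        refine cj_mono g (le_sSup ⟨g⁻¹ * k, cj_cj g⁻¹ k A, ?_⟩)
        rw [← hD2] at hk
        simpa [cj_inv_cj] using cj_mono g⁻¹ hk
    have hy : g * x * g⁻¹ ∈ N := hgN ▸ (mem_cj.2 (by simpa [mul_assoc] using hxM))
    have h := hfin _ hy (by
      conv_lhs => rw [← hWW, cj_cj, inv_mul_cancel_right]
      rw [← cj_cj, hx, hWW])
    rw [← hD2, mem_cj, show g⁻¹ * (g * x * g⁻¹) * g = x by group] at h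
    exact hxD h
  · simp only [not_exists, not_and] at hpair
    have hW : IsSubnormalIn W N := sn_sSup fun C ⟨k, hC, hle⟩ => by
      subst hC
      have h := sn_cj k (hsn (cj k⁻¹ N) ((cj_le_iff k).1 (hle.trans inf_le_right))
        (isCoatom_cj _ hN).1 (hnle (isCoatom_cj _ hN) fun e => hpair k hle (by rw [← e, cj_cj_inv])))
      rwa [cj_cj_inv] at h
    obtain ⟨y, hyN, hyD, hy⟩ := climb hW (hWle _) fun h => hnle hN hne (h.trans inf_le_left)
    exact hyD (hfin y hyN (hWeq _ y fun C hC => (cj_mono y (le_sSup hC)).trans hy))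

end CfsgLib.PLocal.ZipperVariant
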