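import Mathlib
import Cfsg.Agent.Lib.PLocal.ZipperVariant

/-!
If `[G, α] = G` then the iterated commutators with `α` generate `G`.
-/

set_option autoImplicit false
set_option linter.style.haveILetI false

namespace CfsgLib.PLocal.IteratedCommutatorGen

open CfsgLib.PLocal.ZipperVariant

universe u

/-- The semidirect product of a group with the group generated by an automorphism. -/
abbrev Ext {G : Type u} [Group G] (α : MulAut G) :=
  SemidirectProduct G (Subgroup.zpowers α) (Subgroup.zpowers α).subtype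

variable {G : Type u} [Group G] [Finite G] (α : MulAut G)

/-- The elements of `Ext α` with left component in an invariant subgroup. -/
def lift (H : Subgroup G) (hH : ∀ s ∈ Subgroup.zpowers α, ∀ h ∈ H, s h ∈ H) : Subgroup (Ext α) where
  carrier := {x | x.left ∈ H}
  one_mem' := one_mem H
  mul_mem' {x y} hx hy := mul_mem hx (hH _ x.right.2 _ hy)
  inv_mem' {x} hx := hH _ (x.right⁻¹).2 _ (inv_mem hx)

theorem invariant (H : Subgroup G) (h : ∀ x ∈ H, α x ∈ H) :
    ∀ s ∈ Subgroup.zpowers α, ∀ x ∈ H, s x ∈ H := by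
  intro s hs
  haveI : Finite (MulAut G) := Finite.of_injective (fun f : MulAut G => (f : G → G)) DFunLike.coe_injective
  obtain ⟨i, rfl⟩ := Submonoid.mem_powers_iff _ _ |>.1 (mem_powers_iff_mem_zpowers.2 hs)
  induction i with
  | zero => simp
  | succ i ihi =>
    intro x hx
    rw [pow_succ', MulAut.mul_apply]
    exact h _ (ihi (pow_mem (Subgroup.mem_zpowers α) i) x hx)

/-- The generator of the top of `Ext α`. -/
def top_elt : Ext α := SemidirectProduct.inr ⟨α, Subgroup.mem_zpowers α⟩

theorem conj_inl (g : G) : top_elt α * SemidirectProduct.inl g * (top_elt α)⁻¹ =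
    (SemidirectProduct.inl (α g) : Ext α) := by
  rw [top_elt, ← map_inv]
  exact (SemidirectProduct.inl_aut (φ := (Subgroup.zpowers α).subtype) ⟨α, Subgroup.mem_zpowers α⟩ g).symm

theorem conj_top (g : G) : SemidirectProduct.inl g * top_elt α * (SemidirectProduct.inl g)⁻¹ =
    (SemidirectProduct.inl (g * (α g)⁻¹) : Ext α) * top_elt α := by
  rw [map_mul, map_inv, ← conj_inl α g]
  group

/-- When an invariant subgroup absorbs the smaller invariant subgroups with full commutator with `α`
but is proper, `α` lies in one maximal subgroup of `Ext α`. -/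
theorem unique_overgroup (hG : Subgroup.closure (Set.range (fun c : G => c * (α c)⁻¹)) = ⊤)
    (H : Subgroup G) (hHα : ∀ x ∈ H, α x ∈ H) (hne : H ≠ ⊤)
    (hsub : ∀ K₀ : Subgroup G, K₀ ≠ ⊤ → (∀ x ∈ K₀, α x ∈ K₀) →
      K₀ ≤ Subgroup.closure ((fun c : G => c * (α c)⁻¹) '' K₀) → K₀ ≤ H) :
    ∃ M : Subgroup (Ext α), IsCoatom M ∧ (∀ N, IsCoatom N → top_elt α ∈ N → N = M) ∧
      lift α H (invariant α H hHα) ≤ M ∧ top_elt α ∈ M ∧ Subgroup.normalizer (M : Set (Ext α)) = M ∧
      ∃ g : G, (SemidirectProduct.inl (g * (α g)⁻¹) : Ext α) * top_elt α ∉ M := by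
  classical
  set c : G → G := fun c => c * (α c)⁻¹ with hc
  have hcomm : Function.Commute (⇑α) c := fun x => by simp [hc]
  set t : Ext α := SemidirectProduct.inr ⟨α, Subgroup.mem_zpowers α⟩ with ht
  set A := Subgroup.zpowers t with hA
  have htA : t ∈ A := Subgroup.mem_zpowers t
  have hinr : ∀ s : Subgroup.zpowers α, (SemidirectProduct.inr s : Ext α) ∈ A := by
    rintro ⟨s, hs⟩
    obtain ⟨i, rfl⟩ := Subgroup.mem_zpowers_iff.1 hs
    refine Subgroup.mem_zpowers_iff.2 ⟨i, ?_⟩
    rw [ht, ← map_zpow]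
    exact congrArg _ (Subtype.ext (by simp))
  have hconj : ∀ g : G, t * SemidirectProduct.inl g * t⁻¹ = (SemidirectProduct.inl (α g) : Ext α) := by
    intro g
    rw [ht, ← map_inv]
    exact (SemidirectProduct.inl_aut (φ := (Subgroup.zpowers α).subtype) ⟨α, Subgroup.mem_zpowers α⟩ g).symm
  have hct : ∀ g : G, SemidirectProduct.inl g * t * (SemidirectProduct.inl g)⁻¹ =
      (SemidirectProduct.inl (c g) : Ext α) * t := by
    intro g
    rw [hc, map_mul, map_inv, ← hconj g]
    group
  set Hh := lift α H (invariant α H hHα) with hHh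
  have hAH : A ≤ Hh := Subgroup.zpowers_le.2 (show t.left ∈ H by rw [ht]; exact one_mem H)
  have hHh1 : Hh ≠ ⊤ := fun h => hne (eq_top_iff.2 fun g _ => by
    have : (SemidirectProduct.inl g : Ext α) ∈ Hh := h ▸ Subgroup.mem_top _
    exact this)
  haveI : Finite (Ext α) := Finite.of_equiv _ SemidirectProduct.equivProd.symm
  have hncl : Subgroup.normalClosure (A : Set (Ext α)) = ⊤ := by
    have hinl : ∀ g : G, (SemidirectProduct.inl g : Ext α) ∈ Subgroup.normalClosure (A : Set (Ext α)) := by
      intro g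
      have hg : g ∈ Subgroup.closure (Set.range c) := hG ▸ Subgroup.mem_top g
      induction hg using Subgroup.closure_induction with
      | mem x hx =>
        obtain ⟨y, rfl⟩ := hx
        have h1 := mul_mem (Subgroup.normalClosure_normal.conj_mem t (Subgroup.subset_normalClosure htA)
          (SemidirectProduct.inl y)) (inv_mem (Subgroup.subset_normalClosure (s := (A : Set (Ext α))) htA))
        rwa [hct, mul_inv_cancel_right] at h1
      | one => rw [map_one]; exact one_mem _
      | mul x y _ _ h1 h2 => rw [map_mul]; exact mul_mem h1 h2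
      | inv x _ h1 => rw [map_inv]; exact inv_mem h1
    refine eq_top_iff.2 fun x _ => ?_
    rw [← SemidirectProduct.inl_left_mul_inr_right x]
    exact mul_mem (hinl _) (Subgroup.subset_normalClosure (hinr _))
  -- the proper overgroups generated by their conjugates of `t` lie in `Hh`
  have hY : sSup {K : Subgroup (Ext α) | K ≠ ⊤ ∧ Gen A K} ≤ Hh := by
    refine sSup_le fun K ⟨hKt, hK⟩ => ?_
    set K₀ := K.comap (SemidirectProduct.inl : G →* Ext α) with hK₀
    have htK : t ∈ K := hK.1 htA
    have hK₀α : ∀ x ∈ K₀, α x ∈ K₀ := fun x hx => by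
      show (SemidirectProduct.inl (α x) : Ext α) ∈ K
      rw [← hconj]
      exact mul_mem (mul_mem htK hx) (inv_mem htK)
    set R := Subgroup.closure (c '' (K₀ : Set G)) with hR
    have hRK : R ≤ K₀ := by
      rw [hR, Subgroup.closure_le]
      rintro _ ⟨x, hx, rfl⟩
      exact mul_mem hx (inv_mem (hK₀α x hx))
    have hRα : ∀ x ∈ R, α x ∈ R := by
      intro x hx
      induction hx using Subgroup.closure_induction with
      | mem x hx =>
        obtain ⟨g, hg, rfl⟩ := hx
        exact Subgroup.subset_closure ⟨α g, hK₀α g hg, (hcomm g).symm⟩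
      | one => simp
      | mul x y _ _ h1 h2 => rw [map_mul]; exact mul_mem h1 h2
      | inv x _ h1 => rw [map_inv]; exact inv_mem h1
    set L := R.map (SemidirectProduct.inl : G →* Ext α) ⊔ A with hL
    have hLK : L ≤ K := sup_le (by rintro _ ⟨r, hr, rfl⟩; exact hRK hr) hK.1
    have hdec : ∀ x ∈ K, x.left ∈ K₀ := fun x hx => by
      show (SemidirectProduct.inl x.left : Ext α) ∈ K
      have : (SemidirectProduct.inl x.left : Ext α) = x * (SemidirectProduct.inr x.right)⁻¹ := by
        rw [eq_mul_inv_iff_mul_eq, SemidirectProduct.inl_left_mul_inr_right]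
      rw [this]
      exact mul_mem hx (inv_mem (hK.1 (hinr _)))
    have hnorm : K ≤ Subgroup.normalizer (L : Set (Ext α)) := by
      have h1 : ∀ g ∈ K₀, (SemidirectProduct.inl g : Ext α) ∈ Subgroup.normalizer (L : Set (Ext α)) := by
        intro g hg
        refine mem_normalizer_iff_cj.2 (Subgroup.eq_of_le_of_card_ge ?_ (card_cj _ L).ge)
        refine (cj_le_iff _).2 (sup_le ?_ (Subgroup.zpowers_le.2 ?_))
        · rw [Subgroup.map_le_iff_le_comap, hR, Subgroup.closure_le]
          rintro _ ⟨x, hx, rfl⟩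
          show (SemidirectProduct.inl (c x) : Ext α) ∈ cj _ L
          rw [mem_cj, inv_inv, ← map_inv, ← map_mul, ← map_mul,
            show g * c x * g⁻¹ = c (g * x) * (c g)⁻¹ by simp only [hc, map_mul]; group]
          exact Subgroup.mem_sup_left ⟨_, mul_mem (Subgroup.subset_closure ⟨_, mul_mem hg hx, rfl⟩)
            (inv_mem (Subgroup.subset_closure ⟨_, hg, rfl⟩)), rfl⟩
        · rw [mem_cj, inv_inv, hct]
          exact mul_mem (Subgroup.mem_sup_left ⟨_, Subgroup.subset_closure ⟨g, hg, rfl⟩, rfl⟩)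
            (Subgroup.mem_sup_right htA)
      intro x hx
      rw [← SemidirectProduct.inl_left_mul_inr_right x]
      refine mul_mem (h1 _ (hdec x hx)) (Subgroup.zpowers_le.2 ?_ (hinr _))
      refine mem_normalizer_iff_cj.2 (Subgroup.eq_of_le_of_card_ge ?_ (card_cj _ L).ge)
      refine (cj_le_iff _).2 (sup_le ?_ (Subgroup.zpowers_le.2 ?_))
      · rintro _ ⟨r, hr, rfl⟩
        rw [mem_cj, inv_inv, hconj]
        exact Subgroup.mem_sup_left ⟨_, hRα r hr, rfl⟩
      · rw [mem_cj, inv_inv, mul_inv_cancel_right]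
        exact Subgroup.mem_sup_right htA
    have hLeq : L = K := hK.2 L le_sup_right hLK hnorm
    have hK₀R : K₀ ≤ R := by
      have hle : L ≤ lift α R (invariant α R hRα) :=
        sup_le (by rintro _ ⟨r, hr, rfl⟩; exact hr)
          (Subgroup.zpowers_le.2 (show t.left ∈ R by rw [ht]; exact one_mem R))
      intro x hx
      exact hle (hLeq.ge (hx : (SemidirectProduct.inl x : Ext α) ∈ K))
    have hK₀t : K₀ ≠ ⊤ := fun e => hKt (eq_top_iff.2 fun x _ => by
      rw [← SemidirectProduct.inl_left_mul_inr_right x]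
      exact mul_mem (e ▸ Subgroup.mem_top x.left : x.left ∈ K₀) (hK.1 (hinr _)))
    exact fun x hx => hsub K₀ hK₀t hK₀α hK₀R (hdec x hx)
  obtain ⟨M, ⟨hM, hAM⟩, huniq⟩ := ZipperVariant.main A hncl
    (fun h => hHh1 (top_le_iff.1 (h ▸ hAH))) (fun h => hHh1 (top_le_iff.1 (h ▸ hY)))
  have hHM : Hh ≤ M := by
    obtain ⟨N, hN, hle⟩ := (IsCoatomic.eq_top_or_exists_le_coatom Hh).resolve_left hHh1
    exact huniq N ⟨hN, hAH.trans hle⟩ ▸ hle
  have hNM : Subgroup.normalizer (M : Set (Ext α)) = M := by
    rcases lt_or_eq_of_le (Subgroup.le_normalizer (H := M)) with h | h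
    · exfalso
      haveI := Subgroup.normalizer_eq_top_iff.1 (hM.2 _ h)
      exact hM.1 (top_le_iff.1 (hncl ▸ Subgroup.normalClosure_le_normal hAM))
    · exact h.symm
  obtain ⟨g, hg⟩ : ∃ g : G, (SemidirectProduct.inl g : Ext α) * t * (SemidirectProduct.inl g)⁻¹ ∉ M := by
    by_contra hall
    simp only [not_exists, not_not] at hall
    refine hHh1 (eq_top_iff.2 fun x _ => absurd (top_le_iff.1 ?_) hM.1)
    rw [← hncl]
    refine (Subgroup.closure_le _).2 fun y hy => ?_
    obtain ⟨a, ha, hay⟩ := Group.mem_conjugatesOfSet_iff.1 hy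
    obtain ⟨u, rfl⟩ := isConj_iff.1 hay
    obtain ⟨i, rfl⟩ := Subgroup.mem_zpowers_iff.1 (ha : a ∈ A)
    rw [← conj_zpow]
    refine zpow_mem ?_ i
    obtain ⟨j, hj⟩ := Subgroup.mem_zpowers_iff.1 (hinr u.right)
    rw [← SemidirectProduct.inl_left_mul_inr_right u, ← hj,
      show SemidirectProduct.inl u.left * t ^ j * t * (SemidirectProduct.inl u.left * t ^ j)⁻¹
        = SemidirectProduct.inl u.left * t * (SemidirectProduct.inl u.left)⁻¹ by group]
    exact hall _
  refine ⟨M, hM, fun N hN htN => huniq N ⟨hN, Subgroup.zpowers_le.2 htN⟩, hHM, hAM htA, hNM, g, ?_⟩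
  intro h
  exact hg (by rw [hct]; exact h)

theorem main : ∀ (n : ℕ) (G : Type u) [Group G] [Finite G], Nat.card G = n → ∀ (α : MulAut G),
    Subgroup.closure (Set.range (fun c : G => c * (α c)⁻¹)) = ⊤ → ∀ k : ℕ, 1 ≤ k →
      Subgroup.closure (Set.range ((fun c : G => c * (α c)⁻¹)^[k])) = ⊤ := by
  intro n
  induction n using Nat.strong_induction_on with
  | _ n ih =>
  intro G _ _ hn α hG k hk
  classical
  set c : G → G := fun c => c * (α c)⁻¹ with hc
  set H := Subgroup.closure (Set.range c^[k]) with hHdef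
  by_contra hne
  have hcomm : Function.Commute (⇑α) c := fun x => by simp [hc]
  have hHα : ∀ x ∈ H, α x ∈ H := by
    intro x hx
    induction hx using Subgroup.closure_induction with
    | mem x hx =>
      obtain ⟨g, rfl⟩ := hx
      exact Subgroup.subset_closure ⟨α g, ((hcomm.iterate_right k) g).symm⟩
    | one => simp
    | mul x y _ _ h1 h2 => rw [map_mul]; exact mul_mem h1 h2
    | inv x _ h1 => rw [map_inv]; exact inv_mem h1
  obtain ⟨M, hM, huniq, hHM, hAM, hNM, g, hg⟩ := unique_overgroup α hG H hHα hne (fun K₀ hK₀t hK₀α hK₀R => by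
    have hlt : Nat.card K₀ < n := by
      rw [← hn]
      exact lt_of_le_of_ne (Subgroup.card_le_card_group K₀) fun e => hK₀t ((Subgroup.card_eq_iff_eq_top K₀).1 e)
    have hRK : Subgroup.closure (c '' (K₀ : Set G)) ≤ K₀ := by
      rw [Subgroup.closure_le]
      rintro _ ⟨x, hx, rfl⟩
      exact mul_mem hx (inv_mem (hK₀α x hx))
    let f : K₀ → K₀ := fun x => ⟨α x, hK₀α x x.2⟩
    let β : MulAut K₀ := MulEquiv.ofBijective
      ({ toFun := f
         map_one' := Subtype.ext (map_one α)
         map_mul' := fun x y => Subtype.ext (map_mul α _ _) } : K₀ →* K₀)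
      (Finite.injective_iff_bijective.1 fun x y h => Subtype.ext (α.injective (congrArg Subtype.val h)))
    have hβ : ∀ x : K₀, ((x * (β x)⁻¹ : K₀) : G) = c x := fun x => rfl
    have hgen : Subgroup.closure (Set.range (fun x : K₀ => x * (β x)⁻¹)) = ⊤ := by
      refine Subgroup.map_injective K₀.subtype_injective ?_
      rw [MonoidHom.map_closure, ← MonoidHom.range_eq_map, Subgroup.range_subtype]
      refine le_antisymm ?_ (hK₀R.trans (Subgroup.closure_mono ?_))
      · rw [Subgroup.closure_le]
        rintro _ ⟨x, -, rfl⟩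
        exact x.2
      · rintro _ ⟨x, hx, rfl⟩
        exact ⟨_, ⟨⟨x, hx⟩, rfl⟩, hβ ⟨x, hx⟩⟩
    have hrec := ih _ hlt K₀ rfl β hgen k hk
    have hiter : ∀ (j : ℕ) (x : K₀),
        (((fun x : K₀ => x * (β x)⁻¹)^[j] x : K₀) : G) = c^[j] x := by
      intro j
      induction j with
      | zero => exact fun x => rfl
      | succ j ihj => exact fun x => by rw [Function.iterate_succ_apply', Function.iterate_succ_apply', hβ, ihj]
    have hK₀H : K₀ ≤ H := by
      intro x hx
      have h1 : (⟨x, hx⟩ : K₀) ∈ H.comap K₀.subtype := by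
        have hle : Subgroup.closure (Set.range ((fun x : K₀ => x * (β x)⁻¹)^[k])) ≤ H.comap K₀.subtype := by
          rw [Subgroup.closure_le]
          rintro _ ⟨y, rfl⟩
          exact Subgroup.subset_closure ⟨y, (hiter k y).symm⟩
        exact hle (hrec.symm ▸ Subgroup.mem_top _)
      exact h1
    exact hK₀H
    )
  have hout : ∀ j : ℕ, (SemidirectProduct.inl (c^[j + 1] g) : Ext α) * top_elt α ∉ M := by
    intro j
    induction j with
    | zero => exact hg
    | succ j ihj =>
      intro hmem
      set β := (SemidirectProduct.inl (c^[j + 1] g) : Ext α) * top_elt α with hβdef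
      have h1 : β * top_elt α * β⁻¹ ∈ M := by
        rw [hβdef, show (SemidirectProduct.inl (c^[j + 1] g) : Ext α) * top_elt α * top_elt α *
            (SemidirectProduct.inl (c^[j + 1] g) * top_elt α)⁻¹
          = SemidirectProduct.inl (c^[j + 1] g) * top_elt α * (SemidirectProduct.inl (c^[j + 1] g))⁻¹ by group,
          conj_top α]
        rw [Function.iterate_succ_apply'] at hmem
        exact hmem
      refine ihj (hNM ▸ mem_normalizer_iff_cj.2 ?_)
      have h2 : cj β⁻¹ M = M := huniq _ (isCoatom_cj _ hM)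
        (mem_cj.2 (by rwa [inv_inv]))
      conv_lhs => rw [← h2]
      rw [cj_cj_inv]
  obtain ⟨j, rfl⟩ : ∃ j, k = j + 1 := ⟨k - 1, by omega⟩
  refine hout j (mul_mem (hHM ?_) hAM)
  show c^[j + 1] g ∈ H
  exact Subgroup.subset_closure ⟨g, rfl⟩

end CfsgLib.PLocal.IteratedCommutatorGen
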