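import Mathlib
import Cfsg.Agent.Lib.PLocal.IteratedCommutatorGen

/-!
The order of a group `G = [G, α]`, `α` an involutory automorphism, is bounded in terms of the number
of elements of odd order inverted by `α`.
-/

set_option autoImplicit false
set_option linter.style.haveILetI false

namespace CfsgLib.PLocal.InvertedOdd

open CfsgLib.PLocal.IteratedCommutatorGen CfsgLib.PLocal.ZipperVariant
open scoped commutatorElement

universe u

/-- The elements of odd order inverted by `α`. -/
def oddInv {G : Type u} [Group G] (α : MulAut G) : Set G :=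
  {g | Odd (orderOf g) ∧ α g = g⁻¹}

theorem gen_odd : ∀ (n : ℕ) (G : Type u) [Group G] [Finite G], Nat.card G = n → ∀ (α : MulAut G),
    (∀ x, α (α x) = x) → Subgroup.closure (Set.range (fun c : G => c * (α c)⁻¹)) = ⊤ →
      Subgroup.closure (oddInv α) = ⊤ := by
  intro n
  induction n using Nat.strong_induction_on with
  | _ n ih =>
  intro G _ _ hn α hα hG
  classical
  set H := Subgroup.closure (oddInv α) with hH
  by_contra hne
  have hHα : ∀ x ∈ H, α x ∈ H := by
    intro x hx
    induction hx using Subgroup.closure_induction with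
    | mem x hx => rw [hx.2]; exact inv_mem (Subgroup.subset_closure hx)
    | one => simp
    | mul x y _ _ h1 h2 => rw [map_mul]; exact mul_mem h1 h2
    | inv x _ h1 => rw [map_inv]; exact inv_mem h1
  obtain ⟨M, hM, huniq, -, htM, -, g, hg⟩ := unique_overgroup α hG H hHα hne
    (fun K₀ hK₀t hK₀α hK₀R => by
      have hlt : Nat.card K₀ < n := by
        rw [← hn]
        exact lt_of_le_of_ne (Subgroup.card_le_card_group K₀) fun e =>
          hK₀t ((Subgroup.card_eq_iff_eq_top K₀).1 e)
      let f : K₀ → K₀ := fun x => ⟨α x, hK₀α x x.2⟩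
      let β : MulAut K₀ := MulEquiv.ofBijective
        ({ toFun := f
           map_one' := Subtype.ext (map_one α)
           map_mul' := fun x y => Subtype.ext (map_mul α _ _) } : K₀ →* K₀)
        (Finite.injective_iff_bijective.1 fun x y h => Subtype.ext (α.injective (congrArg Subtype.val h)))
      have hgen : Subgroup.closure (Set.range (fun x : K₀ => x * (β x)⁻¹)) = ⊤ := by
        refine Subgroup.map_injective K₀.subtype_injective ?_
        rw [MonoidHom.map_closure, ← MonoidHom.range_eq_map, Subgroup.range_subtype]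
        refine le_antisymm ?_ (hK₀R.trans (Subgroup.closure_mono ?_))
        · rw [Subgroup.closure_le]
          rintro _ ⟨x, -, rfl⟩
          exact x.2
        · rintro _ ⟨x, hx, rfl⟩
          exact ⟨_, ⟨⟨x, hx⟩, rfl⟩, rfl⟩
      have hrec := ih _ hlt K₀ rfl β (fun x => Subtype.ext (hα x)) hgen
      intro x hx
      have hle : Subgroup.closure (oddInv β) ≤ H.comap K₀.subtype := by
        rw [Subgroup.closure_le]
        rintro y ⟨hy1, hy2⟩
        refine Subgroup.subset_closure ⟨?_, congrArg Subtype.val hy2⟩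
        rwa [Subgroup.coe_subtype, Subgroup.orderOf_coe]
      exact hle (hrec.symm ▸ Subgroup.mem_top (⟨x, hx⟩ : K₀)))
  set u := g * (α g)⁻¹ with hu
  have hαu : α u = u⁻¹ := by rw [hu, map_mul, map_inv, hα, mul_inv_rev, inv_inv]
  have hinv : ∀ x ∈ Subgroup.zpowers u, α x ∈ Subgroup.zpowers u := by
    intro x hx
    obtain ⟨i, rfl⟩ := Subgroup.mem_zpowers_iff.1 hx
    rw [map_zpow, hαu]
    exact zpow_mem (inv_mem (Subgroup.mem_zpowers u)) i
  set P := lift α (Subgroup.zpowers u) (invariant α _ hinv) with hP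
  have htP : top_elt α ∈ P := show (top_elt α).left ∈ Subgroup.zpowers u from one_mem _
  have hPtop : P = ⊤ := by
    by_contra hPne
    haveI : Finite (Ext α) := Finite.of_equiv _ SemidirectProduct.equivProd.symm
    obtain ⟨N, hN, hle⟩ := (IsCoatomic.eq_top_or_exists_le_coatom P).resolve_left hPne
    refine hg (huniq N hN (hle htP) ▸ hle ?_)
    show (SemidirectProduct.inl u * top_elt α : Ext α).left ∈ Subgroup.zpowers u
    simp [top_elt]
  have hall : ∀ x : G, x ∈ Subgroup.zpowers u := fun x => by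
    have : (SemidirectProduct.inl x : Ext α) ∈ P := hPtop.symm ▸ Subgroup.mem_top _
    exact this
  have hinvert : ∀ x : G, α x = x⁻¹ := fun x => by
    obtain ⟨i, rfl⟩ := Subgroup.mem_zpowers_iff.1 (hall x)
    rw [map_zpow, hαu, inv_zpow]
  have hsq : Subgroup.zpowers (u ^ 2) = ⊤ := by
    refine top_le_iff.1 (hG ▸ (Subgroup.closure_le _).2 ?_)
    rintro _ ⟨x, rfl⟩
    obtain ⟨i, rfl⟩ := Subgroup.mem_zpowers_iff.1 (hall x)
    refine Subgroup.mem_zpowers_iff.2 ⟨i, ?_⟩
    simp only [hinvert, inv_inv]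
    rw [← zpow_natCast, ← zpow_mul, ← zpow_add]
    congr 1
    push_cast
    ring
  have hodd : Odd (orderOf u) := by
    have h1 : orderOf (u ^ 2) = orderOf u := by
      rw [← Nat.card_zpowers, ← Nat.card_zpowers, hsq,
        show Subgroup.zpowers u = ⊤ from eq_top_iff.2 fun x _ => hall x]
    rw [orderOf_pow' u two_ne_zero] at h1
    rcases Nat.even_or_odd (orderOf u) with ⟨k, hk⟩ | h
    · exfalso
      have hpos := orderOf_pos u
      rw [Nat.gcd_eq_right ⟨k, by omega⟩] at h1
      omega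
    · exact h
  refine hne (eq_top_iff.2 fun x _ => Subgroup.subset_closure ⟨?_, hinvert x⟩)
  obtain ⟨i, rfl⟩ := Subgroup.mem_zpowers_iff.1 (hall x)
  exact Odd.of_dvd_nat hodd (orderOf_dvd_of_mem_zpowers (zpow_mem (Subgroup.mem_zpowers u) i))

theorem card_abelianization_le {G : Type u} [Group G] [Finite G] (S : Set G) (m : ℕ)
    (hgen : Subgroup.closure S = ⊤) (hS : Nat.card S ≤ m) (hord : ∀ v ∈ S, orderOf v ≤ m) :
    Nat.card (Abelianization G) ≤ m ^ m := by
  classical
  haveI := Fintype.ofFinite S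
  let Φ : ((v : S) → Subgroup.zpowers (v : G)) →* Abelianization G :=
    { toFun := fun f => ∏ v, Abelianization.of (f v : G)
      map_one' := by simp
      map_mul' := fun f g => by simp [Finset.prod_mul_distrib] }
  have hsurj : Φ.range = ⊤ := by
    have h1 : Subgroup.closure (Abelianization.of '' S) = ⊤ := by
      rw [← MonoidHom.map_closure, hgen]
      exact Subgroup.map_top_of_surjective _ (QuotientGroup.mk'_surjective _)
    refine top_le_iff.1 (h1 ▸ (Subgroup.closure_le _).2 ?_)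
    rintro _ ⟨v, hv, rfl⟩
    refine ⟨Pi.mulSingle ⟨v, hv⟩ ⟨v, Subgroup.mem_zpowers v⟩, ?_⟩
    show ∏ w : S, Abelianization.of ((Pi.mulSingle (⟨v, hv⟩ : S) ⟨v, Subgroup.mem_zpowers v⟩ :
      (w : S) → Subgroup.zpowers (w : G)) w : G) = _
    rw [Fintype.prod_eq_single ⟨v, hv⟩ fun w hw => by rw [Pi.mulSingle_eq_of_ne hw]; simp, Pi.mulSingle_eq_same]
  rcases Nat.eq_zero_or_pos m with rfl | hm
  · haveI : IsEmpty S := Finite.card_eq_zero_iff.1 (Nat.le_zero.1 hS)
    refine le_trans (Nat.card_le_card_of_surjective Φ (MonoidHom.range_eq_top.1 hsurj)) ?_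
    simp
  refine le_trans (Nat.card_le_card_of_surjective Φ (MonoidHom.range_eq_top.1 hsurj)) ?_
  rw [Nat.card_pi]
  refine le_trans (Finset.prod_le_pow_card _ _ m fun v _ => ?_) ?_
  · rw [Nat.card_zpowers]; exact hord v v.2
  · exact Nat.pow_le_pow_right hm (by rw [Finset.card_univ, ← Nat.card_eq_fintype_card]; exact hS)

theorem exists_schur (N : ℕ) : ∃ D : ℕ, ∀ (G : Type u) [Group G] [Finite G],
    (Subgroup.center G).index ≤ N → Nat.card (commutator G) ≤ D := by
  refine ⟨(Finset.range (N * N + 1)).sup Subgroup.cardCommutatorBound, fun G _ _ h => ?_⟩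
  refine le_trans (Subgroup.card_commutator_le_of_finite_commutatorSet G)
    (Finset.le_sup (f := Subgroup.cardCommutatorBound) (Finset.mem_range.2 (Nat.lt_succ_of_le ?_)))
  refine le_trans ?_ (Nat.mul_le_mul h h)
  rw [Subgroup.index_eq_card, ← Nat.card_prod]
  refine Nat.card_le_card_of_surjective
    (fun x : (G ⧸ Subgroup.center G) × (G ⧸ Subgroup.center G) =>
      (⟨⁅x.1.out, x.2.out⁆, commutator_mem_commutatorSet x.1.out x.2.out⟩ : commutatorSet G)) ?_
  rintro ⟨_, a, b, rfl⟩
  refine ⟨((a : G ⧸ Subgroup.center G), (b : G ⧸ Subgroup.center G)), Subtype.ext ?_⟩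
  obtain ⟨⟨z, hz⟩, hzeq⟩ := QuotientGroup.mk_out_eq_mul (Subgroup.center G) a
  obtain ⟨⟨w, hw⟩, hweq⟩ := QuotientGroup.mk_out_eq_mul (Subgroup.center G) b
  show ⁅((a : G ⧸ Subgroup.center G)).out, ((b : G ⧸ Subgroup.center G)).out⁆ = ⁅a, b⁆
  rw [hzeq, hweq]
  have hz' : ∀ y : G, z * y = y * z := fun y => (Subgroup.mem_center_iff.1 hz y).symm
  have hw' : ∀ y : G, w * y = y * w := fun y => (Subgroup.mem_center_iff.1 hw y).symm
  simp only [commutatorElement_def]
  calc a * z * (b * w) * (a * z)⁻¹ * (b * w)⁻¹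
      = a * (z * b) * (w * z⁻¹) * a⁻¹ * w⁻¹ * b⁻¹ := by group
    _ = a * b * (z * (w * z⁻¹)) * a⁻¹ * w⁻¹ * b⁻¹ := by rw [hz' b]; group
    _ = a * b * (w * a⁻¹) * w⁻¹ * b⁻¹ := by rw [hz' (w * z⁻¹)]; group
    _ = a * b * a⁻¹ * b⁻¹ := by rw [hw' a⁻¹]; group

/-- The elements with centralizer of index at most `R`. -/
def smallClass (B : Type u) [Group B] (R : ℕ) : Set B :=
  {g | Nat.card B ≤ R * Nat.card (Subgroup.centralizer ({g} : Set B))}

theorem map_mem_smallClass {B : Type u} [Group B] [Finite B] (f : MulAut B) {R : ℕ} {g : B}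
    (hg : g ∈ smallClass B R) : f g ∈ smallClass B R := by
  refine le_trans hg (Nat.mul_le_mul_left R ?_)
  refine Nat.card_le_card_of_injective
    (fun x : Subgroup.centralizer ({g} : Set B) =>
      (⟨f x, Subgroup.mem_centralizer_singleton_iff.2 (by
        rw [← map_mul, ← map_mul, Subgroup.mem_centralizer_singleton_iff.1 x.2])⟩ :
        Subgroup.centralizer ({f g} : Set B)))
    fun x y h => Subtype.ext (f.injective (congrArg Subtype.val h))

/-- The kernel of all homomorphisms to the symmetric group of degree `R`. -/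
def smallKernel (B : Type u) [Group B] (R : ℕ) : Subgroup B :=
  (MonoidHom.pi fun φ : B →* Equiv.Perm (Fin R) => φ).ker

theorem centralizes {B : Type u} [Group B] [Finite B] {R : ℕ} {g x : B}
    (hg : g ∈ smallClass B R) (hx : x ∈ smallKernel B R) : x * g = g * x := by
  classical
  set C := Subgroup.centralizer ({g} : Set B) with hC
  have hcard : Nat.card (B ⧸ C) ≤ R := by
    refine Nat.le_of_mul_le_mul_right ?_ (Nat.card_pos (α := C))
    rw [← Subgroup.index_eq_card, mul_comm C.index, Subgroup.card_mul_index]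
    exact hg
  haveI := Fintype.ofFinite (B ⧸ C)
  obtain ⟨e⟩ : Nonempty ((B ⧸ C) ↪ Fin R) :=
    Function.Embedding.nonempty_of_card_le (by rw [Fintype.card_fin, ← Nat.card_eq_fintype_card]; exact hcard)
  have h1 := congrFun (MonoidHom.mem_ker.1 hx)
    ((Equiv.Perm.viaEmbeddingHom e).comp (MulAction.toPermHom B (B ⧸ C)))
  have h2 : MulAction.toPermHom B (B ⧸ C) x = 1 :=
    Equiv.Perm.viaEmbeddingHom_injective e (by rw [map_one]; exact h1)
  have h3 := Equiv.ext_iff.1 h2 ((1 : B) : B ⧸ C)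
  rw [MulAction.toPermHom_apply, MulAction.toPerm_apply, Equiv.Perm.one_apply] at h3
  rw [MulAction.Quotient.smul_mk, smul_eq_mul, mul_one] at h3
  have h4 := QuotientGroup.eq.1 h3
  rw [mul_one] at h4
  exact Subgroup.mem_centralizer_singleton_iff.1 (inv_mem_iff.1 h4)

theorem exists_center_bound (c m : ℕ) : ∃ N : ℕ, ∀ (B : Type u) [Group B] [Finite B] (α : MulAut B),
    (∀ x, α (α x) = x) → Nat.card {x : B // α x = x} ≤ c → ∀ S : Set B, Nat.card S ≤ m →
      Subgroup.closure S = ⊤ → (∀ v ∈ S, Odd (orderOf v) ∧ α v = v⁻¹) →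
      (Subgroup.center B).index ≤ N := by
  classical
  set R := 2 * c ^ 2 with hR
  refine ⟨R * R.factorial ^ (R.factorial ^ m) * (c * c) ^ m, fun B _ _ α hα hc S hS hgen hSv => ?_⟩
  have hc0 : 0 < c := lt_of_lt_of_le
    (@Nat.card_pos _ ⟨⟨1, map_one α⟩⟩ _) hc
  set I : Set B := {x | α x = x⁻¹} with hI
  -- the inverted elements form a large set
  have hIbig : Nat.card B ≤ Nat.card I * c := by
    refine le_trans ?_ (Nat.mul_le_mul_left _ hc)
    rw [← Nat.card_prod]
    let c' : B → I := fun x => ⟨x * (α x)⁻¹, by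
      show α (x * (α x)⁻¹) = (x * (α x)⁻¹)⁻¹
      rw [map_mul, map_inv, hα, mul_inv_rev, inv_inv]⟩
    have hdiff : ∀ x y : B, c' x = c' y → α (x⁻¹ * y) = x⁻¹ * y := fun x y h => by
      have h' : x * (α x)⁻¹ = y * (α y)⁻¹ := congrArg Subtype.val h
      rw [map_mul, map_inv, eq_comm, inv_mul_eq_iff_eq_mul, ← mul_assoc, h', inv_mul_cancel_right]
    let pick : I → B := fun i => if h : ∃ x, c' x = i then h.choose else 1
    have hpick : ∀ x, c' (pick (c' x)) = c' x := fun x => by
      simp only [pick, dif_pos (⟨x, rfl⟩ : ∃ y, c' y = c' x)]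
      exact (⟨x, rfl⟩ : ∃ y, c' y = c' x).choose_spec
    refine Nat.card_le_card_of_injective
      (fun x => ((c' x, ⟨(pick (c' x))⁻¹ * x, hdiff _ _ (hpick x)⟩) : I × {x : B // α x = x})) ?_
    intro x y h
    obtain ⟨h1, h2⟩ := Prod.ext_iff.1 h
    have h2' : (pick (c' x))⁻¹ * x = (pick (c' y))⁻¹ * y := congrArg Subtype.val h2
    simp only at h1
    rw [h1] at h2'
    exact mul_left_cancel h2'
  -- many commuting pairs
  haveI := Fintype.ofFinite B
  have hpairs : Nat.card I * Nat.card I ≤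
      ∑ g : B, Nat.card (Subgroup.centralizer ({g} : Set B)) := by
    let pick : B → B := fun g => if h : ∃ z, α z = z⁻¹ ∧ α (g⁻¹ * z) = (g⁻¹ * z)⁻¹ then h.choose else 1
    rw [← Nat.card_prod, ← Nat.card_sigma]
    refine Nat.card_le_card_of_injective (fun p : I × I =>
      (⟨(p.1 : B) * (p.2 : B)⁻¹, ⟨(p.1 : B) * (pick ((p.1 : B) * (p.2 : B)⁻¹))⁻¹, ?_⟩⟩ :
        Σ g : B, Subgroup.centralizer ({g} : Set B))) ?_
    · obtain ⟨⟨z, hz : α z = z⁻¹⟩, ⟨y, hy : α y = y⁻¹⟩⟩ := p
      set g := z * y⁻¹ with hg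
      have hex : ∃ z', α z' = z'⁻¹ ∧ α (g⁻¹ * z') = (g⁻¹ * z')⁻¹ := ⟨z, hz, by rw [hg]; simp [hy]⟩
      have key : ∀ z', α z' = z'⁻¹ → α (g⁻¹ * z') = (g⁻¹ * z')⁻¹ → α g = z'⁻¹ * g⁻¹ * z' := by
        intro z' h1 h2
        rw [map_mul, map_inv, h1, mul_inv_rev, inv_inv] at h2
        calc α g = (α g * (z'⁻¹ * g)) * g⁻¹ * z' := by group
          _ = (α g * ((α g)⁻¹ * z'⁻¹)) * g⁻¹ * z' := by rw [h2]
          _ = z'⁻¹ * g⁻¹ * z' := by group
      set w := pick g with hw
      have hwv : α w = w⁻¹ ∧ α (g⁻¹ * w) = (g⁻¹ * w)⁻¹ := by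
        simp only [hw, pick, dif_pos hex]; exact hex.choose_spec
      have he := (key z hz (by rw [hg]; simp [hy])).symm.trans (key w hwv.1 hwv.2)
      rw [Subgroup.mem_centralizer_singleton_iff]
      show z * w⁻¹ * g = g * (z * w⁻¹)
      have e2 : g⁻¹ * (z * w⁻¹) = z * w⁻¹ * g⁻¹ := by
        calc g⁻¹ * (z * w⁻¹) = z * (z⁻¹ * g⁻¹ * z) * w⁻¹ := by group
          _ = z * (w⁻¹ * g⁻¹ * w) * w⁻¹ := by rw [he]
          _ = z * w⁻¹ * g⁻¹ := by group
      calc z * w⁻¹ * g = g * (g⁻¹ * (z * w⁻¹)) * g := by group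
        _ = g * (z * w⁻¹ * g⁻¹) * g := by rw [e2]
        _ = g * (z * w⁻¹) := by group
    · rintro ⟨⟨z, hz⟩, ⟨y, hy⟩⟩ ⟨⟨z', hz'⟩, ⟨y', hy'⟩⟩ h
      simp only [Sigma.mk.injEq] at h
      obtain ⟨h1, h2⟩ := h
      have h3 : z * (pick (z * y⁻¹))⁻¹ = z' * (pick (z' * y'⁻¹))⁻¹ :=
        (Subtype.heq_iff_coe_eq (fun w => by rw [h1])).1 h2
      rw [h1] at h3
      have ez : z = z' := mul_right_cancel h3
      subst ez
      exact Prod.ext rfl (Subtype.ext (inv_injective (mul_left_cancel h1)))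
  set X := smallClass B R with hX
  have hXbig : Nat.card B ≤ R * Nat.card X := by
    have hsum : R * ∑ g : B, Nat.card (Subgroup.centralizer ({g} : Set B)) ≤
        R * Nat.card B * Nat.card X + Nat.card B * Nat.card B := by
      rw [Finset.mul_sum, ← Finset.sum_filter_add_sum_filter_not Finset.univ (fun g => g ∈ X)]
      refine add_le_add ?_ ?_
      · refine (Finset.sum_le_card_nsmul _ _ (R * Nat.card B) fun g _ =>
          Nat.mul_le_mul_left R (Subgroup.card_le_card_group _)).trans (le_of_eq ?_)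
        rw [smul_eq_mul, mul_comm]
        congr 1
        rw [Nat.card_eq_fintype_card, Fintype.card_subtype]
      · refine (Finset.sum_le_card_nsmul _ _ (Nat.card B) fun g hg => ?_).trans ?_
        · exact (not_le.1 (Finset.mem_filter.1 hg).2).le
        · rw [smul_eq_mul]
          exact Nat.mul_le_mul_right _ (by
            rw [Nat.card_eq_fintype_card]; exact Finset.card_le_univ _)
    have h1 := Nat.mul_le_mul_left R (Nat.mul_le_mul hIbig hIbig)
    have h2 := Nat.mul_le_mul_left (c * c) (Nat.mul_le_mul_left R hpairs)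
    have h3 := Nat.mul_le_mul_left (c * c) hsum
    have hB : 0 < Nat.card B := Nat.card_pos
    have h4 : R * (Nat.card B * Nat.card B) ≤
        c * c * (R * Nat.card B * Nat.card X + Nat.card B * Nat.card B) := by nlinarith
    rw [hR] at h4 ⊢
    refine Nat.le_of_mul_le_mul_left ?_ (show 0 < c * c * Nat.card B by positivity)
    nlinarith
  set H := Subgroup.closure X with hH
  have hHidx : H.index ≤ R := by
    refine Nat.le_of_mul_le_mul_left ?_ (Nat.card_pos (α := H))
    rw [Subgroup.card_mul_index, mul_comm]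
    exact hXbig.trans (Nat.mul_le_mul_left R
      (Nat.card_le_card_of_injective (fun x : X => (⟨x, Subgroup.subset_closure x.2⟩ : H))
        fun x y h => Subtype.ext (congrArg Subtype.val h :)))
  set T := smallKernel B R with hT
  have hTidx : T.index ≤ R.factorial ^ (R.factorial ^ m) := by
    rw [hT, smallKernel, Subgroup.index_ker]
    haveI : Finite (B →* Equiv.Perm (Fin R)) :=
      Finite.of_injective (fun φ => (φ : B → Equiv.Perm (Fin R))) DFunLike.coe_injective
    refine (Subgroup.card_le_card_group _).trans ?_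
    rw [Nat.card_fun, Nat.card_perm, Nat.card_fin]
    refine Nat.pow_le_pow_right (Nat.factorial_pos _) ?_
    refine (Nat.card_le_card_of_injective (fun φ : B →* Equiv.Perm (Fin R) => fun v : S => φ v)
      fun φ ψ h => MonoidHom.eq_of_eqOn_dense hgen fun v hv => congrFun h ⟨v, hv⟩).trans ?_
    rw [Nat.card_fun, Nat.card_perm, Nat.card_fin]
    exact Nat.pow_le_pow_right (Nat.factorial_pos _) hS
  set A := H ⊓ T with hA
  have hAcomm : ∀ x ∈ A, ∀ y ∈ A, x * y = y * x := by
    intro x hx y hy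
    have hle : H ≤ Subgroup.centralizer ({x} : Set B) := by
      rw [hH, Subgroup.closure_le]
      exact fun g hg => Subgroup.mem_centralizer_singleton_iff.2 (centralizes hg hx.2).symm
    exact (Subgroup.mem_centralizer_singleton_iff.1 (hle hy.1)).symm
  have hAinv : ∀ (f : MulAut B), ∀ x ∈ A, f x ∈ A := by
    intro f x hx
    refine ⟨?_, ?_⟩
    · have hle : H ≤ H.comap (f : B →* B) := by
        rw [hH, Subgroup.closure_le]
        exact fun g hg => Subgroup.subset_closure (map_mem_smallClass f hg)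
      exact hle hx.1
    · exact MonoidHom.mem_ker.2 (funext fun φ : B →* Equiv.Perm (Fin R) =>
        congrFun (MonoidHom.mem_ker.1 hx.2) (φ.comp (f : B →* B)))
  -- the roots of the generators
  have hroot : ∀ v : S, ∃ w : B, w * w = v ∧ α w = w⁻¹ := fun v => by
    obtain ⟨⟨k, hk⟩, hv⟩ := hSv v v.2
    refine ⟨(v : B) ^ (k + 1), ?_, by rw [map_pow, hv, inv_pow]⟩
    rw [← pow_add, show k + 1 + (k + 1) = orderOf (v : B) + 1 by omega, pow_succ, pow_orderOf_eq_one, one_mul]
  choose w hw hwinv using hroot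
  let Fix := {x : B // α x = x}
  let β : S → MulAut B := fun v => α.trans (MulAut.conj (v : B))
  have hβapp : ∀ v x, β v x = (v : B) * α x * (v : B)⁻¹ := fun v x => rfl
  let Φ : A →* (S → B × B) :=
    MonoidHom.mk' (fun a v => ((a : B) * α a, (a : B) * β v a)) (fun a b => by
      funext v
      refine Prod.ext ?_ ?_ <;>
        simp only [Subgroup.coe_mul, map_mul, Pi.mul_apply, Prod.mk_mul_mk]
      · calc (a : B) * b * (α a * α b) = a * ((b : B) * α a) * α b := by group
          _ = a * (α a * b) * α b := by rw [hAcomm b b.2 _ (hAinv α a a.2)]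
          _ = a * α a * (b * α b) := by group
      · calc (a : B) * b * (β v a * β v b) = a * ((b : B) * β v a) * β v b := by group
          _ = a * (β v a * b) * β v b := by rw [hAcomm b b.2 _ (hAinv (β v) a a.2)]
          _ = a * β v a * (b * β v b) := by group)
  have hββ : ∀ v x, β v (β v x) = x := fun v x => by
    simp only [hβapp, map_mul, map_inv, hα, (hSv v v.2).2]
    group
  have hrange : Nat.card Φ.range ≤ (c * c) ^ m := by
    refine le_trans (Nat.card_le_card_of_injective
      (fun y : Φ.range => fun v : S => ((⟨(y.1 v).1, ?_⟩ : Fix), (⟨(w v)⁻¹ * (y.1 v).2 * w v, ?_⟩ : Fix))) ?_) ?_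
    · obtain ⟨a, ha⟩ := y.2
      rw [← ha]
      show α ((a : B) * α a) = (a : B) * α a
      rw [map_mul, hα, hAcomm _ (hAinv α a a.2) _ a.2]
    · obtain ⟨a, ha⟩ := y.2
      have hfix : β v (y.1 v).2 = (y.1 v).2 := by
        rw [← ha]
        show β v ((a : B) * β v a) = (a : B) * β v a
        rw [map_mul, hββ, hAcomm _ (hAinv (β v) a a.2) _ a.2]
      rw [hβapp, ← hw v] at hfix
      show α ((w v)⁻¹ * (y.1 v).2 * w v) = (w v)⁻¹ * (y.1 v).2 * w v
      conv_rhs => rw [← hfix]
      rw [map_mul, map_mul, map_inv, hwinv]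
      group
    · intro y y' h
      refine Subtype.ext (funext fun v => ?_)
      obtain ⟨h1, h2⟩ := Prod.ext_iff.1 (congrFun h v)
      exact Prod.ext (congrArg Subtype.val h1)
        (mul_left_cancel (mul_right_cancel (congrArg Subtype.val h2)))
    · rw [Nat.card_fun, Nat.card_prod]
      exact (Nat.pow_le_pow_left (Nat.mul_le_mul hc hc) _).trans
        (Nat.pow_le_pow_right (by positivity) hS)
  have hker : Φ.ker.map A.subtype ≤ Subgroup.center B := by
    rintro _ ⟨a, ha, rfl⟩
    rw [Subgroup.mem_center_iff]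
    have hle : (⊤ : Subgroup B) ≤ Subgroup.centralizer ({(a : B)} : Set B) := by
      rw [← hgen, Subgroup.closure_le]
      intro v hv
      rw [SetLike.mem_coe, Subgroup.mem_centralizer_singleton_iff]
      obtain ⟨h1, h2⟩ := Prod.ext_iff.1 (congrFun (MonoidHom.mem_ker.1 ha) ⟨v, hv⟩)
      have h1' : α (a : B) = (a : B)⁻¹ := eq_inv_of_mul_eq_one_right h1
      have h2' : v * α (a : B) * v⁻¹ = (a : B)⁻¹ := eq_inv_of_mul_eq_one_right h2
      rw [h1'] at h2'
      have h3 := congrArg (·⁻¹) h2'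
      simp only [mul_inv_rev, inv_inv, ← mul_assoc] at h3
      exact mul_inv_eq_iff_eq_mul.1 h3
    exact fun g => (Subgroup.mem_centralizer_singleton_iff.1 (hle (Subgroup.mem_top g)))
  refine le_trans (Nat.le_of_dvd (Nat.pos_of_ne_zero Subgroup.index_ne_zero_of_finite)
    (Subgroup.index_dvd_of_le hker)) ?_
  rw [Subgroup.index_map_subtype, mul_comm, Subgroup.index_ker]
  exact Nat.mul_le_mul ((Subgroup.index_inf_le).trans (Nat.mul_le_mul hHidx hTidx)) hrange

theorem exists_bound (m : ℕ) : ∃ N : ℕ, ∀ (G : Type u) [Group G] [Finite G] (α : MulAut G),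
    (∀ x, α (α x) = x) → Subgroup.closure (Set.range (fun c : G => c * (α c)⁻¹)) = ⊤ →
    Nat.card (oddInv α) = m → Nat.card G ≤ N := by
  classical
  obtain ⟨N₁, hN₁⟩ := exists_center_bound.{u} m.factorial m
  obtain ⟨D₁, hD₁⟩ := exists_schur.{u} N₁
  obtain ⟨D₂, hD₂⟩ := exists_schur.{u} (D₁ * m ^ m)
  refine ⟨D₂ * m ^ m, fun G _ _ α hα hG hm => ?_⟩
  have hgen := gen_odd (Nat.card G) G rfl α hα hG
  have hord : ∀ v ∈ oddInv α, orderOf v ≤ m := by
    intro v hv
    rw [← hm, ← Nat.card_zpowers]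
    refine Nat.card_le_card_of_injective (fun x : Subgroup.zpowers v => (⟨x, ?_, ?_⟩ : oddInv α))
      fun x y h => Subtype.ext (congrArg Subtype.val h :)
    · exact Odd.of_dvd_nat hv.1 (orderOf_dvd_of_mem_zpowers x.2)
    · obtain ⟨i, hi⟩ := Subgroup.mem_zpowers_iff.1 x.2
      rw [← hi, map_zpow, hv.2, inv_zpow]
  haveI hchar : (Subgroup.center G).Characteristic := Subgroup.centerCharacteristic
  let ab : MulAut (G ⧸ Subgroup.center G) := QuotientGroup.congr _ _ α (by
    exact Subgroup.characteristic_iff_map_eq.1 hchar α)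
  have habmk : ∀ x : G, ab (x : G ⧸ Subgroup.center G) = (α x : G ⧸ Subgroup.center G) := fun x => rfl
  have habab : ∀ x, ab (ab x) = x := fun x => by
    induction x using QuotientGroup.induction_on with
    | H x => rw [habmk, habmk, hα]
  have hfix : Nat.card {x : G ⧸ Subgroup.center G // ab x = x} ≤ m.factorial := by
    have hL : ∀ x : {x : G ⧸ Subgroup.center G // ab x = x}, ∀ s ∈ oddInv α,
        x.1.out * s * x.1.out⁻¹ ∈ oddInv α ∧ x.1.out⁻¹ * s * x.1.out ∈ oddInv α := by
      intro x s hs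
      have hx : x.1.out⁻¹ * α x.1.out ∈ Subgroup.center G := by
        rw [← QuotientGroup.eq, ← habmk, QuotientGroup.out_eq', x.2]
      set g := x.1.out
      set z := g⁻¹ * α g with hz
      have hzg : α g = g * z := by rw [hz]; group
      have hzc := Subgroup.mem_center_iff.1 hx
      have hord : orderOf (g * s * g⁻¹) = orderOf s ∧ orderOf (g⁻¹ * s * g) = orderOf s := by
        refine ⟨MulEquiv.orderOf_eq (MulAut.conj g) s, ?_⟩
        have := MulEquiv.orderOf_eq (MulAut.conj g⁻¹) s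
        rwa [MulAut.conj_apply, inv_inv] at this
      refine ⟨⟨hord.1 ▸ hs.1, ?_⟩, ⟨hord.2 ▸ hs.1, ?_⟩⟩
      · rw [map_mul, map_mul, map_inv, hs.2, hzg]
        calc g * z * s⁻¹ * (g * z)⁻¹ = g * (z * s⁻¹) * z⁻¹ * g⁻¹ := by group
          _ = g * (s⁻¹ * z) * z⁻¹ * g⁻¹ := by rw [hzc]
          _ = (g * s * g⁻¹)⁻¹ := by group
      · rw [map_mul, map_mul, map_inv, hs.2, hzg]
        calc (g * z)⁻¹ * s⁻¹ * (g * z) = z⁻¹ * (g⁻¹ * s⁻¹ * g * z) := by group
          _ = z⁻¹ * (z * (g⁻¹ * s⁻¹ * g)) := by rw [hzc (g⁻¹ * s⁻¹ * g)]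
          _ = (g⁻¹ * s * g)⁻¹ := by group
    let π : {x : G ⧸ Subgroup.center G // ab x = x} → Equiv.Perm (oddInv α) := fun x =>
      { toFun := fun s => ⟨x.1.out * s * x.1.out⁻¹, (hL x s s.2).1⟩
        invFun := fun s => ⟨x.1.out⁻¹ * s * x.1.out, (hL x s s.2).2⟩
        left_inv := fun s => Subtype.ext (by simp [mul_assoc])
        right_inv := fun s => Subtype.ext (by simp [mul_assoc]) }
    refine (Nat.card_le_card_of_injective π fun x y h => Subtype.ext ?_).trans
      (le_of_eq (by rw [Nat.card_perm, hm]))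
    rw [← QuotientGroup.out_eq' x.1, ← QuotientGroup.out_eq' y.1, QuotientGroup.eq]
    have hle : (⊤ : Subgroup G) ≤ Subgroup.centralizer ({x.1.out⁻¹ * y.1.out} : Set G) := by
      rw [← hgen, Subgroup.closure_le]
      intro s hs
      rw [SetLike.mem_coe, Subgroup.mem_centralizer_singleton_iff]
      have he : x.1.out * s * x.1.out⁻¹ = y.1.out * s * y.1.out⁻¹ :=
        congrArg Subtype.val (Equiv.ext_iff.1 h ⟨s, hs⟩)
      calc s * (x.1.out⁻¹ * y.1.out) = x.1.out⁻¹ * (x.1.out * s * x.1.out⁻¹) * y.1.out := by group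
        _ = x.1.out⁻¹ * (y.1.out * s * y.1.out⁻¹) * y.1.out := by rw [he]
        _ = x.1.out⁻¹ * y.1.out * s := by group
    exact Subgroup.mem_center_iff.2 fun g =>
      Subgroup.mem_centralizer_singleton_iff.1 (hle (Subgroup.mem_top g))
  let mk := QuotientGroup.mk' (Subgroup.center G)
  have hS : Nat.card (mk '' oddInv α) ≤ m := by
    rw [← hm]; exact Nat.card_image_le (Set.toFinite _)
  have hgenB : Subgroup.closure (mk '' oddInv α) = ⊤ := by
    rw [← MonoidHom.map_closure, hgen, Subgroup.map_top_of_surjective _ (QuotientGroup.mk'_surjective _)]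
  have hB1 := hN₁ (G ⧸ Subgroup.center G) ab habab hfix (mk '' oddInv α) hS hgenB (by
    rintro _ ⟨v, hv, rfl⟩
    refine ⟨Odd.of_dvd_nat hv.1 (orderOf_map_dvd mk v), ?_⟩
    show ab (v : G ⧸ Subgroup.center G) = _
    rw [habmk, hv.2]; rfl)
  have hB : Nat.card (G ⧸ Subgroup.center G) ≤ D₁ * m ^ m := by
    rw [← (commutator (G ⧸ Subgroup.center G)).card_mul_index]
    refine Nat.mul_le_mul (hD₁ _ hB1) ?_
    rw [Subgroup.index_eq_card]
    refine card_abelianization_le (mk '' oddInv α) m hgenB hS ?_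
    rintro _ ⟨v, hv, rfl⟩
    exact (Nat.le_of_dvd (orderOf_pos v) (orderOf_map_dvd mk v)).trans (hord v hv)
  rw [← (commutator G).card_mul_index]
  refine Nat.mul_le_mul (hD₂ G ?_) ?_
  · rw [Subgroup.index_eq_card]; exact hB
  · rw [Subgroup.index_eq_card]
    exact card_abelianization_le (oddInv α) m hgen hm.le hord

end CfsgLib.PLocal.InvertedOdd
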