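import Cfsg.Agent.Lib.PLocal.PSolvable
import Cfsg.Agent.Lib.Coprime.Action

/-!
# When does a Sylow `p`-subgroup normalize a Sylow `q`-subgroup?
-/

set_option autoImplicit false
set_option linter.style.haveILetI false

namespace CfsgLib.PLocal.NormalizeSylow

open Cfsg Subgroup CfsgLib.Base
open scoped Pointwise

universe u

variable {G : Type u} [Group G] [Finite G] {p q : ℕ} [Fact p.Prime] [Fact q.Prime]

theorem relIndex_sup_of_normal (H N : Subgroup G) [N.Normal] :
    H.relIndex (H ⊔ N) = H.relIndex N := by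
  have h1 := Subgroup.relIndex_mul_relIndex ⊥ H (H ⊔ N) bot_le le_sup_left
  have h2 := Subgroup.relIndex_mul_relIndex ⊥ (H ⊓ N) N bot_le inf_le_right
  have h3 := CfsgLib.Coprime.card_sup_mul_card_inf (H := H) (N := N)
    Subgroup.le_normalizer_of_normal
  simp only [Subgroup.relIndex_bot_left, Subgroup.inf_relIndex_right] at h1 h2
  rw [← h1, ← h2] at h3
  refine Nat.eq_of_mul_eq_mul_left
    (Nat.mul_pos (Nat.card_pos (α := H)) (Nat.card_pos (α := ↥(H ⊓ N)))) ?_
  linarith

theorem exists_iff :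
    (∃ (P : Sylow p G) (Q : Sylow q G),
      (P : Subgroup G) ≤ Subgroup.normalizer ((Q : Subgroup G) : Set G)) ↔
      ¬ p ∣ Nat.card (Sylow q G) := by
  constructor
  · rintro ⟨P, Q, h⟩ hd
    rw [Sylow.card_eq_index_normalizer Q] at hd
    exact P.not_dvd_index (hd.trans (Subgroup.index_dvd_of_le h))
  · intro h
    obtain ⟨Q⟩ : Nonempty (Sylow q G) := inferInstance
    rw [Sylow.card_eq_index_normalizer Q] at h
    set N := Subgroup.normalizer ((Q : Subgroup G) : Set G) with hN
    obtain ⟨S⟩ : Nonempty (Sylow p N) := inferInstance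
    have hi : ¬ p ∣ ((S : Subgroup N).map N.subtype).index := by
      rw [Subgroup.index_map_subtype, (Fact.out : p.Prime).dvd_mul]
      exact not_or.mpr ⟨S.not_dvd_index, h⟩
    exact ⟨(S.2.map N.subtype).toSylow hi, Q, Subgroup.map_subtype_le _⟩

theorem card_sylow_eq_of_normal_le {K : Subgroup G} [K.Normal] (Q : Sylow q G)
    (h : (Q : Subgroup G) ≤ K) : Nat.card (Sylow q G) = Nat.card (Sylow q K) := by
  have hall : ∀ R : Sylow q G, (R : Subgroup G) ≤ K := fun R => by
    obtain ⟨g, rfl⟩ := MulAction.exists_smul_eq G Q R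
    exact (Subgroup.pointwise_smul_le_pointwise_smul_iff.mpr h).trans
      (Subgroup.Normal.conjAct (inferInstance : K.Normal) g).le
  refine Nat.card_congr (Equiv.ofBijective (fun R => R.subtype (hall R)) ⟨?_, ?_⟩)
  · exact fun R R' hR => Sylow.subtype_injective hR
  · intro S
    obtain ⟨R, hR⟩ := S.exists_comap_subtype_eq
    exact ⟨R, Sylow.ext hR⟩

theorem exists_of_le_pPrimeCore (Q : Sylow q G) (h : (Q : Subgroup G) ≤ pPrimeCore p G) :
    ∃ (P : Sylow p G) (Q : Sylow q G),
      (P : Subgroup G) ≤ Subgroup.normalizer ((Q : Subgroup G) : Set G) := by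
  refine exists_iff.mpr ?_
  rw [card_sylow_eq_of_normal_le Q h, Sylow.card_eq_index_normalizer (Q.subtype h)]
  exact fun hd => not_dvd_card_pPrimeCore p G (hd.trans (Subgroup.index_dvd_card _))

theorem le_pPrimeCore_of_image (hG : IsPSolvable p G) {H : Subgroup G}
    (h : H.map (QuotientGroup.mk' (pPrimeCore p G)) ≤
      centralizer ((pCore p (G ⧸ pPrimeCore p G) : Subgroup _) : Set _))
    (hH : ¬ p ∣ Nat.card H) : H ≤ pPrimeCore p G := by
  have h1 := h.trans (centralizer_pCore_le (isPSolvable_quotient hG _)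
    (pPrimeCore_quotient_pPrimeCore p G))
  have hbot : H.map (QuotientGroup.mk' (pPrimeCore p G)) = ⊥ := by
    refine Subgroup.card_eq_one.mp ?_
    obtain ⟨k, hk⟩ := ((isPGroup_pCore p _).to_le h1).exists_card_eq
    rcases k.eq_zero_or_pos with h0 | h0
    · rw [hk, h0, pow_zero]
    · refine absurd (dvd_trans ?_ (H.card_map_dvd (QuotientGroup.mk' (pPrimeCore p G)))) hH
      rw [hk]
      exact dvd_pow_self p h0.ne'
  exact fun x hx => (QuotientGroup.eq_one_iff x).mp
    (Subgroup.mem_bot.mp (hbot ▸ Subgroup.mem_map_of_mem (QuotientGroup.mk' _) hx))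

theorem pCore_le_map_sylow (P : Sylow p G) (N : Subgroup G) [N.Normal] :
    pCore p (G ⧸ N) ≤ (P : Subgroup G).map (QuotientGroup.mk' N) :=
  pCore_le_sylow (P.mapSurjective (QuotientGroup.mk'_surjective N))

theorem not_dvd_card_sylow (hpq : p ≠ q) (Q : Sylow q G) : ¬ p ∣ Nat.card Q := fun h => by
  obtain ⟨k, hk⟩ := Q.2.exists_card_eq
  exact hpq ((Nat.prime_dvd_prime_iff_eq Fact.out Fact.out).mp
    ((Fact.out : p.Prime).dvd_of_dvd_pow (hk ▸ h)))

theorem le_pPrimeCore_of_normalizes (hpq : p ≠ q) (hG : IsPSolvable p G) (P : Sylow p G)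
    (Q : Sylow q G) (h : (P : Subgroup G) ≤ Subgroup.normalizer ((Q : Subgroup G) : Set G)) :
    (Q : Subgroup G) ≤ pPrimeCore p G := by
  set f := QuotientGroup.mk' (pPrimeCore p G)
  refine le_pPrimeCore_of_image hG ?_ (not_dvd_card_sylow hpq Q)
  intro x hx
  rw [Subgroup.mem_centralizer_iff_commutator_eq_one]
  intro y hy
  have hy' : y ∈ Subgroup.normalizer (((Q : Subgroup G).map f : Subgroup _) : Set _) :=
    (Subgroup.le_normalizer_map f) (Subgroup.map_mono h
      (pCore_le_map_sylow P _ hy))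
  have h1 : y * x * y⁻¹ * x⁻¹ ∈ (Q : Subgroup G).map f :=
    mul_mem ((Subgroup.mem_normalizer_iff.mp hy' x).mp hx) (inv_mem hx)
  have h2 : y * x * y⁻¹ * x⁻¹ ∈ pCore p (G ⧸ pPrimeCore p G) := by
    have h3 : x * y⁻¹ * x⁻¹ ∈ pCore p (G ⧸ pPrimeCore p G) :=
      (inferInstance : (pCore p (G ⧸ pPrimeCore p G)).Normal).conj_mem _ (inv_mem hy) x
    simpa [mul_assoc] using mul_mem hy h3
  have hbot := IsPGroup.disjoint_of_ne q p hpq.symm _ _ (Q.2.map f) (isPGroup_pCore p _)
  exact Subgroup.mem_bot.mp (hbot.le_bot ⟨h1, h2⟩)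

theorem iff_not_dvd_index (hpq : p ≠ q) (hG : IsPSolvable p G) :
    (∃ (P : Sylow p G) (Q : Sylow q G),
      (P : Subgroup G) ≤ Subgroup.normalizer ((Q : Subgroup G) : Set G)) ↔
      ¬ q ∣ (pPrimeCore p G).index := by
  constructor
  · rintro ⟨P, Q, h⟩ hd
    exact Q.not_dvd_index
      (hd.trans (Subgroup.index_dvd_of_le (le_pPrimeCore_of_normalizes hpq hG P Q h)))
  · intro h
    obtain ⟨S⟩ : Nonempty (Sylow q (pPrimeCore p G)) := inferInstance
    have hi : ¬ q ∣ ((S : Subgroup _).map (pPrimeCore p G).subtype).index := by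
      rw [Subgroup.index_map_subtype, (Fact.out : q.Prime).dvd_mul]
      exact not_or.mpr ⟨S.not_dvd_index, h⟩
    exact exists_of_le_pPrimeCore ((S.2.map _).toSylow hi) (Subgroup.map_subtype_le _)

theorem exists_sylow_le_centralizer {y : G} (h : ¬ p ∣ (centralizer ({y} : Set G)).index) :
    ∃ P : Sylow p G, (P : Subgroup G) ≤ centralizer ({y} : Set G) := by
  obtain ⟨S⟩ : Nonempty (Sylow p (centralizer ({y} : Set G))) := inferInstance
  have hi : ¬ p ∣ ((S : Subgroup _).map (centralizer ({y} : Set G)).subtype).index := by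
    rw [Subgroup.index_map_subtype, (Fact.out : p.Prime).dvd_mul]
    exact not_or.mpr ⟨S.not_dvd_index, h⟩
  exact ⟨(S.2.map _).toSylow hi, Subgroup.map_subtype_le _⟩

theorem exists_of_pSolvable (hpq : p ≠ q) (hG : IsPSolvable p G)
    (h : ∀ y : G, (∃ k : ℕ, orderOf y = q ^ k) →
      ¬ p ∣ (Subgroup.centralizer ({y} : Set G)).index) :
    ∃ (P : Sylow p G) (Q : Sylow q G),
      (P : Subgroup G) ≤ Subgroup.normalizer ((Q : Subgroup G) : Set G) := by
  obtain ⟨Q⟩ : Nonempty (Sylow q G) := inferInstance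
  refine exists_of_le_pPrimeCore Q (le_pPrimeCore_of_image hG ?_ (not_dvd_card_sylow hpq Q))
  rintro _ ⟨y, hy, rfl⟩
  obtain ⟨k, hk⟩ := (IsPGroup.iff_orderOf.mp Q.2) ⟨y, hy⟩
  rw [Subgroup.orderOf_mk] at hk
  obtain ⟨P, hP⟩ := exists_sylow_le_centralizer (h y ⟨k, hk⟩)
  rw [Subgroup.mem_centralizer_iff]
  intro z hz
  obtain ⟨w, hw, rfl⟩ := pCore_le_map_sylow P _ hz
  rw [← map_mul, ← map_mul, Subgroup.mem_centralizer_singleton_iff.mp (hP hw)]

theorem exists_centralizing_sylow {N : Subgroup G} [N.Normal] (Q : Sylow q G)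
    (hN : (Nat.card N).Coprime q)
    (h : ∀ y : G, (∃ k : ℕ, orderOf y = q ^ k) →
      ¬ p ∣ (Subgroup.centralizer ({y} : Set G)).index) :
    ∃ S : Sylow p N, (S : Subgroup N).map N.subtype ≤ centralizer ((Q : Subgroup G) : Set G) := by
  have hcop : ∀ A : Subgroup G, A ≤ Q → (Nat.card A).Coprime (Nat.card N) := fun A hA => by
    obtain ⟨k, hk⟩ := (Q.2.to_le hA).exists_card_eq
    rw [hk]
    exact Nat.Coprime.pow_left _ hN.symm
  haveI : Group.IsNilpotent (Q : Subgroup G) := Q.2.isNilpotent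
  obtain ⟨S₁⟩ : Nonempty (Sylow p N) := inferInstance
  obtain ⟨c, hc, hinv⟩ := CfsgLib.Coprime.exists_normalized_conj (A := (Q : Subgroup G)) (K := N)
    Subgroup.le_normalizer_of_normal (hcop _ le_rfl) (Or.inl inferInstance)
    ((S₁ : Subgroup N).map N.subtype) (fun a _ => by
      obtain ⟨m, hm⟩ := MulAction.exists_smul_eq N S₁
        (S₁.comapOfInjective (MulAut.conjNormal a⁻¹).toMonoidHom (MulAut.conjNormal a⁻¹).injective
          (by simp))
      refine ⟨m, m.2, ?_⟩
      ext x
      have h1 := fun z : N => SetLike.ext_iff.mp (congrArg (fun T : Sylow p N => (T : Subgroup N)) hm) z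
      simp only [CfsgLib.Coprime.mem_conj_smul, Subgroup.mem_map]
      constructor
      · rintro ⟨z, hz, hzx⟩
        refine ⟨MulAut.conjNormal a⁻¹ (m * z * m⁻¹), ?_, ?_⟩
        · have h2 := (h1 (m * z * m⁻¹)).mp (by
            rw [Sylow.coe_subgroup_smul, CfsgLib.Coprime.mem_conj_smul]
            simpa [mul_assoc] using hz)
          exact h2
        · simp only [Subgroup.coe_subtype] at hzx ⊢
          simp [hzx, mul_assoc]
      · rintro ⟨z, hz, hzx⟩
        have h2 := (h1 (MulAut.conjNormal a z)).mpr (by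
          show MulAut.conjNormal a⁻¹ (MulAut.conjNormal a z) ∈ (S₁ : Subgroup N)
          rw [← MulAut.mul_apply, ← map_mul, inv_mul_cancel, map_one]
          exact hz)
        rw [Sylow.coe_subgroup_smul, CfsgLib.Coprime.mem_conj_smul] at h2
        refine ⟨_, h2, ?_⟩
        simp only [Subgroup.coe_subtype] at hzx ⊢
        simp [hzx, mul_assoc])
  refine ⟨(⟨c, hc⟩ : N) • S₁, ?_⟩
  have hmap : (((⟨c, hc⟩ : N) • S₁ : Sylow p N) : Subgroup N).map N.subtype =
      MulAut.conj c • (S₁ : Subgroup N).map N.subtype := by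
    rw [Sylow.coe_subgroup_smul]
    exact (CfsgLib.Coprime.conj_smul_map N.subtype ⟨c, hc⟩ _).symm
  rw [← hmap] at hinv
  generalize (⟨c, hc⟩ : N) • S₁ = S at hinv ⊢
  rw [Subgroup.le_centralizer_iff]
  intro y hy
  obtain ⟨k, hk⟩ := (IsPGroup.iff_orderOf.mp Q.2) ⟨y, hy⟩
  rw [Subgroup.orderOf_mk] at hk
  have hy' : ¬ p ∣ ((centralizer ({y} : Set G)).subgroupOf N).index := fun hd => by
    refine h y ⟨k, hk⟩ (hd.trans ?_)
    show (centralizer ({y} : Set G)).relIndex N ∣ _
    rw [← relIndex_sup_of_normal]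
    exact Dvd.intro _ (Subgroup.relIndex_mul_index le_sup_left)
  obtain ⟨S₂⟩ : Nonempty (Sylow p ((centralizer ({y} : Set G)).subgroupOf N)) := inferInstance
  have hi : ¬ p ∣ ((S₂ : Subgroup _).map ((centralizer ({y} : Set G)).subgroupOf N).subtype).index := by
    rw [Subgroup.index_map_subtype, (Fact.out : p.Prime).dvd_mul]
    exact not_or.mpr ⟨S₂.not_dvd_index, hy'⟩
  set T : Sylow p N := (S₂.2.map _).toSylow hi
  have hTy : (T : Subgroup N).map N.subtype ≤ centralizer ({y} : Set G) := by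
    rintro _ ⟨_, ⟨z, -, rfl⟩, rfl⟩
    exact z.2
  obtain ⟨m, hm⟩ := MulAction.exists_smul_eq N T S
  have hyQ : Subgroup.zpowers y ≤ (Q : Subgroup G) := (Subgroup.zpowers_le).mpr hy
  have hTN : Subgroup.zpowers y ≤
      Subgroup.normalizer (((T : Subgroup N).map N.subtype : Subgroup G) : Set G) := by
    refine le_trans ?_ (Subgroup.centralizer_le_normalizer _)
    rw [Subgroup.zpowers_le, Subgroup.mem_centralizer_iff]
    exact fun z hz => (Subgroup.mem_centralizer_singleton_iff.mp (hTy hz))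
  obtain ⟨d, hd, hde⟩ := CfsgLib.Coprime.exists_centralizing_conj_eq (A := Subgroup.zpowers y)
    (K := N) Subgroup.le_normalizer_of_normal (hcop _ hyQ) (Or.inl inferInstance) hTN
    (hyQ.trans hinv) ⟨m, m.2, by
      rw [← hm, Sylow.coe_subgroup_smul]
      exact CfsgLib.Coprime.conj_smul_map N.subtype m _⟩
  rw [Subgroup.mem_centralizer_iff]
  intro z hz
  rw [SetLike.mem_coe, ← hde, CfsgLib.Coprime.mem_conj_smul] at hz
  have hdy : y * d = d * y :=
    Subgroup.mem_centralizer_iff.mp hd.2 y (Subgroup.mem_zpowers y)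
  have hzy : (d⁻¹ * z * d) * y = y * (d⁻¹ * z * d) :=
    Subgroup.mem_centralizer_singleton_iff.mp (hTy hz)
  have hc1 : Commute d y := hdy.symm
  have hc2 : Commute (d⁻¹ * z * d) y := hzy
  have hc3 := (hc1.mul_left hc2).mul_left hc1.inv_left
  rw [show d * (d⁻¹ * z * d) * d⁻¹ = z by group] at hc3
  exact hc3.eq

theorem exists_of_qSolvable_aux (hpq : p ≠ q) (n : ℕ) : ∀ {G : Type u} [Group G] [Finite G],
    Nat.card G ≤ n → IsPSolvable q G →
    (∀ y : G, (∃ k : ℕ, orderOf y = q ^ k) →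
      ¬ p ∣ (Subgroup.centralizer ({y} : Set G)).index) →
    ¬ p ∣ Nat.card (Sylow q G) := by
  induction n with
  | zero => exact fun {G} _ _ h => absurd h (by have := Nat.card_pos (α := G); omega)
  | succ n ih =>
    intro G _ _ hn hG h
    by_cases hsub : Subsingleton G
    · haveI : Subsingleton (Sylow q G) := ⟨fun a b => Sylow.ext (Subsingleton.elim _ _)⟩
      rw [Nat.card_unique]
      exact (Fact.out : p.Prime).not_dvd_one
    haveI : Nontrivial G := not_subsingleton_iff_nontrivial.mp hsub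
    obtain ⟨N, hN, hne, hcase⟩ := CfsgLib.Coprime.pSolvable_step hG
    haveI := hN
    set f := QuotientGroup.mk' N
    have hlt : Nat.card (G ⧸ N) ≤ n :=
      Nat.lt_succ_iff.mp ((CfsgLib.Coprime.card_quotient_lt hne).trans_le hn)
    have hind : ¬ p ∣ Nat.card (Sylow q (G ⧸ N)) := by
      refine ih hlt (isPSolvable_quotient hG N) ?_
      rintro yb ⟨k, hk⟩ hd
      obtain ⟨S, hS⟩ : ∃ S : Sylow q (G ⧸ N), yb ∈ (S : Subgroup (G ⧸ N)) := by
        obtain ⟨S, hS⟩ := (IsPGroup.of_card (n := k) (by rw [Nat.card_zpowers, hk]) :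
          IsPGroup q (Subgroup.zpowers yb)).exists_le_sylow
        exact ⟨S, hS (Subgroup.mem_zpowers yb)⟩
      obtain ⟨R, rfl⟩ := Sylow.mapSurjective_surjective (QuotientGroup.mk'_surjective N) q S
      obtain ⟨y, hy, rfl⟩ := hS
      obtain ⟨j, hj⟩ := (IsPGroup.iff_orderOf.mp R.2) ⟨y, hy⟩
      rw [Subgroup.orderOf_mk] at hj
      refine h y ⟨j, hj⟩ (hd.trans ((Subgroup.index_dvd_of_le ?_).trans
        (Subgroup.index_map_dvd _ (f := f) (QuotientGroup.mk'_surjective N))))
      rintro _ ⟨z, hz, rfl⟩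
      rw [Subgroup.mem_centralizer_singleton_iff, ← map_mul, ← map_mul,
        Subgroup.mem_centralizer_singleton_iff.mp hz]
    obtain ⟨Q⟩ : Nonempty (Sylow q G) := inferInstance
    rw [Sylow.card_eq_index_normalizer Q]
    rw [Sylow.card_eq_index_normalizer (Q.mapSurjective (QuotientGroup.mk'_surjective N))] at hind
    set M := Subgroup.normalizer ((Q : Subgroup G) : Set G) with hM
    have hMN : ¬ p ∣ (M ⊔ N).index := by
      intro hd
      have hcomap : (Subgroup.normalizer (((Q : Subgroup G).map f : Subgroup _) : Set _)).comap f ≤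
          M ⊔ N := by
        intro g hg
        rw [Subgroup.mem_comap, CfsgLib.Coprime.mem_normalizer_iff_conj_smul,
          CfsgLib.Coprime.conj_smul_map] at hg
        have hle : MulAut.conj g • (Q : Subgroup G) ≤ (Q : Subgroup G) ⊔ N := by
          rw [show (Q : Subgroup G) ⊔ N = ((Q : Subgroup G).map f).comap f by
            rw [Subgroup.comap_map_eq, QuotientGroup.ker_mk'], ← hg]
          exact Subgroup.le_comap_map _ _
        set J := (Q : Subgroup G) ⊔ N with hJ
        have h1 : (Q : Subgroup G) ≤ J := le_sup_left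
        have h2 : ((g • Q : Sylow q G) : Subgroup G) ≤ J := by rwa [Sylow.coe_subgroup_smul]
        obtain ⟨j, hj⟩ := MulAction.exists_smul_eq J ((g • Q).subtype h2) (Q.subtype h1)
        have hjg : (j : G) * g ∈ M := by
          rw [Sylow.smul_subtype h2] at hj
          rw [hM, CfsgLib.Coprime.mem_normalizer_iff_conj_smul, map_mul, mul_smul]
          exact congrArg (fun T : Sylow q G => (T : Subgroup G)) (Sylow.subtype_injective hj)
        have hjM : (j : G)⁻¹ ∈ M ⊔ N :=
          inv_mem ((sup_le_sup_right (Subgroup.le_normalizer) N) j.2)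
        simpa using mul_mem hjM (Subgroup.mem_sup_left hjg)
      exact hind ((Subgroup.index_comap_of_surjective _ (QuotientGroup.mk'_surjective N)) ▸
        hd.trans (Subgroup.index_dvd_of_le hcomap))
    have hrel : ¬ p ∣ M.relIndex (M ⊔ N) := by
      rw [relIndex_sup_of_normal]
      rcases hcase with hpg | hcop
      · intro hd
        have h1 : N ≤ M := ((le_pCore hpg).trans (pCore_le_sylow Q)).trans Subgroup.le_normalizer
        rw [Subgroup.relIndex_eq_one.mpr h1] at hd
        exact (Fact.out : p.Prime).not_dvd_one hd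
      · obtain ⟨S, hS⟩ := exists_centralizing_sylow Q hcop h
        intro hd
        refine S.not_dvd_index (hd.trans ?_)
        show (M.subgroupOf N).index ∣ _
        refine Subgroup.index_dvd_of_le ?_
        intro x hx
        exact Subgroup.centralizer_le_normalizer _ (hS ⟨x, hx, rfl⟩)
    show ¬ p ∣ M.index
    rw [← Subgroup.relIndex_mul_index (le_sup_left : M ≤ M ⊔ N), (Fact.out : p.Prime).dvd_mul]
    exact not_or.mpr ⟨hrel, hMN⟩

end CfsgLib.PLocal.NormalizeSylow
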