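import Mathlib
import Cfsg.Prelude.Def_PLocal
import Cfsg.Agent.Lib.PLocal.Constrained
import Cfsg.Agent.Lib.PLocal.Replacement
import Cfsg.Agent.Lib.PLocal.Thompson
import Cfsg.Agent.Lib.Coprime.Action2

/-!
Elementary abelian `p`-groups acting on a coprime group `Q` and an elementary abelian `p`-group `V`
on which `Q` is faithful: `|A| |C_V(A)| ≤ |V|`, and the structure in case of equality.
-/

set_option autoImplicit false
set_option linter.style.haveILetI false

namespace CfsgLib.PLocal

open Subgroup Cfsg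
open scoped commutatorElement

variable {G : Type*} [Group G] {p : ℕ}

/-- The standing hypotheses on `V` and `Q`. -/
structure FFData (p : ℕ) (V Q : Subgroup G) : Prop where
  elem : IsElementaryAbelian p V
  le_norm : Q ≤ normalizer (V : Set G)
  faithful : Q ⊓ centralizer (V : Set G) = ⊥
  coprime : (Nat.card Q).Coprime p

/-- An elementary abelian group acting on `V` and faithfully on `Q`. -/
structure FFActs (p : ℕ) (V Q A : Subgroup G) : Prop where
  elem : IsElementaryAbelian p A
  le_normV : A ≤ normalizer (V : Set G)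
  le_normQ : A ≤ normalizer (Q : Set G)
  faithful : A ⊓ centralizer (Q : Set G) = ⊥

/-- Equality `|A| |C_V(A)| = |V|`. -/
def IsOff (V A : Subgroup G) : Prop :=
  Nat.card A * Nat.card ↥(V ⊓ centralizer (A : Set G)) = Nat.card V

theorem FFActs.mono {V Q A B : Subgroup G} (h : FFActs p V Q A) (hB : B ≤ A) : FFActs p V Q B where
  elem := isElementaryAbelian_of_le h.elem hB
  le_normV := hB.trans h.le_normV
  le_normQ := hB.trans h.le_normQ
  faithful := eq_bot_iff.2 ((inf_le_inf_right _ hB).trans h.faithful.le)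

theorem isOff_bot (V : Subgroup G) : IsOff V (⊥ : Subgroup G) := by
  have h : V ⊓ centralizer ((⊥ : Subgroup G) : Set G) = V :=
    inf_eq_left.2 fun v _ => mem_centralizer_iff.2 fun x hx => by rw [mem_bot.1 hx]; simp
  rw [IsOff, card_bot, one_mul, h]

theorem FFData.pow_eq_one_of_pgroup [Finite G] [Fact p.Prime] {V Q K : Subgroup G} (d : FFData p V Q)
    (hK : IsPGroup p K) : K ⊓ Q = ⊥ :=
  CfsgLib.Base.inf_eq_bot_of_isPGroup_of_coprime hK d.coprime

/-- The key lemma: a hyperplane step. -/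
theorem exists_step [Finite G] [Fact p.Prime] {V Q A : Subgroup G} (d : FFData p V Q)
    (h : FFActs p V Q A) {B : Subgroup G} (hBA : B ≤ A) (hc : ∃ a ∈ A, B ⊔ zpowers a = A)
    (hne : ¬ Q ⊓ centralizer (B : Set G) ≤ centralizer (A : Set G)) :
    p * Nat.card B = Nat.card A ∧
      p * Nat.card ↥(V ⊓ centralizer (A : Set G)) ≤ Nat.card ↥(V ⊓ centralizer (B : Set G)) := by
  have hp : p.Prime := Fact.out
  haveI := h.elem.1
  obtain ⟨a, ha, he⟩ := hc
  have hBA' : B ≠ A := fun e => hne (e ▸ inf_le_right)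
  have haB : a ∉ B := fun hh => hBA' (by rw [← he, sup_eq_left.2 (zpowers_le.2 hh)])
  have hcard : p * Nat.card B = Nat.card A := by
    have ha1 : a ≠ 1 := fun h => haB (h ▸ one_mem _)
    have hord : orderOf a = p := orderOf_eq_prime (h.elem.2 a ha) ha1
    have h2 := card_sup_mul_card_inf_of_le h.elem.1 hBA (zpowers_le.2 ha)
    have h3 : B ⊓ zpowers a = ⊥ := by
      haveI : Fact (Nat.card (zpowers a)).Prime := ⟨by rw [Nat.card_zpowers, hord]; exact hp⟩
      rcases Subgroup.eq_bot_or_eq_top_of_prime_card ((B ⊓ zpowers a).subgroupOf (zpowers a)) with e | e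
      · rw [← map_subgroupOf_eq_of_le (inf_le_right : B ⊓ zpowers a ≤ zpowers a), e, Subgroup.map_bot]
      · exact absurd ((subgroupOf_eq_top.1 e) (mem_zpowers a)).1 haB
    rw [he, h3, card_bot, mul_one, Nat.card_zpowers, hord] at h2
    rw [h2, mul_comm]
  refine ⟨hcard, ?_⟩
  set CB := V ⊓ centralizer (B : Set G) with hCB
  set CA := V ⊓ centralizer (A : Set G) with hCA
  have hle : CA ≤ CB := inf_le_inf_left _ (centralizer_le hBA)
  have hlt : CA ≠ CB := by
    intro e
    apply hne
    set K := Q ⊓ centralizer (B : Set G) with hK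
    have hAK : A ≤ normalizer (K : Set G) := by
      refine CfsgLib.Coprime.le_normalizer_inf_inf h.le_normQ ?_
      refine (le_centralizer_self h.elem |>.trans (centralizer_le hBA)).trans le_normalizer
    have hKB : B ≤ centralizer (K : Set G) := le_centralizer_iff.1 inf_le_right
    have hKCB : K ≤ normalizer (CB : Set G) :=
      CfsgLib.Coprime.le_normalizer_inf_inf (inf_le_left.trans d.le_norm)
        (inf_le_right.trans le_normalizer)
    -- `[K,A]` centralises `C_V(B)`
    have h1 : ⁅⁅CB, K⁆, A⁆ = ⊥ := by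
      rw [commutator_eq_bot_iff_le_centralizer]
      refine (commutator_le_of_le_normalizer hKCB).trans ?_
      rw [← e]; exact inf_le_right
    have h2 : ⁅⁅A, CB⁆, K⁆ = ⊥ := by
      have : ⁅A, CB⁆ = ⊥ := by
        rw [← e, commutator_comm, commutator_eq_bot_iff_le_centralizer]; exact inf_le_right
      rw [this, commutator_bot_left]
    have h3 : ⁅⁅K, A⁆, CB⁆ = ⊥ := commutator_commutator_eq_bot_of_rotate h2 h1
    have hKA : ⁅K, A⁆ ≤ K := commutator_le_of_le_normalizer hAK
    have h4 := le_centralizer_PxQ (isPGroup_of_isElementaryAbelian d.elem)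
      (isPGroup_of_isElementaryAbelian (isElementaryAbelian_of_le h.elem hBA))
      (d.coprime.coprime_dvd_left (card_dvd_of_le (hKA.trans inf_le_left)))
      (hBA.trans h.le_normV) (hKA.trans (inf_le_left.trans d.le_norm))
      (hKB.trans (centralizer_le hKA))
      (le_centralizer_iff.1 (commutator_eq_bot_iff_le_centralizer.1 h3))
    rw [← commutator_eq_bot_iff_le_centralizer, eq_bot_iff, ← d.faithful]
    exact le_inf (hKA.trans inf_le_left) h4
  obtain ⟨m, hm⟩ := IsPGroup.iff_card.1
    ((isPGroup_of_isElementaryAbelian d.elem).to_le (inf_le_left : CB ≤ V))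
  have h6 := relIndex_mul_relIndex ⊥ CA CB bot_le hle
  simp only [relIndex_bot_left] at h6
  obtain ⟨j, -, hj⟩ := (Nat.dvd_prime_pow hp).1 (hm ▸ Dvd.intro_left _ h6 : CA.relIndex CB ∣ p ^ m)
  have hj0 : j ≠ 0 := by
    rintro rfl
    rw [pow_zero, relIndex_eq_one] at hj
    exact hlt (le_antisymm hle hj)
  rw [← h6, mul_comm p, hj]
  exact Nat.mul_le_mul_left _ (Nat.le_self_pow hj0 p)

/-- The good hyperplanes. -/
theorem exists_good [Finite G] [Fact p.Prime] {V Q A : Subgroup G} (d : FFData p V Q)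
    (h : FFActs p V Q A) (hA : A ≠ ⊥) :
    ∃ B, B ≤ A ∧ (∃ a ∈ A, B ⊔ zpowers a = A) ∧
      ¬ Q ⊓ centralizer (B : Set G) ≤ centralizer (A : Set G) := by
  by_contra hno
  push Not at hno
  haveI := h.elem.1
  have hcop : (Nat.card A).Coprime (Nat.card Q) := by
    obtain ⟨n, hn⟩ := IsPGroup.iff_card.1 (isPGroup_of_isElementaryAbelian (p := p) h.elem)
    rw [hn]; exact (Nat.Coprime.pow_right n d.coprime).symm
  have h1 := CfsgLib.Coprime.le_of_cyclic_quotient (R := centralizer (A : Set G)) h.le_normQ hcop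
    fun B hB hc => hno B hB hc
  exact hA (eq_bot_iff.2 (h.faithful ▸ le_inf le_rfl (le_centralizer_iff.1 h1)))

theorem card_mul_card_centralizer_le [Finite G] [Fact p.Prime] {V Q : Subgroup G}
    (d : FFData p V Q) {A : Subgroup G} (h : FFActs p V Q A) :
    Nat.card A * Nat.card ↥(V ⊓ centralizer (A : Set G)) ≤ Nat.card V := by
  induction A using WellFoundedLT.induction with
  | _ A ih =>
  by_cases hA : A = ⊥
  · subst hA; exact le_of_eq (isOff_bot V)
  obtain ⟨B, hBA, hc, hne⟩ := exists_good d h hA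
  obtain ⟨h1, h2⟩ := exists_step d h hBA hc hne
  have hlt : B < A := lt_of_le_of_ne hBA fun e => hne (e ▸ inf_le_right)
  calc Nat.card A * Nat.card ↥(V ⊓ centralizer (A : Set G))
      = Nat.card B * (p * Nat.card ↥(V ⊓ centralizer (A : Set G))) := by rw [← h1]; ring
    _ ≤ Nat.card B * Nat.card ↥(V ⊓ centralizer (B : Set G)) := Nat.mul_le_mul_left _ h2
    _ ≤ _ := ih B hlt (h.mono hBA)

theorem isOff_of_step [Finite G] [Fact p.Prime] {V Q A B : Subgroup G} (d : FFData p V Q)
    (h : FFActs p V Q A) (hA : IsOff V A) (hBA : B ≤ A) (hc : ∃ a ∈ A, B ⊔ zpowers a = A)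
    (hne : ¬ Q ⊓ centralizer (B : Set G) ≤ centralizer (A : Set G)) : IsOff V B := by
  obtain ⟨h1, h2⟩ := exists_step d h hBA hc hne
  refine le_antisymm (card_mul_card_centralizer_le d (h.mono hBA)) ?_
  rw [← hA]
  calc Nat.card A * Nat.card ↥(V ⊓ centralizer (A : Set G))
      = Nat.card B * (p * Nat.card ↥(V ⊓ centralizer (A : Set G))) := by rw [← h1]; ring
    _ ≤ _ := Nat.mul_le_mul_left _ h2

/-- `A` is generated by its subgroups of order `p` with equality. -/
theorem exists_minimal_family [Finite G] [Fact p.Prime] {V Q A : Subgroup G}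
    (d : FFData p V Q) (h : FFActs p V Q A) (hA : IsOff V A) :
    ∀ M : Subgroup G, (∀ C, C ≤ A → Nat.card C = p → IsOff V C → C ≤ M) → A ≤ M := by
  intro M hM
  induction A using WellFoundedLT.induction with
  | _ A ih =>
  have hp : p.Prime := Fact.out
  by_cases hA0 : A = ⊥
  · subst hA0; exact bot_le
  obtain ⟨B, hBA, hc, hne⟩ := exists_good d h hA0
  have key : ∀ B', B' ≤ A → (∃ a ∈ A, B' ⊔ zpowers a = A) →
      ¬ Q ⊓ centralizer (B' : Set G) ≤ centralizer (A : Set G) → B' ≤ M := fun B' hB' hc' hne' =>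
    ih B' (lt_of_le_of_ne hB' fun e => hne' (e ▸ inf_le_right)) (h.mono hB')
      (isOff_of_step d h hA hB' hc' hne') (fun C hC => hM C (hC.trans hB'))
  by_contra hAM
  -- then the good hyperplane is unique, hence trivial
  have hB0 : B = ⊥ := by
    haveI := h.elem.1
    have hcop : (Nat.card A).Coprime (Nat.card Q) := by
      obtain ⟨n, hn⟩ := IsPGroup.iff_card.1 (isPGroup_of_isElementaryAbelian (p := p) h.elem)
      rw [hn]; exact (Nat.Coprime.pow_right n d.coprime).symm
    have h1 : Q ≤ centralizer (B : Set G) := by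
      refine CfsgLib.Coprime.le_of_cyclic_quotient h.le_normQ hcop fun B' hB' hc' => ?_
      by_cases hh : Q ⊓ centralizer (B' : Set G) ≤ centralizer (A : Set G)
      · exact hh.trans (centralizer_le hBA)
      refine inf_le_right.trans (centralizer_le ?_)
      show B ≤ B'
      obtain ⟨hcB, -⟩ := exists_step d h hBA hc hne
      obtain ⟨hcB', -⟩ := exists_step d h hB' hc' hh
      by_contra hnle
      apply hAM
      have hlt : B' < B ⊔ B' := lt_of_le_of_ne le_sup_right fun e => hnle (e ▸ le_sup_left)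
      have e : B ⊔ B' = A := by
        refine Subgroup.eq_of_le_of_card_ge (sup_le hBA hB') ?_
        have hd : Nat.card B' ∣ Nat.card ↥(B ⊔ B') := card_dvd_of_le le_sup_right
        have hd' : Nat.card ↥(B ⊔ B') ∣ Nat.card A := card_dvd_of_le (sup_le hBA hB')
        obtain ⟨c, hc2⟩ := hd
        rw [hc2, ← hcB'] at hd'
        rw [mul_comm p] at hd'
        have hc3 := Nat.dvd_of_mul_dvd_mul_left Nat.card_pos hd'
        rcases hp.eq_one_or_self_of_dvd c hc3 with hc4 | hc4
        · rw [hc4, mul_one] at hc2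
          exact absurd (Subgroup.eq_of_le_of_card_ge hlt.le hc2.le) hlt.ne
        · rw [hc2, hc4, ← hcB', mul_comm]
      rw [← e]
      exact sup_le (key B hBA hc hne) (key B' hB' hc' hh)
    exact eq_bot_iff.2 ((h.mono hBA).faithful ▸ le_inf le_rfl (le_centralizer_iff.1 h1))
  obtain ⟨hcB, -⟩ := exists_step d h hBA hc hne
  rw [hB0, card_bot, mul_one] at hcB
  exact hAM (hM A le_rfl hcB.symm hA)

/-- A group generated by members of prime order of a family is their direct product. -/
theorem exists_indep_of_generated [Finite G] [Fact p.Prime] {A : Subgroup G} (S : Set (Subgroup G))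
    (hcard : ∀ C ∈ S, Nat.card C = p) (hle : ∀ C ∈ S, C ≤ A) (hgen : A ≤ sSup S) :
    ∃ (k : ℕ) (B : Fin k → Subgroup G), (∀ i, B i ∈ S) ∧ iSupIndep B ∧ ⨆ i, B i = A := by
  classical
  haveI : Fintype (Subgroup G) := Fintype.ofFinite _
  obtain ⟨T, hT, hmin⟩ : ∃ T : Finset (Subgroup G), (↑T ⊆ S ∧ A ≤ T.sup id) ∧
      ∀ T', (↑T' ⊆ S ∧ A ≤ T'.sup id) → T' ⊆ T → T' = T := by
    obtain ⟨T, hT⟩ := (Set.toFinite {T : Finset (Subgroup G) | ↑T ⊆ S ∧ A ≤ T.sup id}).exists_minimal
      ⟨S.toFinset, by simp, hgen.trans (sSup_le fun C hC => Finset.le_sup (f := id) (by simpa using hC))⟩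
    exact ⟨T, hT.1, fun T' h hle => le_antisymm hle (hT.2 h hle)⟩
  refine ⟨T.card, fun i => (T.equivFin.symm i : Subgroup G), fun i => hT.1 (Subtype.mem _), ?_, ?_⟩
  · rw [iSupIndep_def]
    intro i
    set C : Subgroup G := (T.equivFin.symm i : Subgroup G)
    have hC : C ∈ T := Subtype.mem _
    rw [disjoint_iff]
    have hsub : (⨆ j, ⨆ (_ : j ≠ i), (T.equivFin.symm j : Subgroup G)) ≤ (T.erase C).sup id :=
      iSup₂_le fun j hj => Finset.le_sup (f := id) (Finset.mem_erase.2
        ⟨fun e => hj (T.equivFin.symm.injective (Subtype.ext e)), Subtype.mem _⟩)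
    refine eq_bot_iff.2 ((inf_le_inf_left _ hsub).trans ?_)
    haveI : Fact (Nat.card C).Prime := ⟨(hcard C (hT.1 hC)).symm ▸ Fact.out⟩
    rcases Subgroup.eq_bot_or_eq_top_of_prime_card ((C ⊓ (T.erase C).sup id).subgroupOf C) with e | e
    · rw [← map_subgroupOf_eq_of_le (inf_le_left : C ⊓ (T.erase C).sup id ≤ C), e, Subgroup.map_bot]
    · exfalso
      have h1 : C ≤ (T.erase C).sup id := (subgroupOf_eq_top.1 e).trans inf_le_right
      have h2 : T.erase C = T := hmin _ ⟨(Finset.coe_subset.2 (Finset.erase_subset C T)).trans hT.1,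
        hT.2.trans (Finset.sup_le fun D hD => by
          by_cases hDC : D = C
          · exact hDC ▸ h1
          · exact Finset.le_sup (f := id) (Finset.mem_erase.2 ⟨hDC, hD⟩))⟩ (Finset.erase_subset C T)
      exact Finset.notMem_erase C T (h2.symm ▸ hC)
  · refine le_antisymm (iSup_le fun i => hle _ (hT.1 (Subtype.mem _))) (hT.2.trans ?_)
    refine Finset.sup_le fun C hC => le_iSup_of_le (T.equivFin ⟨C, hC⟩) ?_
    simp

/-! ### The standard hypotheses -/

/-- The hypotheses of the theorem on failure of factorisation. -/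
structure FFGroup (p : ℕ) (V H : Subgroup G) : Prop where
  elem : IsElementaryAbelian p V
  le_norm : H ≤ normalizer (V : Set G)
  faithful : H ⊓ centralizer (V : Set G) = ⊥
  selfCent : centralizer (pPrimeCore p H : Set H) ≤ pPrimeCore p H

variable {V H : Subgroup G}

theorem FFGroup.core_le (_ : FFGroup p V H) : (pPrimeCore p H).map H.subtype ≤ H :=
  map_subtype_le _

theorem FFGroup.le_normalizer_core (_ : FFGroup p V H) :
    H ≤ normalizer (((pPrimeCore p H).map H.subtype : Subgroup G) : Set G) := by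
  rw [← normal_subgroupOf_iff_le_normalizer (map_subtype_le _), subgroupOf,
    comap_map_eq_self_of_injective H.subtype_injective]
  infer_instance

theorem FFGroup.data [Finite G] (hh : FFGroup p V H) :
    FFData p V ((pPrimeCore p H).map H.subtype) where
  elem := hh.elem
  le_norm := (map_subtype_le _).trans hh.le_norm
  faithful := eq_bot_iff.2 ((inf_le_inf_right _ (map_subtype_le _)).trans hh.faithful.le)
  coprime := by
    rw [card_map_of_injective H.subtype_injective]
    exact CfsgLib.Base.pPrimeCore_coprime p H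

theorem FFGroup.elem_of_offender (hh : FFGroup p V H) {A : Subgroup G} (hAH : A ≤ H)
    (hA : IsBestOffenderOn p V A) : IsElementaryAbelian p A := by
  refine ⟨commutator_self_eq_bot_iff.1 (eq_bot_iff.2 (hh.faithful ▸
    le_inf ((commutator_mono hAH hAH).trans (commutator_le.2 fun x hx y hy => ?_)) hA.2.1)),
    fun a ha => mem_bot.1 (hh.faithful ▸ mem_inf.2 ⟨pow_mem (hAH ha) p, hA.2.2 a ha⟩)⟩
  show x * y * x⁻¹ * y⁻¹ ∈ H
  exact mul_mem (mul_mem (mul_mem hx hy) (inv_mem hx)) (inv_mem hy)

theorem FFGroup.acts [Finite G] [Fact p.Prime] (hh : FFGroup p V H) {A : Subgroup G} (hAH : A ≤ H)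
    (hA : IsElementaryAbelian p A) : FFActs p V ((pPrimeCore p H).map H.subtype) A where
  elem := hA
  le_normV := hAH.trans hh.le_norm
  le_normQ := hAH.trans hh.le_normalizer_core
  faithful := by
    rw [eq_bot_iff, ← hh.data.pow_eq_one_of_pgroup (isPGroup_of_isElementaryAbelian hA)]
    refine le_inf inf_le_left fun x hx => ?_
    refine ⟨⟨x, hAH hx.1⟩, hh.selfCent (mem_centralizer_iff.2 fun y hy => Subtype.ext ?_), rfl⟩
    exact mem_centralizer_iff.1 hx.2 y ⟨y, hy, rfl⟩

theorem FFGroup.isOff [Finite G] [Fact p.Prime] (hh : FFGroup p V H) {A : Subgroup G} (hAH : A ≤ H)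
    (hA : IsBestOffenderOn p V A) : IsOff V A := by
  refine le_antisymm (card_mul_card_centralizer_le hh.data (hh.acts hAH (hh.elem_of_offender hAH hA))) ?_
  exact (isOff_bot V).symm.le.trans (hA.1 ⊥ bot_le)

theorem FFGroup.isBestOffenderOn [Finite G] [Fact p.Prime] (hh : FFGroup p V H) {A : Subgroup G}
    (hAH : A ≤ H) (hA : IsElementaryAbelian p A) (ho : IsOff V A) : IsBestOffenderOn p V A := by
  refine ⟨fun B hB => ?_, ?_, fun a ha => by rw [hA.2 a ha]; exact one_mem _⟩
  · exact (card_mul_card_centralizer_le hh.data ((hh.acts hAH hA).mono hB)).trans ho.symm.le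
  · rw [commutator_self_eq_bot_iff.2 hA.1]; exact bot_le

theorem FFGroup.commutator_ne_bot (hh : FFGroup p V H) {A : Subgroup G} (hAH : A ≤ H)
    (hA : A ≠ ⊥) : ⁅V, A⁆ ≠ ⊥ := fun h => hA (eq_bot_iff.2 (hh.faithful ▸
  le_inf hAH (le_centralizer_iff.1 (commutator_eq_bot_iff_le_centralizer.1 h))))

theorem FFGroup.isMinimal_iff [Finite G] [Fact p.Prime] (hh : FFGroup p V H) {A : Subgroup G}
    (hAH : A ≤ H) (hA : IsBestOffenderOn p V A) :
    (⁅V, A⁆ ≠ ⊥ ∧ ∀ B : Subgroup G, B ≤ A → IsBestOffenderOn p V B → ⁅V, B⁆ ≠ ⊥ → B = A) ↔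
      Nat.card A = p := by
  have hp : p.Prime := Fact.out
  constructor
  · rintro ⟨hAV, hmin⟩
    have he := hh.elem_of_offender hAH hA
    by_contra hne
    have hbot : A ≤ ⊥ := exists_minimal_family hh.data (hh.acts hAH he) (hh.isOff hAH hA) ⊥
      fun C hC hCp hCo => (hne ((hmin C hC (hh.isBestOffenderOn (hC.trans hAH)
        (isElementaryAbelian_of_le he hC) hCo) (hh.commutator_ne_bot (hC.trans hAH) (fun e => by
          rw [e, card_bot] at hCp; exact hp.one_lt.ne hCp))) ▸ hCp)).elim
    rw [le_bot_iff.1 hbot, commutator_bot_right] at hAV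
    exact hAV rfl
  · intro hcard
    refine ⟨hh.commutator_ne_bot hAH fun e => ?_, fun B hB _ hBV => ?_⟩
    · rw [e, card_bot] at hcard; exact hp.one_lt.ne hcard
    haveI : Fact (Nat.card A).Prime := ⟨hcard.symm ▸ hp⟩
    rcases Subgroup.eq_bot_or_eq_top_of_prime_card (B.subgroupOf A) with e | e
    · exfalso
      rw [← map_subgroupOf_eq_of_le hB, e, Subgroup.map_bot, commutator_bot_right] at hBV
      exact hBV rfl
    · exact le_antisymm hB (subgroupOf_eq_top.1 e)

theorem FFGroup.decomposition [Finite G] [Fact p.Prime] (hh : FFGroup p V H) {A : Subgroup G}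
    (hAH : A ≤ H) (hA : IsBestOffenderOn p V A) :
    ∃ (k : ℕ) (B : Fin k → Subgroup G), (∀ i, Nat.card (B i) = p ∧ B i ≤ A ∧ IsOff V (B i)) ∧
      iSupIndep B ∧ ⨆ i, B i = A :=
  exists_indep_of_generated {C | Nat.card C = p ∧ C ≤ A ∧ IsOff V C} (fun _ h => h.1)
    (fun _ h => h.2.1) (exists_minimal_family hh.data (hh.acts hAH (hh.elem_of_offender hAH hA))
      (hh.isOff hAH hA) _ fun C h1 h2 h3 => le_sSup ⟨h2, h1, h3⟩)

end CfsgLib.PLocal
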