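import Cfsg.Agent.Lib.PLocal.TransvectionPlane
import Cfsg.Agent.Lib.Coprime.Action
import Cfsg.Agent.Lib.Base.Nilpotent

/-!
The direct factor `[Q,A] A ≅ SL₂(p)` belonging to a minimal best offender `A`.
-/

set_option autoImplicit false
set_option linter.style.haveILetI false
set_option linter.unusedSectionVars false

namespace CfsgLib.PLocal

open Subgroup Cfsg
open scoped commutatorElement

variable {G : Type*} [Group G] [Finite G] {p : ℕ} [Fact p.Prime]

/-- The prime of `O_{p'}(SL₂(p))`. -/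
def companion (p : ℕ) : ℕ := if p = 2 then 3 else 2

theorem prime_companion : (companion p).Prime := by
  unfold companion; split <;> norm_num

/-- A finite group inside a larger one, with index at most two, contains all `p`-th roots of one. -/
theorem mem_of_index_le_two {X : Type*} [Group X] [Finite X] {D : Subgroup X}
    (h : Nat.card X ≤ 2 * Nat.card D) {n : ℕ} (hn : D.index = 1 ∨ Odd n) {x : X}
    (hx : x ^ n = 1) : x ∈ D := by
  have h1 := D.card_mul_index
  have hle : D.index ≤ 2 := by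
    refine Nat.le_of_mul_le_mul_left ?_ (Nat.card_pos (α := D))
    rw [h1, mul_comm]; exact h
  have hne : D.index ≠ 0 := D.index_ne_zero_of_finite
  rcases (show D.index = 1 ∨ D.index = 2 by omega) with h2 | h2
  · rw [Subgroup.index_eq_one.1 h2]; exact mem_top x
  · rcases hn with hn | ⟨m, hm⟩
    · omega
    · have hsq : x ^ 2 ∈ D := Subgroup.sq_mem_of_index_two h2 x
      have : x ^ (2 * m + 1) ∈ D := by rw [← hm, hx]; exact one_mem _
      rw [pow_succ, pow_mul] at this
      exact (D.mul_mem_cancel_left (pow_mem hsq m)).1 this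

theorem card_mulAut_le {P : Subgroup G} (hP : Nat.card P = p ^ 2) (hexp : ∀ z ∈ P, z ^ p = 1) :
    Nat.card (MulAut P) ≤ (p ^ 2 - 1) * (p ^ 2 - p) := by
  classical
  have hp : p.Prime := Fact.out
  haveI : Fintype P := Fintype.ofFinite _
  have hord : ∀ z : P, z ≠ 1 → Nat.card (zpowers z) = p := fun z hz => by
    rw [Nat.card_zpowers]
    exact orderOf_eq_prime (Subtype.ext (by simpa using hexp z z.2)) hz
  haveI : Nontrivial P := by
    rw [← Finite.one_lt_card_iff_nontrivial, hP]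
    exact Nat.one_lt_pow (by norm_num) hp.one_lt
  obtain ⟨s, hs⟩ := exists_ne (1 : P)
  obtain ⟨t, ht⟩ : ∃ t : P, t ∉ zpowers s := by
    by_contra h; push Not at h
    have h1 : Nat.card (zpowers s) = Nat.card P := by
      rw [(eq_top_iff' _).2 h, card_top]
    rw [hord s hs, hP] at h1
    have : p ^ 1 = p ^ 2 := by rw [pow_one]; exact h1
    exact absurd (Nat.pow_right_injective hp.two_le this) (by norm_num)
  have hgen : zpowers s ⊔ zpowers t = ⊤ := by
    have hlt : zpowers s < zpowers s ⊔ zpowers t := lt_of_le_of_ne le_sup_left fun e =>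
      ht (e ▸ mem_sup_right (mem_zpowers t))
    refine Subgroup.eq_of_le_of_card_ge le_top ?_
    rw [card_top, hP]
    have hd : Nat.card ↥(zpowers s ⊔ zpowers t) ∣ p ^ 2 := hP ▸ Subgroup.card_subgroup_dvd_card _
    obtain ⟨k, hk, hk'⟩ := (Nat.dvd_prime_pow hp).1 hd
    have hcl : Nat.card (zpowers s) < Nat.card ↥(zpowers s ⊔ zpowers t) :=
      lt_of_not_ge fun hge => hlt.ne (Subgroup.eq_of_le_of_card_ge hlt.le hge)
    rw [hord s hs, hk'] at hcl
    rw [hk']
    refine Nat.pow_le_pow_right hp.pos ?_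
    by_contra hk2
    have : p ^ k ≤ p ^ 1 := Nat.pow_le_pow_right hp.pos (by omega)
    rw [pow_one] at this
    omega
  let f : MulAut P → Σ x : {x : P // x ≠ 1}, {y : P // y ∉ zpowers (x : P)} := fun φ =>
    ⟨⟨φ s, fun e => hs (φ.injective (by rw [e, map_one]))⟩, ⟨φ t, fun ⟨n, hn⟩ => ht ⟨n, φ.injective (by
      simpa using hn)⟩⟩⟩
  have hf : Function.Injective f := by
    intro φ ψ h
    have h1 : φ s = ψ s := congrArg (fun z => (z.1 : P)) h
    have h2 : φ t = ψ t := congrArg (fun z => (z.2 : P)) h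
    have hle : zpowers s ⊔ zpowers t ≤ MonoidHom.eqLocus φ.toMonoidHom ψ.toMonoidHom :=
      sup_le (zpowers_le.2 h1) (zpowers_le.2 h2)
    rw [hgen] at hle
    exact MulEquiv.ext fun z => hle (mem_top z)
  refine (Nat.card_le_card_of_injective f hf).trans (le_of_eq ?_)
  rw [Nat.card_eq_fintype_card, Fintype.card_sigma]
  have hcP : Fintype.card P = p ^ 2 := by rw [← Nat.card_eq_fintype_card]; exact hP
  have hy : ∀ x : {x : P // x ≠ 1}, Fintype.card {y : P // y ∉ zpowers (x : P)} = p ^ 2 - p := fun x => by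
    rw [Fintype.card_subtype_compl, hcP]
    congr 1
    rw [← Nat.card_eq_fintype_card]
    exact hord _ x.2
  simp only [hy, Finset.sum_const, Finset.card_univ, smul_eq_mul]
  rw [Fintype.card_subtype_compl, hcP, Fintype.card_subtype_eq]

theorem IsPlane.card_eq_or {V D : Subgroup G} (h : IsPlane p V D) :
    (p = 2 ∧ Nat.card D = 6) ∨ (p = 3 ∧ Nat.card D = 24) := by
  obtain ⟨e⟩ := h.equiv
  rcases h.small with rfl | rfl
  · exact Or.inl ⟨rfl, (Nat.card_congr e.toEquiv).trans (by rw [Nat.card_eq_fintype_card]; decide)⟩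
  · exact Or.inr ⟨rfl, (Nat.card_congr e.toEquiv).trans (by rw [Nat.card_eq_fintype_card]; decide)⟩

theorem IsPlane.isPGroup_of_coprime {V D K : Subgroup G} (h : IsPlane p V D) (hKD : K ≤ D)
    (hK : (Nat.card K).Coprime p) : IsPGroup (companion p) K := by
  haveI : Fact (companion p).Prime := ⟨prime_companion⟩
  have hd := card_dvd_of_le hKD
  rcases h.card_eq_or with ⟨rfl, hc⟩ | ⟨rfl, hc⟩
  · rw [hc, show (6 : ℕ) = 2 * 3 by norm_num] at hd
    obtain ⟨k, -, hk⟩ := (Nat.dvd_prime_pow Nat.prime_three (m := 1)).1 (by simpa using hK.dvd_of_dvd_mul_left hd)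
    exact IsPGroup.of_card (n := k) (by simpa [companion] using hk)
  · rw [hc, show (24 : ℕ) = 3 * 2 ^ 3 by norm_num] at hd
    obtain ⟨k, -, hk⟩ := (Nat.dvd_prime_pow Nat.prime_two).1 (hK.dvd_of_dvd_mul_left hd)
    exact IsPGroup.of_card (n := k) (by simpa [companion] using hk)

/-- `SL₂(3)` has non-abelian derived group. -/
theorem IsPlane.derived_not_comm {V D : Subgroup G} (h : IsPlane 3 V D) :
    ¬ IsMulCommutative ↥(⁅D, D⁆) := by
  intro hc
  obtain ⟨e⟩ := h.equiv
  obtain ⟨w, x, y, z, hne⟩ : ∃ w x y z : Matrix.SpecialLinearGroup (Fin 2) (ZMod 3),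
      ⁅⁅w, x⁆, ⁅y, z⁆⁆ ≠ 1 := by
    refine ⟨⟨!![1, 1; 0, 1], by decide⟩, ⟨!![1, 0; 1, 1], by decide⟩,
      ⟨!![1, 1; 0, 1], by decide⟩, ⟨!![0, -1; 1, 0], by decide⟩, ?_⟩
    decide
  apply hne
  have hmem : ∀ a b : Matrix.SpecialLinearGroup (Fin 2) (ZMod 3),
      ((e.symm ⁅a, b⁆ : D) : G) ∈ ⁅D, D⁆ := fun a b => by
    rw [map_commutatorElement]
    exact commutator_mem_commutator (e.symm a).2 (e.symm b).2
  apply e.symm.injective
  rw [map_one, map_commutatorElement, commutatorElement_eq_one_iff_mul_comm]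
  exact Subtype.ext (comm_of_mem hc (hmem w x) (hmem y z))

theorem commutator_le_centralizer_of_prime_card {U R : Subgroup G} (hU : Nat.card U = p)
    (hR : R ≤ normalizer (U : Set G)) : ⁅R, R⁆ ≤ centralizer (U : Set G) := by
  haveI : Fact (Nat.card U).Prime := ⟨hU.symm ▸ Fact.out⟩
  haveI : IsCyclic U := isCyclic_of_prime_card hU
  refine commutator_le.2 fun x hx y hy => mem_centralizer_iff.2 fun u hu => ?_
  obtain ⟨i, hi⟩ := MonoidHom.map_cyclic (MulAut.conjNormal (H := U.subgroupOf (normalizer (U : Set G)))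
    ⟨x, hR hx⟩ |>.toMonoidHom.comp (subgroupOfEquivOfLe le_normalizer).symm.toMonoidHom |>
      (subgroupOfEquivOfLe le_normalizer).toMonoidHom.comp)
  obtain ⟨j, hj⟩ := MonoidHom.map_cyclic (MulAut.conjNormal (H := U.subgroupOf (normalizer (U : Set G)))
    ⟨y, hR hy⟩ |>.toMonoidHom.comp (subgroupOfEquivOfLe le_normalizer).symm.toMonoidHom |>
      (subgroupOfEquivOfLe le_normalizer).toMonoidHom.comp)
  have hx' : ∀ v ∈ U, x * v * x⁻¹ = v ^ i := fun v hv => congrArg Subtype.val (hi ⟨v, hv⟩)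
  have hy' : ∀ v ∈ U, y * v * y⁻¹ = v ^ j := fun v hv => congrArg Subtype.val (hj ⟨v, hv⟩)
  have hc : x * (y * u * y⁻¹) * x⁻¹ = y * (x * u * x⁻¹) * y⁻¹ := by
    rw [hx' _ (conj_mem_of_mem_normalizer (hR hy) hu), hy' _ (conj_mem_of_mem_normalizer (hR hx) hu),
      hy' u hu, hx' u hu, ← zpow_mul, ← zpow_mul, mul_comm]
  have hw : ∀ v ∈ U, x * (y * v * y⁻¹) * x⁻¹ = y * (x * v * x⁻¹) * y⁻¹ := fun v hv => by
    rw [hx' _ (conj_mem_of_mem_normalizer (hR hy) hv), hy' _ (conj_mem_of_mem_normalizer (hR hx) hv),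
      hy' v hv, hx' v hv, ← zpow_mul, ← zpow_mul, mul_comm]
  have h2 := hw (x⁻¹ * (y⁻¹ * u * y) * x)
    (conj_mem_of_mem_normalizer' (hR hx) (conj_mem_of_mem_normalizer' (hR hy) hu))
  have e : ⁅x, y⁆ * u * ⁅x, y⁆⁻¹ = u := by
    calc ⁅x, y⁆ * u * ⁅x, y⁆⁻¹ = x * (y * (x⁻¹ * (y⁻¹ * u * y) * x) * y⁻¹) * x⁻¹ := by group
      _ = _ := h2
      _ = u := by group
  calc u * ⁅x, y⁆ = ⁅x, y⁆ * u * ⁅x, y⁆⁻¹ * ⁅x, y⁆ := by rw [e]
    _ = _ := by group

/-- The kernel on a plane invariant under `O_{p'}(H)` is trivial. -/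
theorem FFGroup.kernel_eq_bot {V H P : Subgroup G} (hh : FFGroup p V H) (hPV : P ≤ V)
    (hQP : coreIn p H ≤ normalizer (P : Set G)) :
    H ⊓ trivQuot V P ⊓ centralizer (P : Set G) = ⊥ := by
  set N := H ⊓ trivQuot V P ⊓ centralizer (P : Set G) with hN
  set Q := coreIn p H with hQ
  have hQn : Q ≤ normalizer (N : Set G) := by
    intro x hx
    refine mem_of_map_conj_eq (Subgroup.eq_of_le_of_card_ge ?_ (CfsgLib.Base.card_map_conj x N).ge)
    rintro _ ⟨n, ⟨⟨hnH, hn1, hn2⟩, hnC⟩, rfl⟩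
    have hxH : x ∈ H := map_subtype_le _ hx
    refine ⟨⟨H.mul_mem (H.mul_mem hxH hnH) (H.inv_mem hxH),
      (normalizer (P : Set G)).mul_mem ((normalizer (P : Set G)).mul_mem (hQP hx) hn1)
        ((normalizer (P : Set G)).inv_mem (hQP hx)), fun v hv => ?_⟩, mem_centralizer_iff.2 fun w hw => ?_⟩
    · show ⁅v, x * n * x⁻¹⁆ ∈ P
      rw [show ⁅v, x * n * x⁻¹⁆ = x * ⁅x⁻¹ * v * x, n⁆ * x⁻¹ by group]
      exact conj_mem_of_mem_normalizer (hQP hx)
        (hn2 _ (conj_mem_of_mem_normalizer' (hh.le_norm hxH) hv))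
    · show w * (x * n * x⁻¹) = x * n * x⁻¹ * w
      calc w * (x * n * x⁻¹) = x * ((x⁻¹ * w * x) * n) * x⁻¹ := by group
        _ = x * (n * (x⁻¹ * w * x)) * x⁻¹ := by
          rw [mem_centralizer_iff.1 hnC _ (conj_mem_of_mem_normalizer' (hQP hx) hw)]
        _ = _ := by group
  have hNp : IsPGroup p N := by
    intro n
    refine ⟨1, Subtype.ext ?_⟩
    obtain ⟨⟨hnH, -, hn2⟩, hnC⟩ := n.2
    have h1 : (n : G) ^ p ∈ centralizer (V : Set G) := mem_centralizer_iff.2 fun v hv => by
      rw [← commutatorElement_eq_one_iff_mul_comm,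
        comm_pow_of_commute (mem_centralizer_iff.1 hnC _ (hn2 v hv)).symm]
      exact hh.elem.2 _ (hPV (hn2 v hv))
    simpa using mem_bot.1 (hh.faithful ▸ mem_inf.2 ⟨pow_mem hnH p, h1⟩)
  have hNH : N ≤ H := inf_le_left.trans inf_le_left
  have hNQ : N ≤ centralizer (Q : Set G) := by
    refine commutator_eq_bot_iff_le_centralizer.1 (eq_bot_iff.2 ?_)
    rw [← hh.data.pow_eq_one_of_pgroup hNp]
    refine le_inf ?_ ?_
    · rw [commutator_comm]
      exact commutator_le.2 fun x hx n hn => by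
        rw [show ⁅x, n⁆ = (x * n * x⁻¹) * n⁻¹ by group]
        exact mul_mem (conj_mem_of_mem_normalizer (hQn hx) hn) (inv_mem hn)
    · exact commutator_le.2 fun n hn x hx => by
        rw [show ⁅n, x⁆ = (n * x * n⁻¹) * x⁻¹ by group]
        exact mul_mem (conj_mem_of_mem_normalizer (hh.le_normalizer_core (hNH hn)) hx) (inv_mem hx)
  rw [eq_bot_iff, ← hh.data.pow_eq_one_of_pgroup hNp]
  refine le_inf le_rfl fun n hn => ⟨⟨n, hNH hn⟩, hh.selfCent (mem_centralizer_iff.2 fun y hy => Subtype.ext ?_), rfl⟩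
  exact mem_centralizer_iff.1 (hNQ hn) y ⟨y, hy, rfl⟩

/-! ### The factor -/

/-- `[O_{p'}(H), A]`. -/
abbrev factorCore (p : ℕ) (H A : Subgroup G) : Subgroup G := ⁅coreIn p H, A⁆

/-- `[O_{p'}(H), A] A`. -/
abbrev factor (p : ℕ) (H A : Subgroup G) : Subgroup G := factorCore p H A ⊔ A

variable {V H A : Subgroup G}

theorem FFMin.le_normalizer_core (h : FFMin p V H A) : A ≤ normalizer (coreIn p H : Set G) :=
  h.le.trans h.grp.le_normalizer_core

theorem FFMin.factorCore_le (h : FFMin p V H A) : factorCore p H A ≤ coreIn p H :=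
  CfsgLib.Coprime.commutator_le_of_le_normalizer h.le_normalizer_core

theorem FFMin.isMulCommutative (h : FFMin p V H A) : IsMulCommutative A := by
  haveI : Fact (Nat.card A).Prime := ⟨h.trans.card_eq.symm ▸ Fact.out⟩
  haveI : IsCyclic A := isCyclic_of_prime_card h.trans.card_eq
  exact IsCyclic.isMulCommutative

theorem FFMin.ne_bot (h : FFMin p V H A) : A ≠ ⊥ := fun e => by
  have := h.trans.card_eq
  rw [e, card_bot] at this
  exact (Fact.out : p.Prime).one_lt.ne this

theorem FFMin.isPGroup (h : FFMin p V H A) : IsPGroup p A :=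
  IsPGroup.of_card (n := 1) (by rw [h.trans.card_eq, pow_one])

theorem FFMin.elem (h : FFMin p V H A) : IsElementaryAbelian p A := ⟨h.isMulCommutative, fun a ha => by
  have e : (⟨a, ha⟩ : A) ^ p = 1 := by rw [← h.trans.card_eq]; exact pow_card_eq_one'
  exact congrArg Subtype.val e⟩

theorem FFMin.exists_moved (h : FFMin p V H A) : ∃ x ∈ coreIn p H, x ∉ centralizer (A : Set G) := by
  by_contra hno; push Not at hno
  exact h.ne_bot (eq_bot_iff.2 ((h.grp.acts h.le h.elem).faithful ▸ le_inf le_rfl (le_centralizer_iff.1 hno)))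

theorem FFMin.coprime (h : FFMin p V H A) : (Nat.card A).Coprime (Nat.card (coreIn p H)) := by
  rw [h.trans.card_eq]; exact h.grp.data.coprime.symm

theorem FFMin.isPGroup_factorCore (h : FFMin p V H A) : IsPGroup (companion p) (factorCore p H A) := by
  set r := companion p
  haveI hr : Fact r.Prime := ⟨prime_companion⟩
  set Q := coreIn p H with hQ
  set C := Q ⊓ centralizer (A : Set G) with hC
  have hAQ := h.le_normalizer_core
  have hsolv : Group.IsSolvable A ∨ Group.IsSolvable Q := Or.inl (by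
    haveI := h.isMulCommutative
    exact Group.isSolvable_of_comm fun a b => mul_comm' a b)
  -- elements `[x,a]` are `r`-elements
  have hgen : ∀ x ∈ Q, ∀ a ∈ A, ∃ k : ℕ, ⁅x, a⁆ ^ r ^ k = 1 := by
    intro x hx a ha
    by_cases hxA : x ∈ centralizer (A : Set G)
    · exact ⟨0, by rw [(commutatorElement_eq_one_iff_mul_comm).2 (mem_centralizer_iff.1 hxA a ha).symm,
        one_pow]⟩
    set D := A ⊔ A.map (MulAut.conj x).toMonoidHom
    have hD := (h.isPlane hx hxA).isPGroup_of_coprime (K := D ⊓ Q) inf_le_left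
      (h.grp.data.coprime.coprime_dvd_left (card_dvd_of_le inf_le_right))
    have hm : ⁅x, a⁆ ∈ D ⊓ Q := by
      refine ⟨?_, ?_⟩
      · rw [show ⁅x, a⁆ = (x * a * x⁻¹) * a⁻¹ by group]
        exact D.mul_mem (mem_sup_right (mem_map_of_mem _ ha)) (D.inv_mem (mem_sup_left ha))
      · exact CfsgLib.Coprime.commutator_le_of_le_normalizer hAQ (commutator_mem_commutator hx ha)
    obtain ⟨k, hk⟩ := hD ⟨_, hm⟩
    exact ⟨k, congrArg Subtype.val hk⟩
  -- Sylow subgroups for other primes are centralised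
  have hother : ∀ s : ℕ, s.Prime → s ≠ r → s ^ (Nat.card Q).factorization s ∣ Nat.card C := by
    intro s hs hsr
    haveI : Fact s.Prime := ⟨hs⟩
    obtain ⟨S, hS⟩ := CfsgLib.Coprime.exists_invariant_sylow (p := s) hAQ h.coprime hsolv
    set R := (S : Subgroup Q).map Q.subtype with hR
    have hRA : R ≤ centralizer (A : Set G) := by
      refine commutator_eq_bot_iff_le_centralizer.1 (eq_bot_iff.2 (commutator_le.2 fun x hx a ha => ?_))
      rw [mem_bot]
      obtain ⟨k, hk⟩ := hgen x (map_subtype_le _ hx) a ha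
      have hmR : ⁅x, a⁆ ∈ R := CfsgLib.Coprime.commutator_le_of_le_normalizer hS (commutator_mem_commutator hx ha)
      obtain ⟨j, hj⟩ := (S.2.map Q.subtype) ⟨_, hmR⟩
      have hj' : ⁅x, a⁆ ^ s ^ j = 1 := congrArg Subtype.val hj
      rw [← orderOf_eq_one_iff]
      exact Nat.eq_one_of_dvd_coprimes (((Nat.coprime_primes hs hr.out).2 hsr).pow j k)
        (orderOf_dvd_of_pow_eq_one hj') (orderOf_dvd_of_pow_eq_one hk)
    have h1 : Nat.card R ∣ Nat.card C := card_dvd_of_le (le_inf (map_subtype_le _) hRA)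
    rwa [hR, card_map_of_injective Q.subtype_injective, S.card_eq_multiplicity] at h1
  -- an invariant Sylow `r`-subgroup containing one of `C`
  obtain ⟨U⟩ : Nonempty (Sylow r C) := inferInstance
  set U' := (U : Subgroup C).map C.subtype with hU'
  have hU'C : U' ≤ C := map_subtype_le _
  obtain ⟨S, hUS, hS⟩ := CfsgLib.Coprime.exists_invariant_sylow_ge (p := r) hAQ h.coprime hsolv
    (hU'C.trans inf_le_left) (U.2.map C.subtype)
    ((le_centralizer_iff.1 (hU'C.trans inf_le_right)).trans (centralizer_le_normalizer _))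
  set R := (S : Subgroup Q).map Q.subtype with hR
  have hRQ : R ≤ Q := map_subtype_le _
  have hdvd : Nat.card Q * Nat.card ↥(R ⊓ C) ∣ Nat.card R * Nat.card C := by
    rw [← Nat.factorization_le_iff_dvd (Nat.mul_ne_zero Nat.card_pos.ne' Nat.card_pos.ne')
      (Nat.mul_ne_zero Nat.card_pos.ne' Nat.card_pos.ne'),
      Nat.factorization_mul Nat.card_pos.ne' Nat.card_pos.ne',
      Nat.factorization_mul Nat.card_pos.ne' Nat.card_pos.ne']
    intro s
    simp only [Finsupp.add_apply]
    by_cases hs : s.Prime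
    swap
    · simp [Nat.factorization_eq_zero_of_not_prime _ hs]
    by_cases hsr : s = r
    · subst hsr
      have hRc : (Nat.card R).factorization r = (Nat.card Q).factorization r := by
        rw [hR, card_map_of_injective Q.subtype_injective, S.card_eq_multiplicity,
          Nat.factorization_pow, Finsupp.smul_apply, hr.out.factorization_self, smul_eq_mul, mul_one]
      rw [hRc]
      exact Nat.add_le_add_left ((Nat.factorization_le_iff_dvd Nat.card_pos.ne' Nat.card_pos.ne').2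
        (card_dvd_of_le inf_le_right) r) _
    · have h1 : (Nat.card ↥(R ⊓ C)).factorization s = 0 := by
        obtain ⟨n, hn⟩ := IsPGroup.iff_card.1 ((S.2.map Q.subtype).to_le (inf_le_left : R ⊓ C ≤ R))
        rw [hn, Nat.factorization_pow, Finsupp.smul_apply,
          Nat.factorization_eq_zero_of_not_dvd (fun hd => hsr ((Nat.prime_dvd_prime_iff_eq hs hr.out).1 hd)),
          smul_zero]
      rw [h1, add_zero]
      refine le_add_of_nonneg_of_le (Nat.zero_le _) ?_
      exact (hs.pow_dvd_iff_le_factorization Nat.card_pos.ne').1 (hother s hs hsr)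
  have hprod : ∀ x ∈ Q, ∃ y ∈ R, ∃ c ∈ C, x = y * c := by
    have hb : Function.Bijective (Subgroup.quotientSubgroupOfEmbeddingOfLE C hRQ) := by
      refine (Subgroup.quotientSubgroupOfEmbeddingOfLE C hRQ).injective.bijective_of_nat_card_le ?_
      show C.relIndex Q ≤ C.relIndex R
      have h1 := relIndex_mul_relIndex ⊥ (R ⊓ C) R bot_le inf_le_left
      have h2 := relIndex_mul_relIndex ⊥ C Q bot_le inf_le_left
      simp only [relIndex_bot_left, inf_relIndex_left] at h1 h2
      have h3 := Nat.le_of_dvd (Nat.mul_pos Nat.card_pos Nat.card_pos) hdvd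
      rw [← h1, ← h2] at h3
      refine Nat.le_of_mul_le_mul_left ?_
        (Nat.mul_pos (Nat.card_pos (α := C)) (Nat.card_pos (α := ↥(R ⊓ C))))
      calc Nat.card C * Nat.card ↥(R ⊓ C) * C.relIndex Q
          = Nat.card C * C.relIndex Q * Nat.card ↥(R ⊓ C) := by ring
        _ ≤ _ := h3
        _ = _ := by ring
    intro x hx
    obtain ⟨q, hq⟩ := hb.2 (QuotientGroup.mk ⟨x, hx⟩)
    obtain ⟨y, rfl⟩ := QuotientGroup.mk_surjective q
    rw [Subgroup.quotientSubgroupOfEmbeddingOfLE_apply_mk, QuotientGroup.eq, mem_subgroupOf] at hq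
    exact ⟨y, y.2, (y : G)⁻¹ * x, hq, by group⟩
  refine (S.2.map Q.subtype).to_le (commutator_le.2 fun x hx a ha => ?_)
  obtain ⟨y, hy, c, hc, rfl⟩ := hprod x hx
  have hca : c * a = a * c := (mem_centralizer_iff.1 hc.2 a ha).symm
  rw [show ⁅y * c, a⁆ = y * (c * a * c⁻¹) * y⁻¹ * a⁻¹ by group, hca, mul_inv_cancel_right,
    ← commutatorElement_def]
  exact CfsgLib.Coprime.commutator_le_of_le_normalizer hS (commutator_mem_commutator hy ha)

theorem FFMin.le_normalizer_factorCore (_ : FFMin p V H A) :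
    A ≤ normalizer (factorCore p H A : Set G) ∧ coreIn p H ≤ normalizer (factorCore p H A : Set G) :=
  ⟨normalizer_commutator_ge_right _ _, normalizer_commutator_ge_left _ _⟩

theorem FFMin.map_conj_le_factor (h : FFMin p V H A) {x : G} (hx : x ∈ coreIn p H) :
    A.map (MulAut.conj x).toMonoidHom ≤ factor p H A := by
  rintro _ ⟨a, ha, rfl⟩
  show x * a * x⁻¹ ∈ _
  rw [show x * a * x⁻¹ = ⁅x, a⁆ * a by group]
  exact mul_mem (mem_sup_left (commutator_mem_commutator hx ha)) (mem_sup_right ha)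

theorem FFMin.le_normalizer_factor (h : FFMin p V H A) :
    coreIn p H ≤ normalizer (factor p H A : Set G) := by
  intro x hx
  refine mem_of_map_conj_eq (Subgroup.eq_of_le_of_card_ge ?_ (CfsgLib.Base.card_map_conj x _).ge)
  rw [Subgroup.map_sup, sup_le_iff]
  exact ⟨(map_conj_eq_of_mem (h.le_normalizer_factorCore.2 hx)).le.trans le_sup_left,
    h.map_conj_le_factor hx⟩

theorem FFMin.factor_le (h : FFMin p V H A) : factor p H A ≤ H :=
  sup_le (h.factorCore_le.trans (map_subtype_le _)) h.le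

/-- The intersection of `[Q,A]` with the plane group of `x`. -/
theorem FFMin.plane_core (h : FFMin p V H A) {x : G} (hx : x ∈ coreIn p H)
    (hxA : x ∉ centralizer (A : Set G)) :
    let D := A ⊔ A.map (MulAut.conj x).toMonoidHom
    let E := D ⊓ factorCore p H A
    D = A ⊔ E ∧ D ≤ normalizer (E : Set G) ∧ ⁅V, E⁆ = ⁅V, D⁆ ∧ IrrOn V E ∧ 2 < Nat.card E ∧
      (p = 3 → ¬ IsMulCommutative E) := by
  intro D E
  have hP := h.isPlane hx hxA
  have hp : p.Prime := Fact.out
  have hDle : D ≤ factor p H A := sup_le le_sup_right (h.map_conj_le_factor hx)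
  have hDA : D = A ⊔ E := by
    refine le_antisymm ?_ (sup_le le_sup_left inf_le_left)
    refine sup_le le_sup_left ?_
    rintro _ ⟨a, ha, rfl⟩
    show x * a * x⁻¹ ∈ _
    rw [show x * a * x⁻¹ = ⁅x, a⁆ * a by group]
    refine mul_mem (mem_sup_right ⟨?_, commutator_mem_commutator hx ha⟩) (mem_sup_left ha)
    rw [show ⁅x, a⁆ = (x * a * x⁻¹) * a⁻¹ by group]
    exact D.mul_mem (mem_sup_right (mem_map_of_mem _ ha)) (D.inv_mem (mem_sup_left ha))
  have hDn : D ≤ normalizer (E : Set G) :=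
    CfsgLib.Coprime.le_normalizer_inf_inf le_normalizer
      (hDle.trans (sup_le le_normalizer h.le_normalizer_factorCore.1))
  have hDH : D ≤ H := hDle.trans h.factor_le
  have hE0 : E ≠ ⊥ := by
    intro e
    rw [e, sup_bot_eq] at hDA
    have := hP.card_eq_or
    rw [show Nat.card ↥(A ⊔ A.map (MulAut.conj x).toMonoidHom) = p from
      (congrArg (fun K : Subgroup G => Nat.card K) hDA).trans h.trans.card_eq] at this
    omega
  have hVE : ⁅V, E⁆ = ⁅V, D⁆ := by
    refine (hP.irr _ (commutator_mono le_rfl inf_le_left) fun d hd => mem_of_map_conj_eq ?_).resolve_left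
      (h.grp.commutator_ne_bot (inf_le_left.trans hDH) hE0)
    rw [map_conj_commutator (h.grp.le_norm (hDH hd)), map_conj_eq_of_mem (hDn hd)]
  have hDD : ⁅D, D⁆ ≤ E := le_inf (commutator_le.2 fun y hy z hz =>
      (show y * z * y⁻¹ * z⁻¹ ∈ D from D.mul_mem (D.mul_mem (D.mul_mem hy hz) (D.inv_mem hy)) (D.inv_mem hz)))
    ((commutator_mono hDle hDle).trans (by
      rw [show factor p H A = A ⊔ factorCore p H A from sup_comm _ _]
      exact commutator_sup_le_of_abelian h.isMulCommutative h.le_normalizer_factorCore.1))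
  have hnc : p = 3 → ¬ IsMulCommutative E := by
    rintro rfl hc
    exact hP.derived_not_comm ⟨⟨fun a b => Subtype.ext (comm_of_mem hc (hDD a.2) (hDD b.2))⟩⟩
  have hEp : IsPGroup (companion p) E := h.isPGroup_factorCore.to_le inf_le_right
  have hcard : 2 < Nat.card E := by
    haveI : Fact (companion p).Prime := ⟨prime_companion⟩
    obtain ⟨n, hn⟩ := IsPGroup.iff_card.1 hEp
    rcases hP.small with rfl | rfl
    · rw [hn, show companion 2 = 3 from rfl]
      rcases n with _ | n
      · exact absurd (Subgroup.eq_bot_of_card_eq E (by simpa using hn)) hE0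
      · calc (2 : ℕ) < 3 ^ 1 := by norm_num
          _ ≤ 3 ^ (n + 1) := Nat.pow_le_pow_right (by norm_num) (by omega)
    · by_contra hle
      refine hnc rfl ?_
      have h2 : Nat.card E = 2 := by
        have : Nat.card E ≠ 1 := fun e => hE0 (Subgroup.eq_bot_of_card_eq E e)
        have := Nat.card_pos (α := E)
        omega
      haveI : Fact (Nat.card E).Prime := ⟨h2.symm ▸ Nat.prime_two⟩
      haveI : IsCyclic E := isCyclic_of_prime_card h2
      exact IsCyclic.isMulCommutative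
  refine ⟨hDA, hDn, hVE, fun U hU hUn => ?_, hcard, hnc⟩
  rw [hVE] at hU ⊢
  refine or_iff_not_imp_left.2 fun hU0 => ?_
  by_contra hU1
  have hUp : Nat.card U = p := by
    obtain ⟨k, hk, hk'⟩ := (Nat.dvd_prime_pow hp).1 (hP.card_eq ▸ card_dvd_of_le hU)
    rcases (show k = 0 ∨ k = 1 ∨ k = 2 by omega) with rfl | rfl | rfl
    · exact absurd (Subgroup.eq_bot_of_card_eq U (by simpa using hk')) hU0
    · simpa using hk'
    · exact absurd (Subgroup.eq_of_le_of_card_ge hU (by rw [hP.card_eq, hk'])) hU1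
  -- `K` is a nontrivial normal subgroup of `D` centralising `U`
  obtain ⟨K, hKE, hKn, hK0, hKU⟩ : ∃ K, K ≤ E ∧ D ≤ normalizer (K : Set G) ∧ K ≠ ⊥ ∧
      K ≤ centralizer (U : Set G) := by
    rcases hP.small with rfl | rfl
    · refine ⟨E, le_rfl, hDn, hE0, fun e he => ?_⟩
      haveI : Fact (Nat.card U).Prime := ⟨hUp.symm ▸ Nat.prime_two⟩
      refine mem_centralizer_iff.2 fun u hu => ?_
      by_cases hu1 : u = 1
      · simp [hu1]
      have h1 : e * u * e⁻¹ = u := by
        obtain ⟨y, hy1, hy2⟩ := (Nat.card_eq_two_iff' (1 : U)).1 hUp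
        have e1 := hy2 ⟨e * u * e⁻¹, conj_mem_of_mem_normalizer (hUn he) hu⟩
          (fun h => hu1 (conj_eq_one_iff.1 (congrArg Subtype.val h)))
        have e2 := hy2 ⟨u, hu⟩ (fun h => hu1 (congrArg Subtype.val h))
        exact congrArg Subtype.val (e1.trans e2.symm)
      calc u * e = e * u * e⁻¹ * e := by rw [h1]
        _ = _ := by group
    · refine ⟨⁅E, E⁆, commutator_le.2 fun y hy z hz => ?_, fun d hd => mem_of_map_conj_eq ?_,
        fun e => hnc rfl ?_, commutator_le_centralizer_of_prime_card hUp hUn⟩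
      · show y * z * y⁻¹ * z⁻¹ ∈ E
        exact E.mul_mem (E.mul_mem (E.mul_mem hy hz) (E.inv_mem hy)) (E.inv_mem hz)
      · rw [map_commutator, map_conj_eq_of_mem (hDn hd)]
      · exact commutator_self_eq_bot_iff.1 e
  have hW : U ≤ ⁅V, D⁆ ⊓ centralizer (K : Set G) := le_inf hU (le_centralizer_iff.1 hKU)
  rcases hP.irr _ inf_le_left (CfsgLib.Coprime.le_normalizer_inf_inf le_normalizer_self_commutator
    (CfsgLib.Coprime.le_normalizer_centralizer hKn)) with e | e
  · exact hU0 (eq_bot_iff.2 (e ▸ hW))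
  · refine hK0 (eq_bot_iff.2 (hP.faithful ▸ le_inf (hKE.trans inf_le_left) (le_centralizer_iff.1 ?_)))
    exact e.symm.le.trans inf_le_right

/-- All conjugates of `A` under `O_{p'}(H)` give the same plane. -/
theorem FFMin.plane_eq (h : FFMin p V H A) {x y : G} (hx : x ∈ coreIn p H)
    (hxA : x ∉ centralizer (A : Set G)) (hy : y ∈ coreIn p H) (hyA : y ∉ centralizer (A : Set G)) :
    ⁅V, A ⊔ A.map (MulAut.conj x).toMonoidHom⁆ = ⁅V, A ⊔ A.map (MulAut.conj y).toMonoidHom⁆ := by
  by_contra hne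
  obtain ⟨-, -, hVx, hirx, hcx, -⟩ := h.plane_core hx hxA
  obtain ⟨-, -, hVy, hiry, hcy, -⟩ := h.plane_core hy hyA
  set Ex := (A ⊔ A.map (MulAut.conj x).toMonoidHom) ⊓ factorCore p H A
  set Ey := (A ⊔ A.map (MulAut.conj y).toMonoidHom) ⊓ factorCore p H A
  rw [← hVx, ← hVy] at hne
  set E := Ex ⊔ Ey with hE
  have hEQ : E ≤ coreIn p H := sup_le (inf_le_right.trans h.factorCore_le) (inf_le_right.trans h.factorCore_le)
  haveI : Fact (companion p).Prime := ⟨prime_companion⟩
  haveI : Group.IsNilpotent E :=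
    (h.isPGroup_factorCore.to_le (sup_le inf_le_right inf_le_right : E ≤ factorCore p H A)).isNilpotent
  have hOp : pCore p E = ⊥ := by
    have h1 := CfsgLib.Base.inf_eq_bot_of_isPGroup_of_coprime (CfsgLib.Base.isPGroup_pCore p E)
      (show (Nat.card (⊤ : Subgroup E)).Coprime p by
        rw [card_top]; exact h.grp.data.coprime.coprime_dvd_left (card_dvd_of_le hEQ))
    rwa [inf_top_eq] at h1
  have hcards : Nat.card ↥(⁅V, Ex⁆) = Nat.card ↥(⁅V, Ey⁆) := by
    rw [hVx, hVy, (h.isPlane hx hxA).card_eq, (h.isPlane hy hyA).card_eq]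
  obtain ⟨-, hd, -⟩ := two_subnormal h.grp.elem E Ex Ey
    ((hEQ.trans (map_subtype_le _)).trans h.grp.le_norm)
    (eq_bot_iff.2 ((inf_le_inf_right _ (hEQ.trans (map_subtype_le _))).trans h.grp.faithful.le))
    ⟨le_sup_left, CfsgLib.Base.isSubnormal_of_isNilpotent _⟩
    ⟨le_sup_right, CfsgLib.Base.isSubnormal_of_isNilpotent _⟩ hOp hirx hiry
    (fun hle => hne (Subgroup.eq_of_le_of_card_ge hle hcards.ge))
    (fun hle => hne (Subgroup.eq_of_le_of_card_ge hle hcards.le).symm) hcx hcy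
  have hA0 : ⁅V, A⁆ ≤ ⁅V, Ex⁆ ⊓ ⁅V, Ey⁆ :=
    le_inf (hVx ▸ commutator_mono le_rfl le_sup_left) (hVy ▸ commutator_mono le_rfl le_sup_left)
  rw [hd, le_bot_iff] at hA0
  exact h.grp.commutator_ne_bot h.le h.ne_bot hA0

/-- Elements of order `p` acting inside the plane lie in the plane group. -/
theorem FFMin.mem_of_pow (h : FFMin p V H A) {D : Subgroup G} (hP : IsPlane p V D) (hDH : D ≤ H)
    (hQP : coreIn p H ≤ normalizer ((⁅V, D⁆ : Subgroup G) : Set G)) {g : G} (hgH : g ∈ H)
    (hg : g ∈ trivQuot V ⁅V, D⁆) (hgp : g ^ p = 1) : g ∈ D := by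
  set P := ⁅V, D⁆ with hPdef
  set F := H ⊓ trivQuot V P with hF
  have hDF : D ≤ F := le_inf hDH (le_trivQuot le_normalizer_self_commutator le_rfl)
  have hFP : F ≤ normalizer (P : Set G) := fun f hf => hf.2.1
  let θ : F →* MulAut P :=
    { toFun := fun f =>
        { toFun := fun z => ⟨(f : G) * z * (f : G)⁻¹, conj_mem_of_mem_normalizer (hFP f.2) z.2⟩
          invFun := fun z => ⟨(f : G)⁻¹ * z * (f : G), conj_mem_of_mem_normalizer' (hFP f.2) z.2⟩
          left_inv := fun z => Subtype.ext (by simp [mul_assoc])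
          right_inv := fun z => Subtype.ext (by simp [mul_assoc])
          map_mul' := fun z z' => Subtype.ext (by simp) }
      map_one' := MulEquiv.ext fun z => Subtype.ext (by simp)
      map_mul' := fun f f' => MulEquiv.ext fun z => Subtype.ext (by simp [mul_assoc]) }
  have hθ : Function.Injective θ := by
    rw [injective_iff_map_eq_one]
    intro f hf
    refine Subtype.ext (mem_bot.1 ((h.grp.kernel_eq_bot hP.le hQP) ▸ mem_inf.2 ⟨f.2, ?_⟩))
    refine mem_centralizer_iff.2 fun z hz => ?_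
    have h1 : (f : G) * z * (f : G)⁻¹ = z :=
      congrArg Subtype.val (MulEquiv.congr_fun hf ⟨z, hz⟩)
    calc z * (f : G) = (f : G) * z * (f : G)⁻¹ * f := by rw [h1]
      _ = _ := by group
  have hcard := (Nat.card_le_card_of_injective θ hθ).trans
    (card_mulAut_le hP.card_eq fun z hz => h.grp.elem.2 z (hP.le hz))
  have hDc : Nat.card (D.subgroupOf F) = Nat.card D := Nat.card_congr (subgroupOfEquivOfLe hDF).toEquiv
  have hgF : (⟨g, hgH, hg⟩ : F) ^ p = 1 := Subtype.ext hgp
  refine mem_subgroupOf.1 (mem_of_index_le_two (D := D.subgroupOf F) (n := p) ?_ ?_ hgF)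
  · rcases hP.card_eq_or with ⟨rfl, hc⟩ | ⟨rfl, hc⟩
    · rw [hDc, hc]; exact hcard.trans (by norm_num)
    · rw [hDc, hc]; exact hcard.trans (by norm_num)
  · rcases hP.card_eq_or with ⟨rfl, hc⟩ | ⟨rfl, hc⟩
    · refine Or.inl (Subgroup.index_eq_one.2 (Subgroup.eq_top_of_le_card _ ?_))
      rw [hDc, hc]; exact hcard.trans (by norm_num)
    · exact Or.inr ⟨1, rfl⟩

/-- The factor of `A` is the plane group of any conjugate. -/
theorem FFMin.factor_eq (h : FFMin p V H A) {x : G} (hx : x ∈ coreIn p H)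
    (hxA : x ∉ centralizer (A : Set G)) :
    factor p H A = A ⊔ A.map (MulAut.conj x).toMonoidHom ∧
      coreIn p H ≤ normalizer ((⁅V, factor p H A⁆ : Subgroup G) : Set G) := by
  set D := A ⊔ A.map (MulAut.conj x).toMonoidHom
  have hP := h.isPlane hx hxA
  have hDle : D ≤ factor p H A := sup_le le_sup_right (h.map_conj_le_factor hx)
  have hD' : ∀ y ∈ coreIn p H, A.map (MulAut.conj y).toMonoidHom ≤ trivQuot V ⁅V, D⁆ := by
    intro y hy
    by_cases hyA : y ∈ centralizer (A : Set G)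
    · have e : A.map (MulAut.conj y).toMonoidHom = A := by
        refine map_conj_eq_of_mem (centralizer_le_normalizer _ hyA)
      rw [e]
      exact (le_sup_left : A ≤ D).trans (le_trivQuot le_normalizer_self_commutator le_rfl)
    · rw [h.plane_eq hx hxA hy hyA]
      exact (le_sup_right : _ ≤ A ⊔ A.map (MulAut.conj y).toMonoidHom).trans
        (le_trivQuot le_normalizer_self_commutator le_rfl)
  have hfT : factor p H A ≤ trivQuot V ⁅V, D⁆ := by
    refine sup_le (commutator_le.2 fun y hy a ha => ?_)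
      ((le_sup_left : A ≤ D).trans (le_trivQuot le_normalizer_self_commutator le_rfl))
    rw [show ⁅y, a⁆ = (y * a * y⁻¹) * a⁻¹ by group]
    exact mul_mem (hD' y hy (mem_map_of_mem _ ha))
      (inv_mem (le_trivQuot le_normalizer_self_commutator le_rfl ((le_sup_left : A ≤ D) ha)))
  have hPE : ⁅V, factor p H A⁆ = ⁅V, D⁆ :=
    le_antisymm (commutator_le_of_le_trivQuot hfT) (commutator_mono le_rfl hDle)
  have hQP : coreIn p H ≤ normalizer ((⁅V, D⁆ : Subgroup G) : Set G) := by
    intro y hy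
    rw [← hPE]
    refine mem_of_map_conj_eq ?_
    rw [map_conj_commutator (h.grp.le_norm (map_subtype_le _ hy)),
      map_conj_eq_of_mem (h.le_normalizer_factor hy)]
  refine ⟨le_antisymm (sup_le (commutator_le.2 fun y hy a ha => ?_) le_sup_left) hDle, hPE ▸ hQP⟩
  rw [show ⁅y, a⁆ = (y * a * y⁻¹) * a⁻¹ by group]
  have hyH : y ∈ H := map_subtype_le _ hy
  refine mul_mem (h.mem_of_pow hP (hDle.trans h.factor_le) hQP
    (mul_mem (mul_mem hyH (h.le ha)) (inv_mem hyH)) (hD' y hy (mem_map_of_mem _ ha)) ?_)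
    (inv_mem (mem_sup_left ha))
  rw [conj_pow, h.elem.2 a ha]
  group

theorem FFMin.isPlane_factor (h : FFMin p V H A) : IsPlane p V (factor p H A) := by
  obtain ⟨x, hx, hxA⟩ := h.exists_moved
  rw [(h.factor_eq hx hxA).1]
  exact h.isPlane hx hxA

theorem FFMin.plane_invariant (h : FFMin p V H A) :
    coreIn p H ≤ normalizer ((⁅V, factor p H A⁆ : Subgroup G) : Set G) := by
  obtain ⟨x, hx, hxA⟩ := h.exists_moved
  exact (h.factor_eq hx hxA).2

theorem FFMin.factorCore_irr (h : FFMin p V H A) :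
    ⁅V, factorCore p H A⁆ = ⁅V, factor p H A⁆ ∧ IrrOn V (factorCore p H A) ∧
      2 < Nat.card (factorCore p H A) ∧ (p = 3 → ¬ IsMulCommutative (factorCore p H A)) := by
  obtain ⟨x, hx, hxA⟩ := h.exists_moved
  obtain ⟨-, -, hV, hirr, hc, hnc⟩ := h.plane_core hx hxA
  have e : (A ⊔ A.map (MulAut.conj x).toMonoidHom) ⊓ factorCore p H A = factorCore p H A := by
    rw [← (h.factor_eq hx hxA).1]
    exact inf_eq_right.2 le_sup_left
  rw [e] at hV hirr hc hnc
  exact ⟨by rw [(h.factor_eq hx hxA).1]; exact hV, hirr, hc, hnc⟩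

end CfsgLib.PLocal
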