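import Mathlib
import Cfsg.Agent.Lib.PLocal.DerivedLengthBound

/-!
The upper `p`-series is the fastest one, and the `p`-length of extensions.
-/

set_option autoImplicit false
set_option linter.style.haveILetI false

namespace CfsgLib.PLocal

open Subgroup Cfsg CfsgLib.Base

universe u

variable {G : Type u} [Group G] [Finite G] {p : ℕ} [Fact p.Prime]

theorem coprime_relIndex_upperPSeries (k : ℕ) {K : Subgroup G}
    (hK : K ≤ (upperPSeries p G (2 * k + 1)).1) :
    ((upperPSeries p G (2 * k)).1.relIndex K).Coprime p := by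
  rw [upperPSeries_odd, ← map_le_iff_le_comap] at hK
  rw [← card_map_mk'_eq_relIndex]
  exact (pPrimeCore_coprime p _).coprime_dvd_left (card_dvd_of_le hK)

theorem isPGroup_relIndex_upperPSeries (k : ℕ) {K : Subgroup G}
    (hK : K ≤ (upperPSeries p G (2 * k + 2)).1) :
    ∃ m, (upperPSeries p G (2 * k + 1)).1.relIndex K = p ^ m := by
  rw [upperPSeries_even, ← map_le_iff_le_comap] at hK
  rw [← card_map_mk'_eq_relIndex]
  exact IsPGroup.iff_card.1 ((isPGroup_pCore p _).to_le hK)

/-- Any alternating series is dominated by the upper `p`-series. -/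
theorem le_upperPSeries_of_series (a : ℕ) (M : ℕ → Subgroup G) (hn : ∀ j, 1 ≤ j → (M j).Normal)
    (h0 : M 0 ≤ (upperPSeries p G (2 * a)).1)
    (hodd : ∀ i, ((M (2 * i)).relIndex (M (2 * i + 1))).Coprime p)
    (heven : ∀ i, ∃ m, (M (2 * i + 1)).relIndex (M (2 * i + 2)) = p ^ m) (j : ℕ) :
    M j ≤ (upperPSeries p G (2 * a + j)).1 := by
  induction j with
  | zero => exact h0
  | succ j ih =>
    haveI := hn (j + 1) (Nat.le_add_left 1 j)
    rcases Nat.even_or_odd' j with ⟨k, rfl | rfl⟩
    · rw [show 2 * a + (2 * k + 1) = 2 * (a + k) + 1 by ring, upperPSeries_odd,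
        ← map_le_iff_le_comap]
      rw [show 2 * a + 2 * k = 2 * (a + k) by ring] at ih
      haveI := Normal.map (inferInstance : (M (2 * k + 1)).Normal) _
        (QuotientGroup.mk'_surjective (upperPSeries p G (2 * (a + k))).1)
      refine le_pPrimeCore ?_
      rw [card_map_mk'_eq_relIndex]
      exact (hodd k).coprime_dvd_left (relIndex_dvd_of_le_left _ ih)
    · rw [show 2 * a + (2 * k + 1 + 1) = 2 * (a + k) + 2 by ring, upperPSeries_even,
        ← map_le_iff_le_comap]
      rw [show 2 * a + (2 * k + 1) = 2 * (a + k) + 1 by ring] at ih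
      haveI := Normal.map (inferInstance : (M (2 * k + 1 + 1)).Normal) _
        (QuotientGroup.mk'_surjective (upperPSeries p G (2 * (a + k) + 1)).1)
      refine le_pCore ?_
      obtain ⟨m, hm⟩ := heven k
      have hd := relIndex_dvd_of_le_left (M (2 * k + 2)) ih
      rw [← card_map_mk'_eq_relIndex, hm] at hd
      obtain ⟨l, -, hl⟩ := (Nat.dvd_prime_pow Fact.out).1 hd
      exact IsPGroup.of_card hl

/-- The `p`-length of a normal subgroup is at most that of the group. -/
theorem pLengthLE_of_normal {k : ℕ} (h : PLengthLE p k G) (N : Subgroup G) [N.Normal] :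
    PLengthLE p k N := by
  have h' : (upperPSeries p G (2 * k + 1)).1 = ⊤ := h
  have hrel : ∀ A B : Subgroup G, ∀ [A.Normal],
      (A.subgroupOf N).relIndex (B.subgroupOf N) ∣ A.relIndex B := by
    intro A B _
    rw [← inf_subgroupOf_right B N, relIndex_subgroupOf inf_le_right,
      ← card_map_mk'_eq_relIndex A, ← card_map_mk'_eq_relIndex A B]
    exact card_dvd_of_le (map_mono inf_le_left)
  have key := le_upperPSeries_of_series (p := p) (G := N) 0
    (fun j => (upperPSeries p G j).1.subgroupOf N) (fun j _ => inferInstance)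
    (by rw [upperPSeries_zero, bot_subgroupOf]; exact bot_le)
    (fun i => (coprime_relIndex_upperPSeries i le_rfl).coprime_dvd_left (hrel _ _))
    (fun i => by
      obtain ⟨m, hm⟩ := isPGroup_relIndex_upperPSeries (p := p) (G := G) i le_rfl
      obtain ⟨l, -, hl⟩ := (Nat.dvd_prime_pow Fact.out).1 (hm ▸ hrel
        (upperPSeries p G (2 * i + 1)).1 (upperPSeries p G (2 * i + 2)).1)
      exact ⟨l, hl⟩) (2 * k + 1)
  refine top_le_iff.1 (le_trans ?_ (key.trans (le_of_eq (by rw [mul_zero, zero_add]))))
  rw [h', top_subgroupOf]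

omit [Fact p.Prime] in
theorem map_upperPSeries_le_of_normal_range {N : Type u} [Group N] [Finite N] (f : N →* G)
    (hf : f.range.Normal) (j : ℕ) :
    (upperPSeries p N j).1.map f ≤ (upperPSeries p G j).1 := by
  induction j with
  | zero => rw [upperPSeries_zero, Subgroup.map_bot]; exact bot_le
  | succ j ih =>
    set M := (upperPSeries p N j).1
    set M' := (upperPSeries p G j).1
    let g : N ⧸ M →* G ⧸ M' :=
      QuotientGroup.map M M' f (fun x hx => ih (mem_map_of_mem f hx))
    haveI hgn : g.range.Normal := by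
      have : g.range = f.range.map (QuotientGroup.mk' M') := by
        rw [← MonoidHom.range_comp, show (QuotientGroup.mk' M').comp f = g.comp (QuotientGroup.mk' M)
          from rfl, MonoidHom.range_comp, QuotientGroup.range_mk', ← MonoidHom.range_eq_map]
      rw [this]
      exact hf.map _ (QuotientGroup.mk'_surjective M')
    have hg := g.rangeRestrict_surjective
    have hfac : ∀ x, ((g.rangeRestrict (QuotientGroup.mk' M x) : g.range) : G ⧸ M')
        = QuotientGroup.mk' M' (f x) := fun _ => rfl
    rcases Nat.even_or_odd' j with ⟨k, rfl | rfl⟩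
    · rw [upperPSeries_odd, upperPSeries_odd]
      rintro _ ⟨x, hx, rfl⟩
      rw [mem_comap, ← hfac]
      refine map_pPrimeCore_le_of_isSubnormal (Normal.isSubnormal hgn) ⟨g.rangeRestrict (QuotientGroup.mk' M x), ?_, rfl⟩
      exact map_pPrimeCore_le _ hg ⟨_, hx, rfl⟩
    · rw [show 2 * k + 1 + 1 = 2 * k + 2 by ring, upperPSeries_even, upperPSeries_even]
      rintro _ ⟨x, hx, rfl⟩
      rw [mem_comap, ← hfac]
      refine map_pCore_le_of_isSubnormal (Normal.isSubnormal hgn) ⟨g.rangeRestrict (QuotientGroup.mk' M x), ?_, rfl⟩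
      exact map_pCore_le _ hg ⟨_, hx, rfl⟩

omit [Fact p.Prime] in
/-- A normal subgroup of `p`-length at most `b` lies below position `2b + 1`. -/
theorem le_upperPSeries_of_pLengthLE (N : Subgroup G) [hN : N.Normal] {b : ℕ}
    (h : PLengthLE p b N) : N ≤ (upperPSeries p G (2 * b + 1)).1 := by
  have h' : (upperPSeries p N (2 * b + 1)).1 = ⊤ := h
  have h1 := map_upperPSeries_le_of_normal_range (p := p) N.subtype
    (by rw [range_subtype]; exact hN) (2 * b + 1)
  rwa [h', ← MonoidHom.range_eq_map, range_subtype] at h1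

/-- Stacking the upper series of `G / N` on a normal subgroup `N`. -/
theorem comap_upperPSeries_le {N : Subgroup G} [N.Normal] {a : ℕ}
    (hN : N ≤ (upperPSeries p G (2 * a + 1)).1) {j : ℕ} (hj : 1 ≤ j) :
    (upperPSeries p (G ⧸ N) j).1.comap (QuotientGroup.mk' N) ≤ (upperPSeries p G (2 * a + j)).1 := by
  set W : ℕ → Subgroup G := fun j => (upperPSeries p (G ⧸ N) j).1.comap (QuotientGroup.mk' N)
    with hW
  have hW0 : W 0 = N := by rw [hW]; simp [upperPSeries_zero]
  have hrel : ∀ (A B : Subgroup (G ⧸ N)),
      (A.comap (QuotientGroup.mk' N)).relIndex (B.comap (QuotientGroup.mk' N)) = A.relIndex B := by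
    intro A B
    rw [relIndex_comap, map_mk'_comap]
  let M : ℕ → Subgroup G := fun j => if j = 0 then (upperPSeries p G (2 * a)).1 ⊓ N else W j
  have key := le_upperPSeries_of_series (p := p) a M
    (fun j hj => by
      simp only [M, if_neg (Nat.one_le_iff_ne_zero.1 hj)]; infer_instance)
    (by simp only [M, if_pos]; exact inf_le_left)
    (fun i => ?_) (fun i => ?_) j
  · simpa only [M, if_neg (Nat.one_le_iff_ne_zero.1 hj)] using key
  · rcases Nat.eq_zero_or_pos i with rfl | hi
    · simp only [M, mul_zero, zero_add, if_pos, one_ne_zero, if_false]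
      rw [← relIndex_mul_relIndex _ N (W 1) inf_le_right
        (hW0.ge.trans (comap_mono (upperPSeries_monotone p (G ⧸ N) (Nat.zero_le 1)))),
        inf_relIndex_right]
      refine Nat.Coprime.mul_left (coprime_relIndex_upperPSeries a hN) ?_
      rw [← hW0]
      simp only [hW]
      rw [hrel]
      exact coprime_relIndex_upperPSeries 0 le_rfl
    · simp only [M, if_neg (show 2 * i ≠ 0 by omega), if_neg (Nat.succ_ne_zero _), hW]
      rw [hrel]
      exact coprime_relIndex_upperPSeries i le_rfl
  · simp only [M, if_neg (Nat.succ_ne_zero _), hW]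
    rw [hrel]
    exact isPGroup_relIndex_upperPSeries i le_rfl

/-- Climbing by a normal factor of bounded `p`-length. -/
theorem le_upperPSeries_add {V W : Subgroup G} [V.Normal] [W.Normal] {a b : ℕ}
    (hV : V ≤ (upperPSeries p G (2 * a + 1)).1)
    (hW : PLengthLE p b (W.map (QuotientGroup.mk' V))) :
    W ≤ (upperPSeries p G (2 * (a + b) + 1)).1 := by
  haveI := Normal.map (inferInstance : W.Normal) _ (QuotientGroup.mk'_surjective V)
  have h1 := map_le_iff_le_comap.1 (le_upperPSeries_of_pLengthLE _ hW)
  refine h1.trans ((comap_upperPSeries_le hV (Nat.le_add_left 1 _)).trans (le_of_eq ?_))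
  rw [show 2 * a + (2 * b + 1) = 2 * (a + b) + 1 by ring]

theorem pLengthLE_of_prime_support (p : ℕ) [Fact p.Prime] (s : Finset ℕ) (l : ℕ → ℕ) :
    ∀ {G : Type u} [Group G] [Finite G], (∀ q ∈ s, q.Prime ∧ q ≠ p) →
      (∀ r : ℕ, r.Prime → r ∣ Nat.card G → r = p ∨ r ∈ s) →
      (∀ q ∈ s, PLengthLE q (l q) G) → PLengthLE p (∏ q ∈ s, (1 + l q)) G := by
  induction s using Finset.induction_on with
  | empty =>
    intro G _ _ _ hsup _
    have hG : IsPGroup p G := by
      refine IsPGroup.of_card (n := (Nat.card G).primeFactorsList.length) ?_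
      refine Nat.eq_prime_pow_of_unique_prime_dvd Nat.card_pos.ne' fun {r} hr hrd => ?_
      simpa using hsup r hr hrd
    refine top_le_iff.1 (le_trans ?_ (upperPSeries_monotone p G
      (show 2 * 0 + 2 ≤ 2 * (∏ q ∈ (∅ : Finset ℕ), (1 + l q)) + 1 by simp)))
    simp only [upperPSeries_even, ← map_le_iff_le_comap]
    rw [pCore_eq_top_iff.2 (hG.to_quotient (upperPSeries p G (2 * 0 + 1)).1)]
    exact le_top
  | insert q s hqs ih =>
    intro G _ _ hs hsup hl
    obtain ⟨hq, hqp⟩ := hs q (Finset.mem_insert_self q s)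
    haveI : Fact q.Prime := ⟨hq⟩
    rw [Finset.prod_insert hqs]
    set P := ∏ r ∈ s, (1 + l r)
    have hfac : ∀ k, (upperPSeries q G (2 * k + 1)).1 ≤ (upperPSeries p G (2 * ((k + 1) * P) + 1)).1 := by
      have hone : ∀ (k a : ℕ), (upperPSeries q G (2 * k)).1 ≤ (upperPSeries p G (2 * a + 1)).1 →
          (upperPSeries q G (2 * k + 1)).1 ≤ (upperPSeries p G (2 * (a + P) + 1)).1 := by
        intro k a hle
        set V := (upperPSeries q G (2 * k)).1 with hV
        refine le_upperPSeries_add hle ?_
        rw [upperPSeries_odd, map_mk'_comap]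
        refine ih (fun r hr => hs r (Finset.mem_insert_of_mem hr)) (fun r hr hrd => ?_) (fun r hr => ?_)
        · rcases hsup r hr (hrd.trans ((Subgroup.card_subgroup_dvd_card _).trans
            (Subgroup.card_quotient_dvd_card V))) with h | h
          · exact Or.inl h
          · refine Or.inr ((Finset.mem_insert.1 h).resolve_left ?_)
            rintro rfl
            exact not_dvd_card_pPrimeCore r (G ⧸ V) hrd
        · haveI : Fact r.Prime := ⟨(hs r (Finset.mem_insert_of_mem hr)).1⟩
          exact pLengthLE_of_normal (pLengthLE_of_surjective _ (QuotientGroup.mk'_surjective V)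
            (hl r (Finset.mem_insert_of_mem hr))) _
      intro k
      induction k with
      | zero =>
        refine (hone 0 0 (by rw [upperPSeries_zero]; exact bot_le)).trans (le_of_eq ?_)
        rw [zero_add, zero_add, one_mul]
      | succ k ihk =>
        refine (hone (k + 1) ((k + 1) * P) ?_).trans (le_of_eq ?_)
        · refine le_trans (le_of_eq ?_) (le_upperPSeries_add (b := 0)
            (W := (upperPSeries q G (2 * k + 2)).1) ihk ?_)
          · rw [show 2 * (k + 1) = 2 * k + 2 by ring]
          · refine upperPSeries_one_eq_top ?_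
            rw [upperPSeries_even, map_mk'_comap]
            obtain ⟨n, hn⟩ := pCore_eq_pow_card q (G ⧸ (upperPSeries q G (2 * k + 1)).1)
            rw [hn]
            exact ((Nat.coprime_primes hq Fact.out).2 hqp).pow_left n
        · rw [show (k + 1) * P + P = (k + 1 + 1) * P by ring]
    have h := hfac (l q)
    rw [show (upperPSeries q G (2 * l q + 1)).1 = ⊤ from hl q (Finset.mem_insert_self q s),
      add_comm (l q) 1] at h
    exact top_le_iff.1 h

end CfsgLib.PLocal
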