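import Mathlib
import Cfsg.Prelude.Def_PLocal
import Cfsg.Agent.Lib.PGroups.Basic

/-!
Regular 2-groups are abelian.
-/

set_option autoImplicit false
set_option linter.style.haveILetI false

namespace CfsgLib.PLocal

open Subgroup Cfsg
open scoped commutatorElement

variable {G : Type*} [Group G]

theorem isRegularPGroup_two_iff [Finite G] (hG : IsPGroup 2 G) :
    IsRegularPGroup 2 G ↔ ∀ a b : G, a * b = b * a := by
  haveI : Fact (Nat.Prime 2) := ⟨Nat.prime_two⟩
  constructor
  · intro h a b
    set K := closure ({a, b} : Set G) with hK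
    set D := ⁅K, K⁆ with hD
    set U := powerClosure 2 1 D with hU
    have ha : a ∈ K := subset_closure (Or.inl rfl)
    have hb : b ∈ K := subset_closure (Or.inr rfl)
    obtain ⟨c, hc, he⟩ := h.2 b a 1
    have hKD : K ≤ normalizer (D : Set G) :=
      commutator_le_self K |>.trans le_rfl |> fun h' => by
        intro k hk
        refine mem_normalizer_iff_map_conj_eq.2 ?_
        rw [hD, map_commutator, mem_normalizer_iff_map_conj_eq.1 (le_normalizer hk)]
    have hKU : K ≤ normalizer (U : Set G) := by
      intro k hk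
      refine le_normalizer_closure_iff.2 ?_ (mem_zpowers k)
      intro g hg y hy
      obtain ⟨x, hx, rfl⟩ := hy
      have hgK : g ∈ K := (zpowers_le.2 hk) hg
      refine subset_closure ⟨g * x * g⁻¹, (mem_normalizer_iff.1 (hKD hgK) x).1 hx, ?_⟩
      rw [conj_pow]
    -- `[a,b] ∈ U`
    have hab : ⁅a, b⁆ ∈ U := by
      rw [Set.pair_comm b a] at hc
      have e : ⁅a, b⁆ = (b * a * a) * c * (b * a * a)⁻¹ := by
        have he' : c = (b ^ 2 * a ^ 2)⁻¹ * (b * a) ^ 2 := by
          simp only [pow_one] at he
          rw [he]; group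
        rw [he']; simp only [pow_two]; group
      rw [e]
      exact (mem_normalizer_iff.1 (hKU (mul_mem (mul_mem hb ha) ha)) c).1 hc
    have hDU : D ≤ U := by
      haveI hn : (U.subgroupOf K).Normal := normal_subgroupOf_of_le_normalizer hKU
      rw [hD, commutator_le]
      intro x hx y hy
      let f := QuotientGroup.mk' (U.subgroupOf K)
      have h1 : f ⟨a, ha⟩ * f ⟨b, hb⟩ = f ⟨b, hb⟩ * f ⟨a, ha⟩ := by
        rw [← commutatorElement_eq_one_iff_mul_comm, ← map_commutatorElement, QuotientGroup.mk'_apply,
          QuotientGroup.eq_one_iff, mem_subgroupOf]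
        exact hab
      have hcl : closure ({⟨a, ha⟩, ⟨b, hb⟩} : Set K) = ⊤ := by
        apply map_injective K.subtype_injective
        rw [MonoidHom.map_closure, Set.image_pair, ← MonoidHom.range_eq_map, range_subtype]
        rfl
      have hcomm : IsMulCommutative ↥(closure (f '' ({⟨a, ha⟩, ⟨b, hb⟩} : Set K))) := by
        refine isMulCommutative_closure ?_
        rw [Set.image_pair]
        rintro u (rfl | rfl) v (rfl | rfl) <;> first | rfl | exact h1 | exact h1.symm
      rw [← MonoidHom.map_closure, hcl] at hcomm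
      have h2 := congrArg Subtype.val (hcomm.is_comm.comm
        ⟨f ⟨x, hx⟩, mem_map_of_mem f (mem_top _)⟩ ⟨f ⟨y, hy⟩, mem_map_of_mem f (mem_top _)⟩)
      rw [MulMemClass.mk_mul_mk, MulMemClass.mk_mul_mk] at h2
      rw [← commutatorElement_eq_one_iff_mul_comm, ← map_commutatorElement, QuotientGroup.mk'_apply,
        QuotientGroup.eq_one_iff, mem_subgroupOf] at h2
      exact h2
    have hDbot : D = ⊥ := by
      by_contra hne
      haveI : Nontrivial D := (nontrivial_iff_ne_bot D).2 hne
      refine CfsgLib.PGroups.frattini_ne_top (G := D) (top_le_iff.1 ?_)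
      rw [← map_le_map_iff_of_injective D.subtype_injective, ← MonoidHom.range_eq_map, range_subtype]
      refine hDU.trans ((closure_le _).2 ?_)
      rintro _ ⟨x, hx, rfl⟩
      exact ⟨(⟨x, hx⟩ : D) ^ 2, CfsgLib.PGroups.pow_mem_frattini (hG.to_subgroup D) _, by simp⟩
    rw [← commutatorElement_eq_one_iff_mul_comm, ← mem_bot, ← hDbot]
    exact commutator_mem_commutator ha hb
  · intro h
    refine ⟨hG, fun a b n => ⟨1, one_mem _, ?_⟩⟩
    rw [(Commute.mul_pow (h a b)), mul_one]

end CfsgLib.PLocal
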