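import Cfsg.Agent.Lib.PLocal.OffenderCore

/-!
Elements of order `p` fixing a hyperplane of `V`.
-/

set_option autoImplicit false
set_option linter.style.haveILetI false
set_option linter.unusedSectionVars false

namespace CfsgLib.PLocal

open Subgroup Cfsg
open scoped commutatorElement

variable {G : Type*} [Group G] [Finite G] {p : ℕ} [Fact p.Prime]

/-- `A` is a group of order `p` of transvections of `V`. -/
structure IsTransvectionGroup (p : ℕ) (V A : Subgroup G) : Prop where
  le_norm : A ≤ normalizer (V : Set G)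
  card_eq : Nat.card A = p
  card_fix : p * Nat.card ↥(V ⊓ centralizer (A : Set G)) = Nat.card V

theorem IsTransvectionGroup.of_isOff {V A : Subgroup G} (hA : A ≤ normalizer (V : Set G))
    (hc : Nat.card A = p) (ho : IsOff V A) : IsTransvectionGroup p V A :=
  ⟨hA, hc, by rw [← hc]; exact ho⟩

theorem IsTransvectionGroup.relIndex_eq {V A : Subgroup G} (h : IsTransvectionGroup p V A) :
    (V ⊓ centralizer (A : Set G)).relIndex V = p := by
  have h1 := relIndex_mul_relIndex ⊥ (V ⊓ centralizer (A : Set G)) V bot_le inf_le_left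
  simp only [relIndex_bot_left] at h1
  rw [← h.card_fix, mul_comm p] at h1
  exact Nat.eq_of_mul_eq_mul_left Nat.card_pos h1

/-- `[V,A]` has order `p` and is fixed by `A`. -/
theorem IsTransvectionGroup.card_commutator {V A : Subgroup G} (hV : IsElementaryAbelian p V)
    (h : IsTransvectionGroup p V A) :
    Nat.card ↥(⁅V, A⁆) = p ∧ ⁅V, A⁆ ≤ V ⊓ centralizer (A : Set G) := by
  have hp : p.Prime := Fact.out
  haveI : Fact (Nat.card A).Prime := ⟨h.card_eq.symm ▸ hp⟩
  haveI : IsCyclic A := isCyclic_of_prime_card h.card_eq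
  obtain ⟨⟨a, haA⟩, hgen⟩ := IsCyclic.exists_generator (α := A)
  have hA : A = zpowers a := by
    refine le_antisymm (fun x hx => ?_) (zpowers_le.2 haA)
    obtain ⟨n, hn⟩ := hgen ⟨x, hx⟩
    exact ⟨n, congrArg Subtype.val hn⟩
  set CA := V ⊓ centralizer (A : Set G) with hCA
  have haV : a ∈ normalizer (V : Set G) := h.le_norm haA
  set f := commHom hV.1 haV with hf
  have hker : f.ker = CA.subgroupOf V := by
    ext v
    rw [MonoidHom.mem_ker, hf, commHom_apply, mem_subgroupOf, hCA, mem_inf, hA,
      mem_centralizer_zpowers, commutatorElement_eq_one_iff_mul_comm]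
    exact ⟨fun h => ⟨v.2, h.symm⟩, fun h => h.2.symm⟩
  have hcard : Nat.card f.range = p := by
    rw [← index_ker, hker]
    exact h.relIndex_eq
  have hrV : f.range ≤ V := by
    rintro _ ⟨v, rfl⟩; exact comm_mem_of_mem_normalizer haV v.2
  have hrN : a ∈ normalizer (f.range : Set G) := by
    rw [mem_normalizer_iff_map_conj_eq]
    refine Subgroup.eq_of_le_of_card_ge ?_ (CfsgLib.Base.card_map_conj a f.range).ge
    rintro _ ⟨_, ⟨v, rfl⟩, rfl⟩
    refine ⟨⟨a * v * a⁻¹, conj_mem_of_mem_normalizer haV v.2⟩, ?_⟩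
    show ⁅a * v * a⁻¹, a⁆ = a * ⁅(v : G), a⁆ * a⁻¹
    group
  have hne : f.range ≠ ⊥ := fun e => by rw [e, card_bot] at hcard; exact hp.one_lt.ne hcard
  obtain ⟨w, hw, hw1, hwc⟩ := exists_ne_one_commute_of_pow (k := 1)
    ((isPGroup_of_isElementaryAbelian hV).to_le hrV) hne hrN (by
      have : a ^ p = 1 := by
        have e : (⟨a, haA⟩ : A) ^ p = 1 := by rw [← h.card_eq]; exact pow_card_eq_one'
        exact congrArg Subtype.val e
      rw [pow_one, this]; exact one_mem _)
  haveI : Fact (Nat.card f.range).Prime := ⟨hcard.symm ▸ hp⟩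
  have hrC : f.range ≤ centralizer (A : Set G) := by
    have e : zpowers w = f.range := by
      rcases Subgroup.eq_bot_or_eq_top_of_prime_card ((zpowers w).subgroupOf f.range) with e | e
      · exfalso
        have := map_subgroupOf_eq_of_le (zpowers_le.2 hw)
        rw [e, Subgroup.map_bot, eq_comm, zpowers_eq_bot] at this
        exact hw1 this
      · exact le_antisymm (zpowers_le.2 hw) (subgroupOf_eq_top.1 e)
    rw [← e, zpowers_le, hA, mem_centralizer_zpowers]
    exact hwc
  have heq : ⁅V, A⁆ = f.range := by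
    refine le_antisymm (commutator_le.2 fun v hv x hx => ?_) ?_
    · rw [hA] at hx
      obtain ⟨n, hn⟩ := mem_powers_iff_mem_zpowers.2 hx
      rw [← hn]
      have hc : a * ⁅v, a⁆ = ⁅v, a⁆ * a :=
        mem_centralizer_iff.1 (hrC (MonoidHom.mem_range.2 ⟨⟨v, hv⟩, rfl⟩)) a haA
      show ⁅v, a ^ n⁆ ∈ f.range
      rw [comm_pow_of_commute hc]
      have hmem : ⁅v, a⁆ ∈ f.range := MonoidHom.mem_range.2 ⟨⟨v, hv⟩, rfl⟩
      exact pow_mem hmem n
    · rintro x ⟨v, rfl⟩
      exact commutator_mem_commutator v.2 haA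
  rw [heq]
  exact ⟨hcard, le_inf hrV hrC⟩

theorem IsTransvectionGroup.conj {V A : Subgroup G} (h : IsTransvectionGroup p V A) {g : G}
    (hg : g ∈ normalizer (V : Set G)) :
    IsTransvectionGroup p V (A.map (MulAut.conj g).toMonoidHom) := by
  set c := MulAut.conj g with hc
  have hV : V.map c.toMonoidHom = V := mem_normalizer_iff_map_conj_eq.1 hg
  refine ⟨?_, (CfsgLib.Base.card_map_conj g A).trans h.card_eq, ?_⟩
  · rw [← hV]
    exact (map_mono h.le_norm).trans (map_equiv_normalizer_eq V c).le
  · have e : V ⊓ centralizer ((A.map c.toMonoidHom : Subgroup G) : Set G)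
        = (V ⊓ centralizer (A : Set G)).map c.toMonoidHom := by
      rw [Subgroup.map_inf _ _ _ c.injective, hV]
      congr 1
      ext y
      simp only [mem_centralizer_iff, Subgroup.mem_map, Subgroup.coe_map, Set.mem_image, SetLike.mem_coe,
        forall_exists_index, and_imp, forall_apply_eq_imp_iff₂]
      constructor
      · intro hy
        refine ⟨c.symm y, fun x hx => c.injective ?_, c.apply_symm_apply y⟩
        rw [map_mul, map_mul, c.apply_symm_apply]
        exact hy x hx
      · rintro ⟨z, hz, rfl⟩ x hx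
        show c x * c z = c z * c x
        rw [← map_mul, ← map_mul, hz x hx]
    rw [e, CfsgLib.Base.card_map_conj]
    exact h.card_fix

end CfsgLib.PLocal
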