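import Cfsg.Agent.Lib.PLocal.Transvection
import Cfsg.Agent.Lib.PLocal.TwoSubnormal
import Cfsg.Agent.Lib.OddOrder.Dickson

/-!
A minimal best offender and a conjugate generate `SL₂(p)` on a plane.
-/

set_option autoImplicit false
set_option linter.style.haveILetI false
set_option linter.unusedSectionVars false

namespace CfsgLib.PLocal

open Subgroup Cfsg
open scoped commutatorElement
open CfsgLib.Classical (uSL lSL uSL_coe lSL_coe)
open CfsgLib.OddOrder.SL2 (uSL_natCast lSL_natCast zmod_eq_top)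

variable {G : Type*} [Group G] [Finite G] {p : ℕ} [Fact p.Prime]

/-- `Q = O_{p'}(H)` as a subgroup of `G`. -/
abbrev coreIn (p : ℕ) (H : Subgroup G) : Subgroup G := (pPrimeCore p H).map H.subtype

/-- `A ≤ H` is a minimal best offender. -/
structure FFMin (p : ℕ) (V H A : Subgroup G) : Prop where
  grp : FFGroup p V H
  le : A ≤ H
  trans : IsTransvectionGroup p V A

theorem le_of_mem_prime {X U : Subgroup G} (hX : Nat.card X = p) {z : G} (hzX : z ∈ X) (hz : z ≠ 1)
    (hzU : z ∈ U) : X ≤ U := by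
  haveI : Fact (Nat.card X).Prime := ⟨hX.symm ▸ Fact.out⟩
  rcases Subgroup.eq_bot_or_eq_top_of_prime_card (U.subgroupOf X) with e | e
  · exfalso
    have : (⟨z, hzX⟩ : X) ∈ U.subgroupOf X := hzU
    rw [e, mem_bot] at this
    exact hz (congrArg Subtype.val this)
  · exact subgroupOf_eq_top.1 e

theorem inf_eq_bot_of_prime {X U : Subgroup G} (hX : Nat.card X = p) (h : ¬ X ≤ U) : X ⊓ U = ⊥ :=
  eq_bot_iff.2 fun _ hz => mem_bot.2 (by_contra fun hz1 => h (le_of_mem_prime hX hz.1 hz1 hz.2))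

/-- `[AQ, AQ] ≤ Q`. -/
theorem commutator_sup_le_of_abelian {A Q : Subgroup G} (hA : IsMulCommutative A)
    (hAQ : A ≤ normalizer (Q : Set G)) : ⁅A ⊔ Q, A ⊔ Q⁆ ≤ Q := by
  refine commutator_le.2 fun x hx y hy => ?_
  obtain ⟨a, ha, q, hq, rfl⟩ := (CfsgLib.Coprime.mem_sup_iff_of_le_normalizer hAQ).1 hx
  obtain ⟨b, hb, r, hr, rfl⟩ := (CfsgLib.Coprime.mem_sup_iff_of_le_normalizer hAQ).1 hy
  have h : a * b = b * a := comm_of_mem hA ha hb
  have e : ⁅a * q, b * r⁆
      = (a * q * a⁻¹) * ((a * b) * (r * q⁻¹) * (b⁻¹ * a⁻¹)) * (b * r⁻¹ * b⁻¹) := by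
    calc ⁅a * q, b * r⁆ = (a * q * a⁻¹) * ((a * b) * (r * q⁻¹) * a⁻¹ * r⁻¹ * b⁻¹) := by group
      _ = (a * q * a⁻¹) * ((a * b) * (r * q⁻¹) * (b⁻¹ * a⁻¹) * (a * b * a⁻¹) * r⁻¹ * b⁻¹) := by group
      _ = (a * q * a⁻¹) * ((a * b) * (r * q⁻¹) * (b⁻¹ * a⁻¹) * (b * a * a⁻¹) * r⁻¹ * b⁻¹) := by rw [h]
      _ = _ := by group
  rw [e]
  refine mul_mem (mul_mem (conj_mem_of_mem_normalizer (hAQ ha) hq) ?_)
    (conj_mem_of_mem_normalizer (hAQ hb) (inv_mem hr))
  rw [← mul_inv_rev]
  exact conj_mem_of_mem_normalizer (mul_mem (hAQ ha) (hAQ hb)) (mul_mem hr (inv_mem hq))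

/-- The data carried by the plane of `A` and `Aˣ`. -/
structure IsPlane (p : ℕ) (V D : Subgroup G) : Prop where
  le : ⁅V, D⁆ ≤ V
  card_eq : Nat.card ↥(⁅V, D⁆) = p ^ 2
  inf_fix : ⁅V, D⁆ ⊓ (V ⊓ centralizer (D : Set G)) = ⊥
  sup_fix : ⁅V, D⁆ ⊔ (V ⊓ centralizer (D : Set G)) = V
  faithful : D ⊓ centralizer ((⁅V, D⁆ : Subgroup G) : Set G) = ⊥
  irr : ∀ U : Subgroup G, U ≤ ⁅V, D⁆ → D ≤ normalizer (U : Set G) → U = ⊥ ∨ U = ⁅V, D⁆
  equiv : Nonempty (D ≃* Matrix.SpecialLinearGroup (Fin 2) (ZMod p))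
  small : p = 2 ∨ p = 3

set_option maxHeartbeats 1000000 in
/-- Two transvection groups not fixing each other's centre, in `A Q` for abelian `A`. -/
theorem isPlane_of_pair {V A B Q : Subgroup G} (hV : IsElementaryAbelian p V)
    (hA : IsTransvectionGroup p V A) (hB : IsTransvectionGroup p V B)
    (hf : (A ⊔ B) ⊓ centralizer (V : Set G) = ⊥)
    (hAe : IsMulCommutative A) (hAQ : A ≤ normalizer (Q : Set G)) (hQ : (Nat.card Q).Coprime p)
    (hBQ : B ≤ A ⊔ Q) (hne : B ≠ A) : IsPlane p V (A ⊔ B) := by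
  have hp : p.Prime := Fact.out
  set D := A ⊔ B with hD
  obtain ⟨hXa, hXaC⟩ := hA.card_commutator hV
  obtain ⟨hXb, hXbC⟩ := hB.card_commutator hV
  set Xa := ⁅V, A⁆
  set Xb := ⁅V, B⁆
  set CA := V ⊓ centralizer (A : Set G) with hCA
  set CB := V ⊓ centralizer (B : Set G) with hCB
  have hDV : D ≤ normalizer (V : Set G) := sup_le hA.le_norm hB.le_norm
  have hXaV : Xa ≤ V := hXaC.trans inf_le_left
  have hXbV : Xb ≤ V := hXbC.trans inf_le_left
  -- `D` is not a `p`-group
  have hnp : ¬ IsPGroup p D := by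
    intro hDp
    have hDQ : D ⊓ Q = ⊥ := CfsgLib.Base.inf_eq_bot_of_isPGroup_of_coprime hDp hQ
    have hDle : D ≤ A ⊔ Q := sup_le le_sup_left hBQ
    have hDn : D ≤ normalizer (Q : Set G) := hDle.trans (sup_le hAQ le_normalizer)
    have h1 := card_sup_mul_card_inf D Q hDn
    have h2 := card_sup_mul_card_inf A Q hAQ
    have e : D ⊔ Q = A ⊔ Q := le_antisymm (sup_le hDle le_sup_right)
      (sup_le (le_sup_left.trans le_sup_left) le_sup_right)
    rw [e, hDQ, card_bot, mul_one] at h1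
    rw [show A ⊓ Q = ⊥ from CfsgLib.Base.inf_eq_bot_of_isPGroup_of_coprime (hDp.to_le le_sup_left) hQ,
      card_bot, mul_one, h1] at h2
    have hDA : A = D := Subgroup.eq_of_le_of_card_ge le_sup_left
      (Nat.eq_of_mul_eq_mul_right Nat.card_pos h2).le
    exact hne (Subgroup.eq_of_le_of_card_ge (le_sup_right.trans hDA.ge) (hA.card_eq.trans hB.card_eq.symm).le)
  have key : ∀ (A' B' : Subgroup G), IsTransvectionGroup p V A' → IsTransvectionGroup p V B' →
      (A' ⊔ B') ⊓ centralizer (V : Set G) = ⊥ → ⁅V, B'⁆ ≤ centralizer (A' : Set G) →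
      IsPGroup p ↥(A' ⊔ B') := by
    intro A' B' hA' hB' hf' hc
    obtain ⟨-, hXaC'⟩ := hA'.card_commutator hV
    obtain ⟨-, hXbC'⟩ := hB'.card_commutator hV
    set X := ⁅V, A'⁆
    set Y := ⁅V, B'⁆
    set D' := A' ⊔ B'
    have hYfix : D' ≤ centralizer (Y : Set G) :=
      sup_le (le_centralizer_iff.1 hc) (le_centralizer_iff.1 (hXbC'.trans inf_le_right))
    have hW : D' ≤ normalizer ((X ⊔ Y : Subgroup G) : Set G) := by
      refine sup_le (CfsgLib.Coprime.le_normalizer_sup_sup le_normalizer_self_commutator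
        ((le_centralizer_iff.1 hc).trans (centralizer_le_normalizer _))) fun b hb => ?_
      refine mem_of_map_conj_eq (Subgroup.eq_of_le_of_card_ge ?_ (CfsgLib.Base.card_map_conj b _).ge)
      rw [Subgroup.map_sup, sup_le_iff]
      refine ⟨?_, (map_conj_eq_of_mem (le_normalizer_self_commutator hb)).le.trans le_sup_right⟩
      rintro _ ⟨x, hx, rfl⟩
      show b * x * b⁻¹ ∈ _
      rw [show b * x * b⁻¹ = ⁅x, b⁆⁻¹ * x by group]
      exact mul_mem (inv_mem (mem_sup_right (commutator_mem_commutator (hXaC'.trans inf_le_left hx) hb)))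
        (mem_sup_left hx)
    have h1 : D' ≤ trivQuot V (X ⊔ Y) := by
      refine sup_le (fun a ha => ⟨hW (mem_sup_left ha), fun v hv => mem_sup_left (commutator_mem_commutator hv ha)⟩)
        fun b hb => ⟨hW (mem_sup_right hb), fun v hv => mem_sup_right (commutator_mem_commutator hv hb)⟩
    have h2 : D' ≤ trivQuot (X ⊔ Y) Y := by
      refine sup_le (fun a ha => ⟨centralizer_le_normalizer _ (le_centralizer_iff.1 hc ha), fun w hw => ?_⟩)
        fun b hb => ⟨le_normalizer_self_commutator hb, fun w hw =>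
          commutator_mem_commutator (sup_le (hXaC'.trans inf_le_left) (hXbC'.trans inf_le_left) hw) hb⟩
      have : w ∈ centralizer (A' : Set G) := sup_le (hXaC'.trans inf_le_right) hc hw
      rw [(commutatorElement_eq_one_iff_mul_comm).2 ((mem_centralizer_iff.1 this a ha).symm)]
      exact one_mem _
    have hWV : X ⊔ Y ≤ V := sup_le (hXaC'.trans inf_le_left) (hXbC'.trans inf_le_left)
    intro d
    refine ⟨2, Subtype.ext ?_⟩
    have hdV : (d : G) ∈ normalizer (V : Set G) := sup_le hA'.le_norm hB'.le_norm d.2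
    have hY1 : ∀ y ∈ Y, (d : G) * y = y * d := fun y hy => (mem_centralizer_iff.1 (hYfix d.2) y hy).symm
    have hW1 : ∀ w ∈ X ⊔ Y, (d : G) ^ p * w = w * (d : G) ^ p := fun w hw => by
      refine (commutatorElement_eq_one_iff_mul_comm.1 ?_).symm
      rw [comm_pow_of_commute (hY1 _ ((h2 d.2).2 w hw))]
      exact hV.2 _ (hWV (mem_sup_right ((h2 d.2).2 w hw)))
    have hV1 : ((d : G) ^ p) ^ p ∈ centralizer (V : Set G) := mem_centralizer_iff.2 fun v hv => by
      rw [← commutatorElement_eq_one_iff_mul_comm,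
        comm_pow_of_commute (hW1 _ ((h1 (pow_mem d.2 p)).2 v hv))]
      exact hV.2 _ (hWV ((h1 (pow_mem d.2 p)).2 v hv))
    rw [← pow_mul, ← pow_two] at hV1
    simpa using mem_bot.1 (hf' ▸ mem_inf.2 ⟨pow_mem d.2 (p ^ 2), hV1⟩)
  have hXbA : ¬ Xb ≤ centralizer (A : Set G) := fun h => hnp (key A B hA hB hf h)
  have hXaB : ¬ Xa ≤ centralizer (B : Set G) := fun h =>
    hnp (by rw [hD, sup_comm]; exact key B A hB hA (sup_comm A B ▸ hf) h)
  have hXab : Xa ⊓ Xb = ⊥ :=
    eq_bot_iff.2 ((inf_le_inf_right _ (hXaC.trans inf_le_right)).trans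
      (by rw [inf_comm, inf_eq_bot_of_prime hXb hXbA]))
  have hPD : ⁅V, D⁆ = Xa ⊔ Xb := by
    refine le_antisymm (commutator_le_of_le_trivQuot ?_)
      (sup_le (commutator_mono le_rfl le_sup_left) (commutator_mono le_rfl le_sup_right))
    have hstep : ∀ (A' B' : Subgroup G), IsTransvectionGroup p V B' → A' ≤ normalizer (V : Set G) →
        A' ≤ normalizer ((⁅V, A'⁆ ⊔ ⁅V, B'⁆ : Subgroup G) : Set G) := by
      intro A' B' hB' hA'V a ha
      refine mem_of_map_conj_eq (Subgroup.eq_of_le_of_card_ge ?_ (CfsgLib.Base.card_map_conj a _).ge)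
      rw [Subgroup.map_sup, sup_le_iff]
      refine ⟨(map_conj_eq_of_mem (le_normalizer_self_commutator ha)).le.trans le_sup_left, ?_⟩
      rintro _ ⟨x, hx, rfl⟩
      show a * x * a⁻¹ ∈ _
      rw [show a * x * a⁻¹ = ⁅x, a⁆⁻¹ * x by group]
      exact mul_mem (inv_mem (mem_sup_left (commutator_mem_commutator
        ((hB'.card_commutator hV).2.trans inf_le_left hx) ha))) (mem_sup_right hx)
    exact sup_le (le_trivQuot (hstep A B hB hA.le_norm) le_sup_left)
      (le_trivQuot (by rw [sup_comm]; exact hstep B A hA hB.le_norm) le_sup_right)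
  have hCD : V ⊓ centralizer (D : Set G) = CA ⊓ CB := inf_centralizer_sup V A B
  have hPcard : Nat.card ↥(Xa ⊔ Xb) = p ^ 2 := by
    have h := card_sup_mul_card_inf_of_le hV.1 hXaV hXbV
    rw [hXab, card_bot, mul_one, hXa, hXb] at h
    rw [h, pow_two]
  have hPV : Xa ⊔ Xb ≤ V := sup_le hXaV hXbV
  have hinf : (Xa ⊔ Xb) ⊓ (CA ⊓ CB) = ⊥ := by
    rw [eq_bot_iff]
    intro z hz
    obtain ⟨x, hx, y, hy, rfl⟩ := (CfsgLib.Coprime.mem_sup_iff_of_le_normalizer
      (hXaV.trans (le_normalizer_of_abelian hV.1 hXbV))).1 hz.1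
    have hyA : y ∈ centralizer (A : Set G) := by
      have := (centralizer (A : Set G)).mul_mem ((centralizer (A : Set G)).inv_mem (hXaC hx).2) hz.2.1.2
      rwa [inv_mul_cancel_left] at this
    have hy1 : y = 1 := mem_bot.1 (inf_eq_bot_of_prime hXb hXbA ▸ mem_inf.2 ⟨hy, hyA⟩)
    subst hy1
    rw [mul_one] at hz ⊢
    exact inf_eq_bot_of_prime hXa hXaB ▸ mem_inf.2 ⟨hx, hz.2.2.2⟩
  have hsup : (Xa ⊔ Xb) ⊔ (CA ⊓ CB) = V := by
    refine Subgroup.eq_of_le_of_card_ge (sup_le hPV (inf_le_left.trans inf_le_left)) ?_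
    have h1 := card_sup_mul_card_inf_of_le hV.1 hPV (inf_le_left.trans inf_le_left : CA ⊓ CB ≤ V)
    rw [hinf, card_bot, mul_one, hPcard] at h1
    have h2 := card_sup_mul_card_inf_of_le hV.1 (inf_le_left : CA ≤ V) (inf_le_left : CB ≤ V)
    have h3 : Nat.card ↥(CA ⊔ CB) ≤ Nat.card V := card_le_of_le (sup_le inf_le_left inf_le_left)
    have e1 : p * Nat.card CA = Nat.card V := hA.card_fix
    have e2 : p * Nat.card CB = Nat.card V := hB.card_fix
    rw [h1]
    refine Nat.le_of_mul_le_mul_left (a := Nat.card V) ?_ (Nat.card_pos (α := V))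
    calc Nat.card V * Nat.card V = (p * Nat.card CA) * (p * Nat.card CB) := by rw [e1, e2]
      _ = p ^ 2 * (Nat.card CA * Nat.card CB) := by ring
      _ = p ^ 2 * (Nat.card ↥(CA ⊔ CB) * Nat.card ↥(CA ⊓ CB)) := by rw [h2]
      _ ≤ p ^ 2 * (Nat.card V * Nat.card ↥(CA ⊓ CB)) :=
          Nat.mul_le_mul_left _ (Nat.mul_le_mul_right _ h3)
      _ = _ := by ring
  have hfaith : D ⊓ centralizer ((Xa ⊔ Xb : Subgroup G) : Set G) = ⊥ := by
    rw [eq_bot_iff, ← hf]
    refine le_inf inf_le_left fun d hd => mem_centralizer_iff.2 fun v hv => ?_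
    have hd1 : V ≤ centralizer ({d} : Set G) := by
      rw [← hsup]
      refine sup_le (fun z hz => mem_centralizer_singleton_iff.2 (mem_centralizer_iff.1 hd.2 z hz)) ?_
      rw [← hCD]
      exact fun z hz => mem_centralizer_singleton_iff.2 (mem_centralizer_iff.1 hz.2 d hd.1).symm
    exact mem_centralizer_singleton_iff.1 (hd1 hv)
  have hirr : ∀ U : Subgroup G, U ≤ Xa ⊔ Xb → D ≤ normalizer (U : Set G) → U = ⊥ ∨ U = Xa ⊔ Xb := by
    intro U hU hUn
    refine or_iff_not_imp_left.2 fun hU0 => le_antisymm hU ?_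
    obtain ⟨⟨z, hzU⟩, hz⟩ := (ne_bot_iff_exists_ne_one (H := U)).1 hU0
    have hz1 : z ≠ 1 := fun h => hz (Subtype.ext h)
    have stepA : ¬ z ∈ centralizer (A : Set G) → Xa ≤ U := by
      intro h
      obtain ⟨a, ha, hne'⟩ : ∃ a ∈ A, a * z ≠ z * a := by simpa [mem_centralizer_iff] using h
      have hm : ⁅z, a⁆ ∈ U := by
        rw [show ⁅z, a⁆ = z * (a * z⁻¹ * a⁻¹) by group]
        exact mul_mem hzU (conj_mem_of_mem_normalizer (hUn (mem_sup_left ha)) (inv_mem hzU))
      exact le_of_mem_prime hXa (commutator_mem_commutator (hPV (hU hzU)) ha)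
        (fun e => hne' (commutatorElement_eq_one_iff_mul_comm.1 e).symm) hm
    have hXaU : Xa ≤ U := by
      by_cases h : z ∈ centralizer (A : Set G)
      · obtain ⟨x, hx, y, hy, rfl⟩ := (CfsgLib.Coprime.mem_sup_iff_of_le_normalizer
          (hXaV.trans (le_normalizer_of_abelian hV.1 hXbV))).1 (hU hzU)
        have hyA : y ∈ centralizer (A : Set G) := by
          have := (centralizer (A : Set G)).mul_mem ((centralizer (A : Set G)).inv_mem (hXaC hx).2) h
          rwa [inv_mul_cancel_left] at this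
        have hy1 : y = 1 := mem_bot.1 (inf_eq_bot_of_prime hXb hXbA ▸ mem_inf.2 ⟨hy, hyA⟩)
        subst hy1
        rw [mul_one] at hzU hz1
        exact le_of_mem_prime hXa hx hz1 hzU
      · exact stepA h
    refine sup_le hXaU ?_
    obtain ⟨x, hx, hxB⟩ := SetLike.not_le_iff_exists.1 hXaB
    obtain ⟨b, hb, hne'⟩ : ∃ b ∈ B, b * x ≠ x * b := by simpa [mem_centralizer_iff] using hxB
    refine le_of_mem_prime hXb (commutator_mem_commutator (hXaV hx) hb)
      (fun e => hne' (commutatorElement_eq_one_iff_mul_comm.1 e).symm) ?_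
    rw [show ⁅x, b⁆ = x * (b * x⁻¹ * b⁻¹) by group]
    exact mul_mem (hXaU hx) (conj_mem_of_mem_normalizer (hUn (mem_sup_right hb)) (inv_mem (hXaU hx)))
  -- coordinates
  haveI : Fact (Nat.card A).Prime := ⟨hA.card_eq.symm ▸ hp⟩
  haveI : Fact (Nat.card B).Prime := ⟨hB.card_eq.symm ▸ hp⟩
  obtain ⟨w, hw, hwA⟩ := SetLike.not_le_iff_exists.1 hXbA
  obtain ⟨a, ha, haw⟩ : ∃ a ∈ A, a * w ≠ w * a := by simpa [mem_centralizer_iff] using hwA
  set u := ⁅a, w⁆ with hu
  have huX : u ∈ Xa := by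
    rw [hu, ← commutatorElement_inv]
    exact Xa.inv_mem (commutator_mem_commutator (hXbV hw) ha)
  have hu1 : u ≠ 1 := fun e => haw (commutatorElement_eq_one_iff_mul_comm.1 e)
  have hw1 : w ≠ 1 := fun e => hwA (e ▸ one_mem _)
  obtain ⟨b, hb, hbu⟩ : ∃ b ∈ B, b * u ≠ u * b := by
    have : u ∉ centralizer (B : Set G) := fun h => hXaB (le_of_mem_prime hXa huX hu1 h)
    simpa [mem_centralizer_iff] using this
  have hordw : orderOf w = p := orderOf_eq_prime (hV.2 w (hXbV hw)) hw1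
  have hordu : orderOf u = p := orderOf_eq_prime (hV.2 u (hXaV huX)) hu1
  have zmod_pow : ∀ (g : G), g ^ p = 1 → ∀ i j : ℕ, (i : ZMod p) = (j : ZMod p) → g ^ i = g ^ j := by
    intro g hg i j hij
    exact pow_eq_pow_iff_modEq.2 (((ZMod.natCast_eq_natCast_iff _ _ _).1 hij).of_dvd
      (orderOf_dvd_of_pow_eq_one hg))
  have huP : u ∈ Xa ⊔ Xb := mem_sup_left huX
  have hwP : w ∈ Xa ⊔ Xb := mem_sup_right hw
  let cu : Multiplicative (ZMod p) →* G :=
    { toFun := fun i => u ^ (Multiplicative.toAdd i).val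
      map_one' := by simp
      map_mul' := fun i j => by
        rw [← pow_add]; exact zmod_pow u (hV.2 u (hXaV huX)) _ _ (by simp) }
  let cw : Multiplicative (ZMod p) →* G :=
    { toFun := fun i => w ^ (Multiplicative.toAdd i).val
      map_one' := by simp
      map_mul' := fun i j => by
        rw [← pow_add]; exact zmod_pow w (hV.2 w (hXbV hw)) _ _ (by simp) }
  let c : Multiplicative (Fin 2 → ZMod p) →* ↥(Xa ⊔ Xb) :=
    { toFun := fun f => ⟨cu (Multiplicative.ofAdd (Multiplicative.toAdd f 0)) *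
          cw (Multiplicative.ofAdd (Multiplicative.toAdd f 1)),
          mul_mem (pow_mem huP _) (pow_mem hwP _)⟩
      map_one' := Subtype.ext (by simp [cu, cw])
      map_mul' := fun f g => Subtype.ext (by
        simp only [toAdd_mul, Pi.add_apply, ofAdd_add, map_mul, Subgroup.coe_mul]
        exact (Commute.mul_mul_mul_comm (comm_of_mem hV.1 (pow_mem (hXaV huX) _)
          (pow_mem (hXbV hw) _)) _ _)) }
  have hcinj : Function.Injective c := by
    rw [injective_iff_map_eq_one]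
    intro f hfc
    have h : u ^ (Multiplicative.toAdd f 0).val * w ^ (Multiplicative.toAdd f 1).val = 1 :=
      congrArg Subtype.val hfc
    have hu' : u ^ (Multiplicative.toAdd f 0).val = 1 := mem_bot.1 (hXab ▸ mem_inf.2
      ⟨pow_mem huX _, by rw [mul_eq_one_iff_eq_inv.1 h]; exact inv_mem (pow_mem hw _)⟩)
    rw [hu', one_mul] at h
    have h0 : Multiplicative.toAdd f 0 = 0 := by
      rw [← orderOf_dvd_iff_pow_eq_one, hordu] at hu'
      exact (ZMod.val_eq_zero _).1 (Nat.eq_zero_of_dvd_of_lt hu' (ZMod.val_lt _))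
    have h1 : Multiplicative.toAdd f 1 = 0 := by
      rw [← orderOf_dvd_iff_pow_eq_one, hordw] at h
      exact (ZMod.val_eq_zero _).1 (Nat.eq_zero_of_dvd_of_lt h (ZMod.val_lt _))
    apply Multiplicative.toAdd.injective
    funext i
    fin_cases i
    · exact h0
    · exact h1
  have hcbij : Function.Bijective c := by
    haveI : Fintype (Multiplicative (Fin 2 → ZMod p)) := Fintype.ofFinite _
    refine hcinj.bijective_of_nat_card_le ?_
    rw [hPcard]
    exact (by rw [Nat.card_congr Multiplicative.toAdd, Nat.card_fun, Nat.card_zmod, Nat.card_fin] :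
      Nat.card (Multiplicative (Fin 2 → ZMod p)) = p ^ 2).ge
  let ce := MulEquiv.ofBijective c hcbij
  have hDP : D ≤ normalizer ((Xa ⊔ Xb : Subgroup G) : Set G) := hPD ▸ le_normalizer_self_commutator
  let act : D → Module.End (ZMod p) (Fin 2 → ZMod p) := fun d =>
    (AddMonoidHom.mk' (fun f => Multiplicative.toAdd (ce.symm
      ⟨(d : G) * (ce (Multiplicative.ofAdd f) : ↥(Xa ⊔ Xb)) * (d : G)⁻¹,
        conj_mem_of_mem_normalizer (hDP d.2) (Subtype.mem _)⟩)) (fun f g => by
      rw [← toAdd_mul, ← map_mul]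
      congr 2
      refine Subtype.ext ?_
      simp [ofAdd_add])).toZModLinearMap p
  have act_spec : ∀ (d : D) (f g : Fin 2 → ZMod p),
      (d : G) * (c (Multiplicative.ofAdd f) : G) * (d : G)⁻¹ = (c (Multiplicative.ofAdd g) : G) →
      act d f = g := by
    intro d f g h
    show Multiplicative.toAdd (ce.symm _) = g
    rw [← toAdd_ofAdd g]
    congr 1
    rw [MulEquiv.symm_apply_eq]
    exact Subtype.ext h
  have act_coe : ∀ (d : D) (f : Fin 2 → ZMod p),
      (c (Multiplicative.ofAdd (act d f)) : G) = (d : G) * (c (Multiplicative.ofAdd f) : G) * (d : G)⁻¹ := by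
    intro d f
    show ((ce (Multiplicative.ofAdd (Multiplicative.toAdd (ce.symm _)))) : G) = _
    rw [ofAdd_toAdd, MulEquiv.apply_symm_apply]
    rfl
  let ρ : D →* Module.End (ZMod p) (Fin 2 → ZMod p) :=
    { toFun := act
      map_one' := LinearMap.ext fun f => act_spec 1 f f (by simp)
      map_mul' := fun d d' => LinearMap.ext fun f => act_spec _ f (act d (act d' f)) (by
        rw [act_coe, act_coe, Subgroup.coe_mul]; group) }
  let M : D →* Matrix (Fin 2) (Fin 2) (ZMod p) :=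
    LinearMap.toMatrixAlgEquiv'.toAlgHom.toRingHom.toMonoidHom.comp ρ
  have cval : ∀ i j : ZMod p, (c (Multiplicative.ofAdd ![i, j]) : G) = u ^ i.val * w ^ j.val := by
    intro i j; rfl
  have hone : (1 : ZMod p).val = 1 := ZMod.val_one p
  have hua : a * u = u * a := mem_centralizer_iff.1 (hXaC huX).2 a ha
  have hbw : b * w = w * b := mem_centralizer_iff.1 (hXbC hw).2 b hb
  have hMa : M ⟨a, mem_sup_left ha⟩ = (uSL (1 : ZMod p)).1 := by
    ext i j
    show LinearMap.toMatrix' (act _) i j = _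
    rw [LinearMap.toMatrix'_apply, uSL_coe]
    fin_cases j
    · rw [show (Pi.single (⟨0, by norm_num⟩ : Fin 2) (1 : ZMod p)) = ![1, 0] from by
        funext k; fin_cases k <;> rfl]
      rw [act_spec ⟨a, mem_sup_left ha⟩ ![1, 0] ![1, 0] (by
        rw [cval, hone, ZMod.val_zero, pow_one, pow_zero, mul_one]
        show a * u * a⁻¹ = u
        rw [hua, mul_inv_cancel_right])]
      fin_cases i <;> rfl
    · rw [show (Pi.single (⟨1, by norm_num⟩ : Fin 2) (1 : ZMod p)) = ![0, 1] from by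
        funext k; fin_cases k <;> rfl]
      rw [act_spec ⟨a, mem_sup_left ha⟩ ![0, 1] ![1, 1] (by
        rw [cval, cval, hone, ZMod.val_zero, pow_one, pow_zero, one_mul, pow_one]
        show a * w * a⁻¹ = ⁅a, w⁆ * w
        group)]
      fin_cases i <;> rfl
  -- the image of `u` under `b`
  have hbu' : ⁅b, u⁆ ∈ Xb := by
    rw [← commutatorElement_inv]
    exact Xb.inv_mem (commutator_mem_commutator (hXaV huX) hb)
  obtain ⟨l, hl⟩ : ∃ l : ℕ, w ^ l = ⁅b, u⁆ := by
    have : Xb ≤ zpowers w := le_of_mem_prime hXb hw hw1 (mem_zpowers w)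
    exact mem_powers_iff_mem_zpowers.2 (this hbu')
  have hl0 : (l : ZMod p) ≠ 0 := by
    intro h
    refine hbu (commutatorElement_eq_one_iff_mul_comm.1 ?_)
    rw [← hl, ← orderOf_dvd_iff_pow_eq_one, hordw]
    exact (ZMod.natCast_eq_zero_iff _ _).1 h
  have hMb : M ⟨b, mem_sup_right hb⟩ = (lSL (l : ZMod p)).1 := by
    ext i j
    show LinearMap.toMatrix' (act _) i j = _
    rw [LinearMap.toMatrix'_apply, lSL_coe]
    fin_cases j
    · rw [show (Pi.single (⟨0, by norm_num⟩ : Fin 2) (1 : ZMod p)) = ![1, 0] from by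
        funext k; fin_cases k <;> rfl]
      rw [act_spec ⟨b, mem_sup_right hb⟩ ![1, 0] ![1, (l : ZMod p)] (by
        rw [cval, cval, hone, ZMod.val_zero, pow_one, pow_zero, mul_one,
          zmod_pow w (hV.2 w (hXbV hw)) _ l (ZMod.natCast_zmod_val _), hl,
          comm_of_mem hV.1 (hXaV huX) (hXbV hbu')]
        show b * u * b⁻¹ = ⁅b, u⁆ * u
        group)]
      fin_cases i <;> rfl
    · rw [show (Pi.single (⟨1, by norm_num⟩ : Fin 2) (1 : ZMod p)) = ![0, 1] from by
        funext k; fin_cases k <;> rfl]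
      rw [act_spec ⟨b, mem_sup_right hb⟩ ![0, 1] ![0, 1] (by
        rw [cval, hone, ZMod.val_zero, pow_one, pow_zero, one_mul]
        show b * w * b⁻¹ = w
        rw [hbw, mul_inv_cancel_right])]
      fin_cases i <;> rfl
  have hdet : ∀ d : D, (M d).det = 1 := by
    let δ : D →* ZMod p := Matrix.detMonoidHom.comp M
    suffices h : D ≤ δ.ker.map D.subtype from fun d => by
      obtain ⟨d', hd', he⟩ := h d.2
      rw [← Subtype.ext he]
      exact hd'
    refine sup_le ?_ ?_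
    · refine le_of_mem_prime hA.card_eq ha (fun e => haw (by rw [e, one_mul, mul_one])) ?_
      exact ⟨⟨a, mem_sup_left ha⟩, by
        show (M _).det = 1
        rw [hMa]; exact (uSL (1 : ZMod p)).2, rfl⟩
    · refine le_of_mem_prime hB.card_eq hb (fun e => hbu (by rw [e, one_mul, mul_one])) ?_
      exact ⟨⟨b, mem_sup_right hb⟩, by
        show (M _).det = 1
        rw [hMb]; exact (lSL (l : ZMod p)).2, rfl⟩
  let φ : D →* Matrix.SpecialLinearGroup (Fin 2) (ZMod p) :=
    { toFun := fun d => ⟨M d, hdet d⟩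
      map_one' := Subtype.ext (map_one M)
      map_mul' := fun d d' => Subtype.ext (map_mul M d d') }
  have hφinj : Function.Injective φ := by
    rw [injective_iff_map_eq_one]
    intro d hd
    have h1 : act d = 1 := LinearMap.toMatrixAlgEquiv'.injective (by
      rw [map_one]; exact congrArg Subtype.val hd)
    refine Subtype.ext (mem_bot.1 (hfaith ▸ mem_inf.2 ⟨d.2, mem_centralizer_iff.2 fun z hz => ?_⟩))
    obtain ⟨f, hf'⟩ := hcbij.2 ⟨z, hz⟩
    have h2 := act_coe d (Multiplicative.toAdd f)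
    rw [h1, Module.End.one_apply, ofAdd_toAdd, hf'] at h2
    exact (eq_mul_inv_iff_mul_eq.1 h2)
  have hφsurj : Function.Surjective φ := by
    rw [← MonoidHom.range_eq_top]
    refine zmod_eq_top ⟨⟨a, mem_sup_left ha⟩, Subtype.ext hMa⟩ ?_
    have h1 : lSL (l : ZMod p) ∈ φ.range := ⟨⟨b, mem_sup_right hb⟩, Subtype.ext hMb⟩
    have h2 := pow_mem h1 ((l : ZMod p)⁻¹).val
    rwa [← lSL_natCast, ZMod.natCast_zmod_val, inv_mul_cancel₀ hl0] at h2
  have hsmall : p = 2 ∨ p = 3 := by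
    by_contra hno
    push Not at hno
    obtain ⟨hp2, hp3⟩ := hno
    have h2 : (2 : ZMod p) ≠ 0 := by
      intro h
      have : (p : ℕ) ∣ 2 := (ZMod.natCast_eq_zero_iff 2 p).1 (by exact_mod_cast h)
      exact hp2 ((Nat.prime_dvd_prime_iff_eq hp Nat.prime_two).1 this)
    have h3 : (3 : ZMod p) ≠ 0 := by
      intro h
      have : (p : ℕ) ∣ 3 := (ZMod.natCast_eq_zero_iff 3 p).1 (by exact_mod_cast h)
      exact hp3 ((Nat.prime_dvd_prime_iff_eq hp Nat.prime_three).1 this)
    let t : Matrix.SpecialLinearGroup (Fin 2) (ZMod p) :=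
      ⟨!![2, 0; 0, 2⁻¹], by rw [Matrix.det_fin_two_of]; simp [h2]⟩
    have ht : t * uSL 1 = uSL (3 : ZMod p) * uSL 1 * t := by
      apply Subtype.ext
      show !![(2 : ZMod p), 0; 0, 2⁻¹] * (uSL (1 : ZMod p)).1 =
        (uSL (3 : ZMod p)).1 * (uSL (1 : ZMod p)).1 * !![(2 : ZMod p), 0; 0, 2⁻¹]
      rw [uSL_coe, uSL_coe, Matrix.mul_fin_two, Matrix.mul_fin_two, Matrix.mul_fin_two]
      ext i j
      fin_cases i <;> fin_cases j <;> simp <;> field_simp <;> norm_num
    obtain ⟨x, hx⟩ := hφsurj t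
    obtain ⟨y, hy⟩ := hφsurj (uSL 1)
    have hxy : φ ⁅x, y⁆ = uSL (3 : ZMod p) := by
      rw [map_commutatorElement, hx, hy, commutatorElement_def, ht]; group
    have hmemQ : ((⁅x, y⁆ : D) : G) ∈ Q := by
      have h := commutator_mem_commutator (H₁ := A ⊔ Q) (H₂ := A ⊔ Q)
        (sup_le le_sup_left hBQ x.2) (sup_le le_sup_left hBQ y.2)
      exact commutator_sup_le_of_abelian hAe hAQ h
    have hpow : ⁅x, y⁆ ^ p = 1 := hφinj (by
      rw [map_pow, hxy, map_one, ← uSL_natCast, ZMod.natCast_self, zero_mul]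
      exact CfsgLib.OddOrder.SL2.uSL_zero)
    have h1 : orderOf ((⁅x, y⁆ : D) : G) ∣ Nat.card Q := by
      have := orderOf_dvd_natCard (G := Q) ⟨_, hmemQ⟩
      rwa [← Subgroup.orderOf_coe] at this
    have h4 : orderOf ((⁅x, y⁆ : D) : G) ∣ p := orderOf_dvd_of_pow_eq_one (congrArg Subtype.val hpow)
    have h5 : orderOf ((⁅x, y⁆ : D) : G) = 1 := Nat.eq_one_of_dvd_coprimes hQ h1 h4
    rw [orderOf_eq_one_iff] at h5
    rw [show ⁅x, y⁆ = 1 from Subtype.ext h5, map_one] at hxy
    have h6 := congrArg (fun g : Matrix.SpecialLinearGroup (Fin 2) (ZMod p) => g.1 0 1) hxy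
    simp [uSL_coe] at h6
    exact h3 h6.symm
  exact
    { le := hPD ▸ hPV
      card_eq := by rw [hPD]; exact hPcard
      inf_fix := by rw [hPD, hCD]; exact hinf
      sup_fix := by rw [hPD, hCD]; exact hsup
      faithful := by rw [hPD]; exact hfaith
      irr := by rw [hPD]; exact hirr
      equiv := ⟨MulEquiv.ofBijective φ ⟨hφinj, hφsurj⟩⟩
      small := hsmall }

theorem FFMin.isPlane {V H A : Subgroup G} (h : FFMin p V H A) {x : G} (hx : x ∈ coreIn p H)
    (hxA : x ∉ centralizer (A : Set G)) :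
    IsPlane p V (A ⊔ A.map (MulAut.conj x).toMonoidHom) := by
  set Q := coreIn p H with hQ
  have hxH : x ∈ H := map_subtype_le _ hx
  have hAQ : A ≤ normalizer (Q : Set G) := h.le.trans h.grp.le_normalizer_core
  have hBle : A.map (MulAut.conj x).toMonoidHom ≤ A ⊔ Q := by
    rintro _ ⟨a, ha, rfl⟩
    exact mul_mem (mul_mem (mem_sup_right hx) (mem_sup_left ha)) (inv_mem (mem_sup_right hx))
  have hAe : IsMulCommutative A := by
    haveI : Fact (Nat.card A).Prime := ⟨h.trans.card_eq.symm ▸ Fact.out⟩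
    haveI : IsCyclic A := isCyclic_of_prime_card h.trans.card_eq
    exact IsCyclic.isMulCommutative
  refine isPlane_of_pair h.grp.elem h.trans (h.trans.conj (h.grp.le_norm hxH)) ?_ hAe hAQ
    h.grp.data.coprime hBle fun e => hxA ?_
  · refine eq_bot_iff.2 ((inf_le_inf_right _ (sup_le h.le ?_)).trans h.grp.faithful.le)
    rintro _ ⟨a, ha, rfl⟩
    exact mul_mem (mul_mem hxH (h.le ha)) (inv_mem hxH)
  · refine mem_centralizer_iff.2 fun a ha => ?_
    have h1 : x * a * x⁻¹ ∈ A := e ▸ mem_map_of_mem _ ha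
    have h2 : ⁅x, a⁆ ∈ A ⊓ Q := by
      refine ⟨?_, ?_⟩
      · rw [show ⁅x, a⁆ = (x * a * x⁻¹) * a⁻¹ by group]; exact A.mul_mem h1 (A.inv_mem ha)
      · rw [show ⁅x, a⁆ = x * (a * x⁻¹ * a⁻¹) by group]
        exact Q.mul_mem hx (conj_mem_of_mem_normalizer (hAQ ha) (inv_mem hx))
    rw [h.grp.data.pow_eq_one_of_pgroup (IsPGroup.of_card (n := 1) (by rw [h.trans.card_eq, pow_one])),
      mem_bot] at h2
    exact (commutatorElement_eq_one_iff_mul_comm.1 h2).symm

end CfsgLib.PLocal
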