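import Mathlib

/-!
Two quadratic generators of a linear group: a two-dimensional section that is not unipotent.
-/

set_option autoImplicit false
set_option linter.style.haveILetI false

namespace CfsgLib.PLocal.TwoGen

open Polynomial Module

variable {K : Type*} [Field K] {W : Type*} [AddCommGroup W] [Module K W]

theorem sub_pow_char_pow_end {p : ℕ} [Fact p.Prime] [CharP K p] (h : W →ₗ[K] W) (m : ℕ) :
    (h - 1) ^ p ^ m = h ^ p ^ m - 1 := by
  rcases subsingleton_or_nontrivial W with _ | _
  · exact LinearMap.ext fun x => Subsingleton.elim _ _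
  haveI : CharP (W →ₗ[K] W) p :=
    charP_of_injective_algebraMap (R := K) (FaithfulSMul.algebraMap_injective K (Module.End K W)) p
  haveI : ExpChar (W →ₗ[K] W) p := ExpChar.prime Fact.out
  have hc : Commute h 1 := Commute.one_right h
  rw [sub_pow_char_pow_of_commute (p := p) m hc, one_pow]

/-- An endomorphism of finite order `p ^ e * k`, `k ∣ q - 1`, has an eigenvalue in the field of
order `q`. -/
theorem exists_eigenvector [Fintype K] {p : ℕ} [Fact p.Prime] [CharP K p]
    [FiniteDimensional K W] [Nontrivial W] {e k : ℕ} (hk : k ∣ Fintype.card K - 1)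
    {T : W →ₗ[K] W} (hT : T ^ (p ^ e * k) = 1) : ∃ (c : K) (v : W), c ≠ 0 ∧ v ≠ 0 ∧ T v = c • v := by
  have hsplit : Splits (X ^ Fintype.card K - X : K[X]) := by
    rw [splits_iff_card_roots, FiniteField.roots_X_pow_card_sub_X,
      FiniteField.X_pow_card_sub_X_natDegree_eq K Fintype.one_lt_card]
    rfl
  have h1 : ((T ^ (Fintype.card K - 1) - 1) ^ p ^ e : W →ₗ[K] W) = 0 := by
    obtain ⟨d, hd⟩ := hk
    rw [sub_pow_char_pow_end, hd, ← pow_mul, show k * d * p ^ e = p ^ e * k * d by ring, pow_mul,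
      hT, one_pow, sub_self]
  have h2 : aeval T ((X ^ Fintype.card K - X : K[X]) ^ p ^ e) = 0 := by
    have hcard : Fintype.card K = Fintype.card K - 1 + 1 := by
      have := Fintype.card_pos (α := K); omega
    rw [map_pow, map_sub, map_pow, aeval_X, hcard, pow_succ', ← mul_sub_one, Commute.mul_pow, h1,
      mul_zero]
    exact ((Commute.self_pow T _).sub_right (Commute.one_right T))
  have hne : ((X ^ Fintype.card K - X : K[X]) ^ p ^ e) ≠ 0 :=
    pow_ne_zero _ (FiniteField.X_pow_card_sub_X_ne_zero K Fintype.one_lt_card)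
  have hs : Splits (minpoly K T) := (hsplit.pow _).of_dvd hne (minpoly.dvd K T h2)
  obtain ⟨c, hc⟩ := hs.exists_eval_eq_zero
    (minpoly.degree_pos (Algebra.IsIntegral.isIntegral T)).ne'
  obtain ⟨v, hv⟩ := (End.hasEigenvalue_of_isRoot (f := T) hc).exists_hasEigenvector
  refine ⟨c, v, ?_, hv.2, hv.apply_eq_smul⟩
  rintro rfl
  have hv' : (T ^ (p ^ e * k)) v = 0 := by
    obtain ⟨n, hn⟩ : ∃ n, p ^ e * k = n + 1 := by
      refine ⟨p ^ e * k - 1, (Nat.sub_add_cancel ?_).symm⟩
      refine Nat.one_le_iff_ne_zero.2 (mul_ne_zero (pow_ne_zero _ (Fact.out : p.Prime).ne_zero) ?_)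
      rintro rfl
      have := Fintype.one_lt_card (α := K)
      rw [zero_dvd_iff] at hk
      omega
    rw [hn, pow_succ, Module.End.mul_apply, hv.apply_eq_smul, zero_smul, map_zero]
  rw [hT] at hv'
  exact hv.2 hv'

variable {H : Type*} [Group H] (ρ : H →* (W →ₗ[K] W))

/-- A section of a representation. -/
noncomputable def sectionRep (U U' : Submodule K W) (hU : ∀ h, ∀ x ∈ U, ρ h x ∈ U)
    (hU' : ∀ h, ∀ x ∈ U', ρ h x ∈ U') :
    H →* ((↥U' ⧸ U.comap U'.subtype) →ₗ[K] (↥U' ⧸ U.comap U'.subtype)) where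
  toFun h := (U.comap U'.subtype).mapQ (U.comap U'.subtype) ((ρ h).restrict (hU' h))
    (fun x hx => hU h _ hx)
  map_one' := by
    refine Submodule.linearMap_qext _ (LinearMap.ext fun x => ?_)
    show Submodule.Quotient.mk _ = Submodule.Quotient.mk x
    congr 1
    exact Subtype.ext (by simp)
  map_mul' g h := by
    refine Submodule.linearMap_qext _ (LinearMap.ext fun x => ?_)
    show Submodule.Quotient.mk _ = Submodule.Quotient.mk _
    congr 1
    exact Subtype.ext (by simp)

theorem sectionRep_apply (U U' : Submodule K W) (hU : ∀ h, ∀ x ∈ U, ρ h x ∈ U)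
    (hU' : ∀ h, ∀ x ∈ U', ρ h x ∈ U') (h : H) (x : U') :
    sectionRep ρ U U' hU hU' h (Submodule.Quotient.mk x) = Submodule.Quotient.mk ⟨ρ h x, hU' h x x.2⟩ :=
  rfl

theorem forall_mem_of_closure [Finite H] {s : Set H} (hs : Subgroup.closure s = ⊤)
    {P : H → Prop} (h1 : P 1) (hm : ∀ g h, P g → P h → P (g * h)) (hP : ∀ g ∈ s, P g) (h : H) : P h := by
  have hh : h ∈ Submonoid.closure s := by
    rw [← Subgroup.closure_toSubmonoid_of_finite, hs]; trivial
  induction hh using Submonoid.closure_induction with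
  | mem x hx => exact hP x hx
  | one => exact h1
  | mul x y _ _ hx hy => exact hm x y hx hy

/-- Two quadratic generators of a group that is not unipotent have a common two dimensional section
on which the group is not unipotent. -/
theorem exists_plane_section [Fintype K] [Finite W] {p : ℕ} [Fact p.Prime] [CharP K p]
    [FiniteDimensional K W] [Finite H] (hinj : Function.Injective ρ) (a b : H)
    (hgen : Subgroup.closure {a, b} = ⊤) (ha : (ρ a - 1) ^ 2 = 0) (hb : (ρ b - 1) ^ 2 = 0)
    (hnp : ¬ IsPGroup p H) {e k : ℕ} (hk : k ∣ Fintype.card K - 1)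
    (hab : (a * b) ^ (p ^ e * k) = 1) :
    ∃ φ : H →* Matrix.SpecialLinearGroup (Fin 2) K, ¬ IsPGroup p φ.range := by
  classical
  let Good : Submodule K W → Prop := fun U => (∀ h, ∀ x ∈ U, ρ h x ∈ U) ∧
    ∀ h, ∃ N : ℕ, ∀ x ∈ U, ((ρ h - 1) ^ N) x = 0
  obtain ⟨U, hU, hmax⟩ : ∃ U, Good U ∧ ∀ U', Good U' → U ≤ U' → U' = U := by
    haveI : Finite (Submodule K W) := Finite.of_injective _ SetLike.coe_injective
    obtain ⟨U, hU⟩ := (Set.toFinite {U : Submodule K W | Good U}).exists_maximal
      ⟨⊥, fun h x hx => by rw [(Submodule.mem_bot K).1 hx, map_zero]; exact zero_mem _,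
        fun h => ⟨0, fun x hx => by rw [(Submodule.mem_bot K).1 hx, map_zero]⟩⟩
    exact ⟨U, hU.1, fun U' h hle => le_antisymm (hU.2 h hle) hle⟩
  have hUtop : U ≠ ⊤ := by
    rintro rfl
    refine hnp fun h => ?_
    obtain ⟨N, hN⟩ := hU.2 h
    refine ⟨N, hinj ?_⟩
    have h0 : (ρ h - 1) ^ p ^ N = 0 := by
      have : N ≤ p ^ N := (Nat.lt_pow_self (Fact.out : p.Prime).one_lt).le
      exact pow_eq_zero_of_le this (LinearMap.ext fun x => hN x trivial)
    rw [sub_pow_char_pow_end, sub_eq_zero] at h0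
    rw [map_pow, map_one]
    exact h0
  haveI : Nontrivial (W ⧸ U) := Submodule.Quotient.nontrivial_iff.2 hUtop
  -- the eigenvector of `a * b` modulo `U`
  have hcomapU : ∀ h, U ≤ U.comap (ρ h) := fun h x hx => hU.1 h x hx
  let T := U.mapQ U (ρ (a * b)) (hcomapU _)
  have hTpow : T ^ (p ^ e * k) = 1 := by
    refine Submodule.linearMap_qext _ (LinearMap.ext fun x => ?_)
    simp only [T]
    rw [← Submodule.mapQ_pow U (hcomapU (a * b)) (p ^ e * k)]
    simp only [← map_pow, hab, map_one, LinearMap.coe_comp, Function.comp_apply, Submodule.mkQ_apply,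
      Submodule.mapQ_apply, Module.End.one_apply]
  obtain ⟨c, v', hc, hv', hTv⟩ := exists_eigenvector hk hTpow
  obtain ⟨v, rfl⟩ := Submodule.Quotient.mk_surjective U v'
  rw [Submodule.mapQ_apply, ← Submodule.Quotient.mk_smul, Submodule.Quotient.eq] at hTv
  set u := ρ (a * b) v - c • v with hu
  set w := ρ a v - v with hw
  have haa : ∀ x, ρ a (ρ a x - x) = ρ a x - x := fun x => by
    have := LinearMap.congr_fun ha x
    rw [pow_two, Module.End.mul_apply] at this
    simpa [sub_eq_zero] using this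
  have hbb : ∀ x, ρ b (ρ b x - x) = ρ b x - x := fun x => by
    have := LinearMap.congr_fun hb x
    rw [pow_two, Module.End.mul_apply] at this
    simpa [sub_eq_zero] using this
  set U' : Submodule K W := U ⊔ Submodule.span K {v, w} with hU'def
  have hvU' : v ∈ U' := Submodule.mem_sup_right (Submodule.subset_span (by simp))
  have hwU' : w ∈ U' := Submodule.mem_sup_right (Submodule.subset_span (by simp))
  have hUU' : U ≤ U' := le_sup_left
  have hav : ρ a v = v + w := by rw [hw]; abel
  have haw : ρ a w = w := haa v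
  have hbv : ρ b v = c • (v - w) + ρ a⁻¹ u := by
    have h1 : ρ (a * b) v = c • v + u := by rw [hu]; abel
    have h2 : ρ a⁻¹ (ρ (a * b) v) = ρ b v := by
      rw [← Module.End.mul_apply, ← map_mul, inv_mul_cancel_left]
    have h3 : ρ a⁻¹ v = v - w := by
      have h4 : ρ a (v - w) = v := by rw [map_sub, hav, haw, add_sub_cancel_right]
      calc ρ a⁻¹ v = ρ a⁻¹ (ρ a (v - w)) := by rw [h4]
        _ = v - w := by rw [← Module.End.mul_apply, ← map_mul, inv_mul_cancel, map_one]; rfl
    rw [← h2, h1, map_add, map_smul, h3]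
  have hbvU' : ρ b v ∈ U' := by
    rw [hbv]
    exact add_mem (U'.smul_mem c (sub_mem hvU' hwU')) (hUU' (hU.1 _ _ hTv))
  have hbwU' : ρ b w ∈ U' := by
    have h1 : c • ρ b w = c • ρ b v + ρ b (ρ a⁻¹ u) - ρ b v - (ρ b v - v) := by
      have h2 := hbb v
      rw [map_sub] at h2
      have h3 : ρ b (ρ b v) = c • ρ b v - c • ρ b w + ρ b (ρ a⁻¹ u) := by
        conv_lhs => rw [hbv]
        rw [map_add, map_smul, map_sub, smul_sub]
      rw [← h2, h3]; abel
    have h4 : c • ρ b w ∈ U' := by
      rw [h1]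
      exact sub_mem (sub_mem (add_mem (U'.smul_mem c hbvU') (hUU' (hU.1 _ _ (hU.1 _ _ hTv)))) hbvU')
        (sub_mem hbvU' hvU')
    exact (Submodule.smul_mem_iff U' hc).1 h4
  have hinv : ∀ h, ∀ x ∈ U', ρ h x ∈ U' := by
    refine forall_mem_of_closure hgen (fun x hx => by rwa [map_one]) (fun g h hg hh x hx => ?_) ?_
    · rw [map_mul]; exact hg _ (hh x hx)
    · intro g hg x hx
      obtain ⟨x₁, hx₁, x₂, hx₂, rfl⟩ := Submodule.mem_sup.1 hx
      rw [map_add]
      refine add_mem (hUU' (hU.1 g x₁ hx₁)) ?_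
      obtain ⟨r, s, rfl⟩ := Submodule.mem_span_pair.1 hx₂
      rw [map_add, map_smul, map_smul]
      rcases hg with rfl | rfl
      · rw [hav, haw]
        exact add_mem (U'.smul_mem _ (add_mem hvU' hwU')) (U'.smul_mem _ hwU')
      · exact add_mem (U'.smul_mem _ hbvU') (U'.smul_mem _ hbwU')
  let σ := sectionRep ρ U U' hU.1 hinv
  have hsq : ∀ g, (ρ g - 1) ^ 2 = 0 → (σ g - 1) ^ 2 = 0 := by
    intro g hg
    refine Submodule.linearMap_qext _ (LinearMap.ext fun x => ?_)
    rw [pow_two]
    simp only [LinearMap.coe_comp, Function.comp_apply, Submodule.mkQ_apply, LinearMap.zero_comp,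
      LinearMap.zero_apply, Module.End.mul_apply, LinearMap.sub_apply, Module.End.one_apply, σ,
      sectionRep_apply, ← Submodule.Quotient.mk_sub]
    refine (Submodule.Quotient.mk_eq_zero _).2 ?_
    have := LinearMap.congr_fun hg (x : W)
    rw [pow_two, Module.End.mul_apply] at this
    simp only [LinearMap.sub_apply, Module.End.one_apply, LinearMap.zero_apply, map_sub] at this
    simp only [Submodule.mem_comap, Submodule.subtype_apply, AddSubgroupClass.coe_sub, map_sub]
    rw [this]; exact zero_mem _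
  -- some element is not unipotent on the section
  obtain ⟨h₀, hh₀⟩ : ∃ h₀, ∀ M : ℕ, (σ h₀ - 1) ^ M ≠ 0 := by
    by_contra hall
    simp only [ne_eq, not_exists, not_forall, not_not] at hall
    have hgood : Good U' := by
      refine ⟨hinv, fun h => ?_⟩
      obtain ⟨M, hM⟩ := hall h
      obtain ⟨N, hN⟩ := hU.2 h
      refine ⟨N + M, fun x hx => ?_⟩
      have key : ∀ n : ℕ, ∀ y : U', ∃ z : U', (z : W) = ((ρ h - 1) ^ n) y ∧
          ((σ h - 1) ^ n) (Submodule.Quotient.mk y) = Submodule.Quotient.mk z := by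
        intro n
        induction n with
        | zero => exact fun y => ⟨y, by simp⟩
        | succ n ih =>
          intro y
          obtain ⟨z, hz1, hz2⟩ := ih y
          refine ⟨⟨ρ h z, hinv h _ z.2⟩ - z, ?_, ?_⟩
          · rw [pow_succ', Module.End.mul_apply, ← hz1]; rfl
          · rw [pow_succ', Module.End.mul_apply, hz2]; rfl
      obtain ⟨z, hz1, hz2⟩ := key M ⟨x, hx⟩
      rw [hM, LinearMap.zero_apply, eq_comm, Submodule.Quotient.mk_eq_zero] at hz2
      rw [pow_add, Module.End.mul_apply, show ((ρ h - 1) ^ M) x = (z : W) from hz1.symm]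
      exact hN _ hz2
    have := hmax U' hgood hUU'
    exact hv' ((Submodule.Quotient.mk_eq_zero U).2 (this ▸ hvU'))
  -- the section is a plane
  have hle2 : finrank K (↥U' ⧸ U.comap U'.subtype) ≤ 2 := by
    have hsp : Submodule.span K (Set.range ![(Submodule.Quotient.mk ⟨v, hvU'⟩ :
        ↥U' ⧸ U.comap U'.subtype), Submodule.Quotient.mk ⟨w, hwU'⟩]) = ⊤ := by
      refine Submodule.eq_top_iff'.2 fun q => ?_
      obtain ⟨⟨x, hx⟩, rfl⟩ := Submodule.Quotient.mk_surjective _ q
      obtain ⟨x₁, hx₁, x₂, hx₂, rfl⟩ := Submodule.mem_sup.1 hx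
      obtain ⟨r, s, rfl⟩ := Submodule.mem_span_pair.1 hx₂
      rw [Submodule.mem_span_range_iff_exists_fun]
      refine ⟨![r, s], ?_⟩
      rw [Fin.sum_univ_two]
      simp only [Matrix.cons_val_zero, Matrix.cons_val_one, ← Submodule.Quotient.mk_smul,
        ← Submodule.Quotient.mk_add]
      rw [Submodule.Quotient.eq, Submodule.mem_comap]
      simpa using hx₁
    have := finrank_le_of_span_eq_top hsp
    simpa using this
  have hfr : finrank K (↥U' ⧸ U.comap U'.subtype) = 2 := by
    by_contra hne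
    refine hh₀ 1 ?_
    rw [pow_one, sub_eq_zero]
    refine forall_mem_of_closure (P := fun g => σ g = 1) hgen (map_one σ)
      (fun g h hg hh => by rw [map_mul, hg, hh, one_mul]) ?_ h₀
    have hsmall : ∀ g, (σ g - 1) ^ 2 = 0 → σ g = 1 := by
      intro g hg
      rw [← sub_eq_zero]
      by_contra hne0
      obtain ⟨x, hx⟩ : ∃ x, (σ g - 1) x ≠ 0 := by
        by_contra h; push Not at h
        exact hne0 (LinearMap.ext fun x => h x)
      obtain ⟨v₀, hv₀⟩ := finrank_le_one_iff.1 (show finrank K (↥U' ⧸ U.comap U'.subtype) ≤ 1 by omega)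
      obtain ⟨r, hr⟩ := hv₀ ((σ g - 1) x)
      obtain ⟨s, hs⟩ := hv₀ x
      have h2 := LinearMap.congr_fun hg x
      rw [pow_two, Module.End.mul_apply, ← hr, map_smul, LinearMap.zero_apply] at h2
      rcases smul_eq_zero.1 h2 with h | h
      · exact hx (by rw [← hr, h, zero_smul])
      · exact hx (by rw [← hs, map_smul, h, smul_zero])
    rintro g (rfl | rfl)
    · exact hsmall _ (hsq _ ha)
    · exact hsmall _ (hsq _ hb)
  let B := finBasisOfFinrankEq K (↥U' ⧸ U.comap U'.subtype) hfr
  let M : H →* Matrix (Fin 2) (Fin 2) K :=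
    (LinearMap.toMatrixAlgEquiv B).toAlgHom.toRingHom.toMonoidHom.comp σ
  have hdet : ∀ g, (M g).det = 1 := by
    have key : ∀ g, (ρ g - 1) ^ 2 = 0 → (M g).det = 1 := by
      intro g hg
      have h1 : σ g ^ p = 1 := by
        have h2 := sub_pow_char_pow_end (p := p) (σ g) 1
        rw [pow_one, pow_eq_zero_of_le (Fact.out : p.Prime).two_le (hsq g hg), eq_comm,
          sub_eq_zero] at h2
        exact h2
      have h3 : (M g).det ^ p = 1 := by
        rw [← Matrix.det_pow, ← map_pow]
        have h4 : M (g ^ p) = 1 := by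
          show (LinearMap.toMatrixAlgEquiv B) (σ (g ^ p)) = 1
          rw [map_pow, h1, map_one]
        rw [h4, Matrix.det_one]
      rw [← sub_eq_zero]
      refine pow_eq_zero_iff (Fact.out : p.Prime).ne_zero |>.1 ?_
      rw [sub_pow_char, h3, one_pow, sub_self]
    refine forall_mem_of_closure hgen (by rw [map_one, Matrix.det_one])
      (fun g h hg hh => by rw [map_mul, Matrix.det_mul, hg, hh, one_mul]) ?_
    rintro g (rfl | rfl)
    · exact key _ ha
    · exact key _ hb
  let φ : H →* Matrix.SpecialLinearGroup (Fin 2) K :=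
    { toFun := fun g => ⟨M g, hdet g⟩
      map_one' := Subtype.ext (map_one M)
      map_mul' := fun g h => Subtype.ext (map_mul M g h) }
  refine ⟨φ, fun hP => ?_⟩
  obtain ⟨m, hm⟩ := hP ⟨φ h₀, ⟨h₀, rfl⟩⟩
  refine hh₀ (p ^ m) ?_
  rw [sub_pow_char_pow_end, sub_eq_zero]
  have h1 : φ h₀ ^ p ^ m = 1 := congrArg Subtype.val hm
  have h2 : M (h₀ ^ p ^ m) = 1 := by
    rw [← map_pow] at h1
    exact congrArg Subtype.val h1
  rw [← map_pow]
  refine (LinearMap.toMatrixAlgEquiv B).injective ?_
  rw [map_one]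
  exact h2

end CfsgLib.PLocal.TwoGen
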