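import Mathlib
import Cfsg.Prelude.Def_PLocal
import Cfsg.Agent.Lib.PGroups.Basic

/-!
Uniserial actions of p-groups on p-groups.
-/

set_option autoImplicit false
set_option linter.style.haveILetI false

namespace CfsgLib.PLocal

open Subgroup Cfsg
open scoped commutatorElement

variable {L : Type*} [Group L] {p : ℕ} [Fact p.Prime]

theorem commutator_lt_of_pGroup [Finite L] {P H : Subgroup L} (hP : IsPGroup p P) (hHP : H ≤ P)
    (hn : P ≤ normalizer (H : Set L)) (h1 : H ≠ ⊥) : ⁅H, P⁆ < H := by
  refine lt_of_le_of_ne (le_normalizer_iff_commutator_le_left.1 hn) fun he => ?_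
  haveI := normal_subgroupOf_of_le_normalizer hn
  have hne : H.subgroupOf P ≠ ⊥ := fun h => h1 (by
    rw [← map_subgroupOf_eq_of_le hHP, h, Subgroup.map_bot])
  refine (CfsgLib.PGroups.commutator_top_lt hP hne).ne (map_injective P.subtype_injective ?_)
  rw [map_commutator, map_subgroupOf_eq_of_le hHP, ← MonoidHom.range_eq_map, range_subtype, he]

variable {N G : Subgroup L}

theorem iterCommutator_invariant (hGN : G ≤ normalizer (N : Set L)) :
    ∀ i, iterCommutator N G i ≤ N ∧ G ≤ normalizer (iterCommutator N G i : Set L) := by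
  intro i
  induction i with
  | zero => exact ⟨le_rfl, hGN⟩
  | succ i ih =>
    exact ⟨(le_normalizer_iff_commutator_le_left.1 ih.2).trans ih.1, (normalizer_commutator_ge_right _ _)⟩

theorem iterCommutator_succ_le (hGN : G ≤ normalizer (N : Set L)) (i : ℕ) :
    iterCommutator N G (i + 1) ≤ iterCommutator N G i :=
  le_normalizer_iff_commutator_le_left.1 (iterCommutator_invariant hGN i).2

theorem isPGroup_sup_of_normalizer (hN : IsPGroup p N) (hG : IsPGroup p G)
    (hGN : G ≤ normalizer (N : Set L)) : IsPGroup p ↥(N ⊔ G) :=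
  IsPGroup.to_sup_of_normal_left' hN hG hGN

theorem iterCommutator_lt [Finite L] (hN : IsPGroup p N) (hG : IsPGroup p G)
    (hGN : G ≤ normalizer (N : Set L)) {i : ℕ} (h : iterCommutator N G i ≠ ⊥) :
    iterCommutator N G (i + 1) < iterCommutator N G i := by
  obtain ⟨h1, h2⟩ := iterCommutator_invariant hGN i
  refine lt_of_le_of_lt (commutator_mono le_rfl le_sup_right) (commutator_lt_of_pGroup
    (isPGroup_sup_of_normalizer (hN.to_le h1) hG h2) le_sup_left (sup_le le_normalizer h2) h)

theorem mul_relIndex_eq_card [Finite L] {A B : Subgroup L} (h : A ≤ B) :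
    Nat.card A * A.relIndex B = Nat.card B := by
  simpa [relIndex_bot_left] using relIndex_mul_relIndex ⊥ A B bot_le h

/-- Strict steps give a lower bound on the index: `|chain (i+j)| p^j ≤ |chain i|`. -/
theorem card_iterCommutator_mul_le [Finite L] (hN : IsPGroup p N) (hG : IsPGroup p G)
    (hGN : G ≤ normalizer (N : Set L)) (i : ℕ) :
    ∀ j, (∀ l, l < j → iterCommutator N G (i + l) ≠ ⊥) →
      Nat.card (iterCommutator N G (i + j)) * p ^ j ≤ Nat.card (iterCommutator N G i) := by
  intro j
  induction j with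
  | zero => simp
  | succ j ih =>
    intro h
    refine le_trans ?_ (ih fun l hl => h l (by omega))
    set A := iterCommutator N G (i + j + 1)
    set B := iterCommutator N G (i + j)
    have hlt : A < B := iterCommutator_lt hN hG hGN (h j (by omega))
    have hdvd : p ∣ A.relIndex B := by
      have hP : IsPGroup p B := hN.to_le (iterCommutator_invariant hGN _).1
      rw [relIndex]
      refine CfsgLib.PGroups.dvd_index_of_ne_top hP fun ht => hlt.not_ge (subgroupOf_eq_top.1 ht)
    have hpos : 0 < A.relIndex B := Nat.pos_of_ne_zero index_ne_zero_of_finite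
    calc Nat.card A * p ^ (j + 1) = Nat.card A * p * p ^ j := by ring
      _ ≤ Nat.card A * A.relIndex B * p ^ j :=
        Nat.mul_le_mul_right _ (Nat.mul_le_mul_left _ (Nat.le_of_dvd hpos hdvd))
      _ = _ := by rw [mul_relIndex_eq_card hlt.le]

theorem iterCommutator_eq_bot_of_le (hGN : G ≤ normalizer (N : Set L)) {i j : ℕ} (hij : i ≤ j)
    (h : iterCommutator N G i = ⊥) : iterCommutator N G j = ⊥ := by
  induction j, hij using Nat.le_induction with
  | base => exact h
  | succ j _ ih => exact le_bot_iff.1 ((iterCommutator_succ_le hGN j).trans ih.le)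

theorem card_iterCommutator [Finite L] (hN : IsPGroup p N) (hG : IsPGroup p G)
    (hGN : G ≤ normalizer (N : Set L)) {n : ℕ} (hn : Nat.card N = p ^ n)
    (h : iterCommutator N G (n - 1) ≠ ⊥ ∨ n = 0) :
    ∀ i ≤ n, Nat.card (iterCommutator N G i) = p ^ (n - i) := by
  intro i hi
  have hpos : 0 < p := (Fact.out : p.Prime).pos
  have hne : ∀ l, l < n → iterCommutator N G l ≠ ⊥ := fun l hl hb =>
    (h.resolve_right (by omega)) (iterCommutator_eq_bot_of_le hGN (by omega) hb)
  have h1 := card_iterCommutator_mul_le hN hG hGN 0 i (fun l hl => by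
    rw [zero_add]; exact hne l (by omega))
  rw [zero_add, show iterCommutator N G 0 = N from rfl, hn] at h1
  have h2 := card_iterCommutator_mul_le hN hG hGN i (n - i) (fun l hl => hne (i + l) (by omega))
  have h3 : 1 ≤ Nat.card (iterCommutator N G (i + (n - i))) := Nat.card_pos
  refine le_antisymm (Nat.le_of_mul_le_mul_right ?_ (pow_pos hpos i)) ?_
  · rwa [← pow_add, Nat.sub_add_cancel hi]
  · calc p ^ (n - i) = 1 * p ^ (n - i) := (one_mul _).symm
      _ ≤ _ := Nat.mul_le_mul_right _ h3
      _ ≤ _ := h2

theorem iterCommutator_normal [Finite L] (hN : IsPGroup p N) (hG : IsPGroup p G)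
    (hGN : G ≤ normalizer (N : Set L)) {n : ℕ} (hn : Nat.card N = p ^ n)
    (h : iterCommutator N G (n - 1) ≠ ⊥ ∨ n = 0) :
    ∀ i ≤ n, N ≤ normalizer (iterCommutator N G i : Set L) := by
  intro i
  induction i with
  | zero => exact fun _ => le_normalizer
  | succ i ih =>
    intro hi
    set C := iterCommutator N G i with hC
    have hPC : N ⊔ G ≤ normalizer (C : Set L) :=
      sup_le (ih (by omega)) (iterCommutator_invariant hGN i).2
    have hcard := card_iterCommutator hN hG hGN hn h
    have hCne : C ≠ ⊥ := fun hb => by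
      have h1 := hcard i (by omega)
      rw [← hC, hb, card_bot] at h1
      exact absurd h1.symm (Nat.one_lt_pow (by omega) (Fact.out : p.Prime).one_lt).ne'
    have hlt := commutator_lt_of_pGroup (isPGroup_sup_of_normalizer hN hG hGN)
      ((iterCommutator_invariant hGN i).1.trans le_sup_left) hPC hCne
    have hle : iterCommutator N G (i + 1) ≤ ⁅C, N ⊔ G⁆ := commutator_mono le_rfl le_sup_right
    have heq : iterCommutator N G (i + 1) = ⁅C, N ⊔ G⁆ := by
      refine eq_of_le_of_card_ge hle ?_
      obtain ⟨k, hk⟩ := IsPGroup.iff_card.1 (hN.to_le (hlt.le.trans (iterCommutator_invariant hGN i).1))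
      rw [hk, hcard (i + 1) hi]
      refine Nat.pow_le_pow_right (Fact.out : p.Prime).pos ?_
      have h1 : Nat.card ↥⁅C, N ⊔ G⁆ < Nat.card C :=
        lt_of_le_of_ne (card_le_of_le hlt.le) fun he => hlt.ne (eq_of_le_of_card_ge hlt.le he.ge)
      rw [hk, hC, hcard i (by omega)] at h1
      have := (Nat.pow_lt_pow_iff_right (Fact.out : p.Prime).one_lt).1 h1
      omega
    rw [heq]
    exact le_sup_left.trans (normalizer_commutator_ge_right _ _)

theorem invariant_eq_iterCommutator [Finite L] (hN : IsPGroup p N) (hG : IsPGroup p G)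
    (hGN : G ≤ normalizer (N : Set L)) {n : ℕ} (hn : Nat.card N = p ^ n)
    (h : iterCommutator N G (n - 1) ≠ ⊥ ∨ n = 0) :
    ∀ d i, i + d = n → ∀ H : Subgroup L, G ≤ normalizer (H : Set L) → H ≤ iterCommutator N G i →
      ¬ H ≤ iterCommutator N G (i + 1) → H = iterCommutator N G i := by
  intro d
  induction d with
  | zero =>
    intro i hi H _ hle hnle
    refine absurd (hle.trans (le_of_eq ?_)) (fun h' => hnle (h'.trans bot_le) : ¬ H ≤ ⊥)
    have h1 := card_iterCommutator hN hG hGN hn h i (by omega)
    rw [show n - i = 0 by omega, pow_zero] at h1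
    exact eq_bot_of_card_eq _ h1
  | succ d ih =>
    intro i hi H hGH hle hnle
    have hcard := card_iterCommutator hN hG hGN hn h
    set C := iterCommutator N G i with hC
    set K := iterCommutator N G (i + 1) with hK
    have hKC : K ≤ C := iterCommutator_succ_le hGN i
    have hHN : H ≤ N := hle.trans (iterCommutator_invariant hGN i).1
    have hHK : H ≤ normalizer (K : Set L) := hHN.trans (iterCommutator_normal hN hG hGN hn h _ (by omega))
    have hsup : H ⊔ K = C := by
      refine eq_of_le_of_card_ge (sup_le hle hKC) ?_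
      obtain ⟨k, hk⟩ := IsPGroup.iff_card.1 (hN.to_le (sup_le hHN (iterCommutator_invariant hGN (i + 1)).1))
      rw [hC, hcard i (by omega), hk]
      refine Nat.pow_le_pow_right (Fact.out : p.Prime).pos ?_
      have h1 : Nat.card K < Nat.card ↥(H ⊔ K) :=
        lt_of_le_of_ne (card_le_of_le le_sup_right) fun he =>
          hnle (le_sup_left.trans (eq_of_le_of_card_ge le_sup_right he.ge).ge)
      rw [hk, hK, hcard (i + 1) (by omega)] at h1
      have := (Nat.pow_lt_pow_iff_right (Fact.out : p.Prime).one_lt).1 h1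
      omega
    by_cases hd : d = 0
    · subst hd
      have h1 : K = ⊥ := by
        have := hcard (i + 1) (by omega)
        rw [show n - (i + 1) = 0 by omega, pow_zero] at this
        exact eq_bot_of_card_eq _ this
      rw [← hsup, h1, sup_bot_eq]
    have hHG : ⁅H, G⁆ ≤ K := commutator_mono hle le_rfl
    have hnle' : ¬ ⁅H, G⁆ ≤ iterCommutator N G (i + 1 + 1) := by
      intro hbad
      set K2 := iterCommutator N G (i + 1 + 1) with hK2
      have hle2 : K ≤ K2 := by
        rw [hK, show iterCommutator N G (i + 1) = ⁅C, G⁆ from rfl, commutator_le]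
        intro x hx g hg
        rw [← hsup, ← SetLike.mem_coe, Subgroup.coe_mul_of_left_le_normalizer_right _ _ hHK] at hx
        obtain ⟨a, ha, c, hc, rfl⟩ := hx
        have e : ⁅a * c, g⁆ = a * ⁅c, g⁆ * a⁻¹ * ⁅a, g⁆ := by group
        rw [e]
        refine mul_mem ?_ (hbad (commutator_mem_commutator ha hg))
        exact (mem_normalizer_iff.1 (iterCommutator_normal hN hG hGN hn h (i + 1 + 1) (by omega)
          (hHN ha)) _).1 (commutator_mem_commutator hc hg)
      have h1 := card_le_of_le hle2
      rw [hK, hK2, hcard (i + 1) (by omega), hcard (i + 1 + 1) (by omega)] at h1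
      have := (Nat.pow_le_pow_iff_right (Fact.out : p.Prime).one_lt).1 h1
      omega
    have hEq := ih (i + 1) (by omega) ⁅H, G⁆ (normalizer_commutator_ge_right _ _) hHG hnle'
    have hKH : K ≤ H := by
      rw [hK, ← hEq]; exact le_normalizer_iff_commutator_le_left.1 hGH
    rw [← hsup, sup_eq_left.2 hKH]

theorem exists_iterCommutator_eq [Finite L] (hN : IsPGroup p N) (hG : IsPGroup p G)
    (hGN : G ≤ normalizer (N : Set L)) {n : ℕ} (hn : Nat.card N = p ^ n)
    (h : iterCommutator N G (n - 1) ≠ ⊥ ∨ n = 0) (H : Subgroup L) (hH : H ≤ N)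
    (hGH : G ≤ normalizer (H : Set L)) :
    (∃ i ≤ n, H = iterCommutator N G i) ∧ N ≤ normalizer (H : Set L) := by
  have hbot : iterCommutator N G n = ⊥ := by
    have h1 := card_iterCommutator hN hG hGN hn h n le_rfl
    rw [Nat.sub_self, pow_zero] at h1
    exact eq_bot_of_card_eq _ h1
  suffices hex : ∃ i ≤ n, H = iterCommutator N G i by
    refine ⟨hex, ?_⟩
    obtain ⟨i, hi, rfl⟩ := hex
    exact iterCommutator_normal hN hG hGN hn h i hi
  by_cases hH1 : H = ⊥
  · exact ⟨n, le_rfl, hH1.trans hbot.symm⟩
  classical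
  have hex : ∃ i, ¬ H ≤ iterCommutator N G i := ⟨n, fun h' => hH1 (le_bot_iff.1 (hbot ▸ h'))⟩
  have hspec := Nat.find_spec hex
  have hmin : Nat.find hex ≤ n := Nat.find_min' hex fun h' => hH1 (le_bot_iff.1 (hbot ▸ h'))
  obtain ⟨i, hi⟩ : ∃ i, Nat.find hex = i + 1 :=
    Nat.exists_eq_succ_of_ne_zero fun h0 => by rw [h0] at hspec; exact hspec hH
  rw [hi] at hspec hmin
  refine ⟨i, by omega, invariant_eq_iterCommutator hN hG hGN hn h (n - i) i (by omega) H hGH
    (not_not.1 (Nat.find_min hex (by omega))) hspec⟩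

theorem uniserial_iff [Finite L] (hN : IsPGroup p N) (hG : IsPGroup p G)
    (hGN : G ≤ normalizer (N : Set L)) {n : ℕ} (hn : Nat.card N = p ^ n) :
    (∀ H : Subgroup L, H ≤ N → G ≤ normalizer (H : Set L) → H ≠ ⊥ → (⁅H, G⁆).relIndex H = p) ↔
      iterCommutator N G (n - 1) ≠ ⊥ ∨ n = 0 := by
  constructor
  · intro h
    by_contra hc
    push Not at hc
    have hcard : ∀ i, i < n → Nat.card (iterCommutator N G i) = p ^ (n - i) := by
      intro i
      induction i with
      | zero => intro _; exact hn
      | succ i ih =>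
        intro hi
        have h1 := ih (by omega)
        obtain ⟨h2, h3⟩ := iterCommutator_invariant hGN i
        have hne : iterCommutator N G i ≠ ⊥ := fun hb => by
          rw [hb, card_bot] at h1
          exact absurd h1.symm (Nat.one_lt_pow (by omega) (Fact.out : p.Prime).one_lt).ne'
        have h4 := mul_relIndex_eq_card (iterCommutator_succ_le hGN i)
        have h5 : (iterCommutator N G (i + 1)).relIndex (iterCommutator N G i) = p := h _ h2 h3 hne
        rw [h5, h1, show n - i = n - (i + 1) + 1 by omega, pow_succ] at h4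
        exact Nat.eq_of_mul_eq_mul_right (Fact.out : p.Prime).pos h4
    have h1 := hcard (n - 1) (by omega)
    rw [hc.1, card_bot] at h1
    exact absurd h1.symm (Nat.one_lt_pow (by omega) (Fact.out : p.Prime).one_lt).ne'
  · intro h H hH hGH hH1
    obtain ⟨⟨i, hi, rfl⟩, -⟩ := exists_iterCommutator_eq hN hG hGN hn h H hH hGH
    have hcard := card_iterCommutator hN hG hGN hn h
    have hin : i < n := by
      rcases hi.eq_or_lt with rfl | h'
      · refine absurd (eq_bot_of_card_eq _ ?_) hH1
        rw [hcard i le_rfl, Nat.sub_self, pow_zero]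
      · exact h'
    have h4 := mul_relIndex_eq_card (iterCommutator_succ_le hGN i)
    rw [hcard i hi, hcard (i + 1) (by omega), show n - i = n - (i + 1) + 1 by omega, pow_succ] at h4
    exact Nat.eq_of_mul_eq_mul_left (pow_pos (Fact.out : p.Prime).pos _) h4

end CfsgLib.PLocal
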